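import Groth.Prelude.Def_FlatCA
import Groth.Agent.Lib.GeomNbhd4.FibreSupport
import Groth.Agent.Lib.GeomNbhd4.Ring
import Groth.Agent.Lib.FibDim14.Basic

/-!
# Points of a base change over a point with the same residue field
-/

set_option autoImplicit false

universe u

open TensorProduct AlgebraicGeometry CategoryTheory

set_option backward.isDefEq.respectTransparency.types false

attribute [local instance] Algebra.TensorProduct.rightAlgebra

namespace Groth.Agent.Dev4

variable {R R' : Type u} [CommRing R] [CommRing R'] [Algebra R R'] {p : Ideal R} [p.IsPrime]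
  {p' : Ideal R'} [p'.IsPrime] [hp' : p'.LiesOver p]
  {B B' : Type u} [CommRing B] [CommRing B'] [Algebra R B] [Algebra R' B'] [Algebra R B'] [Algebra B B']
  [IsScalarTower R R' B'] [IsScalarTower R B B'] [Algebra.IsPushout R R' B B']

/-- A base change of algebras is generated by the two factors. -/
theorem pushout_induction (R R' B B' : Type u) [CommRing R] [CommRing R'] [Algebra R R'] [CommRing B] [CommRing B']
    [Algebra R B] [Algebra R' B'] [Algebra R B'] [Algebra B B'] [IsScalarTower R R' B'] [IsScalarTower R B B']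
    [Algebra.IsPushout R R' B B'] {motive : B' → Prop} (z : B') (h0 : motive 0)
    (hmk : ∀ (r : R') (b : B), motive (algebraMap R' B' r * algebraMap B B' b))
    (hadd : ∀ x y, motive x → motive y → motive (x + y)) : motive z := by
  have h := (inferInstance : Algebra.IsPushout R R' B B').out
  obtain ⟨t, rfl⟩ := h.equiv.surjective z
  induction t using TensorProduct.induction_on with
  | zero => rw [map_zero]; exact h0
  | tmul r b => rw [h.equiv_tmul, Algebra.smul_def]; exact hmk r b
  | add x y hx hy => rw [map_add]; exact hadd _ _ hx hy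

variable (p p') in
/-- Elements of the base ring up to a denominator. -/
theorem exists_congr_base
    (hκ : Function.Bijective (Ideal.ResidueField.mapₐ p p' (Algebra.ofId R R') hp'.over)) (r' : R') :
    ∃ t : R, t ∉ p ∧ ∃ r : R, algebraMap R R' t * r' - algebraMap R R' r ∈ p' := by
  obtain ⟨z, hz⟩ := hκ.2 (algebraMap R' p'.ResidueField r')
  obtain ⟨a, b, hb, rfl⟩ := IsFractionRing.div_surjective (A := R ⧸ p) z
  obtain ⟨a, rfl⟩ := Ideal.Quotient.mk_surjective a
  obtain ⟨t, rfl⟩ := Ideal.Quotient.mk_surjective b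
  have ht : t ∉ p := fun h => nonZeroDivisors.ne_zero hb (Ideal.Quotient.eq_zero_iff_mem.2 h)
  refine ⟨t, ht, a, ?_⟩
  have hm : ∀ x : R, Ideal.ResidueField.mapₐ p p' (Algebra.ofId R R') hp'.over
      (algebraMap (R ⧸ p) p.ResidueField (Ideal.Quotient.mk p x)) = algebraMap R' p'.ResidueField (algebraMap R R' x) := by
    intro x
    show Ideal.ResidueField.mapₐ p p' (Algebra.ofId R R') hp'.over (algebraMap R p.ResidueField x) = _
    rw [AlgHom.commutes, ← IsScalarTower.algebraMap_apply]
  rw [map_div₀, hm, hm] at hz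
  have ht' : algebraMap R' p'.ResidueField (algebraMap R R' t) ≠ 0 := by
    rw [Ne, Ideal.algebraMap_residueField_eq_zero]
    exact fun h => ht ((Ideal.mem_of_liesOver p' p t).2 h)
  rw [div_eq_iff ht'] at hz
  rw [← Ideal.algebraMap_residueField_eq_zero, map_sub, map_mul, sub_eq_zero, hz, mul_comm]

variable (p p') in
/-- Elements of a base change up to a denominator. -/
theorem exists_congr_elem
    (hκ : Function.Bijective (Ideal.ResidueField.mapₐ p p' (Algebra.ofId R R') hp'.over)) (z : B') :
    ∃ t : R, t ∉ p ∧ ∃ b : B, algebraMap R B' t * z - algebraMap B B' b ∈ p'.map (algebraMap R' B') := by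
  induction z using pushout_induction R R' B B' with
  | h0 => exact ⟨1, fun h => (inferInstance : p.IsPrime).ne_top ((Ideal.eq_top_iff_one _).2 h), 0, by simp⟩
  | hmk r' b =>
    obtain ⟨t, ht, r, hr⟩ := exists_congr_base p p' hκ r'
    refine ⟨t, ht, algebraMap R B r * b, ?_⟩
    have hmem := (p'.map (algebraMap R' B')).mul_mem_right (algebraMap B B' b) (Ideal.mem_map_of_mem (algebraMap R' B') hr)
    convert hmem using 1
    rw [map_sub, map_mul, map_mul, ← IsScalarTower.algebraMap_apply, ← IsScalarTower.algebraMap_apply,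
      ← IsScalarTower.algebraMap_apply]
    ring
  | hadd x y hx hy =>
    obtain ⟨t, ht, b, hb⟩ := hx
    obtain ⟨s, hs, c, hc⟩ := hy
    refine ⟨t * s, fun h => (Ideal.IsPrime.mem_or_mem inferInstance h).elim ht hs,
      algebraMap R B s * b + algebraMap R B t * c, ?_⟩
    have hmem := Ideal.add_mem _ ((p'.map (algebraMap R' B')).mul_mem_left (algebraMap R B' s) hb)
      ((p'.map (algebraMap R' B')).mul_mem_left (algebraMap R B' t) hc)
    convert hmem using 1
    rw [map_add, map_mul, map_mul, map_mul, ← IsScalarTower.algebraMap_apply, ← IsScalarTower.algebraMap_apply]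
    ring

omit [Algebra.IsPushout R R' B B'] in
theorem algebraMap_notMem {Q : Ideal B'} [Q.IsPrime] [Q.LiesOver p'] {t : R} (ht : t ∉ p) :
    algebraMap R B' t ∉ Q := by
  rw [IsScalarTower.algebraMap_apply R R' B']
  exact fun h => ht ((Ideal.mem_of_liesOver p' p t).2 ((Ideal.mem_of_liesOver Q p' _).2 h))

omit [Algebra.IsPushout R R' B B'] [p.IsPrime] [p'.IsPrime] hp' [IsScalarTower R R' B'] in
theorem map_le_of_liesOver {Q : Ideal B'} [Q.LiesOver p'] : p'.map (algebraMap R' B') ≤ Q :=
  Ideal.map_le_iff_le_comap.2 fun _ hx => (Ideal.mem_of_liesOver Q p' _).1 hx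

include hp' in
/-- A point of the base change is determined by its image. -/
theorem prime_le_prime
    (hκ : Function.Bijective (Ideal.ResidueField.mapₐ p p' (Algebra.ofId R R') hp'.over))
    (Q₁ Q₂ : Ideal B') [Q₁.IsPrime] [Q₂.IsPrime] [Q₁.LiesOver p'] [Q₂.LiesOver p']
    (h : Q₁.comap (algebraMap B B') ≤ Q₂.comap (algebraMap B B')) : Q₁ ≤ Q₂ := by
  intro z hz
  obtain ⟨t, ht, b, hb⟩ := exists_congr_elem (B := B) p p' hκ z
  have h1 : algebraMap B B' b ∈ Q₁ := by
    have := Q₁.sub_mem (Q₁.mul_mem_left (algebraMap R B' t) hz) (map_le_of_liesOver (Q := Q₁) hb)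
    simpa using this
  have h2 : algebraMap R B' t * z ∈ Q₂ := by
    have := Q₂.add_mem (map_le_of_liesOver (Q := Q₂) hb) (h h1 : algebraMap B B' b ∈ Q₂)
    simpa using this
  exact ((Ideal.IsPrime.mem_or_mem inferInstance h2).resolve_left (algebraMap_notMem (p' := p') ht))

include hp' in
/-- A point of the base change is determined by its image. -/
theorem prime_ext
    (hκ : Function.Bijective (Ideal.ResidueField.mapₐ p p' (Algebra.ofId R R') hp'.over))
    (Q₁ Q₂ : Ideal B') [Q₁.IsPrime] [Q₂.IsPrime] [Q₁.LiesOver p'] [Q₂.LiesOver p']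
    (h : Q₁.comap (algebraMap B B') = Q₂.comap (algebraMap B B')) : Q₁ = Q₂ :=
  le_antisymm (prime_le_prime hκ Q₁ Q₂ h.le) (prime_le_prime hκ Q₂ Q₁ h.ge)

include hp' in
variable (p p') in
/-- The fibre of a base change over a point with the same residue field. -/
theorem exists_fiberEquiv
    (hκ : Function.Bijective (Ideal.ResidueField.mapₐ p p' (Algebra.ofId R R') hp'.over)) :
    ∃ φ : p.Fiber B ≃+* p'.Fiber B', ∀ b : B,
      φ (algebraMap B (p.Fiber B) b) = algebraMap B' (p'.Fiber B') (algebraMap B B' b) := by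
  let e : p.ResidueField ≃ₐ[R] p'.ResidueField := AlgEquiv.ofBijective _ hκ
  let e₁ : p.Fiber B ≃ₐ[R] p'.ResidueField ⊗[R] B := Algebra.TensorProduct.congr e AlgEquiv.refl
  let e₂ := (Algebra.TensorProduct.cancelBaseChange R R' p'.ResidueField p'.ResidueField B).symm
  let e₃ : p'.ResidueField ⊗[R'] (R' ⊗[R] B) ≃ₐ[p'.ResidueField] p'.Fiber B' :=
    Algebra.TensorProduct.congr AlgEquiv.refl (Algebra.IsPushout.equiv R R' B B')
  refine ⟨(e₁.toRingEquiv.trans e₂.toRingEquiv).trans e₃.toRingEquiv, fun b => ?_⟩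
  show e₃ (e₂ (e₁ (1 ⊗ₜ b))) = 1 ⊗ₜ algebraMap B B' b
  simp only [e₁, e₂, e₃, Algebra.TensorProduct.congr_apply, Algebra.TensorProduct.map_tmul, AlgEquiv.coe_toAlgHom,
    map_one, AlgEquiv.coe_refl, id_eq, Algebra.TensorProduct.cancelBaseChange_symm_tmul]
  congr 1
  rw [Algebra.IsPushout.equiv_tmul, map_one, one_mul]

include hp' in
/-- Over each point there is a point of the base change. -/
theorem exists_prime_over
    (hκ : Function.Bijective (Ideal.ResidueField.mapₐ p p' (Algebra.ofId R R') hp'.over))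
    (P : Ideal B) [P.IsPrime] [P.LiesOver p] :
    ∃ Q : Ideal B', Q.IsPrime ∧ Q.LiesOver p' ∧ Q.LiesOver P := by
  obtain ⟨φ, hφ⟩ := exists_fiberEquiv (B := B) (B' := B') p p' hκ
  let x := PrimeSpectrum.primesOverOrderIsoFiber R B p ⟨P, inferInstance, inferInstance⟩
  have hx : x.asIdeal.comap (algebraMap B (p.Fiber B)) = P :=
    congrArg Subtype.val ((PrimeSpectrum.primesOverOrderIsoFiber R B p).symm_apply_apply ⟨P, inferInstance, inferInstance⟩)
  let w : PrimeSpectrum (p'.Fiber B') := PrimeSpectrum.comap φ.symm.toRingHom x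
  obtain ⟨Q, hQ₁, hQ₂⟩ := (PrimeSpectrum.primesOverOrderIsoFiber R' B' p').symm w
  refine ⟨w.asIdeal.comap (algebraMap B' (p'.Fiber B')), inferInstance,
    ((PrimeSpectrum.primesOverOrderIsoFiber R' B' p').symm w).2.2, ⟨?_⟩⟩
  rw [← hx]
  ext b
  show algebraMap B (p.Fiber B) b ∈ x.asIdeal ↔ φ.symm (algebraMap B' (p'.Fiber B') (algebraMap B B' b)) ∈ x.asIdeal
  rw [← hφ b, RingEquiv.symm_apply_apply]

include hp' in
/-- Purely transcendental residue fields are preserved. -/
theorem pureTrans_bc
    (hκ : Function.Bijective (Ideal.ResidueField.mapₐ p p' (Algebra.ofId R R') hp'.over))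
    (y : Ideal B) [y.IsPrime] [y.LiesOver p] (y' : Ideal B') [y'.IsPrime] [y'.LiesOver p'] [hy : y'.LiesOver y]
    (h : FlatCA.PurelyTranscendental p y) : FlatCA.PurelyTranscendental p' y' := by
  apply GeomNbhd4.purelyTranscendental_of_pureTrans
  have hb : Function.Bijective (Ideal.ResidueField.map y y' (algebraMap B B') hy.over) := by
    refine ⟨RingHom.injective _, fun z => ?_⟩
    suffices hs : ∀ w : B', algebraMap B' y'.ResidueField w ∈ (Ideal.ResidueField.map y y' (algebraMap B B') hy.over).fieldRange by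
      obtain ⟨a, b, hb, rfl⟩ := IsFractionRing.div_surjective (A := B' ⧸ y') z
      obtain ⟨a, rfl⟩ := Ideal.Quotient.mk_surjective a
      obtain ⟨b, rfl⟩ := Ideal.Quotient.mk_surjective b
      exact RingHom.mem_fieldRange.1 (Subfield.div_mem _ (hs a) (hs b))
    intro w
    obtain ⟨t, ht, b, hb⟩ := exists_congr_elem (B := B) p p' hκ w
    have h0 : algebraMap B' y'.ResidueField (algebraMap R B' t) ≠ 0 := by
      rw [Ne, Ideal.algebraMap_residueField_eq_zero]; exact algebraMap_notMem (p' := p') ht
    have he : algebraMap B' y'.ResidueField w =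
        Ideal.ResidueField.map y y' (algebraMap B B') hy.over (algebraMap B y.ResidueField b) /
          Ideal.ResidueField.map y y' (algebraMap B B') hy.over (algebraMap B y.ResidueField (algebraMap R B t)) := by
      rw [Ideal.ResidueField.map_algebraMap, Ideal.ResidueField.map_algebraMap, ← IsScalarTower.algebraMap_apply R B B',
        eq_div_iff h0, ← map_mul, ← sub_eq_zero, ← map_sub, Ideal.algebraMap_residueField_eq_zero, mul_comm]
      exact map_le_of_liesOver hb
    rw [he, ← map_div₀]
    exact ⟨_, rfl⟩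
  obtain ⟨ι, x, hx, htop⟩ := h
  let f := (Ideal.ResidueField.mapₐ p y (Algebra.ofId R B) (‹y.LiesOver p›).over).toRingHom
  have hf : GeomNbhd4.PureTrans f := ⟨ι, x, hx.1, htop⟩
  refine hf.congr _ (RingEquiv.ofBijective _ hκ) (RingEquiv.ofBijective _ hb) fun a => ?_
  have hfun : (Ideal.ResidueField.map p' y' (algebraMap R' B') (‹y'.LiesOver p'›).over).comp
        (Ideal.ResidueField.mapₐ p p' (Algebra.ofId R R') hp'.over).toRingHom =
      (Ideal.ResidueField.map y y' (algebraMap B B') hy.over).comp f := by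
    refine Ideal.ResidueField.ringHom_ext ?_
    refine RingHom.ext fun r => ?_
    show Ideal.ResidueField.map p' y' (algebraMap R' B') _ (Ideal.ResidueField.mapₐ p p' (Algebra.ofId R R') _ (algebraMap R p.ResidueField r)) =
      Ideal.ResidueField.map y y' (algebraMap B B') hy.over (Ideal.ResidueField.mapₐ p y (Algebra.ofId R B) _ (algebraMap R p.ResidueField r))
    rw [AlgHom.commutes, AlgHom.commutes, IsScalarTower.algebraMap_apply R R' p'.ResidueField,
      IsScalarTower.algebraMap_apply R B y.ResidueField, Ideal.ResidueField.map_algebraMap,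
      Ideal.ResidueField.map_algebraMap, ← IsScalarTower.algebraMap_apply R B B',
      IsScalarTower.algebraMap_apply R R' B', ← IsScalarTower.algebraMap_apply]
  exact DFunLike.congr_fun hfun a

/-- Smoothness of a relative dimension is stable under base change. -/
theorem smoothRelDim_bc {n : ℕ} (h : FlatCA.SmoothRelDim n R B) : FlatCA.SmoothRelDim n R' B' := by
  have h1 := isPullback_SpecMap_of_isPushout _ _ _ _ (CommRingCat.isPushout_of_isPushout R R' B B').flip
  haveI := smoothOfRelativeDimension_isStableUnderBaseChange n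
  exact MorphismProperty.of_isPullback (P := @SmoothOfRelativeDimension n) h1 h

variable {M M' : Type u} [AddCommGroup M] [Module B M] [Module R M] [IsScalarTower R B M] [Module.Finite B M]
  [AddCommGroup M'] [Module B' M'] [Module R' M'] [IsScalarTower R' B' M'] [Module B M'] [IsScalarTower B B' M']

include hp' in
/-- The local dimension of the fibre support is preserved. -/
theorem locDim_bc
    (hκ : Function.Bijective (Ideal.ResidueField.mapₐ p p' (Algebra.ofId R R') hp'.over))
    (g : M →ₗ[B] M') (hg : IsBaseChange B' g)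
    (y : Ideal B) [y.IsPrime] [y.LiesOver p] (y' : Ideal B') [y'.IsPrime] [y'.LiesOver p'] [y'.LiesOver y] (d : ℕ)
    (h : ∃ (x : PrimeSpectrum (p.Fiber B)) (hx : x ∈ Module.support (p.Fiber B) (FlatCA.fiberMod p B M)),
      x.asIdeal = FlatCA.fiberIdeal p y ∧
      FlatMor.localDim (Module.support (p.Fiber B) (FlatCA.fiberMod p B M)) ⟨x, hx⟩ = d) :
    ∃ (x : PrimeSpectrum (p'.Fiber B')) (hx : x ∈ Module.support (p'.Fiber B') (FlatCA.fiberMod p' B' M')),
      x.asIdeal = FlatCA.fiberIdeal p' y' ∧
      FlatMor.localDim (Module.support (p'.Fiber B') (FlatCA.fiberMod p' B' M')) ⟨x, hx⟩ = d := by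
  obtain ⟨φ, hφ⟩ := exists_fiberEquiv (B := B) (B' := B') p p' hκ
  obtain ⟨x, hx, hxy, hd⟩ := h
  haveI : Module.Finite B' M' := Module.Finite.equiv hg.equiv
  let H := PrimeSpectrum.homeomorphOfRingEquiv φ.symm
  have hcomap : ∀ w : PrimeSpectrum (p'.Fiber B'),
      (PrimeSpectrum.comap (algebraMap B (p.Fiber B)) (H w)) =
        PrimeSpectrum.comap (algebraMap B B') (PrimeSpectrum.comap (algebraMap B' (p'.Fiber B')) w) := by
    intro w
    apply PrimeSpectrum.ext
    ext b
    show φ (algebraMap B (p.Fiber B) b) ∈ w.asIdeal ↔ algebraMap B' (p'.Fiber B') (algebraMap B B' b) ∈ w.asIdeal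
    rw [hφ]
  have hsupp : ∀ w : PrimeSpectrum (p'.Fiber B'),
      H w ∈ Module.support (p.Fiber B) (FlatCA.fiberMod p B M) ↔
        w ∈ Module.support (p'.Fiber B') (FlatCA.fiberMod p' B' M') := by
    intro w
    refine (FlatPur25.mem_support_baseChange_iff (B := B) (C := p.Fiber B) (M := M) _).trans ?_
    refine Iff.trans ?_ (FlatPur25.mem_support_baseChange_iff (B := B') (C := p'.Fiber B') (M := M') _).symm
    rw [← hg.equiv.support_eq, FlatPur25.mem_support_baseChange_iff, hcomap]
  let Hs : Module.support (p'.Fiber B') (FlatCA.fiberMod p' B' M') ≃ₜ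
      Module.support (p.Fiber B) (FlatCA.fiberMod p B M) := H.subtype fun w => (hsupp w).symm
  refine ⟨H.symm x, (hsupp _).1 (by rwa [H.apply_symm_apply]), ?_, ?_⟩
  · set w := H.symm x
    let eF := PrimeSpectrum.primesOverOrderIsoFiber R' B' p'
    haveI : (w.asIdeal.comap (algebraMap B' (p'.Fiber B'))).LiesOver p' := (eF.symm w).2.2
    have hy' : w.asIdeal.comap (algebraMap B' (p'.Fiber B')) = y' := by
      refine prime_ext (B := B) hκ _ _ ?_
      have h2 := congrArg PrimeSpectrum.asIdeal (hcomap w)
      rw [show H w = x from H.apply_symm_apply x] at h2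
      rw [show y'.comap (algebraMap B B') = y from ((‹y'.LiesOver y›).over).symm]
      refine h2.symm.trans ?_
      haveI : (x.asIdeal.comap (algebraMap B (p.Fiber B))).LiesOver p :=
        ((PrimeSpectrum.primesOverOrderIsoFiber R B p).symm x).2.2
      refine le_antisymm ?_ ?_
      · let z := PrimeSpectrum.primesOverOrderIsoFiber R B p ⟨y, inferInstance, inferInstance⟩
        have hz : z.asIdeal.comap (algebraMap B (p.Fiber B)) = y :=
          congrArg Subtype.val ((PrimeSpectrum.primesOverOrderIsoFiber R B p).symm_apply_apply ⟨y, inferInstance, inferInstance⟩)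
        have hxz : x.asIdeal ≤ z.asIdeal := by
          rw [hxy]; exact Ideal.map_le_iff_le_comap.2 hz.ge
        exact (Ideal.comap_mono hxz).trans hz.le
      · show y ≤ x.asIdeal.comap _
        rw [hxy]; exact Ideal.le_comap_map
    refine le_antisymm (fun f hf => ?_) (Ideal.map_le_iff_le_comap.2 hy'.ge)
    have hf' : φ.symm f ∈ x.asIdeal := by
      have : H w = x := H.apply_symm_apply x
      rw [← this]
      show φ (φ.symm f) ∈ w.asIdeal
      rwa [RingEquiv.apply_symm_apply]
    rw [hxy] at hf'
    have hle : Ideal.map φ.toRingHom (FlatCA.fiberIdeal p y) ≤ FlatCA.fiberIdeal p' y' := by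
      show Ideal.map φ.toRingHom (Ideal.map (algebraMap B (p.Fiber B)) y) ≤ Ideal.map (algebraMap B' (p'.Fiber B')) y'
      rw [Ideal.map_map, show φ.toRingHom.comp (algebraMap B (p.Fiber B)) =
        (algebraMap B' (p'.Fiber B')).comp (algebraMap B B') from RingHom.ext hφ, ← Ideal.map_map]
      exact Ideal.map_mono (Ideal.map_le_iff_le_comap.2 fun b hb => (Ideal.mem_of_liesOver y' y b).1 hb)
    simpa using hle (Ideal.mem_map_of_mem φ.toRingHom hf')
  · rw [← hd]
    refine ((FibDim14.localDim_of_isOpenEmbedding Hs.isOpenEmbedding _).trans ?_)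
    congr 1
    exact Subtype.ext (H.apply_symm_apply x)

end Groth.Agent.Dev4
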