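import Groth.Agent.Lib.GeomNbhd4.Main
import Groth.Agent.Lib.GeomNbhd4.Structure
import Groth.Agent.Lib.GeomNbhd4.Devissage
import Groth.Agent.Lib.Dev4.Point

/-!
# Geometrically integral standard opens
-/

set_option autoImplicit false

universe u

open CategoryTheory CategoryTheory.Limits AlgebraicGeometry Topology IsLocalRing TensorProduct

set_option backward.isDefEq.respectTransparency.types false

attribute [local instance] Algebra.TensorProduct.rightAlgebra

namespace Groth.Agent.Dev4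

open Groth.Agent.GeomNbhd4

/-- Elementary étale neighbourhoods compose. -/
theorem isEtaleNhd_trans {R R' R'' : Type u} [CommRing R] [CommRing R'] [CommRing R''] [Algebra R R'] [Algebra R' R'']
    [Algebra R R''] [IsScalarTower R R' R''] (p : Ideal R) (p' : Ideal R') (p'' : Ideal R'') [p.IsPrime] [p'.IsPrime]
    [p''.IsPrime] (h₁ : FlatCA.IsEtaleNhd R R' p p') (h₂ : FlatCA.IsEtaleNhd R' R'' p' p'') :
    FlatCA.IsEtaleNhd R R'' p p'' := by
  obtain ⟨he₁, hl₁, hb₁⟩ := h₁
  obtain ⟨he₂, hl₂, hb₂⟩ := h₂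
  haveI := hl₁
  haveI := hl₂
  haveI := he₁
  haveI := he₂
  haveI hl : p''.LiesOver p := Ideal.LiesOver.trans p'' p' p
  refine ⟨Algebra.Etale.comp R R' R'', hl, ?_⟩
  have e : (Ideal.ResidueField.mapₐ p' p'' (Algebra.ofId R' R'') hl₂.over : p'.ResidueField → p''.ResidueField) ∘
      Ideal.ResidueField.mapₐ p p' (Algebra.ofId R R') hl₁.over =
        Ideal.ResidueField.mapₐ p p'' (Algebra.ofId R R'') hl.over := by
    have := Ideal.ResidueField.ringHom_ext (I := p)
      (f := (Ideal.ResidueField.mapₐ p' p'' (Algebra.ofId R' R'') hl₂.over).toRingHom.comp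
        (Ideal.ResidueField.mapₐ p p' (Algebra.ofId R R') hl₁.over).toRingHom)
      (g := (Ideal.ResidueField.mapₐ p p'' (Algebra.ofId R R'') hl.over).toRingHom) (RingHom.ext fun r => by
        show Ideal.ResidueField.mapₐ p' p'' (Algebra.ofId R' R'') _ (Ideal.ResidueField.mapₐ p p' (Algebra.ofId R R') _
          (algebraMap R p.ResidueField r)) = Ideal.ResidueField.mapₐ p p'' (Algebra.ofId R R'') _ (algebraMap R p.ResidueField r)
        rw [AlgHom.commutes, AlgHom.commutes, IsScalarTower.algebraMap_apply R R' p'.ResidueField, AlgHom.commutes,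
          ← IsScalarTower.algebraMap_apply])
    exact funext (DFunLike.congr_fun this)
  rw [← e]
  exact hb₂.comp hb₁

/-- Standard opens with geometrically integral fibres over an étale neighbourhood of the base, around a
point with purely transcendental residue field. -/
theorem exists_geomIntegral_basic {A B : Type u} [CommRing A] [CommRing B] [Algebra A B] [Algebra.Smooth A B]
    (p : Ideal A) [p.IsPrime] (yI : Ideal B) [yI.IsPrime] [hyp : yI.LiesOver p]
    (hpt : FlatCA.PurelyTranscendental p yI) :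
    ∃ (R₁ : Type u) (_ : CommRing R₁) (_ : Algebra A R₁) (p₁ : Ideal R₁) (_ : p₁.IsPrime)
      (y₁ : Ideal (R₁ ⊗[A] B)) (_ : y₁.IsPrime) (d : R₁ ⊗[A] B),
      FlatCA.IsEtaleNhd A R₁ p p₁ ∧ y₁.LiesOver p₁ ∧ y₁.LiesOver yI ∧ d ∉ y₁ ∧
      FlatCA.GeomIntegralFibres R₁ (Localization.Away d) := by
  let y : Spec (CommRingCat.of B) := ⟨yI, ‹_›⟩
  let s : Spec (CommRingCat.of A) := ⟨p, ‹_›⟩
  have hy : Spec.map (CommRingCat.ofHom (algebraMap A B)) y = s := PrimeSpectrum.ext hyp.over.symm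
  have hgeo : ∀ (K : Type u) [Field K] (k : Spec (CommRingCat.of K) ⟶ Spec (CommRingCat.of A)),
      k (closedPoint K) = s → _root_.IsPreconnected
        (pullback.fst (Spec.map (CommRingCat.ofHom (algebraMap A B))) k ⁻¹' {y}) := fun K _ k hk => by
    obtain ⟨ι, x, hx, htop⟩ := hpt
    have h0 : PureTrans (Ideal.ResidueField.map p yI (algebraMap A B) hyp.over) := ⟨ι, x, hx.1, htop⟩
    exact isPreconnected_of_purelyTranscendental _ y (pureTrans_residueFieldMap_spec (algebraMap A B) y p hyp.over h0)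
      K k (hk.trans hy.symm)
  set h := Spec.map (CommRingCat.ofHom (algebraMap A B)) with hh
  haveI : Smooth h := (HasRingHomProperty.Spec_iff (P := @Smooth)).2 (RingHom.smooth_algebraMap.2 ‹_›)
  haveI : y.asIdeal.LiesOver s.asIdeal := ⟨hyp.over⟩
  obtain ⟨L, _, _, _, _, _, θ, hθ⟩ := exists_finite_specialisation s.asIdeal y.asIdeal
  obtain ⟨R', _, _, p', _, Z, _, _, _, _, ψ, P, _, _, hnhd, _, _, _, hψP, hPuniq⟩ :=
    exists_multisection s.asIdeal L θ
  have he' := isEtaleNbhd_spec s.asIdeal p' hnhd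
  set e₀ := Spec.map (CommRingCat.ofHom (algebraMap A R')) with he₀
  haveI : Etale e₀ := he'.etale
  set s₀ : Spec (CommRingCat.of R') := ⟨p', ‹_›⟩ with hs₀
  have hes : e₀ s₀ = s := he'.base_eq
  let h₁ := pullback.snd h e₀
  haveI : Smooth h₁ := MorphismProperty.pullback_snd _ _ inferInstance
  let z := Spec.map (CommRingCat.ofHom (algebraMap R' Z))
  haveI : IsFinite z := (IsFinite.SpecMap_iff _).2 (RingHom.finite_algebraMap.2 ‹_›)
  haveI : Flat z := (HasRingHomProperty.Spec_iff (P := @Flat)).2 (RingHom.flat_algebraMap_iff.2 ‹_›)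
  haveI : LocallyOfFinitePresentation z :=
    (HasRingHomProperty.Spec_iff (P := @LocallyOfFinitePresentation)).2 (RingHom.finitePresentation_algebraMap.2 ‹_›)
  let σ : Spec (CommRingCat.of Z) ⟶ pullback h e₀ := pullback.lift (Spec.map (CommRingCat.ofHom ψ.toRingHom)) z (by
    rw [← Spec.map_comp, ← Spec.map_comp]
    congr 1
    ext a
    show ψ (algebraMap A B a) = algebraMap R' Z (algebraMap A R' a)
    rw [ψ.commutes, ← IsScalarTower.algebraMap_apply])
  have hσ : σ ≫ h₁ = z := pullback.lift_snd _ _ _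
  let z₀ : Spec (CommRingCat.of Z) := ⟨P, ‹_›⟩
  have hz₀ : z z₀ = s₀ := PrimeSpectrum.ext (Ideal.LiesOver.over (P := P) (p := p')).symm
  have huniq : ∀ w, z w = s₀ → w = z₀ := fun w hw =>
    PrimeSpectrum.ext (hPuniq w.asIdeal w.isPrime ⟨(congrArg PrimeSpectrum.asIdeal hw).symm⟩)
  obtain ⟨y₀, hy₀y, hy₀s⟩ :=
    Scheme.Pullback.exists_preimage_pullback (f := h) (g := e₀) y s₀ (hy.trans hes.symm)
  have hres : Function.Surjective (e₀.residueFieldMap (pullback.snd h e₀ y₀)) := by
    rw [hy₀s]; exact he'.residue_bijective.2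
  obtain ⟨-, hres₀⟩ := Weight.pullback_residue_trivial h e₀ y₀ y₀ hres rfl rfl
  have huy : ∀ v, pullback.fst h e₀ v = y → pullback.snd h e₀ v = s₀ → v = y₀ := fun v h1 h2 =>
    (Weight.pullback_residue_trivial h e₀ y₀ v hres (h1.trans hy₀y.symm) (h2.trans hy₀s.symm)).1
  -- `y₀` specialises to the point of the multisection
  haveI : Etale (pullback.fst h e₀) := MorphismProperty.pullback_fst _ _ inferInstance
  have hσs : h₁ (σ z₀) = s₀ := by rw [← Scheme.Hom.comp_apply, hσ, hz₀]
  have hspec : y₀ ⤳ σ z₀ := by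
    have hc : y ⤳ pullback.fst h e₀ (σ z₀) := by
      rw [← Scheme.Hom.comp_apply, pullback.lift_fst]
      refine (PrimeSpectrum.le_iff_specializes y _).1 ?_
      show y.asIdeal ≤ P.comap ψ.toRingHom
      rw [hψP]; exact hθ
    obtain ⟨w, hw, hwy⟩ := Flat.generalizingMap (pullback.fst h e₀) hc
    have h1 : h₁ w ⤳ s₀ := hσs ▸ hw.map h₁.continuous
    have h2 : e₀ (h₁ w) = s := by
      rw [← Scheme.Hom.comp_apply, ← pullback.condition, Scheme.Hom.comp_apply, hwy, hy]
    haveI : Algebra.Etale A R' := hnhd.1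
    haveI : LocallyQuasiFinite e₀ :=
      (HasRingHomProperty.Spec_iff (P := @LocallyQuasiFinite)).2
        (show (algebraMap A R').QuasiFinite from RingHom.quasiFinite_algebraMap.2 inferInstance)
    have h3 : h₁ w = s₀ := (e₀.isDiscrete_preimage_singleton s).eq_of_specializes h1 h2 hes
    rwa [huy w hwy h3] at hw
  have hy₀ : h₁ y₀ = s₀ := hy₀s
  have hσy : σ z₀ ∈ connectedComponentIn (h₁ ⁻¹' {s₀}) y₀ := by
    have hpc : _root_.IsPreconnected ({y₀, σ z₀} : Set _) :=
      isPreconnected_singleton.subset_closure (Set.singleton_subset_iff.2 (Or.inl rfl))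
        (Set.insert_subset (subset_closure rfl) (Set.singleton_subset_iff.2 (specializes_iff_mem_closure.1 hspec)))
    refine hpc.subset_connectedComponentIn (Or.inl rfl) ?_ (Or.inr rfl)
    exact Set.insert_subset hy₀ (Set.singleton_subset_iff.2 hσs)
  obtain ⟨U, W, hsW, hyU, hUW⟩ := exists_connected_nhd h₁ z σ hσ z₀ hz₀ huniq hy₀ hσy (by
    intro K _ k hk
    let ι := pullbackLeftPullbackSndIso h e₀ k
    have h1 := (hgeo K (k ≫ e₀) (by rw [Scheme.Hom.comp_apply, hk, hes])).image ι.inv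
      ι.inv.continuous.continuousOn
    convert h1 using 1
    ext x
    refine ⟨fun hx => ⟨ι.hom x, ?_, ?_⟩, ?_⟩
    · show pullback.fst h (k ≫ e₀) (ι.hom x) = y
      rw [← Scheme.Hom.comp_apply, pullbackLeftPullbackSndIso_hom_fst, Scheme.Hom.comp_apply]
      rw [Set.mem_preimage, Set.mem_singleton_iff] at hx
      rw [hx, hy₀y]
    · rw [← Scheme.Hom.comp_apply, ι.hom_inv_id]; rfl
    · rintro ⟨w, hw, rfl⟩
      refine huy _ ?_ ?_
      · rw [← Scheme.Hom.comp_apply, ← Scheme.Hom.comp_apply, pullbackLeftPullbackSndIso_inv_fst]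
        exact hw
      · show h₁ (pullback.fst h₁ k (ι.inv w)) = s₀
        rw [← Scheme.Hom.comp_apply, pullback.condition, Scheme.Hom.comp_apply,
          Subsingleton.elim (pullback.snd h₁ k (ι.inv w)) (closedPoint K), hk])
  -- the affine model of the fibre product
  let ι := (isPullback_SpecMap_of_isPushout _ _ _ _ (CommRingCat.isPushout_tensorProduct A R' B).flip).isoPullback
  let y' : PrimeSpectrum (R' ⊗[A] B) := ι.inv y₀
  have hι1 : ∀ w, pullback.fst h e₀ (ι.hom w) = Spec.map (CommRingCat.ofHom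
      (Algebra.TensorProduct.includeRight : B →ₐ[A] R' ⊗[A] B).toRingHom) w := fun w => by
    rw [← Scheme.Hom.comp_apply, IsPullback.isoPullback_hom_fst]
  have hι2 : ∀ w, pullback.snd h e₀ (ι.hom w) = Spec.map (CommRingCat.ofHom
      (Algebra.TensorProduct.includeLeftRingHom : R' →+* R' ⊗[A] B)) w := fun w => by
    rw [← Scheme.Hom.comp_apply, IsPullback.isoPullback_hom_snd]
  have hιy : ι.hom y' = y₀ := by rw [← Scheme.Hom.comp_apply, Iso.inv_hom_id]; rfl
  haveI hy'B : y'.asIdeal.LiesOver yI := ⟨by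
    have := hι1 y'
    rw [hιy, hy₀y] at this
    exact congrArg PrimeSpectrum.asIdeal this⟩
  haveI hy'R : y'.asIdeal.LiesOver p' := ⟨by
    have := hι2 y'
    rw [hιy] at this
    exact (congrArg PrimeSpectrum.asIdeal (hy₀.symm.trans this))⟩
  obtain ⟨_, ⟨d, rfl⟩, hdy, hdU⟩ := PrimeSpectrum.isTopologicalBasis_basic_opens.exists_subset_of_mem_open
    (show y' ∈ ι.hom ⁻¹' ((U : Set _) ∩ h₁ ⁻¹' (W : Set _)) from
      ⟨by rw [hιy]; exact hyU, by rw [hιy]; show h₁ y₀ ∈ W; rw [hy₀]; exact hsW⟩)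
    ((U.isOpen.inter (W.isOpen.preimage h₁.continuous)).preimage ι.hom.continuous)
  have himg : IsOpen (PrimeSpectrum.comap (algebraMap R' (R' ⊗[A] B)) '' (PrimeSpectrum.basicOpen d : Set _)) :=
    PrimeSpectrum.isOpenMap_comap_of_hasGoingDown_of_finitePresentation _ (PrimeSpectrum.basicOpen d).isOpen
  have hs₀' : (⟨p', ‹_›⟩ : PrimeSpectrum R') ∈
      PrimeSpectrum.comap (algebraMap R' (R' ⊗[A] B)) '' (PrimeSpectrum.basicOpen d : Set _) :=
    ⟨y', hdy, PrimeSpectrum.ext (Ideal.LiesOver.over (P := y'.asIdeal) (p := p')).symm⟩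
  obtain ⟨_, ⟨r, rfl⟩, hr, hrsub⟩ :=
    PrimeSpectrum.isTopologicalBasis_basic_opens.exists_subset_of_mem_open hs₀' himg
  -- shrinking the base
  let R₁ := Localization.Away r
  let T := R' ⊗[A] B
  let T₁ := R₁ ⊗[A] B
  have hdr : Disjoint (Submonoid.powers r : Set R') (p' : Set R') :=
    (Ideal.disjoint_powers_iff_notMem_of_isPrime _).2 hr
  let p₁ : Ideal R₁ := p'.map (algebraMap R' R₁)
  haveI hp₁ : p₁.IsPrime := IsLocalization.isPrime_of_isPrime_disjoint (Submonoid.powers r) _ _ ‹_› hdr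
  haveI hp₁p : p₁.LiesOver p' := ⟨(IsLocalization.under_map_of_isPrime_disjoint (Submonoid.powers r) _ ‹_› hdr).symm⟩
  haveI : Algebra.Etale A R' := hnhd.1
  have hnhd₁ : FlatCA.IsEtaleNhd A R₁ p p₁ :=
    isEtaleNhd_trans p p' p₁ hnhd ⟨Algebra.Etale.of_isLocalizationAway r, hp₁p,
      GeomNbhd4.surjective_localization_residue r p' p₁ hp₁p.over⟩
  obtain ⟨-, hp₁A, hκ⟩ := id hnhd₁
  haveI := hp₁A
  obtain ⟨y₁, hy₁, hy₁R, hy₁B⟩ := exists_prime_over (B := B) (B' := T₁) hκ yI
  haveI := hy₁R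
  haveI := hy₁B
  letI aT : Algebra T T₁ :=
    (Algebra.TensorProduct.map (IsScalarTower.toAlgHom A R' R₁) (AlgHom.id A B)).toRingHom.toAlgebra
  haveI tT : IsScalarTower R' T T₁ := IsScalarTower.of_algebraMap_eq fun x => by
    show algebraMap R' T₁ x = Algebra.TensorProduct.map (IsScalarTower.toAlgHom A R' R₁) (AlgHom.id A B) (x ⊗ₜ[A] (1 : B))
    rw [Algebra.TensorProduct.map_tmul]
    rfl
  haveI tB : IsScalarTower B T T₁ := IsScalarTower.of_algebraMap_eq fun x => by
    show (1 : R₁) ⊗ₜ[A] x = Algebra.TensorProduct.map (IsScalarTower.toAlgHom A R' R₁) (AlgHom.id A B) ((1 : R') ⊗ₜ[A] x)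
    rw [Algebra.TensorProduct.map_tmul, map_one]
    rfl
  haveI hpo : Algebra.IsPushout R' T R₁ T₁ := by
    haveI hT : Algebra.IsPushout A R' B T := inferInstance
    haveI hT₁ : Algebra.IsPushout A R₁ B T₁ := inferInstance
    haveI : IsScalarTower A T T₁ := IsScalarTower.of_algebraMap_eq fun a => by
      rw [IsScalarTower.algebraMap_apply A R' T, ← IsScalarTower.algebraMap_apply R' T T₁, ← IsScalarTower.algebraMap_apply]
    haveI : Algebra.IsPushout A B R' T := .symm hT
    haveI hT₁' : Algebra.IsPushout A B R₁ T₁ := .symm hT₁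
    haveI : IsScalarTower A R' T₁ := inferInstance
    exact ((Algebra.IsPushout.comp_iff A R' B T (T := R₁) (T' := T₁)).1 hT₁).symm
  haveI : IsLocalization.Away (algebraMap R' T r) T₁ := by
    show IsLocalization (Submonoid.powers (algebraMap R' T r)) T₁
    rw [← Algebra.algebraMapSubmonoid_powers]
    exact (Algebra.isLocalization_iff_isPushout (Submonoid.powers r) R₁).2 hpo
  have hcomap : y₁.comap (algebraMap T T₁) = y'.asIdeal := by
    haveI hy₁' : (y₁.comap (algebraMap T T₁)).LiesOver p' := ⟨by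
      rw [Ideal.under_def, Ideal.comap_comap, ← IsScalarTower.algebraMap_eq, IsScalarTower.algebraMap_eq R' R₁ T₁,
        ← Ideal.comap_comap]
      exact hp₁p.over.trans (congrArg (Ideal.comap (algebraMap R' R₁)) hy₁R.over)⟩
    obtain ⟨-, hl', hκ'⟩ := hnhd
    haveI := hl'
    refine prime_ext (B := B) hκ' _ _ ?_
    rw [Ideal.comap_comap, ← IsScalarTower.algebraMap_eq]
    exact hy₁B.over.symm.trans hy'B.over
  let d₁ : T₁ := algebraMap T T₁ d
  have hd₁ : d₁ ∉ y₁ := fun hm => hdy ((SetLike.ext_iff.1 hcomap d).1 hm)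
  refine ⟨R₁, inferInstance, inferInstance, p₁, hp₁, y₁, hy₁, d₁, hnhd₁, hy₁R, hy₁B, hd₁, ?_⟩
  -- the open piece
  let V := Localization.Away d₁
  haveI : IsScalarTower T T₁ V := inferInstance
  haveI : IsLocalization.Away (d * algebraMap R' T r) V := by
    rw [mul_comm]; exact IsLocalization.Away.mul' T₁ V (algebraMap R' T r) d
  let j := Spec.map (CommRingCat.ofHom (algebraMap R' R₁))
  let i₀ := Spec.map (CommRingCat.ofHom (algebraMap T V))
  haveI : IsOpenImmersion j := IsOpenImmersion.of_isLocalization r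
  haveI : IsOpenImmersion i₀ := IsOpenImmersion.of_isLocalization (d * algebraMap R' T r)
  let i := i₀ ≫ ι.hom
  let h' := Spec.map (CommRingCat.ofHom (algebraMap R₁ V))
  have w : h' ≫ j = i ≫ h₁ := by
    show _ = (i₀ ≫ ι.hom) ≫ pullback.snd h e₀
    rw [Category.assoc, IsPullback.isoPullback_hom_snd]
    show Spec.map _ ≫ Spec.map _ = Spec.map _ ≫ Spec.map _
    rw [← Spec.map_comp, ← Spec.map_comp]
    congr 1
  haveI : Surjective h' := ⟨fun P => by
    have hrP : r ∉ P.asIdeal.comap (algebraMap R' R₁) := fun hm =>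
      P.isPrime.ne_top (Ideal.eq_top_of_isUnit_mem _ hm (IsLocalization.Away.algebraMap_isUnit r))
    obtain ⟨Q, hQd, hQP⟩ := hrsub (show (⟨P.asIdeal.comap (algebraMap R' R₁), inferInstance⟩ : PrimeSpectrum R') ∈ (PrimeSpectrum.basicOpen r : Set _) from hrP)
    obtain ⟨Q₁, hQ₁⟩ : Q ∈ Set.range (PrimeSpectrum.comap (algebraMap T V)) := by
      rw [PrimeSpectrum.localization_away_comap_range V (d * algebraMap R' T r)]
      intro hm
      exact (Q.isPrime.mem_or_mem hm).elim hQd fun h2 =>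
        hrP ((SetLike.ext_iff.1 (congrArg PrimeSpectrum.asIdeal hQP) r).1 h2)
    refine ⟨Q₁, j.isOpenEmbedding.injective ?_⟩
    rw [← Scheme.Hom.comp_apply, w, Scheme.Hom.comp_apply, Scheme.Hom.comp_apply, show i₀ Q₁ = Q from hQ₁, hι2 Q]
    exact hQP⟩
  refine geometricallyIntegral_of_connected h₁ U i j h' w ?_ fun K _ k hk => hUW K k ?_
  · rintro _ ⟨v, rfl⟩
    have hv : (i₀ v : PrimeSpectrum T) ∈ ((PrimeSpectrum.basicOpen d : TopologicalSpace.Opens (PrimeSpectrum T)) : Set (PrimeSpectrum T)) := by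
      have : i₀ v ∈ Set.range (PrimeSpectrum.comap (algebraMap T V)) := ⟨v, rfl⟩
      rw [PrimeSpectrum.localization_away_comap_range V (d * algebraMap R' T r)] at this
      exact fun hm => this ((i₀ v).asIdeal.mul_mem_right _ hm)
    exact (hdU hv).1
  · obtain ⟨t, ht⟩ := hk
    obtain ⟨v, hv⟩ := h'.surjective t
    rw [← ht, ← hv, ← Scheme.Hom.comp_apply, w, Scheme.Hom.comp_apply]
    have hv' : (i₀ v : PrimeSpectrum T) ∈ ((PrimeSpectrum.basicOpen d : TopologicalSpace.Opens (PrimeSpectrum T)) : Set (PrimeSpectrum T)) := by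
      have : i₀ v ∈ Set.range (PrimeSpectrum.comap (algebraMap T V)) := ⟨v, rfl⟩
      rw [PrimeSpectrum.localization_away_comap_range V (d * algebraMap R' T r)] at this
      exact fun hm => this ((i₀ v).asIdeal.mul_mem_right _ hm)
    exact (hdU hv').2

end Groth.Agent.Dev4
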