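import Groth.Prelude.Def_FlatCA
import Groth.Agent.Lib.GeomNbhd4.Lift

/-!
# Elements cutting out a standard shrinking
-/

set_option autoImplicit false

universe u

namespace Groth.Agent.Dev4

/-- Two elements cut out the same basic open. -/
def AwayEq {A : Type u} [CommRing A] (x y : A) : Prop :=
  (∃ k, x ∣ y ^ k) ∧ ∃ k, y ∣ x ^ k

theorem AwayEq.refl {A : Type u} [CommRing A] (x : A) : AwayEq x x :=
  ⟨⟨1, by simp⟩, ⟨1, by simp⟩⟩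

theorem AwayEq.symm {A : Type u} [CommRing A] {x y : A} (h : AwayEq x y) : AwayEq y x := ⟨h.2, h.1⟩

theorem AwayEq.mul_right {A : Type u} [CommRing A] {x y : A} (h : AwayEq x y) (g : A) : AwayEq (x * g) (y * g) := by
  obtain ⟨⟨k, hk⟩, ⟨l, hl⟩⟩ := h
  refine ⟨⟨k + 1, ?_⟩, ⟨l + 1, ?_⟩⟩
  · rw [mul_pow]
    exact mul_dvd_mul (hk.trans ⟨y, pow_succ y k⟩) (dvd_pow_self g (Nat.succ_ne_zero k))
  · rw [mul_pow]
    exact mul_dvd_mul (hl.trans ⟨x, pow_succ x l⟩) (dvd_pow_self g (Nat.succ_ne_zero l))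

/-- Multiplying by a factor invertible on the open changes nothing. -/
theorem awayEq_mul_of_dvd {A : Type u} [CommRing A] (x y : A) (k : ℕ) (h : x ∣ y ^ k) : AwayEq (x * y) y :=
  ⟨⟨k + 1, by rw [pow_succ]; exact mul_dvd_mul_right h y⟩, ⟨1, by rw [pow_one]; exact dvd_mul_left y x⟩⟩

/-- Localisations at elements cutting out the same open agree. -/
theorem AwayEq.isLocalization {A A' : Type u} [CommRing A] [CommRing A'] [Algebra A A'] {x y : A} (h : AwayEq x y)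
    [IsLocalization.Away x A'] : IsLocalization.Away y A' := by
  obtain ⟨⟨k, hk⟩, ⟨l, hl⟩⟩ := h
  refine ⟨?_, fun z => ?_, fun {a b} hab => ?_⟩
  · rintro ⟨_, m, rfl⟩
    rw [map_pow]
    refine IsUnit.pow m (isUnit_of_dvd_unit (map_dvd _ hl) ?_)
    rw [map_pow]
    exact (IsLocalization.Away.algebraMap_isUnit x).pow l
  · obtain ⟨m, a, ha⟩ := IsLocalization.Away.surj x z
    obtain ⟨e, he⟩ := hk
    refine ⟨⟨a * e ^ m, ⟨(y ^ k) ^ m, k * m, pow_mul y k m⟩⟩, ?_⟩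
    show z * algebraMap A A' ((y ^ k) ^ m) = algebraMap A A' (a * e ^ m)
    rw [he, mul_pow, map_mul, map_mul, map_pow, ← mul_assoc, ha]
  · obtain ⟨m, hm⟩ := IsLocalization.Away.exists_of_eq x hab
    obtain ⟨e, he⟩ := hk
    refine ⟨⟨(y ^ k) ^ m, k * m, pow_mul y k m⟩, ?_⟩
    show (y ^ k) ^ m * a = (y ^ k) ^ m * b
    rw [he, mul_pow, mul_comm (x ^ m) (e ^ m), mul_assoc, mul_assoc, hm]

variable {R S : Type u} [CommRing R] [CommRing S] [Algebra R S] {N : Type u} [AddCommGroup N] [Module S N]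
  {p : Ideal R} [p.IsPrime] {q : Ideal S} [q.IsPrime] {𝒟 : FlatCA.CompleteDevissage R S N p}
  (𝒜 : FlatCA.CompleteDevissageAt R S N p q 𝒟)

attribute [local instance] FlatCA.CompleteDevissageAt.hqB FlatCA.CompleteDevissageAt.hqA
  FlatCA.CompleteDevissageAt.overB FlatCA.CompleteDevissageAt.overA

theorem notMem_qA {i : ℕ} {b : 𝒟.B i} (hb : b ∉ 𝒜.qB i) : algebraMap (𝒟.B i) (𝒟.A i) b ∉ 𝒜.qA i :=
  fun h => hb ((Ideal.mem_of_liesOver (𝒜.qA i) (𝒜.qB i) b).2 h)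

theorem notMem_qA' {i : ℕ} (h : i + 1 < 𝒟.n) {b : 𝒟.B i} (hb : b ∉ 𝒜.qB i) :
    algebraMap (𝒟.B i) (𝒟.A (i + 1)) b ∉ 𝒜.qA (i + 1) :=
  fun h' => hb ((SetLike.ext_iff.1 (𝒜.qStep i h) b).1 h')

theorem notMem_map {i : ℕ} {g : R} (hg : g ∉ p) : algebraMap R (𝒟.B i) g ∉ 𝒜.qB i :=
  fun h => hg ((Ideal.mem_of_liesOver (𝒜.qB i) p g).2 h)

include 𝒜 in
/-- The forward pass. -/
theorem exists_forward (u : S) (hu : u ∉ q) :
    ∃ d : ∀ i, 𝒟.B i, (∀ i, d i ∉ 𝒜.qB i) ∧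
      (∃ k, algebraMap S (𝒟.A 0) u ∣ algebraMap (𝒟.B 0) (𝒟.A 0) (d 0) ^ k) ∧
      ∀ i, i + 1 < 𝒟.n →
        ∃ k, algebraMap (𝒟.B i) (𝒟.A (i + 1)) (d i) ∣ algebraMap (𝒟.B (i + 1)) (𝒟.A (i + 1)) (d (i + 1)) ^ k := by
  have h1 : ∀ i, ∀ c : 𝒟.A i, ∃ y : {y : 𝒟.B i // y ∉ 𝒜.qB i}, i < 𝒟.n → c ∉ 𝒜.qA i →
      ∃ k, c ∣ algebraMap (𝒟.B i) (𝒟.A i) y.1 ^ k := by
    intro i c
    by_cases h : i < 𝒟.n ∧ c ∉ 𝒜.qA i
    · haveI := 𝒟.finiteBA i h.1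
      haveI := 𝒟.smooth i h.1
      obtain ⟨-, d, -, hd, -, hk, -⟩ :=
        GeomNbhd4.exists_shrink_elements p (𝒜.qB i) (𝒜.qA i) (fun z₁ _ hz => 𝒜.uniq i h.1 z₁ hz) c h.2
      exact ⟨⟨d, hd⟩, fun _ _ => hk⟩
    · exact ⟨⟨1, fun h' => (𝒜.hqB i).ne_top ((Ideal.eq_top_iff_one _).2 h')⟩, fun a b => absurd ⟨a, b⟩ h⟩
  choose y hy using h1
  let d : ∀ i, {z : 𝒟.B i // z ∉ 𝒜.qB i} := fun i =>
    Nat.rec (motive := fun i => {z : 𝒟.B i // z ∉ 𝒜.qB i}) (y 0 (algebraMap S (𝒟.A 0) u))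
      (fun i x => y (i + 1) (algebraMap (𝒟.B i) (𝒟.A (i + 1)) x.1)) i
  refine ⟨fun i => (d i).1, fun i => (d i).2, ?_, fun i hi => ?_⟩
  · exact hy 0 _ 𝒟.pos fun h => hu ((SetLike.ext_iff.1 𝒜.q0 u).1 h)
  · exact hy (i + 1) _ hi (notMem_qA' 𝒜 hi (d i).2)

include 𝒜 in
/-- The backward pass. -/
theorem exists_backward (d : ∀ i, 𝒟.B i) (hd : ∀ i, d i ∉ 𝒜.qB i)
    (hdd : ∀ i, i + 1 < 𝒟.n →
      ∃ k, algebraMap (𝒟.B i) (𝒟.A (i + 1)) (d i) ∣ algebraMap (𝒟.B (i + 1)) (𝒟.A (i + 1)) (d (i + 1)) ^ k)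
    (w : ∀ i, 𝒟.B i) (hw : ∀ i, w i ∉ 𝒜.qB i) :
    ∃ c : ∀ i, 𝒟.B i, (∀ i, c i ∉ 𝒜.qB i) ∧ (∀ i, d i ∣ c i) ∧
      (∀ i, i + 1 = 𝒟.n → c i = w i * d i) ∧
      ∀ i, i + 1 < 𝒟.n →
        AwayEq (algebraMap (𝒟.B i) (𝒟.A (i + 1)) (c i)) (algebraMap (𝒟.B (i + 1)) (𝒟.A (i + 1)) (c (i + 1))) := by
  suffices h : ∀ j, ∃ c : ∀ i, 𝒟.B i, (∀ i, c i ∉ 𝒜.qB i) ∧ (∀ i, d i ∣ c i) ∧
      (∀ i, i + 1 = 𝒟.n → c i = w i * d i) ∧
      ∀ i, i + 1 < 𝒟.n → 𝒟.n ≤ i + 1 + j →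
        AwayEq (algebraMap (𝒟.B i) (𝒟.A (i + 1)) (c i)) (algebraMap (𝒟.B (i + 1)) (𝒟.A (i + 1)) (c (i + 1))) by
    obtain ⟨c, h1, h2, h3, h4⟩ := h 𝒟.n
    exact ⟨c, h1, h2, h3, fun i hi => h4 i hi (by omega)⟩
  intro j
  induction j with
  | zero =>
    exact ⟨fun i => w i * d i, fun i h => ((𝒜.hqB i).mem_or_mem h).elim (hw i) (hd i), fun i => dvd_mul_left _ _,
      fun i _ => rfl, fun i hi h => absurd h (by omega)⟩
  | succ j ih =>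
    obtain ⟨c, h1, h2, h3, h4⟩ := ih
    classical
    by_cases hk : j + 1 < 𝒟.n
    swap
    · exact ⟨c, h1, h2, h3, fun i hi h => h4 i hi (by omega)⟩
    obtain ⟨k, hk', hkn⟩ : ∃ k, k + 1 < 𝒟.n ∧ k + 2 + j = 𝒟.n := ⟨𝒟.n - 2 - j, by omega, by omega⟩
    obtain ⟨e, he⟩ := 𝒟.surjBA' k hk' (algebraMap (𝒟.B (k + 1)) (𝒟.A (k + 1)) (c (k + 1)))
    have heq : e ∉ 𝒜.qB k := fun h => by
      have h' := (SetLike.ext_iff.1 (𝒜.qStep k hk') e).2 h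
      rw [Ideal.mem_comap, he] at h'
      exact notMem_qA 𝒜 (h1 (k + 1)) h'
    refine ⟨Function.update c k (d k * e), fun i => ?_, fun i => ?_, fun i hi => ?_, fun i hi hij => ?_⟩
    · rcases eq_or_ne i k with rfl | hne
      · rw [Function.update_self]; exact fun h => ((𝒜.hqB i).mem_or_mem h).elim (hd i) heq
      · rw [Function.update_of_ne hne]; exact h1 i
    · rcases eq_or_ne i k with rfl | hne
      · rw [Function.update_self]; exact dvd_mul_right _ _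
      · rw [Function.update_of_ne hne]; exact h2 i
    · rw [Function.update_of_ne (by omega)]; exact h3 i hi
    · rcases eq_or_ne i k with rfl | hne
      · rw [Function.update_self, Function.update_of_ne (by omega : i + 1 ≠ i), map_mul, he]
        obtain ⟨l, hl⟩ := hdd i hi
        exact awayEq_mul_of_dvd _ _ l (hl.trans (pow_dvd_pow_of_dvd (map_dvd _ (h2 (i + 1))) l))
      · rw [Function.update_of_ne hne, Function.update_of_ne (by omega : i + 1 ≠ k)]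
        exact h4 i hi (by omega)

/-- The elements of a standard shrinking. -/
structure ShrinkOK (g : R) (hX : S) (b : ∀ i, 𝒟.B i) : Prop where
  g_notMem : g ∉ p
  hX_notMem : hX ∉ q
  b_notMem : ∀ i, b i ∉ 𝒜.qB i
  g_dvd_hX : algebraMap R S g ∣ hX
  g_dvd : ∀ i, algebraMap R (𝒟.B i) g ∣ b i
  hX_eq : AwayEq (algebraMap S (𝒟.A 0) hX) (algebraMap (𝒟.B 0) (𝒟.A 0) (b 0))
  step : ∀ i, i + 1 < 𝒟.n →
    AwayEq (algebraMap (𝒟.B i) (𝒟.A (i + 1)) (b i)) (algebraMap (𝒟.B (i + 1)) (𝒟.A (i + 1)) (b (i + 1)))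
  surj : ∀ i, i < 𝒟.n → ∀ P : Ideal R, P.IsPrime → g ∉ P →
    ∃ Q : Ideal (𝒟.B i), Q.IsPrime ∧ Q.comap (algebraMap R (𝒟.B i)) = P ∧ b i ∉ Q

/-- Standard shrinkings exist inside a given open, ending in a given open. -/
theorem exists_shrinkOK (u : S) (hu : u ∉ q) (d : ∀ i, 𝒟.B i) (hd : ∀ i, d i ∉ 𝒜.qB i)
    (hd0 : ∃ k, algebraMap S (𝒟.A 0) u ∣ algebraMap (𝒟.B 0) (𝒟.A 0) (d 0) ^ k)
    (hdd : ∀ i, i + 1 < 𝒟.n →
      ∃ k, algebraMap (𝒟.B i) (𝒟.A (i + 1)) (d i) ∣ algebraMap (𝒟.B (i + 1)) (𝒟.A (i + 1)) (d (i + 1)) ^ k)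
    (w : ∀ i, 𝒟.B i) (hw : ∀ i, w i ∉ 𝒜.qB i) :
    ∃ (g : R) (hX : S) (b : ∀ i, 𝒟.B i), ShrinkOK 𝒜 g hX b ∧ u ∣ hX ∧
      ∀ i, i + 1 = 𝒟.n → b i = w i * d i * algebraMap R (𝒟.B i) g := by
  classical
  obtain ⟨c, h1, h2, h3, h4⟩ := exists_backward 𝒜 d hd hdd w hw
  obtain ⟨e, he⟩ := 𝒟.surjSA (algebraMap (𝒟.B 0) (𝒟.A 0) (c 0))
  have heq : e ∉ q := fun h => by
    have h' := (SetLike.ext_iff.1 𝒜.q0 e).2 h
    rw [Ideal.mem_comap, he] at h'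
    exact notMem_qA 𝒜 (h1 0) h'
  have hr : ∀ i, ∃ r : R, r ∉ p ∧ (i < 𝒟.n → ∀ P : Ideal R, P.IsPrime → r ∉ P →
      ∃ Q : Ideal (𝒟.B i), Q.IsPrime ∧ Q.comap (algebraMap R (𝒟.B i)) = P ∧ c i ∉ Q) := by
    intro i
    by_cases hi : i < 𝒟.n
    · haveI := 𝒟.smooth i hi
      have himg : IsOpen (PrimeSpectrum.comap (algebraMap R (𝒟.B i)) '' (PrimeSpectrum.basicOpen (c i) : Set _)) :=
        PrimeSpectrum.isOpenMap_comap_of_hasGoingDown_of_finitePresentation _ (PrimeSpectrum.basicOpen (c i)).isOpen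
      have hp' : (⟨p, ‹_›⟩ : PrimeSpectrum R) ∈
          PrimeSpectrum.comap (algebraMap R (𝒟.B i)) '' (PrimeSpectrum.basicOpen (c i) : Set _) :=
        ⟨⟨𝒜.qB i, inferInstance⟩, h1 i, PrimeSpectrum.ext (Ideal.LiesOver.over (P := 𝒜.qB i) (p := p)).symm⟩
      obtain ⟨_, ⟨r, rfl⟩, hr, hrsub⟩ :=
        PrimeSpectrum.isTopologicalBasis_basic_opens.exists_subset_of_mem_open hp' himg
      refine ⟨r, hr, fun _ P hP hrP => ?_⟩
      obtain ⟨Q, hQd, hQP⟩ := hrsub (show (⟨P, hP⟩ : PrimeSpectrum R) ∈ (PrimeSpectrum.basicOpen r : Set _) from hrP)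
      exact ⟨Q.asIdeal, Q.isPrime, congrArg PrimeSpectrum.asIdeal hQP, hQd⟩
    · exact ⟨1, fun h => (inferInstance : p.IsPrime).ne_top ((Ideal.eq_top_iff_one _).2 h), fun h => absurd h hi⟩
  choose r hrp hrs using hr
  let g := ∏ i ∈ Finset.range 𝒟.n, r i
  have hg : g ∉ p := fun h => by
    obtain ⟨i, -, hi⟩ := (inferInstance : p.IsPrime).prod_mem_iff.1 h
    exact hrp i hi
  haveI : q.LiesOver p := by
    haveI : (𝒜.qA 0).LiesOver p := Ideal.LiesOver.trans (𝒜.qA 0) (𝒜.qB 0) p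
    refine ⟨?_⟩
    rw [Ideal.under_def, ← 𝒜.q0, Ideal.comap_comap, ← IsScalarTower.algebraMap_eq]
    exact Ideal.over_def (𝒜.qA 0) p
  refine ⟨g, u * e * algebraMap R S g, fun i => c i * algebraMap R (𝒟.B i) g,
    ⟨hg, ?_, fun i => ?_, dvd_mul_left _ _, fun i => dvd_mul_left _ _, ?_, fun i hi => ?_, fun i hi P hP hgP => ?_⟩,
    ⟨e * algebraMap R S g, by ring⟩, fun i hi => by simp only [h3 i hi]⟩
  · exact fun h => ((inferInstance : q.IsPrime).mem_or_mem h).elim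
      (fun h => ((inferInstance : q.IsPrime).mem_or_mem h).elim hu heq)
      (fun h => hg ((Ideal.mem_of_liesOver q p g).2 h))
  · exact fun h => ((𝒜.hqB i).mem_or_mem h).elim (h1 i) (notMem_map 𝒜 hg)
  · obtain ⟨k, hk⟩ := hd0
    rw [map_mul, map_mul, map_mul, he, ← IsScalarTower.algebraMap_apply, ← IsScalarTower.algebraMap_apply]
    exact (awayEq_mul_of_dvd _ _ k (hk.trans (pow_dvd_pow_of_dvd (map_dvd _ (h2 0)) k))).mul_right _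
  · rw [map_mul, map_mul, ← IsScalarTower.algebraMap_apply, ← IsScalarTower.algebraMap_apply]
    exact (h4 i hi).mul_right _
  · have hr' : r i ∉ P := fun h => hgP (P.mem_of_dvd (Finset.dvd_prod_of_mem r (Finset.mem_range.2 hi)) h)
    obtain ⟨Q, hQ, hQP, hcQ⟩ := hrs i hi P hP hr'
    exact ⟨Q, hQ, hQP, fun h => (hQ.mem_or_mem h).elim hcQ fun h' => hgP ((SetLike.ext_iff.1 hQP g).1 h')⟩

end Groth.Agent.Dev4
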