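import Groth.Agent.Lib.Dev4.Point
import Groth.Agent.Lib.GeomNbhd4.Devissage

/-!
# Points on standard open pieces
-/

set_option autoImplicit false

universe u

open TensorProduct AlgebraicGeometry CategoryTheory Limits Topology

set_option backward.isDefEq.respectTransparency.types false

attribute [local instance] Algebra.TensorProduct.rightAlgebra

namespace Groth.Agent.Dev4

/-- An open piece surjecting onto an open of the base keeps geometrically irreducible fibres. -/
theorem geometricallyIrreducible_of_open {Y S Y' S' : Scheme.{u}} (h : Y ⟶ S) [GeometricallyIrreducible h]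
    (i : Y' ⟶ Y) [IsOpenImmersion i] (j : S' ⟶ S) [IsOpenImmersion j] (h' : Y' ⟶ S') [Surjective h']
    (w : h' ≫ j = i ≫ h) : GeometricallyIrreducible h' := by
  refine ⟨fun K _ k Z fst snd hZ => ?_⟩
  haveI : IrreducibleSpace ↑(pullback h (k ≫ j)) :=
    GeometricallyIrreducible.geometrically_irreducibleSpace (f := h) (k ≫ j) _ _ (IsPullback.of_hasPullback _ _)
  let m : Z ⟶ pullback h (k ≫ j) := hZ.isoPullback.hom ≫
    pullback.map h' k h (k ≫ j) i (𝟙 _) j w (Category.id_comp _).symm
  haveI : IsOpenImmersion m := inferInstance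
  haveI : Nonempty Z := by
    obtain ⟨y, hy⟩ := h'.surjective (k (IsLocalRing.closedPoint K))
    obtain ⟨z, -, -⟩ := Scheme.Pullback.exists_preimage_pullback (f := h') (g := k) y (IsLocalRing.closedPoint K) hy
    exact ⟨hZ.isoPullback.inv z⟩
  haveI : PreirreducibleSpace Z := ⟨by
    have := (PreirreducibleSpace.isPreirreducible_univ (X := ↑(pullback h (k ≫ j)))).preimage m.isOpenEmbedding
    simpa using this⟩
  exact ⟨inferInstance⟩

section Loc

variable {R R' B B' : Type u} [CommRing R] [CommRing R'] [CommRing B] [CommRing B'] [Algebra R B] [Algebra R R']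
  [Algebra B B'] [Algebra R' B'] (g : R) (b : B) [IsLocalization.Away g R'] [IsLocalization.Away b B']
  (hcomp : (algebraMap R' B').comp (algebraMap R R') = (algebraMap B B').comp (algebraMap R B))

include hcomp in
/-- Compatible basic opens keep geometrically irreducible fibres. -/
theorem geomIrredFibres_loc (hG : FlatCA.GeomIrredFibres R B)
    (hsurj : ∀ P : Ideal R, P.IsPrime → g ∉ P → ∃ Q : Ideal B, Q.IsPrime ∧ Q.comap (algebraMap R B) = P ∧ b ∉ Q) :
    FlatCA.GeomIrredFibres R' B' := by
  let i := Spec.map (CommRingCat.ofHom (algebraMap B B'))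
  let j := Spec.map (CommRingCat.ofHom (algebraMap R R'))
  let h := Spec.map (CommRingCat.ofHom (algebraMap R B))
  let h' := Spec.map (CommRingCat.ofHom (algebraMap R' B'))
  haveI : IsOpenImmersion i := IsOpenImmersion.of_isLocalization b
  haveI : IsOpenImmersion j := IsOpenImmersion.of_isLocalization g
  have w : h' ≫ j = i ≫ h := by
    rw [← Spec.map_comp, ← Spec.map_comp, ← CommRingCat.ofHom_comp, ← CommRingCat.ofHom_comp, hcomp]
  haveI : GeometricallyIrreducible h := hG
  haveI : Surjective h' := ⟨fun P => by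
    have hr : g ∉ P.asIdeal.comap (algebraMap R R') := fun hm =>
      P.isPrime.ne_top (Ideal.eq_top_of_isUnit_mem _ hm (IsLocalization.Away.algebraMap_isUnit g))
    obtain ⟨Q, hQ, hQP, hdQ⟩ := hsurj _ inferInstance hr
    obtain ⟨Q'', hQ''⟩ : (⟨Q, hQ⟩ : PrimeSpectrum B) ∈ Set.range (PrimeSpectrum.comap (algebraMap B B')) := by
      rw [PrimeSpectrum.localization_away_comap_range B' b]; exact hdQ
    refine ⟨Q'', j.isOpenEmbedding.injective ?_⟩
    rw [← Scheme.Hom.comp_apply, w, Scheme.Hom.comp_apply]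
    show PrimeSpectrum.comap (algebraMap R B) (PrimeSpectrum.comap (algebraMap B B') Q'') =
      PrimeSpectrum.comap (algebraMap R R') P
    rw [hQ'']
    exact PrimeSpectrum.ext hQP⟩
  exact geometricallyIrreducible_of_open h i j h' w

include g b hcomp in
/-- Compatible basic opens keep the relative dimension. -/
theorem smoothRelDim_loc (n : ℕ) (hD : FlatCA.SmoothRelDim n R B) : FlatCA.SmoothRelDim n R' B' := by
  let i := Spec.map (CommRingCat.ofHom (algebraMap B B'))
  let j := Spec.map (CommRingCat.ofHom (algebraMap R R'))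
  let h := Spec.map (CommRingCat.ofHom (algebraMap R B))
  let h' := Spec.map (CommRingCat.ofHom (algebraMap R' B'))
  haveI : IsOpenImmersion i := IsOpenImmersion.of_isLocalization b
  haveI : IsOpenImmersion j := IsOpenImmersion.of_isLocalization g
  have w : h' ≫ j = i ≫ h := by
    rw [← Spec.map_comp, ← Spec.map_comp, ← CommRingCat.ofHom_comp, ← CommRingCat.ofHom_comp, hcomp]
  haveI : SmoothOfRelativeDimension 0 i := inferInstance
  haveI : SmoothOfRelativeDimension n h := hD
  have h2 : SmoothOfRelativeDimension (0 + n) (i ≫ h) := inferInstance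
  rw [zero_add, ← w] at h2
  haveI := h2
  exact GeomNbhd4.smoothOfRelativeDimension_of_comp_etale h' j n

include g b hcomp in
/-- Compatible basic opens keep smoothness. -/
theorem smooth_loc [Algebra.Smooth R B] : Algebra.Smooth R' B' := by
  letI : Algebra R B' := ((algebraMap B B').comp (algebraMap R B)).toAlgebra
  haveI : IsScalarTower R B B' := IsScalarTower.of_algebraMap_eq fun _ => rfl
  haveI : IsScalarTower R R' B' := IsScalarTower.of_algebraMap_eq fun r => (DFunLike.congr_fun hcomp r).symm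
  haveI : Algebra.Smooth B B' := Algebra.Smooth.of_isLocalization_Away b
  haveI : Algebra.Smooth R B' := Algebra.Smooth.comp R B B'
  haveI : Algebra.FinitePresentation R R' := IsLocalization.Away.finitePresentation g
  exact ⟨Algebra.FormallySmooth.localization_base (Submonoid.powers g),
    Algebra.FinitePresentation.of_restrict_scalars_finitePresentation R R' B'⟩

end Loc

section Points

variable {R B : Type u} [CommRing R] [CommRing B] [Algebra R B] (p : Ideal R) [p.IsPrime]

/-- The points of the support over `p`. -/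
def fibreSupp (M : Type u) [AddCommGroup M] [Module B M] : Set (PrimeSpectrum B) :=
  {x | x.asIdeal.comap (algebraMap R B) = p ∧ x ∈ Module.support B M}

variable (M : Type u) [AddCommGroup M] [Module B M] [Module R M] [IsScalarTower R B M] [Module.Finite B M]

theorem isEmbedding_fiber :
    IsEmbedding (PrimeSpectrum.comap (algebraMap B (p.Fiber B))) ∧
      Set.range (PrimeSpectrum.comap (algebraMap B (p.Fiber B))) = {x | x.asIdeal.comap (algebraMap R B) = p} := by
  let e := PrimeSpectrum.preimageHomeomorphFiber R B ⟨p, ‹_›⟩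
  have h : PrimeSpectrum.comap (algebraMap B (p.Fiber B)) = Subtype.val ∘ e.symm := rfl
  rw [h]
  refine ⟨IsEmbedding.subtypeVal.comp e.symm.isEmbedding, ?_⟩
  rw [Set.range_comp, e.symm.surjective.range_eq, Set.image_univ, Subtype.range_coe]
  ext x
  exact PrimeSpectrum.ext_iff

/-- Local dimensions of fibre supports inside the spectrum. -/
theorem locDim_iff (y : Ideal B) [y.IsPrime] [y.LiesOver p] (d : ℕ) :
    (∃ (x : PrimeSpectrum (p.Fiber B)) (hx : x ∈ Module.support (p.Fiber B) (FlatCA.fiberMod p B M)),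
      x.asIdeal = FlatCA.fiberIdeal p y ∧
      FlatMor.localDim (Module.support (p.Fiber B) (FlatCA.fiberMod p B M)) ⟨x, hx⟩ = d) ↔
    ∃ hy : (⟨y, ‹_›⟩ : PrimeSpectrum B) ∈ fibreSupp p M,
      FlatMor.localDim (fibreSupp p M) ⟨⟨y, ‹_›⟩, hy⟩ = d := by
  obtain ⟨hc, hrange⟩ := isEmbedding_fiber (B := B) p
  set c := PrimeSpectrum.comap (algebraMap B (p.Fiber B))
  have hs : ∀ w, w ∈ Module.support (p.Fiber B) (FlatCA.fiberMod p B M) ↔ c w ∈ Module.support B M := fun w =>
    FlatPur25.mem_support_baseChange_iff (B := B) (C := p.Fiber B) (M := M) w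
  have hover : ∀ w, (c w).asIdeal.comap (algebraMap R B) = p := fun w => by
    have : c w ∈ Set.range c := ⟨w, rfl⟩
    rwa [hrange] at this
  let e : Module.support (p.Fiber B) (FlatCA.fiberMod p B M) → PrimeSpectrum B := fun w => c w.1
  have he : IsEmbedding e := hc.comp IsEmbedding.subtypeVal
  have her : Set.range e = fibreSupp p M := by
    ext x
    constructor
    · rintro ⟨w, rfl⟩
      exact ⟨hover _, (hs w.1).1 w.2⟩
    · rintro ⟨hx1, hx2⟩
      obtain ⟨w, rfl⟩ : x ∈ Set.range c := by rw [hrange]; exact hx1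
      exact ⟨⟨w, (hs w).2 hx2⟩, rfl⟩
  obtain ⟨w₀, hw₀⟩ : (⟨y, ‹_›⟩ : PrimeSpectrum B) ∈ Set.range c := by
    rw [hrange]; exact (‹y.LiesOver p›).over.symm
  have hw₀' : w₀.asIdeal = FlatCA.fiberIdeal p y := by
    refine le_antisymm ?_ (Ideal.map_le_iff_le_comap.2 (le_of_eq (congrArg PrimeSpectrum.asIdeal hw₀).symm))
    intro z hz
    obtain ⟨w', hw'1, hw'2⟩ : ∃ w' : PrimeSpectrum (p.Fiber B), FlatCA.fiberIdeal p y ≤ w'.asIdeal ∧ True :=
      ⟨w₀, Ideal.map_le_iff_le_comap.2 (le_of_eq (congrArg PrimeSpectrum.asIdeal hw₀).symm), trivial⟩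
    obtain ⟨t, ht, hz'⟩ : ∃ t : p.Fiber B, IsUnit t ∧ ∃ x : B, t * z = algebraMap B (p.Fiber B) x := by
      obtain ⟨t, ht, x, hx⟩ := Ideal.Fiber.exists_smul_eq_one_tmul p z
      refine ⟨algebraMap R (p.Fiber B) t, ?_, x, by rw [← Algebra.smul_def]; exact hx⟩
      rw [IsScalarTower.algebraMap_apply R p.ResidueField (p.Fiber B)]
      exact (isUnit_iff_ne_zero.2 fun h => ht (Ideal.algebraMap_residueField_eq_zero.1 h)).map _
    obtain ⟨x, hx⟩ := hz'
    have hxy : x ∈ y := by
      have : algebraMap B (p.Fiber B) x ∈ w₀.asIdeal := hx ▸ w₀.asIdeal.mul_mem_left t hz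
      exact (SetLike.ext_iff.1 (congrArg PrimeSpectrum.asIdeal hw₀) x).1 this
    exact (Ideal.unit_mul_mem_iff_mem _ ht).1 (hx ▸ Ideal.mem_map_of_mem _ hxy)
  constructor
  · rintro ⟨x, hx, hxy, hd⟩
    have hcx : c x = ⟨y, ‹_›⟩ := by rw [← hw₀]; exact congrArg c (PrimeSpectrum.ext (hxy.trans hw₀'.symm))
    exact ⟨her ▸ ⟨⟨x, hx⟩, hcx⟩, (FibDim14.localDim_of_range he her ⟨x, hx⟩ hcx _).symm.trans hd⟩
  · rintro ⟨hy, hd⟩
    have hw : w₀ ∈ Module.support (p.Fiber B) (FlatCA.fiberMod p B M) := (hs w₀).2 (hw₀ ▸ hy.2)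
    exact ⟨w₀, hw, hw₀', (FibDim14.localDim_of_range he her ⟨w₀, hw⟩ hw₀ hy).trans hd⟩

end Points

/-- Local dimensions of fibre supports on open pieces. -/
theorem locDim_loc {R R' B B' M M' : Type u} [CommRing R] [CommRing R'] [CommRing B] [CommRing B'] [Algebra R B] [Algebra R R']
    [Algebra B B'] [Algebra R' B'] (g : R) (b : B) [IsLocalization.Away g R'] [IsLocalization.Away b B']
    (hcomp : (algebraMap R' B').comp (algebraMap R R') = (algebraMap B B').comp (algebraMap R B))
    [AddCommGroup M] [Module B M] [Module R M] [IsScalarTower R B M] [Module.Finite B M]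
    [AddCommGroup M'] [Module B' M'] [Module R' M'] [IsScalarTower R' B' M'] [Module B M'] [IsScalarTower B B' M']
    (gM : M →ₗ[B] M') (hg : IsBaseChange B' gM) (p : Ideal R) [p.IsPrime] (p' : Ideal R') [p'.IsPrime] [p'.LiesOver p]
    (y : Ideal B) [y.IsPrime] [y.LiesOver p] (y' : Ideal B') [y'.IsPrime] [y'.LiesOver p'] [y'.LiesOver y] (d : ℕ)
    (h : ∃ (x : PrimeSpectrum (p.Fiber B)) (hx : x ∈ Module.support (p.Fiber B) (FlatCA.fiberMod p B M)),
      x.asIdeal = FlatCA.fiberIdeal p y ∧
      FlatMor.localDim (Module.support (p.Fiber B) (FlatCA.fiberMod p B M)) ⟨x, hx⟩ = d) :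
    ∃ (x : PrimeSpectrum (p'.Fiber B')) (hx : x ∈ Module.support (p'.Fiber B') (FlatCA.fiberMod p' B' M')),
      x.asIdeal = FlatCA.fiberIdeal p' y' ∧
      FlatMor.localDim (Module.support (p'.Fiber B') (FlatCA.fiberMod p' B' M')) ⟨x, hx⟩ = d := by
  haveI : Module.Finite B' M' := Module.Finite.equiv hg.equiv
  obtain ⟨hy, hd⟩ := (locDim_iff p M y d).1 h
  refine (locDim_iff p' M' y' d).2 ?_
  let e := PrimeSpectrum.comap (algebraMap B B')
  have he : IsOpenEmbedding e := PrimeSpectrum.localization_away_isOpenEmbedding B' b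
  have hp : p'.comap (algebraMap R R') = p := (‹p'.LiesOver p›).over.symm
  have hset : fibreSupp p' M' = e ⁻¹' fibreSupp p M := by
    ext x
    refine and_congr ?_ ?_
    · constructor
      · intro hx
        show (x.asIdeal.comap (algebraMap B B')).comap (algebraMap R B) = p
        rw [Ideal.comap_comap, ← hcomp, ← Ideal.comap_comap, hx, hp]
      · intro hx
        have hx' : (x.asIdeal.comap (algebraMap R' B')).comap (algebraMap R R') = p := by
          rw [Ideal.comap_comap, hcomp, ← Ideal.comap_comap]; exact hx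
        have := PrimeSpectrum.localization_comap_injective R' (Submonoid.powers g)
          (PrimeSpectrum.ext (hx'.trans hp.symm) : PrimeSpectrum.comap (algebraMap R R') ⟨x.asIdeal.comap (algebraMap R' B'), inferInstance⟩ =
            PrimeSpectrum.comap (algebraMap R R') ⟨p', inferInstance⟩)
        exact congrArg PrimeSpectrum.asIdeal this
    · rw [← hg.equiv.support_eq]
      exact FlatPur25.mem_support_baseChange_iff (B := B) (C := B') (M := M) x
  have hey : e ⟨y', ‹_›⟩ = ⟨y, ‹_›⟩ := PrimeSpectrum.ext (‹y'.LiesOver y›).over.symm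
  have hmem : (⟨y', ‹_›⟩ : PrimeSpectrum B') ∈ fibreSupp p' M' := by
    rw [hset, Set.mem_preimage, hey]; exact hy
  refine ⟨hmem, ?_⟩
  let t : fibreSupp p' M' → fibreSupp p M := (fibreSupp p M).restrictPreimage e ∘ Homeomorph.setCongr hset
  have ht : IsOpenEmbedding t := (he.restrictPreimage _).comp (Homeomorph.setCongr hset).isOpenEmbedding
  rw [← hd, FibDim14.localDim_of_isOpenEmbedding ht]
  congr 1
  exact Subtype.ext hey

end Groth.Agent.Dev4
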