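import Groth.Agent.Lib.Dev4.Ext
import Groth.Agent.Lib.Dev4.OpenPoint
import Groth.Agent.Lib.Dev4.Elems

/-!
# Standard open pieces of a first step
-/

set_option autoImplicit false

universe u

open TensorProduct

set_option backward.isDefEq.respectTransparency.types false

attribute [local instance] Algebra.TensorProduct.rightAlgebra

namespace Groth.Agent.Dev4

/-- Purely transcendental residue fields transported along isomorphisms of residue fields. -/
theorem pureTrans_transfer {R R' B B' : Type u} [CommRing R] [CommRing R'] [CommRing B] [CommRing B'] [Algebra R B]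
    [Algebra R R'] [Algebra B B'] [Algebra R' B']
    (hcomp : (algebraMap R' B').comp (algebraMap R R') = (algebraMap B B').comp (algebraMap R B))
    (p : Ideal R) [p.IsPrime] (p' : Ideal R') [p'.IsPrime] [hp : p'.LiesOver p]
    (y : Ideal B) [y.IsPrime] [y.LiesOver p] (y' : Ideal B') [y'.IsPrime] [y'.LiesOver p'] [hy : y'.LiesOver y]
    (h₁ : Function.Bijective (Ideal.ResidueField.map p p' (algebraMap R R') hp.over))
    (h₂ : Function.Bijective (Ideal.ResidueField.map y y' (algebraMap B B') hy.over))
    (h : FlatCA.PurelyTranscendental p y) : FlatCA.PurelyTranscendental p' y' := by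
  apply GeomNbhd4.purelyTranscendental_of_pureTrans
  obtain ⟨ι, x, hx, htop⟩ := h
  let f := (Ideal.ResidueField.mapₐ p y (Algebra.ofId R B) (‹y.LiesOver p›).over).toRingHom
  have hf : GeomNbhd4.PureTrans f := ⟨ι, x, hx.1, htop⟩
  refine hf.congr _ (RingEquiv.ofBijective _ h₁) (RingEquiv.ofBijective _ h₂) fun a => ?_
  have hfun : (Ideal.ResidueField.map p' y' (algebraMap R' B') (‹y'.LiesOver p'›).over).comp
        (Ideal.ResidueField.map p p' (algebraMap R R') hp.over) =
      (Ideal.ResidueField.map y y' (algebraMap B B') hy.over).comp f := by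
    refine Ideal.ResidueField.ringHom_ext ?_
    refine RingHom.ext fun r => ?_
    show Ideal.ResidueField.map p' y' (algebraMap R' B') _ (Ideal.ResidueField.map p p' (algebraMap R R') _ (algebraMap R p.ResidueField r)) =
      Ideal.ResidueField.map y y' (algebraMap B B') hy.over (Ideal.ResidueField.mapₐ p y (Algebra.ofId R B) _ (algebraMap R p.ResidueField r))
    rw [AlgHom.commutes, Ideal.ResidueField.map_algebraMap, IsScalarTower.algebraMap_apply R B y.ResidueField,
      Ideal.ResidueField.map_algebraMap, Ideal.ResidueField.map_algebraMap]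
    exact congrArg (algebraMap B' y'.ResidueField) (DFunLike.congr_fun hcomp r)
  exact DFunLike.congr_fun hfun a

/-- Primes of a localisation are determined below. -/
theorem comap_localization_inj {A A' : Type u} [CommRing A] [CommRing A'] [Algebra A A'] (a : A) [IsLocalization.Away a A']
    (P Q : Ideal A') [P.IsPrime] [Q.IsPrime] (h : P.comap (algebraMap A A') = Q.comap (algebraMap A A')) : P = Q :=
  congrArg PrimeSpectrum.asIdeal (PrimeSpectrum.localization_comap_injective A' (Submonoid.powers a)
    (a₁ := ⟨P, inferInstance⟩) (a₂ := ⟨Q, inferInstance⟩) (PrimeSpectrum.ext h))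

variable {R : Type u} [CommRing R] {p : Ideal R} [p.IsPrime] {S : Type u} [CommRing S] [Algebra R S]
  {N : Type u} [AddCommGroup N] [Module S N]

namespace Head

variable (H : Head R S N p) {g : R} (R' : Type u) [CommRing R'] [Algebra R R'] [IsLocalization.Away g R']
  {hX : S} (S' : Type u) [CommRing S'] [Algebra R' S'] [Algebra R S'] [Algebra S S'] [IsScalarTower R R' S']
  [IsScalarTower R S S'] [IsLocalization.Away hX S'] (b : H.D)

/-- The smooth algebra of the piece. -/
abbrev locD : Type u := Localization.Away b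

/-- The ring carrying the module of the piece. -/
abbrev locC : Type u := Localization.Away (algebraMap H.D H.C b)

theorem isUnit_g_locD (hgb : algebraMap R H.D g ∣ b) : IsUnit (algebraMap R (H.locD b) g) := by
  rw [IsScalarTower.algebraMap_apply R H.D (H.locD b)]
  exact isUnit_of_dvd_unit (map_dvd _ hgb) (IsLocalization.Away.algebraMap_isUnit b)

/-- The structure over the base piece. -/
@[reducible] noncomputable def locAlgD (hgb : algebraMap R H.D g ∣ b) : Algebra R' (H.locD b) :=
  (IsLocalization.Away.lift g (g := algebraMap R (H.locD b)) (H.isUnit_g_locD b hgb)).toAlgebra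

theorem locAlgD_comp (hgb : algebraMap R H.D g ∣ b) :
    letI := H.locAlgD R' b hgb
    (algebraMap R' (H.locD b)).comp (algebraMap R R') = (algebraMap H.D (H.locD b)).comp (algebraMap R H.D) := by
  letI := H.locAlgD R' b hgb
  refine RingHom.ext fun r => ?_
  show _ = algebraMap H.D (H.locD b) (algebraMap R H.D r)
  rw [← IsScalarTower.algebraMap_apply]
  rw [RingHom.comp_apply, RingHom.algebraMap_toAlgebra]
  exact IsLocalization.Away.lift_eq g _ r

/-- The map between the pieces. -/
@[reducible] noncomputable def locAlgDC : Algebra (H.locD b) (H.locC b) :=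
  (IsLocalization.Away.lift b (g := algebraMap H.D (H.locC b))
    (show IsUnit (algebraMap H.D (H.locC b) b) by
      rw [IsScalarTower.algebraMap_apply H.D H.C (H.locC b)]
      exact IsLocalization.Away.algebraMap_isUnit _)).toAlgebra

theorem locAlgDC_tower : letI := H.locAlgDC b; IsScalarTower H.D (H.locD b) (H.locC b) := by
  letI := H.locAlgDC b
  exact IsScalarTower.of_algebraMap_eq fun d => (IsLocalization.Away.lift_eq b _ d).symm

/-- The structure over the base piece. -/
@[reducible] noncomputable def locAlgC (hgb : algebraMap R H.D g ∣ b) : Algebra R' (H.locC b) :=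
  letI := H.locAlgD R' b hgb
  letI := H.locAlgDC b
  Algebra.compHom _ (algebraMap R' (H.locD b))

theorem isUnit_hX_locC (he : AwayEq (algebraMap S H.C hX) (algebraMap H.D H.C b)) :
    IsUnit (algebraMap S (H.locC b) hX) := by
  obtain ⟨k, hk⟩ := he.1
  rw [IsScalarTower.algebraMap_apply S H.C (H.locC b)]
  refine isUnit_of_dvd_unit (map_dvd _ hk) ?_
  rw [map_pow]
  exact (IsLocalization.Away.algebraMap_isUnit _).pow k

/-- The map from the piece of the ring. -/
@[reducible] noncomputable def locAlgSC (he : AwayEq (algebraMap S H.C hX) (algebraMap H.D H.C b)) :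
    Algebra S' (H.locC b) :=
  (IsLocalization.Away.lift hX (g := algebraMap S (H.locC b)) (H.isUnit_hX_locC b he)).toAlgebra

theorem locAlgSC_tower (he : AwayEq (algebraMap S H.C hX) (algebraMap H.D H.C b)) :
    letI := H.locAlgSC S' b he; IsScalarTower S S' (H.locC b) := by
  letI := H.locAlgSC S' b he
  exact IsScalarTower.of_algebraMap_eq fun s => (IsLocalization.Away.lift_eq hX (H.isUnit_hX_locC b he) s).symm

theorem locAlgC_towers (hgb : algebraMap R H.D g ∣ b) (he : AwayEq (algebraMap S H.C hX) (algebraMap H.D H.C b)) :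
    letI := H.locAlgD R' b hgb; letI := H.locAlgDC b; letI := H.locAlgSC S' b he; letI := H.locAlgC R' b hgb
    IsScalarTower R' (H.locD b) (H.locC b) ∧ IsScalarTower R' S' (H.locC b) ∧ IsScalarTower R R' (H.locC b) := by
  letI := H.locAlgD R' b hgb; letI := H.locAlgDC b; letI := H.locAlgSC S' b he; letI := H.locAlgC R' b hgb
  haveI := H.locAlgDC_tower b
  haveI := H.locAlgSC_tower S' b he
  have hR : ∀ r : R, algebraMap R (H.locC b) r = algebraMap R' (H.locC b) (algebraMap R R' r) := fun r => by
    show _ = algebraMap (H.locD b) (H.locC b) (algebraMap R' (H.locD b) (algebraMap R R' r))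
    rw [show algebraMap R' (H.locD b) (algebraMap R R' r) = algebraMap H.D (H.locD b) (algebraMap R H.D r) from
      DFunLike.congr_fun (H.locAlgD_comp R' b hgb) r, ← IsScalarTower.algebraMap_apply H.D (H.locD b) (H.locC b),
      IsScalarTower.algebraMap_apply H.D H.C (H.locC b), ← IsScalarTower.algebraMap_apply R H.D H.C,
      ← IsScalarTower.algebraMap_apply]
  haveI : IsScalarTower R R' (H.locC b) := IsScalarTower.of_algebraMap_eq hR
  refine ⟨IsScalarTower.of_algebraMap_eq fun _ => rfl, IsScalarTower.of_algebraMap_eq' ?_, inferInstance⟩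
  refine IsLocalization.ringHom_ext (Submonoid.powers g) (RingHom.ext fun r => ?_)
  simp only [RingHom.comp_apply]
  rw [← hR, ← IsScalarTower.algebraMap_apply R R' S', IsScalarTower.algebraMap_apply R S S',
    ← IsScalarTower.algebraMap_apply S S' (H.locC b), IsScalarTower.algebraMap_apply S H.C (H.locC b),
    ← IsScalarTower.algebraMap_apply R S H.C, ← IsScalarTower.algebraMap_apply]

theorem loc_pushouts (he : AwayEq (algebraMap S H.C hX) (algebraMap H.D H.C b)) :
    letI := H.locAlgDC b; letI := H.locAlgSC S' b he; haveI := H.locAlgDC_tower b; haveI := H.locAlgSC_tower S' b he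
    Algebra.IsPushout H.D (H.locD b) H.C (H.locC b) ∧ Algebra.IsPushout S S' H.C (H.locC b) := by
  letI := H.locAlgDC b; letI := H.locAlgSC S' b he
  haveI := H.locAlgDC_tower b
  haveI := H.locAlgSC_tower S' b he
  constructor
  · haveI : IsLocalization (Algebra.algebraMapSubmonoid H.C (Submonoid.powers b)) (H.locC b) := by
      rw [Algebra.algebraMapSubmonoid_powers]; infer_instance
    exact (Algebra.isPushout_of_isLocalization (Submonoid.powers b) (H.locD b) H.C (H.locC b)).symm
  · haveI : IsLocalization.Away (algebraMap S H.C hX) (H.locC b) := he.symm.isLocalization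
    haveI : IsLocalization (Algebra.algebraMapSubmonoid H.C (Submonoid.powers hX)) (H.locC b) := by
      rw [Algebra.algebraMapSubmonoid_powers]; infer_instance
    exact (Algebra.isPushout_of_isLocalization (Submonoid.powers hX) S' H.C (H.locC b)).symm

variable (p' : Ideal R') [p'.IsPrime] [hp' : p'.LiesOver p]

include hp' in
theorem loc_prime (hgb : algebraMap R H.D g ∣ b) (hbP : b ∉ p.map (algebraMap R H.D)) :
    letI := H.locAlgD R' b hgb
    (p'.map (algebraMap R' (H.locD b))).IsPrime ∧
      p.map (algebraMap R H.D) = (p'.map (algebraMap R' (H.locD b))).comap (algebraMap H.D (H.locD b)) := by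
  letI := H.locAlgD R' b hgb
  have h1 : p'.map (algebraMap R' (H.locD b)) = (p.map (algebraMap R H.D)).map (algebraMap H.D (H.locD b)) := by
    conv_lhs => rw [← IsLocalization.map_under (Submonoid.powers g) R' p', ← hp'.over]
    rw [Ideal.map_map, Ideal.map_map, H.locAlgD_comp R' b hgb]
  have hdisj : Disjoint (Submonoid.powers b : Set H.D) (p.map (algebraMap R H.D) : Set H.D) :=
    (Ideal.disjoint_powers_iff_notMem_of_isPrime _).2 hbP
  rw [h1]
  exact ⟨IsLocalization.isPrime_of_isPrime_disjoint (Submonoid.powers b) _ _ H.hp hdisj,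
    (IsLocalization.under_map_of_isPrime_disjoint (Submonoid.powers b) _ H.hp hdisj).symm⟩

variable {N' : Type u} [AddCommGroup N'] [Module S' N'] [Module S N'] [IsScalarTower S S' N']
  (f : N →ₗ[S] N') (hf : IsBaseChange S' f)

/-- A standard open piece of a first step. -/
noncomputable def loc (hgb : algebraMap R H.D g ∣ b) (he : AwayEq (algebraMap S H.C hX) (algebraMap H.D H.C b))
    (hbP : b ∉ p.map (algebraMap R H.D))
    (hsurj : ∀ P : Ideal R, P.IsPrime → g ∉ P →
      ∃ Q : Ideal H.D, Q.IsPrime ∧ Q.comap (algebraMap R H.D) = P ∧ b ∉ Q) :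
    Head R' S' N' p' :=
  letI := H.locAlgD R' b hgb
  letI := H.locAlgDC b
  letI := H.locAlgSC S' b he
  letI := H.locAlgC R' b hgb
  haveI := H.locAlgDC_tower b
  haveI := H.locAlgSC_tower S' b he
  haveI := (H.locAlgC_towers R' S' b hgb he).1
  haveI := (H.locAlgC_towers R' S' b hgb he).2.1
  haveI := (H.loc_pushouts S' b he).1
  haveI := (H.loc_pushouts S' b he).2
  haveI := (H.loc_prime R' b p' hgb hbP).1
  haveI := H.smooth
  H.ext R' (H.locC b) (H.locD b) p' S' f hf
    (smooth_loc (R := R) (B := H.D) g b (H.locAlgD_comp R' b hgb))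
    (geomIrredFibres_loc (R := R) (B := H.D) g b (H.locAlgD_comp R' b hgb) H.geomIrred hsurj)
    (H.loc_prime R' b p' hgb hbP).2

end Head

namespace HeadAt

variable {H : Head R S N p} {q : Ideal S} [q.IsPrime] (A : HeadAt H q) {g : R} (R' : Type u) [CommRing R'] [Algebra R R']
  [IsLocalization.Away g R']
  {hX : S} (S' : Type u) [CommRing S'] [Algebra R' S'] [Algebra R S'] [Algebra S S'] [IsScalarTower R R' S']
  [IsScalarTower R S S'] [IsLocalization.Away hX S'] (b : H.D)
  (p' : Ideal R') [p'.IsPrime] [hp' : p'.LiesOver p]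
  {N' : Type u} [AddCommGroup N'] [Module S' N'] [Module S N'] [IsScalarTower S S' N']
  (f : N →ₗ[S] N') (hf : IsBaseChange S' f) (q' : Ideal S') [q'.IsPrime] [q'.LiesOver q]

include A in
theorem notMem_map (hb : b ∉ A.y) : b ∉ p.map (algebraMap R H.D) := fun h => hb
  (Ideal.map_le_iff_le_comap.2 (fun r hr => (Ideal.mem_of_liesOver A.y p r).1 hr) h)

/-- The pointed piece. -/
theorem exists_loc (hgb : algebraMap R H.D g ∣ b) (he : AwayEq (algebraMap S H.C hX) (algebraMap H.D H.C b))
    (hb : b ∉ A.y)
    (hsurj : ∀ P : Ideal R, P.IsPrime → g ∉ P →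
      ∃ Q : Ideal H.D, Q.IsPrime ∧ Q.comap (algebraMap R H.D) = P ∧ b ∉ Q) :
    ∃ A' : HeadAt (H.loc R' S' b p' f hf hgb he (A.notMem_map b hb) hsurj) q', A'.d = A.d ∧
      A'.y.comap (algebraMap H.D (H.locD b)) = A.y ∧ A'.z.comap (algebraMap H.C (H.locC b)) = A.z := by
  letI := H.locAlgD R' b hgb
  letI := H.locAlgDC b
  letI := H.locAlgSC S' b he
  letI := H.locAlgC R' b hgb
  haveI := H.locAlgDC_tower b
  haveI := H.locAlgSC_tower S' b he
  haveI := (H.locAlgC_towers R' S' b hgb he).1
  haveI := (H.loc_pushouts S' b he).1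
  have hcomp := H.locAlgD_comp R' b hgb
  let y' : Ideal (H.locD b) := A.y.map (algebraMap H.D (H.locD b))
  let z' : Ideal (H.locC b) := A.z.map (algebraMap H.C (H.locC b))
  have hbz : algebraMap H.D H.C b ∉ A.z := fun h => hb ((Ideal.mem_of_liesOver A.z A.y b).2 h)
  have hdy : Disjoint (Submonoid.powers b : Set H.D) (A.y : Set H.D) :=
    (Ideal.disjoint_powers_iff_notMem_of_isPrime _).2 hb
  have hdz : Disjoint (Submonoid.powers (algebraMap H.D H.C b) : Set H.C) (A.z : Set H.C) :=
    (Ideal.disjoint_powers_iff_notMem_of_isPrime _).2 hbz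
  haveI hy' : y'.IsPrime := IsLocalization.isPrime_of_isPrime_disjoint (Submonoid.powers b) _ _ A.hy hdy
  haveI hz' : z'.IsPrime :=
    IsLocalization.isPrime_of_isPrime_disjoint (Submonoid.powers (algebraMap H.D H.C b)) _ _ A.hz hdz
  have hy : y'.comap (algebraMap H.D (H.locD b)) = A.y :=
    IsLocalization.under_map_of_isPrime_disjoint (Submonoid.powers b) _ A.hy hdy
  have hz : z'.comap (algebraMap H.C (H.locC b)) = A.z :=
    IsLocalization.under_map_of_isPrime_disjoint (Submonoid.powers (algebraMap H.D H.C b)) _ A.hz hdz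
  haveI hyy : y'.LiesOver A.y := ⟨hy.symm⟩
  haveI hyp : y'.LiesOver p' := ⟨by
    refine comap_localization_inj g _ _ ?_
    show p'.comap (algebraMap R R') = (y'.comap (algebraMap R' (H.locD b))).comap (algebraMap R R')
    rw [Ideal.comap_comap, hcomp, ← Ideal.comap_comap, hy]
    exact (hp'.over).symm.trans A.yOver.over⟩
  haveI hzy : z'.LiesOver y' := ⟨by
    refine comap_localization_inj b _ _ ?_
    show y'.comap (algebraMap H.D (H.locD b)) = (z'.comap (algebraMap (H.locD b) (H.locC b))).comap (algebraMap H.D (H.locD b))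
    rw [hy, Ideal.comap_comap, ← IsScalarTower.algebraMap_eq, IsScalarTower.algebraMap_eq H.D H.C (H.locC b),
      ← Ideal.comap_comap, hz]
    exact A.zOver.over⟩
  have huniq : ∀ (Q : Ideal (H.locC b)) [Q.IsPrime], Q.LiesOver y' → Q = z' := by
    intro Q _ hQ
    have hQC : Q.comap (algebraMap H.C (H.locC b)) = A.z := by
      refine A.uniq _ ⟨?_⟩
      rw [Ideal.under_def, Ideal.comap_comap, ← IsScalarTower.algebraMap_eq,
        IsScalarTower.algebraMap_eq H.D (H.locD b) (H.locC b), ← Ideal.comap_comap, ← hy]
      exact congrArg (Ideal.comap (algebraMap H.D (H.locD b))) hQ.over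
    show Q = A.z.map (algebraMap H.C (H.locC b))
    rw [← hQC]
    exact (IsLocalization.map_under (Submonoid.powers (algebraMap H.D H.C b)) (H.locC b) Q).symm
  have hq0 : z'.comap (algebraMap S' (H.locC b)) = q' := by
    refine comap_localization_inj hX _ _ ?_
    show (z'.comap (algebraMap S' (H.locC b))).comap (algebraMap S S') = q'.comap (algebraMap S S')
    rw [Ideal.comap_comap, ← IsScalarTower.algebraMap_eq, IsScalarTower.algebraMap_eq S H.C (H.locC b),
      ← Ideal.comap_comap, hz, A.q0]
    exact (‹q'.LiesOver q›).over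
  haveI := H.finiteDC
  haveI := H.finiteG
  haveI : Module.Finite H.D H.G := Module.Finite.trans H.C H.G
  obtain ⟨_, _, hgG⟩ := H.ext_isBaseChange (H.locC b) (H.locD b)
  haveI : IsScalarTower R' (H.locD b) (H.extG (H.locC b)) := IsScalarTower.of_algebraMap_smul fun r x => by
    rw [← algebraMap_smul (H.locC b) (algebraMap R' (H.locD b) r) x, ← IsScalarTower.algebraMap_apply, algebraMap_smul]
  have hrel : FlatCA.SmoothRelDim A.d R' (H.locD b) := smoothRelDim_loc (R := R) (B := H.D) g b hcomp A.d A.relDim
  have hpt := pureTrans_transfer hcomp p p' A.y y' (GeomNbhd4.surjective_localization_residue g p p' hp'.over)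
    (GeomNbhd4.surjective_localization_residue b A.y y' hyy.over) A.pureTrans
  have hloc := locDim_loc g b hcomp ((H.extToG (H.locC b)).restrictScalars H.D) hgG p p' A.y y' A.d A.locDim
  exact ⟨{ y := y', z := z', hy := hy', hz := hz', yOver := hyp, zOver := hzy, pureTrans := hpt,
           uniq := huniq, q0 := hq0, d := A.d, relDim := hrel, locDim := hloc }, rfl, hy, hz⟩

end HeadAt

end Groth.Agent.Dev4
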