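import Mathlib

/-!
# Cokernels and base change
-/

set_option autoImplicit false

universe u

open TensorProduct

namespace Groth.Agent.Dev4

/-- The base change of an identified cokernel is identified with the cokernel of the base change. -/
theorem exists_cokerEquiv {D D' G G' T T' : Type u} [CommRing D] [CommRing D'] [Algebra D D']
    [AddCommGroup G] [Module D G] [AddCommGroup G'] [Module D G'] [Module D' G'] [IsScalarTower D D' G']
    [AddCommGroup T] [Module D T] [AddCommGroup T'] [Module D T'] [Module D' T'] [IsScalarTower D D' T']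
    (g : G →ₗ[D] G') (hg : IsBaseChange D' g) (W : Submodule D G) (W' : Submodule D' G')
    (hW : W' = Submodule.span D' (g '' (W : Set G))) (e : (G ⧸ W) ≃ₗ[D] T) (t : T →ₗ[D] T') (ht : IsBaseChange D' t) :
    ∃ e' : (G' ⧸ W') ≃ₗ[D'] T', ∀ x, e' (W'.mkQ (g x)) = t (e (W.mkQ x)) := by
  have h1 : W' ≤ LinearMap.ker (hg.lift (t ∘ₗ e.toLinearMap ∘ₗ W.mkQ)) := by
    rw [hW, Submodule.span_le]
    rintro _ ⟨x, hx, rfl⟩
    show hg.lift _ (g x) = 0
    rw [hg.lift_eq]
    show t (e (W.mkQ x)) = 0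
    rw [Submodule.mkQ_apply, (Submodule.Quotient.mk_eq_zero W).2 hx, map_zero, map_zero]
  let u' : (G' ⧸ W') →ₗ[D'] T' := W'.liftQ _ h1
  have h2 : W ≤ LinearMap.ker ((W'.mkQ.restrictScalars D) ∘ₗ g) := fun x hx => by
    show W'.mkQ (g x) = 0
    rw [Submodule.mkQ_apply, Submodule.Quotient.mk_eq_zero, hW]
    exact Submodule.subset_span ⟨x, hx, rfl⟩
  let v' : T' →ₗ[D'] (G' ⧸ W') := ht.lift ((W.liftQ _ h2) ∘ₗ e.symm.toLinearMap)
  have hu : ∀ x, u' (W'.mkQ (g x)) = t (e (W.mkQ x)) := fun x => by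
    show hg.lift _ (g x) = _
    rw [hg.lift_eq]
    rfl
  have hv : ∀ x, v' (t (e (W.mkQ x))) = W'.mkQ (g x) := fun x => by
    show ht.lift _ (t (e (W.mkQ x))) = _
    rw [ht.lift_eq]
    show W.liftQ _ h2 (e.symm (e (W.mkQ x))) = _
    rw [e.symm_apply_apply]
    rfl
  refine ⟨LinearEquiv.ofLinear u' v' ?_ ?_, hu⟩
  · refine ht.algHom_ext _ _ fun y => ?_
    obtain ⟨z, rfl⟩ := e.surjective y
    obtain ⟨x, rfl⟩ := W.mkQ_surjective z
    rw [LinearMap.comp_apply, hv, hu, LinearMap.id_apply]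
  · refine Submodule.linearMap_qext _ (hg.algHom_ext _ _ fun x => ?_)
    simp only [LinearMap.comp_apply, LinearMap.id_apply]
    rw [hu, hv]

/-- A surjection stays surjective. -/
theorem eq_top_of_span {D D' G G' : Type u} [CommRing D] [CommRing D'] [Algebra D D']
    [AddCommGroup G] [Module D G] [AddCommGroup G'] [Module D G'] [Module D' G'] [IsScalarTower D D' G']
    (g : G →ₗ[D] G') (hg : IsBaseChange D' g) (W : Submodule D G) (hW : W = ⊤) :
    Submodule.span D' (g '' (W : Set G)) = ⊤ := by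
  subst hW
  refine eq_top_iff.2 fun z hz => ?_
  clear hz
  induction z using hg.inductionOn with
  | zero => exact zero_mem _
  | tmul m => exact Submodule.subset_span ⟨m, trivial, rfl⟩
  | smul s x hx => exact Submodule.smul_mem _ _ hx
  | add x y hx hy => exact add_mem hx hy

end Groth.Agent.Dev4
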