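import Groth.Agent.Lib.Dev4.Loc
import Groth.Agent.Lib.Dev4.Coker

/-!
# Standard shrinkings of a complete dévissage
-/

set_option autoImplicit false

universe u

open TensorProduct

set_option backward.isDefEq.respectTransparency.types false

attribute [local instance] Algebra.TensorProduct.rightAlgebra

attribute [local instance] FlatCA.CompleteDevissageAt.hqB FlatCA.CompleteDevissageAt.hqA

namespace Groth.Agent.Dev4

variable {R : Type u} [CommRing R] {S : Type u} [CommRing S] [Algebra R S]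
  {N : Type u} [AddCommGroup N] [Module S N] {p : Ideal R} [p.IsPrime] {q : Ideal S} [q.IsPrime]

/-- A complete dévissage at a point is a standard shrinking of another one. -/
structure LocData (𝒟 : FlatCA.CompleteDevissage R S N p) (𝒜 : FlatCA.CompleteDevissageAt R S N p q 𝒟)
    (b : ∀ i, 𝒟.B i) (R' : Type u) [CommRing R'] [Algebra R R']
    {S' : Type u} [CommRing S'] [Algebra R' S'] [Algebra S S'] {N' : Type u} [AddCommGroup N'] [Module S' N']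
    [Module S N'] (f : N →ₗ[S] N') {p' : Ideal R'} [p'.IsPrime] {q' : Ideal S'} [q'.IsPrime]
    (𝒟' : FlatCA.CompleteDevissage R' S' N' p') (𝒜' : FlatCA.CompleteDevissageAt R' S' N' p' q' 𝒟') : Type (u + 1) where
  n_eq : 𝒟'.n = 𝒟.n
  r_eq : 𝒟'.r = 𝒟.r
  d_eq : 𝒜'.d = 𝒜.d
  aA : ∀ i : Fin 𝒟.n, Algebra (𝒟.A i) (𝒟'.A i)
  rA : ∀ i : Fin 𝒟.n, Algebra R (𝒟'.A i)
  t1 : ∀ i : Fin 𝒟.n, IsScalarTower R R' (𝒟'.A i)
  t2 : ∀ i : Fin 𝒟.n, IsScalarTower R (𝒟.A i) (𝒟'.A i)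
  aB : ∀ i : Fin 𝒟.n, Algebra (𝒟.B i) (𝒟'.B i)
  rB : ∀ i : Fin 𝒟.n, Algebra R (𝒟'.B i)
  t3 : ∀ i : Fin 𝒟.n, IsScalarTower R R' (𝒟'.B i)
  t4 : ∀ i : Fin 𝒟.n, IsScalarTower R (𝒟.B i) (𝒟'.B i)
  mA : ∀ i : Fin 𝒟.n, Module (𝒟.A i) (𝒟'.M i)
  t9 : ∀ i : Fin 𝒟.n, IsScalarTower (𝒟.A i) (𝒟'.A i) (𝒟'.M i)
  gM : ∀ i : Fin 𝒟.n, 𝒟.M i →ₗ[𝒟.A i] 𝒟'.M i
  commBA : ∀ (i : Fin 𝒟.n) (x : 𝒟.B i), algebraMap (𝒟'.B i) (𝒟'.A i) (algebraMap (𝒟.B i) (𝒟'.B i) x) =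
    algebraMap (𝒟.A i) (𝒟'.A i) (algebraMap (𝒟.B i) (𝒟.A i) x)
  commBA' : ∀ (i : Fin 𝒟.n) (h : (i : ℕ) + 1 < 𝒟.n), letI := aA ⟨i + 1, h⟩; ∀ x : 𝒟.B i,
    algebraMap (𝒟'.B i) (𝒟'.A (i + 1)) (algebraMap (𝒟.B i) (𝒟'.B i) x) =
      algebraMap (𝒟.A (i + 1)) (𝒟'.A (i + 1)) (algebraMap (𝒟.B i) (𝒟.A (i + 1)) x)
  commS : letI := aA ⟨0, 𝒟.pos⟩; ∀ s : S,
    algebraMap S' (𝒟'.A 0) (algebraMap S S' s) = algebraMap (𝒟.A 0) (𝒟'.A 0) (algebraMap S (𝒟.A 0) s)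
  isoN_eq : ∀ x : N, 𝒟'.isoN (f x) = gM ⟨0, 𝒟.pos⟩ (𝒟.isoN x)
  locA : ∀ i : Fin 𝒟.n, IsLocalization.Away (algebraMap (𝒟.B i) (𝒟.A i) (b i)) (𝒟'.A i)
  locB : ∀ i : Fin 𝒟.n, IsLocalization.Away (b i) (𝒟'.B i)
  bc : ∀ i : Fin 𝒟.n, IsBaseChange (𝒟'.A i) (gM i)
  overA : ∀ i : Fin 𝒟.n, (𝒜'.qA i).comap (algebraMap (𝒟.A i) (𝒟'.A i)) = 𝒜.qA i
  overB : ∀ i : Fin 𝒟.n, (𝒜'.qB i).comap (algebraMap (𝒟.B i) (𝒟'.B i)) = 𝒜.qB i
  range : ∀ i : Fin 𝒟.n, LinearMap.range (𝒟'.α i) =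
    Submodule.span (𝒟'.B i) ((gM i) '' (LinearMap.range (𝒟.α i) : Set (𝒟.M i)))

/-- Every system of shrinking elements gives a standard shrinking. -/
theorem exists_locData (k : ℕ) :
    ∀ {S : Type u} [CommRing S] [Algebra R S] {N : Type u} [AddCommGroup N] [Module S N]
      (𝒟 : FlatCA.CompleteDevissage R S N p) (_ : 𝒟.n = k + 1) {q : Ideal S} [q.IsPrime]
      (𝒜 : FlatCA.CompleteDevissageAt R S N p q 𝒟) (g : R) (hX : S) (b : ∀ i, 𝒟.B i) (_ : ShrinkOK 𝒜 g hX b)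
      (R' : Type u) [CommRing R'] [Algebra R R'] [IsLocalization.Away g R'] (p' : Ideal R') [p'.IsPrime] [p'.LiesOver p]
      (S' : Type u) [CommRing S'] [Algebra R' S'] [Algebra R S'] [Algebra S S'] [IsScalarTower R R' S']
      [IsScalarTower R S S'] [IsLocalization.Away hX S'] (q' : Ideal S') [q'.IsPrime] [q'.LiesOver q]
      {N' : Type u} [AddCommGroup N'] [Module S' N'] [Module S N'] [IsScalarTower S S' N']
      (f : N →ₗ[S] N'), IsBaseChange S' f →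
      ∃ (𝒟' : FlatCA.CompleteDevissage R' S' N' p') (𝒜' : FlatCA.CompleteDevissageAt R' S' N' p' q' 𝒟'),
        Nonempty (LocData 𝒟 𝒜 b R' f 𝒟' 𝒜') := by
  induction k with
  | zero =>
    intro S _ _ N _ _ 𝒟 hn q _ 𝒜 g hX b hok R' _ _ _ p' _ _ S' _ _ _ _ _ _ _ q' _ _ N' _ _ _ _ f hf
    let H := head 𝒟
    let A := headAt 𝒜
    have hgb : algebraMap R H.D g ∣ b 0 := hok.g_dvd 0
    have he : AwayEq (algebraMap S H.C hX) (algebraMap H.D H.C (b 0)) := hok.hX_eq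
    have hb : (b 0 : H.D) ∉ A.y := hok.b_notMem 0
    have hsu : ∀ P : Ideal R, P.IsPrime → g ∉ P →
        ∃ Q : Ideal H.D, Q.IsPrime ∧ Q.comap (algebraMap R H.D) = P ∧ b 0 ∉ Q := hok.surj 0 𝒟.pos
    let H' := H.loc R' S' (b 0) p' f hf hgb he (A.notMem_map (b 0) hb) hsu
    obtain ⟨A', hd, hy, hz⟩ := A.exists_loc R' S' (b 0) p' f hf q' hgb he hb hsu
    letI := H.locAlgD R' (b 0) hgb
    letI := H.locAlgDC (b 0)
    letI := H.locAlgSC S' (b 0) he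
    letI := H.locAlgC R' (b 0) hgb
    haveI := H.locAlgDC_tower (b 0)
    haveI := H.locAlgSC_tower S' (b 0) he
    haveI := (H.locAlgC_towers R' S' (b 0) hgb he).2.2
    haveI := (H.loc_pushouts S' (b 0) he).1
    haveI := (H.loc_pushouts S' (b 0) he).2
    haveI : IsScalarTower R R' (H.locD (b 0)) := IsScalarTower.of_algebraMap_eq fun r => by
      rw [IsScalarTower.algebraMap_apply R H.D (H.locD (b 0))]
      exact (DFunLike.congr_fun (H.locAlgD_comp R' (b 0) hgb) r).symm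
    have hsurj : Function.Surjective H.α := by
      have h := 𝒟.cokerLast
      rw [show 𝒟.n - 1 = 0 by omega] at h
      exact h
    have hsurj' : Function.Surjective H'.α := by
      refine LinearMap.range_eq_top.1 ((H.range_extα (H.locC (b 0)) (H.locD (b 0))).trans ?_)
      obtain ⟨_, _, hgG⟩ := H.ext_isBaseChange (H.locC (b 0)) (H.locD (b 0))
      exact eq_top_of_span ((H.extToG (H.locC (b 0))).restrictScalars H.D) hgG _ (LinearMap.range_eq_top.2 hsurj)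
    refine ⟨single' H' hsurj' fun i => 𝒟.r (i + 1),
      singleAt' H' hsurj' (fun i => 𝒟.r (i + 1)) q' A' fun i => 𝒜.d (i + 1), ⟨?_⟩⟩
    exact
      { n_eq := hn.symm
        r_eq := funext fun i => by cases i <;> rfl
        d_eq := funext fun | 0 => hd | i + 1 => rfl
        aA := fun | ⟨0, _⟩ => (inferInstance : Algebra H.C (H.locC (b 0))) | ⟨i + 1, h⟩ => absurd h (by omega)
        rA := fun | ⟨0, _⟩ => (inferInstance : Algebra R (H.locC (b 0))) | ⟨i + 1, h⟩ => absurd h (by omega)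
        t1 := fun | ⟨0, _⟩ => (inferInstance : IsScalarTower R R' (H.locC (b 0))) | ⟨i + 1, h⟩ => absurd h (by omega)
        t2 := fun | ⟨0, _⟩ => (inferInstance : IsScalarTower R H.C (H.locC (b 0))) | ⟨i + 1, h⟩ => absurd h (by omega)
        aB := fun | ⟨0, _⟩ => (inferInstance : Algebra H.D (H.locD (b 0))) | ⟨i + 1, h⟩ => absurd h (by omega)
        rB := fun | ⟨0, _⟩ => (inferInstance : Algebra R (H.locD (b 0))) | ⟨i + 1, h⟩ => absurd h (by omega)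
        t3 := fun | ⟨0, _⟩ => (inferInstance : IsScalarTower R R' (H.locD (b 0))) | ⟨i + 1, h⟩ => absurd h (by omega)
        t4 := fun | ⟨0, _⟩ => (inferInstance : IsScalarTower R H.D (H.locD (b 0))) | ⟨i + 1, h⟩ => absurd h (by omega)
        mA := fun | ⟨0, _⟩ => (inferInstance : Module H.C (H.extG (H.locC (b 0)))) | ⟨i + 1, h⟩ => absurd h (by omega)
        t9 := fun | ⟨0, _⟩ => (inferInstance : IsScalarTower H.C (H.locC (b 0)) (H.extG (H.locC (b 0)))) | ⟨i + 1, h⟩ => absurd h (by omega)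
        gM := fun | ⟨0, _⟩ => H.extToG (H.locC (b 0)) | ⟨i + 1, h⟩ => absurd h (by omega)
        commBA := fun
          | ⟨0, _⟩ => fun x => (IsScalarTower.algebraMap_apply H.D (H.locD (b 0)) (H.locC (b 0)) x).symm.trans
              (IsScalarTower.algebraMap_apply H.D H.C (H.locC (b 0)) x)
          | ⟨i + 1, h⟩ => absurd h (by omega)
        commBA' := fun i h => absurd h (by omega)
        commS := fun s => (IsScalarTower.algebraMap_apply S S' (H.locC (b 0)) s).symm.trans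
          (IsScalarTower.algebraMap_apply S H.C (H.locC (b 0)) s)
        isoN_eq := fun x => (H.exists_extIso (H.locC (b 0)) S' f hf).choose_spec x
        locA := fun | ⟨0, _⟩ => (inferInstance : IsLocalization.Away (algebraMap H.D H.C (b 0)) (H.locC (b 0))) | ⟨i + 1, h⟩ => absurd h (by omega)
        locB := fun | ⟨0, _⟩ => (inferInstance : @IsLocalization.Away H.D _ (b 0) (H.locD (b 0)) _ _) | ⟨i + 1, h⟩ => absurd h (by omega)
        bc := fun | ⟨0, _⟩ => TensorProduct.isBaseChange H.C H.G (H.locC (b 0)) | ⟨i + 1, h⟩ => absurd h (by omega)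
        overA := fun | ⟨0, _⟩ => hz | ⟨i + 1, h⟩ => absurd h (by omega)
        overB := fun | ⟨0, _⟩ => hy | ⟨i + 1, h⟩ => absurd h (by omega)
        range := fun | ⟨0, _⟩ => H.range_extα (H.locC (b 0)) (H.locD (b 0)) | ⟨i + 1, h⟩ => absurd h (by omega) }
  | succ k ih =>
    intro S _ _ N _ _ 𝒟 hn q _ 𝒜 g hX b hok R' _ _ _ p' _ _ S' _ _ _ _ _ _ _ q' _ _ N' _ _ _ _ f hf
    let H := head 𝒟
    let A := headAt 𝒜
    have h1 : 1 < 𝒟.n := by omega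
    have hgb : algebraMap R H.D g ∣ b 0 := hok.g_dvd 0
    have he : AwayEq (algebraMap S H.C hX) (algebraMap H.D H.C (b 0)) := hok.hX_eq
    have hb : (b 0 : H.D) ∉ A.y := hok.b_notMem 0
    have hsu : ∀ P : Ideal R, P.IsPrime → g ∉ P →
        ∃ Q : Ideal H.D, Q.IsPrime ∧ Q.comap (algebraMap R H.D) = P ∧ b 0 ∉ Q := hok.surj 0 𝒟.pos
    let H' := H.loc R' S' (b 0) p' f hf hgb he (A.notMem_map (b 0) hb) hsu
    obtain ⟨A', hd, hy, hz⟩ := A.exists_loc R' S' (b 0) p' f hf q' hgb he hb hsu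
    letI := H.locAlgD R' (b 0) hgb
    letI := H.locAlgDC (b 0)
    letI := H.locAlgSC S' (b 0) he
    letI := H.locAlgC R' (b 0) hgb
    haveI := H.locAlgDC_tower (b 0)
    haveI := H.locAlgSC_tower S' (b 0) he
    haveI := (H.locAlgC_towers R' S' (b 0) hgb he).2.2
    haveI := (H.loc_pushouts S' (b 0) he).1
    haveI := (H.loc_pushouts S' (b 0) he).2
    haveI : IsScalarTower R R' (H.locD (b 0)) := IsScalarTower.of_algebraMap_eq fun r => by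
      rw [IsScalarTower.algebraMap_apply R H.D (H.locD (b 0))]
      exact (DFunLike.congr_fun (H.locAlgD_comp R' (b 0) hgb) r).symm
    obtain ⟨_, _, hgG⟩ := H.ext_isBaseChange (H.locC (b 0)) (H.locD (b 0))
    letI : Module H.D (𝒟.M 1) := 𝒟.mB'M 0
    let T' := (H.locD (b 0)) ⊗[H.D] 𝒟.M 1
    let t : 𝒟.M 1 →ₗ[H.D] T' := TensorProduct.mk H.D (H.locD (b 0)) (𝒟.M 1) 1
    have ht : IsBaseChange (H.locD (b 0)) t := TensorProduct.isBaseChange H.D (𝒟.M 1) _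
    let 𝒯 : FlatCA.CompleteDevissage R H.D (𝒟.M 1) p := tail 𝒟 h1
    have hT : 𝒯.n = k + 1 := show 𝒟.n - 1 = k + 1 by omega
    let 𝒜t : FlatCA.CompleteDevissageAt R H.D (𝒟.M 1) p A.y 𝒯 := tailAt 𝒜 h1
    let y' : Ideal (H.locD (b 0)) := A'.y
    haveI hy'p : y'.IsPrime := A'.hy
    haveI : y'.LiesOver A.y := ⟨hy.symm⟩
    have hokT : ShrinkOK 𝒜t g (b 0 : H.D) (fun i => b (i + 1)) :=
      ⟨hok.g_notMem, hok.b_notMem 0, fun i => hok.b_notMem (i + 1), hok.g_dvd 0, fun i => hok.g_dvd (i + 1),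
        hok.step 0 h1, fun i hi => hok.step (i + 1) (Nat.add_lt_of_lt_sub hi),
        fun i hi => hok.surj (i + 1) (Nat.add_lt_of_lt_sub hi)⟩
    obtain ⟨ℰ, ℰA, ⟨E⟩⟩ := @ih H.D H.cD H.aRD (𝒟.M 1) _ _ 𝒯 hT A.y _ 𝒜t g (b 0) (fun i => b (i + 1)) hokT
      R' _ _ _ p' _ _ (H.locD (b 0)) _ _ _ _ _ _ _ y' _ _ T' _ _ _ _ t ht
    obtain ⟨e', -⟩ := exists_cokerEquiv ((H.extToG (H.locC (b 0))).restrictScalars H.D) hgG
      (LinearMap.range H.α) (LinearMap.range (H.extα (H.locC (b 0)) (H.locD (b 0))))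
      (H.range_extα (H.locC (b 0)) (H.locD (b 0))) (𝒟.isoCoker 0 h1) t ht
    letI : Module H'.D T' := (inferInstance : Module (H.locD (b 0)) T')
    refine ⟨cons H' e' ℰ, consAt H' e' ℰ q' A' ℰA, ⟨?_⟩⟩
    have hbd : ∀ {i : ℕ}, i + 1 < 𝒟.n → i < 𝒟.n - 1 := fun h => Nat.lt_sub_of_add_lt h
    exact
      { n_eq := (congrArg (· + 1) E.n_eq).trans (Nat.sub_add_cancel 𝒟.pos)
        r_eq := funext fun | 0 => rfl | i + 1 => congrFun E.r_eq i
        d_eq := funext fun | 0 => hd | i + 1 => congrFun E.d_eq i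
        aA := fun | ⟨0, _⟩ => (inferInstance : Algebra H.C (H.locC (b 0))) | ⟨i + 1, h⟩ => E.aA ⟨i, hbd h⟩
        rA := fun | ⟨0, _⟩ => (inferInstance : Algebra R (H.locC (b 0))) | ⟨i + 1, h⟩ => E.rA ⟨i, hbd h⟩
        t1 := fun | ⟨0, _⟩ => (inferInstance : IsScalarTower R R' (H.locC (b 0))) | ⟨i + 1, h⟩ => E.t1 ⟨i, hbd h⟩
        t2 := fun | ⟨0, _⟩ => (inferInstance : IsScalarTower R H.C (H.locC (b 0))) | ⟨i + 1, h⟩ => E.t2 ⟨i, hbd h⟩
        aB := fun | ⟨0, _⟩ => (inferInstance : Algebra H.D (H.locD (b 0))) | ⟨i + 1, h⟩ => E.aB ⟨i, hbd h⟩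
        rB := fun | ⟨0, _⟩ => (inferInstance : Algebra R (H.locD (b 0))) | ⟨i + 1, h⟩ => E.rB ⟨i, hbd h⟩
        t3 := fun | ⟨0, _⟩ => (inferInstance : IsScalarTower R R' (H.locD (b 0))) | ⟨i + 1, h⟩ => E.t3 ⟨i, hbd h⟩
        t4 := fun | ⟨0, _⟩ => (inferInstance : IsScalarTower R H.D (H.locD (b 0))) | ⟨i + 1, h⟩ => E.t4 ⟨i, hbd h⟩
        mA := fun | ⟨0, _⟩ => (inferInstance : Module H.C (H.extG (H.locC (b 0)))) | ⟨i + 1, h⟩ => E.mA ⟨i, hbd h⟩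
        t9 := fun | ⟨0, _⟩ => (inferInstance : IsScalarTower H.C (H.locC (b 0)) (H.extG (H.locC (b 0)))) | ⟨i + 1, h⟩ => E.t9 ⟨i, hbd h⟩
        gM := fun | ⟨0, _⟩ => H.extToG (H.locC (b 0)) | ⟨i + 1, h⟩ => E.gM ⟨i, hbd h⟩
        commBA := fun
          | ⟨0, _⟩ => fun x => (IsScalarTower.algebraMap_apply H.D (H.locD (b 0)) (H.locC (b 0)) x).symm.trans
              (IsScalarTower.algebraMap_apply H.D H.C (H.locC (b 0)) x)
          | ⟨i + 1, h⟩ => E.commBA ⟨i, hbd h⟩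
        commBA' := fun
          | ⟨0, _⟩, _ => fun x => E.commS x
          | ⟨i + 1, h⟩, h' => E.commBA' ⟨i, hbd h⟩ (hbd h')
        commS := fun s => (IsScalarTower.algebraMap_apply S S' (H.locC (b 0)) s).symm.trans
          (IsScalarTower.algebraMap_apply S H.C (H.locC (b 0)) s)
        isoN_eq := fun x => (H.exists_extIso (H.locC (b 0)) S' f hf).choose_spec x
        locA := fun | ⟨0, _⟩ => (inferInstance : IsLocalization.Away (algebraMap H.D H.C (b 0)) (H.locC (b 0))) | ⟨i + 1, h⟩ => E.locA ⟨i, hbd h⟩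
        locB := fun | ⟨0, _⟩ => (inferInstance : @IsLocalization.Away H.D _ (b 0) (H.locD (b 0)) _ _) | ⟨i + 1, h⟩ => E.locB ⟨i, hbd h⟩
        bc := fun | ⟨0, _⟩ => TensorProduct.isBaseChange H.C H.G (H.locC (b 0)) | ⟨i + 1, h⟩ => E.bc ⟨i, hbd h⟩
        overA := fun | ⟨0, _⟩ => hz | ⟨i + 1, h⟩ => E.overA ⟨i, hbd h⟩
        overB := fun | ⟨0, _⟩ => hy | ⟨i + 1, h⟩ => E.overB ⟨i, hbd h⟩
        range := fun | ⟨0, _⟩ => H.range_extα (H.locC (b 0)) (H.locD (b 0)) | ⟨i + 1, h⟩ => E.range ⟨i, hbd h⟩ }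

end Groth.Agent.Dev4
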