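import Groth.Agent.Lib.Dev4.BaseChange
import Groth.Agent.Lib.Dev4.Coker
import Groth.Agent.Lib.Dev4.LocBundle

/-!
# Pointed base change and shrinking of complete dévissages
-/

set_option autoImplicit false

universe u

open TensorProduct

set_option backward.isDefEq.respectTransparency.types false

attribute [local instance] Algebra.TensorProduct.rightAlgebra

attribute [local instance] FlatCA.CompleteDevissageAt.hqB FlatCA.CompleteDevissageAt.hqA

namespace Groth.Agent.Dev4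

variable {R : Type u} [CommRing R] {p : Ideal R} [p.IsPrime]

section Transport

variable {S : Type u} [CommRing S] [Algebra R S] {N N₁ : Type u} [AddCommGroup N] [Module S N]
  [AddCommGroup N₁] [Module S N₁]

/-- A dévissage of an isomorphic module. -/
noncomputable def transportN (𝒟 : FlatCA.CompleteDevissage R S N p) (e : N₁ ≃ₗ[S] N) :
    FlatCA.CompleteDevissage R S N₁ p :=
  { 𝒟 with isoN := e.trans 𝒟.isoN }

/-- A pointed dévissage of an isomorphic module. -/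
noncomputable def transportAt {q : Ideal S} [q.IsPrime] {𝒟 : FlatCA.CompleteDevissage R S N p}
    (𝒜 : FlatCA.CompleteDevissageAt R S N p q 𝒟) (e : N₁ ≃ₗ[S] N) :
    FlatCA.CompleteDevissageAt R S N₁ p q (transportN 𝒟 e) where
  qB := 𝒜.qB
  qA := 𝒜.qA
  hqB := 𝒜.hqB
  hqA := 𝒜.hqA
  overB := 𝒜.overB
  overA := 𝒜.overA
  pureTrans := 𝒜.pureTrans
  uniq := 𝒜.uniq
  q0 := 𝒜.q0
  qStep := 𝒜.qStep
  d := 𝒜.d
  relDim := 𝒜.relDim
  locDim := 𝒜.locDim

/-- Dévissages at a point only depend on the module up to isomorphism. -/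
theorem hasCDA_congr {q : Ideal S} [q.IsPrime] (h : FlatCA.HasCompleteDevissageAt R S N p q) (e : N₁ ≃ₗ[S] N) :
    FlatCA.HasCompleteDevissageAt R S N₁ p q := by
  obtain ⟨𝒟, ⟨𝒜⟩⟩ := h
  exact ⟨transportN 𝒟 e, ⟨transportAt 𝒜 e⟩⟩

end Transport

/-- Complete dévissages at a point pass to base changes with the same residue field. -/
theorem hasCDA_bc (k : ℕ) :
    ∀ {S : Type u} [CommRing S] [Algebra R S] {N : Type u} [AddCommGroup N] [Module S N]
      (𝒟 : FlatCA.CompleteDevissage R S N p) (_ : 𝒟.n = k + 1) {q : Ideal S} [q.IsPrime]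
      (_ : FlatCA.CompleteDevissageAt R S N p q 𝒟)
      (R' : Type u) [CommRing R'] [Algebra R R'] (p' : Ideal R') [p'.IsPrime] [hp' : p'.LiesOver p]
      (_ : Function.Bijective (Ideal.ResidueField.mapₐ p p' (Algebra.ofId R R') hp'.over))
      (S' : Type u) [CommRing S'] [Algebra R' S'] [Algebra R S'] [Algebra S S'] [IsScalarTower R R' S']
      [IsScalarTower R S S'] [Algebra.IsPushout R R' S S']
      {N' : Type u} [AddCommGroup N'] [Module S' N'] [Module S N'] [IsScalarTower S S' N']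
      (f : N →ₗ[S] N'), IsBaseChange S' f → ∀ (q' : Ideal S') [q'.IsPrime] [q'.LiesOver q] [q'.LiesOver p'],
      FlatCA.HasCompleteDevissageAt R' S' N' p' q' := by
  induction k with
  | zero =>
    intro S _ _ N _ _ 𝒟 hn q _ 𝒜 R' _ _ p' _ hp' hκ S' _ _ _ _ _ _ _ N' _ _ _ _ f hf q' _ _ _
    let H := head 𝒟
    let H' := H.bc R' S' p' f hf
    obtain ⟨A', -, -, -⟩ := (headAt 𝒜).exists_bc R' S' p' f hf hκ q'
    letI := H.bcDC R'
    obtain ⟨t1, t2, hpc⟩ := H.bc_pushoutDC R'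
    have hsurj : Function.Surjective H.α := by
      have h := 𝒟.cokerLast
      rw [show 𝒟.n - 1 = 0 by omega] at h
      exact h
    have hsurj' : Function.Surjective H'.α := by
      refine LinearMap.range_eq_top.1 ((H.range_bcα R').trans ?_)
      letI := H.bcAlgDC R'
      haveI t3 : IsScalarTower H.D H.C (H.bcG R') := IsScalarTower.of_algebraMap_smul fun d x => by
        rw [← algebraMap_smul (R' ⊗[R] H.C) (algebraMap H.D H.C d) x, ← IsScalarTower.algebraMap_apply, algebraMap_smul]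
      haveI t4 : IsScalarTower H.D (R' ⊗[R] H.D) (H.bcG R') := IsScalarTower.of_algebraMap_smul fun d x => by
        rw [← algebraMap_smul (R' ⊗[R] H.C) (algebraMap H.D (R' ⊗[R] H.D) d) x, ← IsScalarTower.algebraMap_apply,
          algebraMap_smul]
      exact eq_top_of_span ((H.bcToG R').restrictScalars H.D)
        (isBaseChange_restrict (B' := R' ⊗[R] H.D) (A' := R' ⊗[R] H.C) (H.bcToG R')
          (TensorProduct.isBaseChange H.C H.G (R' ⊗[R] H.C))) _ (LinearMap.range_eq_top.2 hsurj)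
    exact ⟨single H' hsurj', ⟨singleAt H' hsurj' q' A'⟩⟩
  | succ k ih =>
    intro S _ _ N _ _ 𝒟 hn q _ 𝒜 R' _ _ p' _ hp' hκ S' _ _ _ _ _ _ _ N' _ _ _ _ f hf q' _ _ _
    let H := head 𝒟
    let A := headAt 𝒜
    let H' := H.bc R' S' p' f hf
    obtain ⟨A', -, hy, -⟩ := A.exists_bc R' S' p' f hf hκ q'
    have h1 : 1 < 𝒟.n := by omega
    letI : Module H.D (𝒟.M 1) := 𝒟.mB'M 0
    let T' := (R' ⊗[R] H.D) ⊗[H.D] 𝒟.M 1
    let t : 𝒟.M 1 →ₗ[H.D] T' := TensorProduct.mk H.D (R' ⊗[R] H.D) (𝒟.M 1) 1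
    have ht : IsBaseChange (R' ⊗[R] H.D) t := TensorProduct.isBaseChange H.D (𝒟.M 1) _
    let 𝒯 : FlatCA.CompleteDevissage R H.D (𝒟.M 1) p := tail 𝒟 h1
    have hT : 𝒯.n = k + 1 := show 𝒟.n - 1 = k + 1 by omega
    let 𝒜t : FlatCA.CompleteDevissageAt R H.D (𝒟.M 1) p A.y 𝒯 := tailAt 𝒜 h1
    let y' : Ideal (R' ⊗[R] H.D) := A'.y
    haveI : y'.IsPrime := A'.hy
    haveI : y'.LiesOver p' := A'.yOver
    haveI : y'.LiesOver A.y := ⟨hy.symm⟩
    obtain ⟨ℰ, ⟨ℰA⟩⟩ := @ih H.D H.cD H.aRD (𝒟.M 1) _ _ 𝒯 hT A.y _ 𝒜t R' _ _ p' _ hp' hκ (R' ⊗[R] H.D)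
      _ _ _ _ _ _ _ T' _ _ _ _ t ht y' _ _ _
    letI := H.bcDC R'
    letI := H.bcAlgDC R'
    obtain ⟨t1, t2, hpc⟩ := H.bc_pushoutDC R'
    haveI t3 : IsScalarTower H.D H.C (H.bcG R') := IsScalarTower.of_algebraMap_smul fun d x => by
      rw [← algebraMap_smul (R' ⊗[R] H.C) (algebraMap H.D H.C d) x, ← IsScalarTower.algebraMap_apply, algebraMap_smul]
    haveI t4 : IsScalarTower H.D (R' ⊗[R] H.D) (H.bcG R') := IsScalarTower.of_algebraMap_smul fun d x => by
      rw [← algebraMap_smul (R' ⊗[R] H.C) (algebraMap H.D (R' ⊗[R] H.D) d) x, ← IsScalarTower.algebraMap_apply,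
        algebraMap_smul]
    obtain ⟨e', -⟩ := exists_cokerEquiv ((H.bcToG R').restrictScalars H.D)
      (isBaseChange_restrict (B' := R' ⊗[R] H.D) (A' := R' ⊗[R] H.C) (H.bcToG R')
        (TensorProduct.isBaseChange H.C H.G (R' ⊗[R] H.C)))
      (LinearMap.range H.α) (LinearMap.range (H.bcα R')) (H.range_bcα R') (𝒟.isoCoker 0 h1) t ht
    letI : Module H'.D T' := (inferInstance : Module (R' ⊗[R] H.D) T')
    exact ⟨cons H' e' ℰ, ⟨consAt H' e' ℰ q' A' ℰA⟩⟩

section Shrink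

variable {S : Type u} [CommRing S] [Algebra R S] {N : Type u} [AddCommGroup N] [Module S N]
  {q : Ideal S} [q.IsPrime] {𝒟 : FlatCA.CompleteDevissage R S N p} {𝒜 : FlatCA.CompleteDevissageAt R S N p q 𝒟}

/-- Shrinking elements may be multiplied by elements of the base away from the point. -/
theorem ShrinkOK.mul {g : R} {hX : S} {b : ∀ i, 𝒟.B i} (h : ShrinkOK 𝒜 g hX b) [q.LiesOver p] {r : R} (hr : r ∉ p) :
    ShrinkOK 𝒜 (g * r) (hX * algebraMap R S r) (fun i => b i * algebraMap R (𝒟.B i) r) where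
  g_notMem h' := ((inferInstance : p.IsPrime).mem_or_mem h').elim h.g_notMem hr
  hX_notMem h' := ((inferInstance : q.IsPrime).mem_or_mem h').elim h.hX_notMem
    fun h'' => hr ((Ideal.mem_of_liesOver q p r).2 h'')
  b_notMem i h' := ((𝒜.hqB i).mem_or_mem h').elim (h.b_notMem i) (notMem_map 𝒜 hr)
  g_dvd_hX := by rw [map_mul]; exact mul_dvd_mul h.g_dvd_hX dvd_rfl
  g_dvd i := by rw [map_mul]; exact mul_dvd_mul (h.g_dvd i) dvd_rfl
  hX_eq := by
    rw [map_mul, map_mul, ← IsScalarTower.algebraMap_apply, ← IsScalarTower.algebraMap_apply]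
    exact h.hX_eq.mul_right _
  step i hi := by
    rw [map_mul, map_mul, ← IsScalarTower.algebraMap_apply, ← IsScalarTower.algebraMap_apply]
    exact (h.step i hi).mul_right _
  surj i hi P hP hgP := by
    obtain ⟨Q, hQ, hQP, hbQ⟩ := h.surj i hi P hP fun h' => hgP (P.mul_mem_right r h')
    exact ⟨Q, hQ, hQP, fun h' => (hQ.mem_or_mem h').elim hbQ fun h'' =>
      hgP (P.mul_mem_left g ((SetLike.ext_iff.1 hQP r).1 h''))⟩

/-- A shrinking inside a given open, mapping onto the shrunk base. -/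
theorem exists_shrinkOK_onto [q.LiesOver p] [Algebra.Smooth R S] (𝒜 : FlatCA.CompleteDevissageAt R S N p q 𝒟)
    (u : S) (hu : u ∉ q) :
    ∃ (g : R) (hX : S) (b : ∀ i, 𝒟.B i), ShrinkOK 𝒜 g hX b ∧ u ∣ hX ∧
      ∀ P : Ideal R, P.IsPrime → g ∉ P → ∃ Q : Ideal S, Q.IsPrime ∧ Q.comap (algebraMap R S) = P ∧ hX ∉ Q := by
  obtain ⟨d, hd, hd0, hdd⟩ := exists_forward 𝒜 u hu
  obtain ⟨g, hX, b, hok, hu', -⟩ := exists_shrinkOK 𝒜 u hu d hd hd0 hdd (fun _ => 1)
    fun i h => (𝒜.hqB i).ne_top ((Ideal.eq_top_iff_one _).2 h)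
  have himg : IsOpen (PrimeSpectrum.comap (algebraMap R S) '' (PrimeSpectrum.basicOpen hX : Set _)) :=
    PrimeSpectrum.isOpenMap_comap_of_hasGoingDown_of_finitePresentation _ (PrimeSpectrum.basicOpen hX).isOpen
  have hp : (⟨p, ‹_›⟩ : PrimeSpectrum R) ∈
      PrimeSpectrum.comap (algebraMap R S) '' (PrimeSpectrum.basicOpen hX : Set _) :=
    ⟨⟨q, ‹_›⟩, hok.hX_notMem, PrimeSpectrum.ext (Ideal.LiesOver.over (P := q) (p := p)).symm⟩
  obtain ⟨_, ⟨r, rfl⟩, hr, hrsub⟩ :=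
    PrimeSpectrum.isTopologicalBasis_basic_opens.exists_subset_of_mem_open hp himg
  refine ⟨g * r, _, _, hok.mul hr, hu'.trans (dvd_mul_right _ _), fun P hP hgP => ?_⟩
  obtain ⟨Q, hQd, hQP⟩ := hrsub (show (⟨P, hP⟩ : PrimeSpectrum R) ∈ (PrimeSpectrum.basicOpen r : Set _) from
    fun h' => hgP (P.mul_mem_left g h'))
  refine ⟨Q.asIdeal, Q.isPrime, congrArg PrimeSpectrum.asIdeal hQP, fun h' => (Q.isPrime.mem_or_mem h').elim hQd
    fun h'' => hgP (P.mul_mem_left g ((SetLike.ext_iff.1 (congrArg PrimeSpectrum.asIdeal hQP) r).1 h''))⟩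

end Shrink

end Groth.Agent.Dev4
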