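import Groth.Agent.Lib.Dev4.EtaleStep
import Groth.Agent.Lib.Dev4.Loc
import Groth.Agent.Lib.Dev4.Pointed

/-!
# Gluing a first step onto a dévissage of the cokernel
-/

set_option autoImplicit false

universe u

open TensorProduct

set_option backward.isDefEq.respectTransparency.types false

attribute [local instance] Algebra.TensorProduct.rightAlgebra

namespace Groth.Agent.Dev4

/-- Extensions of a prime of the base along étale maps. -/
theorem map_comap_of_etale {R R' B B' : Type u} [CommRing R] [CommRing R'] [CommRing B] [CommRing B'] [Algebra R R']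
    [Algebra.Etale R R'] [Algebra R B] [Algebra B B'] [Module.Flat B B'] [Algebra R' B'] [Algebra R B']
    [IsScalarTower R R' B'] [IsScalarTower R B B'] (p : Ideal R) [p.IsPrime] (p' : Ideal R') [p'.IsPrime]
    [hp : p'.LiesOver p] [hP : (p.map (algebraMap R B)).IsPrime] [hP' : (p'.map (algebraMap R' B')).IsPrime]
    (hover : (p'.map (algebraMap R' B')).comap (algebraMap R' B') = p') :
    p.map (algebraMap R B) = (p'.map (algebraMap R' B')).comap (algebraMap B B') := by
  haveI : Algebra.QuasiFinite R R' := ⟨fun P _ => Algebra.FormallyUnramified.finite_of_free P.ResidueField (P.Fiber R')⟩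
  set Q' := p'.map (algebraMap R' B') with hQ'
  set Q := Q'.comap (algebraMap B B')
  have hQp : Q.comap (algebraMap R B) = p := by
    rw [Ideal.comap_comap, ← IsScalarTower.algebraMap_eq, IsScalarTower.algebraMap_eq R R' B', ← Ideal.comap_comap, hover]
    exact hp.over.symm
  have hle : p.map (algebraMap R B) ≤ Q := Ideal.map_le_iff_le_comap.2 hQp.ge
  haveI : Q'.LiesOver Q := ⟨rfl⟩
  haveI : Algebra.HasGoingDown B B' := Algebra.HasGoingDown.of_flat
  obtain ⟨P', hP'le, hP'p, hP'o⟩ := Ideal.exists_ideal_le_liesOver_of_le (p := p.map (algebraMap R B)) (q := Q) Q' hle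
  haveI := hP'p
  have hP'R : P'.comap (algebraMap R' B') = p' := by
    refine Algebra.QuasiFinite.eq_of_le_of_under_eq (R := R) _ _ ((Ideal.comap_mono hP'le).trans hover.le) ?_
    rw [Ideal.under_def, Ideal.under_def, Ideal.comap_comap, ← IsScalarTower.algebraMap_eq,
      IsScalarTower.algebraMap_eq R B B', ← Ideal.comap_comap,
      show P'.comap (algebraMap B B') = p.map (algebraMap R B) from hP'o.over.symm]
    exact ((le_antisymm ((Ideal.comap_mono hle).trans hQp.le) Ideal.le_comap_map) :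
      (p.map (algebraMap R B)).comap (algebraMap R B) = p).trans hp.over
  have hge : Q' ≤ P' := by
    rw [hQ', Ideal.map_le_iff_le_comap]; exact hP'R.ge
  show _ = Q'.comap (algebraMap B B')
  rw [le_antisymm hge hP'le]
  exact hP'o.over

/-- A standard open piece of a smooth algebra over a piece of the base. -/
theorem exists_piece {R B : Type u} [CommRing R] [CommRing B] [Algebra R B] (p : Ideal R) [p.IsPrime] (y : Ideal B)
    [y.IsPrime] [y.LiesOver p] (g : R) (b : B) (hg : g ∉ p) (hb : b ∉ y) (hgb : algebraMap R B g ∣ b) :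
    ∃ (_ : Algebra (Localization.Away g) (Localization.Away b))
      (_ : IsScalarTower R (Localization.Away g) (Localization.Away b))
      (p' : Ideal (Localization.Away g)) (_ : p'.IsPrime) (y' : Ideal (Localization.Away b)) (_ : y'.IsPrime)
      (_ : y'.LiesOver p') (_ : y'.LiesOver y),
      FlatCA.IsEtaleNhd R (Localization.Away g) p p' ∧ FlatCA.IsEtaleNhd B (Localization.Away b) y y' := by
  have hu : IsUnit (algebraMap R (Localization.Away b) g) := by
    rw [IsScalarTower.algebraMap_apply R B (Localization.Away b)]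
    exact isUnit_of_dvd_unit (map_dvd _ hgb) (IsLocalization.Away.algebraMap_isUnit b)
  letI : Algebra (Localization.Away g) (Localization.Away b) := (IsLocalization.Away.lift g hu).toAlgebra
  haveI : IsScalarTower R (Localization.Away g) (Localization.Away b) :=
    IsScalarTower.of_algebraMap_eq fun r => (IsLocalization.Away.lift_eq g hu r).symm
  have hdy : Disjoint (Submonoid.powers b : Set B) (y : Set B) := (Ideal.disjoint_powers_iff_notMem_of_isPrime _).2 hb
  let y' : Ideal (Localization.Away b) := y.map (algebraMap B (Localization.Away b))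
  haveI hy' : y'.IsPrime := IsLocalization.isPrime_of_isPrime_disjoint (Submonoid.powers b) _ _ ‹_› hdy
  have hy : y'.comap (algebraMap B (Localization.Away b)) = y :=
    IsLocalization.under_map_of_isPrime_disjoint (Submonoid.powers b) _ ‹_› hdy
  haveI : y'.LiesOver y := ⟨hy.symm⟩
  let p' : Ideal (Localization.Away g) := y'.comap (algebraMap (Localization.Away g) (Localization.Away b))
  haveI : p'.LiesOver p := ⟨by
    show p = (y'.comap _).comap _
    rw [Ideal.comap_comap, ← IsScalarTower.algebraMap_eq, IsScalarTower.algebraMap_eq R B (Localization.Away b),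
      ← Ideal.comap_comap, hy]
    exact Ideal.over_def y p⟩
  haveI hyp : y'.LiesOver p' := ⟨rfl⟩
  exact ⟨inferInstance, inferInstance, p', inferInstance, y', hy', hyp, inferInstance,
    isEtaleNhd_away g p p', isEtaleNhd_away b y y'⟩

variable {R S : Type u} [CommRing R] [CommRing S] [Algebra R S] {N : Type u} [AddCommGroup N] [Module S N]
  {p : Ideal R} [p.IsPrime] {q : Ideal S} [q.IsPrime]

/-- A first step and a dévissage of its cokernel over étale neighbourhoods give a dévissage. -/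
theorem exists_glue (H : Head R S N p) (A : HeadAt H q) {R₄ : Type u} [CommRing R₄] [Algebra R R₄] (p₄ : Ideal R₄)
    [p₄.IsPrime] (hR : FlatCA.IsEtaleNhd R R₄ p p₄) {D₄ : Type u} [CommRing D₄] [Algebra R₄ D₄] [Algebra H.D D₄]
    [Algebra R D₄] [IsScalarTower R R₄ D₄] [IsScalarTower R H.D D₄] (y₄ : Ideal D₄) [y₄.IsPrime] [y₄.LiesOver p₄]
    (hD : FlatCA.IsEtaleNhd H.D D₄ A.y y₄) (hgi : FlatCA.GeomIrredFibres R₄ D₄)
    (hT : Subsingleton (D₄ ⊗[H.D] (H.G ⧸ LinearMap.range H.α)) ∨
      FlatCA.HasCompleteDevissageAt R₄ D₄ (D₄ ⊗[H.D] (H.G ⧸ LinearMap.range H.α)) p₄ y₄) :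
    ∃ (S₄ : Type u) (_ : CommRing S₄) (_ : Algebra S S₄) (_ : Algebra R₄ S₄) (_ : Algebra R S₄)
      (_ : IsScalarTower R R₄ S₄) (_ : IsScalarTower R S S₄) (q₄ : Ideal S₄) (_ : q₄.IsPrime),
      FlatCA.IsEtaleNhd S S₄ q q₄ ∧ q₄.LiesOver p₄ ∧
      FlatCA.HasCompleteDevissageAt R₄ S₄ (S₄ ⊗[S] N) p₄ q₄ := by
  haveI := H.fpSC
  haveI := H.finiteDC
  haveI := H.finiteG
  haveI := H.smooth
  obtain ⟨heR, hlR, hκR⟩ := id hR
  obtain ⟨heD, hlD, hκD⟩ := id hD
  haveI := heR
  haveI := hlR
  haveI := heD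
  haveI := hlD
  have hrel : FlatCA.SmoothRelDim A.d R₄ D₄ := smoothRelDim_of_etale_base (R := R) (B := H.D) A.d A.relDim
  have hsm : Algebra.Smooth R₄ D₄ := smooth_of_relDim hrel
  haveI := hsm
  haveI hprime : (p₄.map (algebraMap R₄ D₄)).IsPrime := isPrime_map hgi p₄
  let C₄ := D₄ ⊗[H.D] H.C
  obtain ⟨z₄, hz₄, hzy, hzz⟩ := exists_prime_over (B := H.C) (B' := C₄) hκD A.z
  haveI := hzy
  haveI := hzz
  haveI : Algebra.IsPushout H.D D₄ H.C C₄ := inferInstance
  have hnC : FlatCA.IsEtaleNhd H.C C₄ A.z z₄ := isEtaleNhd_bc hD A.z z₄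
  haveI : Algebra.Etale H.C C₄ := hnC.1
  haveI : IsScalarTower R₄ D₄ C₄ := inferInstance
  haveI tRR₄C : IsScalarTower R R₄ C₄ := inferInstance
  haveI tRCC : IsScalarTower R H.C C₄ := IsScalarTower.of_algebraMap_eq fun r => by
    rw [IsScalarTower.algebraMap_apply R H.D H.C, ← IsScalarTower.algebraMap_apply H.D H.C C₄,
      IsScalarTower.algebraMap_apply H.D D₄ C₄, ← IsScalarTower.algebraMap_apply R H.D D₄,
      ← IsScalarTower.algebraMap_apply R D₄ C₄]
  obtain ⟨E, _, φS, φR, θ, hφS, hRS, hθ, hker, hθS, hθR⟩ :=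
    exists_etale_lift_over (R := R) (S := S) (C := H.C) (R'' := R₄) (C'' := C₄) H.surjSC
  letI aSE : Algebra S E := φS.toAlgebra
  letI aR₄E : Algebra R₄ E := φR.toAlgebra
  letI aRE : Algebra R E := Algebra.compHom E (algebraMap R S)
  haveI tRSE : IsScalarTower R S E := IsScalarTower.of_algebraMap_eq fun _ => rfl
  haveI tRR₄E : IsScalarTower R R₄ E := IsScalarTower.of_algebraMap_eq' hRS
  letI aEC : Algebra E C₄ := θ.toAlgebra
  letI aSC : Algebra S C₄ := Algebra.compHom C₄ (algebraMap S H.C)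
  haveI tSCC : IsScalarTower S H.C C₄ := IsScalarTower.of_algebraMap_eq fun _ => rfl
  haveI tSEC : IsScalarTower S E C₄ := IsScalarTower.of_algebraMap_eq' hθS.symm
  haveI tR₄EC : IsScalarTower R₄ E C₄ := IsScalarTower.of_algebraMap_eq' hθR.symm
  haveI : Algebra.Etale S E := RingHom.etale_algebraMap.1 hφS
  haveI hpS : Algebra.IsPushout S E H.C C₄ := isPushout_of_surjective H.surjSC hθ hker
  let q₄ : Ideal E := z₄.comap (algebraMap E C₄)
  haveI hzq : z₄.LiesOver q₄ := ⟨rfl⟩
  haveI hzq' : A.z.LiesOver q := ⟨A.q0.symm⟩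
  haveI hqq : q₄.LiesOver q := ⟨by
    show q = (z₄.comap (algebraMap E C₄)).comap (algebraMap S E)
    rw [Ideal.comap_comap, ← IsScalarTower.algebraMap_eq, IsScalarTower.algebraMap_eq S H.C C₄, ← Ideal.comap_comap,
      show z₄.comap (algebraMap H.C C₄) = A.z from hzz.over.symm]
    exact A.q0.symm⟩
  haveI hqp : q₄.LiesOver p₄ := ⟨by
    show p₄ = (z₄.comap (algebraMap E C₄)).comap (algebraMap R₄ E)
    rw [Ideal.comap_comap, ← IsScalarTower.algebraMap_eq, IsScalarTower.algebraMap_eq R₄ D₄ C₄, ← Ideal.comap_comap,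
      show z₄.comap (algebraMap D₄ C₄) = y₄ from hzy.over.symm]
    exact Ideal.over_def y₄ p₄⟩
  have hqz : Function.Bijective (Ideal.ResidueField.map q A.z (algebraMap S H.C) (Ideal.over_def A.z q)) :=
    (RingHom.surjectiveOnStalks_of_surjective H.surjSC).residueFieldMap_bijective q A.z _
  have hnS : FlatCA.IsEtaleNhd S E q q₄ := by
    refine ⟨inferInstance, hqq, RingHom.injective _, fun w => ?_⟩
    obtain ⟨v, hv⟩ := (hnC.2.2.comp hqz).2 (Ideal.ResidueField.map q₄ z₄ (algebraMap E C₄) rfl w)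
    refine ⟨v, (Ideal.ResidueField.map q₄ z₄ (algebraMap E C₄) rfl).injective ?_⟩
    rw [← hv]
    have hcomp := Ideal.ResidueField.ringHom_ext (I := q)
      (f := (Ideal.ResidueField.map q₄ z₄ (algebraMap E C₄) rfl).comp
        (Ideal.ResidueField.mapₐ q q₄ (Algebra.ofId S E) hqq.over).toRingHom)
      (g := (Ideal.ResidueField.mapₐ A.z z₄ (Algebra.ofId H.C C₄) hnC.2.1.over).toRingHom.comp
        (Ideal.ResidueField.map q A.z (algebraMap S H.C) (Ideal.over_def A.z q))) (RingHom.ext fun s => by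
        show Ideal.ResidueField.map q₄ z₄ (algebraMap E C₄) rfl (Ideal.ResidueField.mapₐ q q₄ (Algebra.ofId S E) _ (algebraMap S q.ResidueField s)) =
          Ideal.ResidueField.mapₐ A.z z₄ (Algebra.ofId H.C C₄) _ (Ideal.ResidueField.map q A.z (algebraMap S H.C) _ (algebraMap S q.ResidueField s))
        rw [AlgHom.commutes, Ideal.ResidueField.map_algebraMap, AlgHom.commutes, IsScalarTower.algebraMap_apply S E q₄.ResidueField,
          Ideal.ResidueField.map_algebraMap, ← IsScalarTower.algebraMap_apply S E C₄, IsScalarTower.algebraMap_apply S H.C C₄,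
          ← IsScalarTower.algebraMap_apply H.C C₄ z₄.ResidueField])
    exact DFunLike.congr_fun hcomp v
  let f : N →ₗ[S] E ⊗[S] N := TensorProduct.mk S E N 1
  have hf : IsBaseChange E f := TensorProduct.isBaseChange S N E
  have hover : (p₄.map (algebraMap R₄ D₄)).comap (algebraMap R₄ D₄) = p₄ := by
    refine le_antisymm ((Ideal.comap_mono (map_le_of_liesOver (Q := y₄))).trans ?_) Ideal.le_comap_map
    exact (Ideal.over_def y₄ p₄).ge
  haveI := H.hp
  have hP : p.map (algebraMap R H.D) = (p₄.map (algebraMap R₄ D₄)).comap (algebraMap H.D D₄) :=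
    map_comap_of_etale p p₄ hover
  let H' : Head R₄ E (E ⊗[S] N) p₄ := H.ext R₄ C₄ D₄ p₄ E f hf hsm hgi hP
  obtain ⟨_, _, hgG⟩ := H.ext_isBaseChange C₄ D₄
  haveI : IsScalarTower R₄ D₄ (H.extG C₄) := IsScalarTower.of_algebraMap_smul fun r x => by
    rw [← algebraMap_smul C₄ (algebraMap R₄ D₄ r) x, ← IsScalarTower.algebraMap_apply, algebraMap_smul]
  haveI : Module.Finite H.D H.G := Module.Finite.trans H.C H.G
  have hloc := locDim_etale (R := R) (R' := R₄) (S := H.D) (S' := D₄) ((H.extToG C₄).restrictScalars H.D) hgG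
    p p₄ A.y y₄ A.d A.locDim
  have hpt : FlatCA.PurelyTranscendental p₄ y₄ := by
    refine pureTrans_transfer ?_ p p₄ A.y y₄ hκR hκD A.pureTrans
    rw [← IsScalarTower.algebraMap_eq, ← IsScalarTower.algebraMap_eq]
  have huniq : ∀ (Q : Ideal C₄) [Q.IsPrime], Q.LiesOver y₄ → Q = z₄ := by
    intro Q _ h2
    haveI := h2
    refine prime_ext (B := H.C) hκD Q z₄ ?_
    haveI hX : (Q.comap (algebraMap H.C C₄)).LiesOver A.y := ⟨by
      haveI : Q.LiesOver A.y := Ideal.LiesOver.trans Q y₄ A.y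
      rw [Ideal.under_def, Ideal.comap_comap, ← IsScalarTower.algebraMap_eq]; exact Ideal.over_def Q A.y⟩
    rw [show z₄.comap (algebraMap H.C C₄) = A.z from hzz.over.symm]
    exact A.uniq _ hX
  let A' : HeadAt H' q₄ :=
    { y := y₄, z := z₄, hy := ‹_›, hz := hz₄, yOver := ‹_›, zOver := hzy, pureTrans := hpt,
      uniq := huniq, q0 := rfl, d := A.d, relDim := hrel, locDim := hloc }
  let t : (H.G ⧸ LinearMap.range H.α) →ₗ[H.D] D₄ ⊗[H.D] (H.G ⧸ LinearMap.range H.α) :=
    TensorProduct.mk H.D D₄ _ 1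
  obtain ⟨e', -⟩ := exists_cokerEquiv ((H.extToG C₄).restrictScalars H.D) hgG
    (LinearMap.range H.α) (LinearMap.range (H.extα C₄ D₄)) (H.range_extα C₄ D₄) (LinearEquiv.refl _ _) t
    (TensorProduct.isBaseChange H.D _ D₄)
  refine ⟨E, inferInstance, aSE, aR₄E, aRE, tRR₄E, tRSE, q₄, inferInstance, hnS, hqp, ?_⟩
  rcases hT with hT | ⟨ℰ, ⟨ℰA⟩⟩
  · haveI := hT
    have hs : Function.Surjective H'.α := by
      haveI := e'.toEquiv.subsingleton
      exact LinearMap.range_eq_top.1 (Submodule.Quotient.subsingleton_iff.1 this)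
    exact ⟨single H' hs, ⟨singleAt H' hs q₄ A'⟩⟩
  · letI : Module H'.D (D₄ ⊗[H.D] (H.G ⧸ LinearMap.range H.α)) :=
      (inferInstance : Module D₄ (D₄ ⊗[H.D] (H.G ⧸ LinearMap.range H.α)))
    exact ⟨cons H' e' ℰ, ⟨consAt H' e' ℰ q₄ A' ℰA⟩⟩

end Groth.Agent.Dev4
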