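import Groth.Agent.Lib.Dev4.First
import Groth.Agent.Lib.Dev4.Glue
import Groth.Agent.Lib.Dev4.GeomBasic

/-!
# Complete dévissages after étale localization
-/

set_option autoImplicit false

universe u

open TensorProduct

set_option backward.isDefEq.respectTransparency.types false

attribute [local instance] Algebra.TensorProduct.rightAlgebra

attribute [local instance] FlatCA.CompleteDevissageAt.hqB FlatCA.CompleteDevissageAt.hqA

namespace Groth.Agent.Dev4

/-- Étale neighbourhoods over which a first step can be completed. -/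
def GlueData {R D : Type u} [CommRing R] [CommRing D] [Algebra R D] (p : Ideal R) [p.IsPrime] (y : Ideal D) [y.IsPrime]
    (T : Type u) [AddCommGroup T] [Module D T] : Prop :=
  ∃ (R₄ : Type u) (_ : CommRing R₄) (_ : Algebra R R₄) (p₄ : Ideal R₄) (_ : p₄.IsPrime)
    (D₄ : Type u) (_ : CommRing D₄) (_ : Algebra R₄ D₄) (_ : Algebra D D₄) (_ : Algebra R D₄)
    (_ : IsScalarTower R R₄ D₄) (_ : IsScalarTower R D D₄) (y₄ : Ideal D₄) (_ : y₄.IsPrime) (_ : y₄.LiesOver p₄),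
    FlatCA.IsEtaleNhd R R₄ p p₄ ∧ FlatCA.IsEtaleNhd D D₄ y y₄ ∧ FlatCA.GeomIrredFibres R₄ D₄ ∧
      (Subsingleton (D₄ ⊗[D] T) ∨ FlatCA.HasCompleteDevissageAt R₄ D₄ (D₄ ⊗[D] T) p₄ y₄)

/-- The cokernel vanishes near the point. -/
theorem glueData_of_notMem_support {R D : Type u} [CommRing R] [CommRing D] [Algebra R D] [Algebra.Smooth R D]
    (p : Ideal R) [p.IsPrime] (y : Ideal D) [y.IsPrime] [y.LiesOver p] (hgi : FlatCA.GeomIrredFibres R D)
    (T : Type u) [AddCommGroup T] [Module D T] [Module.Finite D T]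
    (hy : (⟨y, ‹_›⟩ : PrimeSpectrum D) ∉ Module.support D T) : GlueData p y T := by
  rw [Module.mem_support_iff_of_finite] at hy
  obtain ⟨w, hw, hwy⟩ := SetLike.not_le_iff_exists.1 hy
  have himg : IsOpen (PrimeSpectrum.comap (algebraMap R D) '' (PrimeSpectrum.basicOpen w : Set _)) :=
    PrimeSpectrum.isOpenMap_comap_of_hasGoingDown_of_finitePresentation _ (PrimeSpectrum.basicOpen w).isOpen
  have hp : (⟨p, ‹_›⟩ : PrimeSpectrum R) ∈
      PrimeSpectrum.comap (algebraMap R D) '' (PrimeSpectrum.basicOpen w : Set _) :=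
    ⟨⟨y, ‹_›⟩, hwy, PrimeSpectrum.ext (Ideal.LiesOver.over (P := y) (p := p)).symm⟩
  obtain ⟨_, ⟨r, rfl⟩, hr, hrsub⟩ :=
    PrimeSpectrum.isTopologicalBasis_basic_opens.exists_subset_of_mem_open hp himg
  let b := w * algebraMap R D r
  have hb : b ∉ y := fun h => ((inferInstance : y.IsPrime).mem_or_mem h).elim hwy
    fun h' => hr ((Ideal.mem_of_liesOver y p r).2 h')
  obtain ⟨_, _, p', _, y', _, _, _, hR, hD⟩ := exists_piece p y r b hr hb (dvd_mul_left _ _)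
  have hgi' : FlatCA.GeomIrredFibres (Localization.Away r) (Localization.Away b) := by
    refine geomIrredFibres_loc (R := R) (B := D) r b ?_ hgi fun P hP hrP => ?_
    · rw [← IsScalarTower.algebraMap_eq, ← IsScalarTower.algebraMap_eq]
    · obtain ⟨Q, hQ, hQP⟩ := hrsub (show (⟨P, hP⟩ : PrimeSpectrum R) ∈ (PrimeSpectrum.basicOpen r : Set _) from hrP)
      exact ⟨Q.asIdeal, Q.isPrime, congrArg PrimeSpectrum.asIdeal hQP, fun h => (Q.isPrime.mem_or_mem h).elim hQ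
        fun h' => hrP ((SetLike.ext_iff.1 (congrArg PrimeSpectrum.asIdeal hQP) r).1 h')⟩
  refine ⟨Localization.Away r, inferInstance, inferInstance, p', inferInstance, Localization.Away b, inferInstance,
    inferInstance, inferInstance, inferInstance, inferInstance, inferInstance, y', inferInstance, inferInstance,
    hR, hD, hgi', Or.inl ?_⟩
  have hu : IsUnit (algebraMap D (Localization.Away b) w) :=
    isUnit_of_dvd_unit (map_dvd _ (dvd_mul_right w _)) (IsLocalization.Away.algebraMap_isUnit b)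
  refine subsingleton_of_forall_eq 0 fun z => ?_
  induction z using TensorProduct.induction_on with
  | zero => rfl
  | tmul c t =>
    obtain ⟨v, hv⟩ := hu
    have : c = w • (c * ((v⁻¹ : (Localization.Away b)ˣ) : Localization.Away b)) := by
      rw [Algebra.smul_def, ← hv, mul_left_comm, Units.mul_inv, mul_one]
    rw [this, TensorProduct.smul_tmul, Module.mem_annihilator.1 hw t, TensorProduct.tmul_zero]
  | add a c ha hc => rw [ha, hc, add_zero]

/-- A dévissage of the cokernel gives the data for gluing. -/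
theorem glueData_of_cda {R D : Type u} [CommRing R] [CommRing D] [Algebra R D]
    (p : Ideal R) [p.IsPrime] (y : Ideal D) [y.IsPrime] [y.LiesOver p] (d : ℕ) (hrel : FlatCA.SmoothRelDim d R D)
    (hpt : FlatCA.PurelyTranscendental p y)
    (T : Type u) [AddCommGroup T] [Module D T]
    {R₂ D₂ : Type u} [CommRing R₂] [CommRing D₂] [Algebra R R₂] [Algebra D D₂] [Algebra R₂ D₂] [Algebra R D₂]
    [IsScalarTower R R₂ D₂] [IsScalarTower R D D₂] (p₂ : Ideal R₂) [p₂.IsPrime] (y₂ : Ideal D₂) [y₂.IsPrime]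
    (hR : FlatCA.IsEtaleNhd R R₂ p p₂) (hD : FlatCA.IsEtaleNhd D D₂ y y₂) [y₂.LiesOver p₂]
    (hcd : FlatCA.HasCompleteDevissageAt R₂ D₂ (D₂ ⊗[D] T) p₂ y₂) : GlueData p y T := by
  obtain ⟨heR, hlR, hκR⟩ := id hR
  obtain ⟨heD, hlD, hκD⟩ := id hD
  haveI := heR
  haveI := hlR
  haveI := heD
  haveI := hlD
  have hrel₂ : FlatCA.SmoothRelDim d R₂ D₂ := smoothRelDim_of_etale_base (R := R) (B := D) d hrel
  haveI : Algebra.Smooth R₂ D₂ := smooth_of_relDim hrel₂
  have hpt₂ : FlatCA.PurelyTranscendental p₂ y₂ := by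
    refine pureTrans_transfer ?_ p p₂ y y₂ hκR hκD hpt
    rw [← IsScalarTower.algebraMap_eq, ← IsScalarTower.algebraMap_eq]
  obtain ⟨R₃, _, _, p₃, _, y₃, _, e, hn₃, hy₃p, hy₃y, he, hgiI⟩ := exists_geomIntegral_basic p₂ y₂ hpt₂
  obtain ⟨he₃, hl₃, hκ₃⟩ := id hn₃
  haveI := he₃
  haveI := hl₃
  haveI := hy₃p
  haveI := hy₃y
  let T₃ := R₃ ⊗[R₂] D₂
  obtain ⟨𝒟, ⟨𝒜⟩⟩ := hcd
  let N₃ := T₃ ⊗[D₂] (D₂ ⊗[D] T)
  let f₃ : (D₂ ⊗[D] T) →ₗ[D₂] N₃ := TensorProduct.mk D₂ T₃ _ 1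
  have hf₃ : IsBaseChange T₃ f₃ := TensorProduct.isBaseChange D₂ _ T₃
  obtain ⟨𝒟₃, ⟨𝒜₃⟩⟩ := hasCDA_bc (𝒟.n - 1) 𝒟 (Nat.succ_pred_eq_of_pos 𝒟.pos).symm 𝒜 R₃ p₃ hκ₃ T₃ f₃ hf₃ y₃
  haveI : Algebra.Smooth R₃ T₃ := inferInstance
  obtain ⟨g, hX, b, hok, hdX, honto⟩ := exists_shrinkOK_onto 𝒜₃ e he
  obtain ⟨_, _, p₄, _, y₄, _, _, _, hn₄, hd₄⟩ := exists_piece p₃ y₃ g hX hok.g_notMem hok.hX_notMem hok.g_dvd_hX
  haveI := hn₄.2.1
  let R₄ := Localization.Away g
  let D₄ := Localization.Away hX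
  let N₄ := D₄ ⊗[T₃] N₃
  let f₄ : N₃ →ₗ[T₃] N₄ := TensorProduct.mk T₃ D₄ _ 1
  obtain ⟨𝒟₄, 𝒜₄, -⟩ := exists_locData (𝒟₃.n - 1) 𝒟₃ (Nat.succ_pred_eq_of_pos 𝒟₃.pos).symm 𝒜₃ g hX b hok R₄ p₄ D₄ y₄
    f₄ (TensorProduct.isBaseChange T₃ N₃ D₄)
  -- geometric irreducibility
  haveI hgiI' : AlgebraicGeometry.GeometricallyIntegral
      (AlgebraicGeometry.Spec.map (CommRingCat.ofHom (algebraMap R₃ (Localization.Away e)))) := hgiI
  let Be := Localization.Away e
  have hue : IsUnit (algebraMap T₃ D₄ e) :=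
    isUnit_of_dvd_unit (map_dvd _ hdX) (IsLocalization.Away.algebraMap_isUnit hX)
  letI aBD : Algebra Be D₄ := (IsLocalization.Away.lift e hue).toAlgebra
  haveI tBD : IsScalarTower T₃ Be D₄ :=
    IsScalarTower.of_algebraMap_eq fun t => (IsLocalization.Away.lift_eq e hue t).symm
  haveI : IsLocalization.Away (algebraMap T₃ D₄ e) D₄ :=
    IsLocalization.away_of_isUnit_of_bijective _ hue Function.bijective_id
  haveI : IsLocalization.Away (algebraMap T₃ Be hX) D₄ := IsLocalization.Away.commutes Be D₄ D₄ e hX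
  have hgi : FlatCA.GeomIrredFibres R₄ D₄ := by
    refine geomIrredFibres_loc (R := R₃) (B := Be) g (algebraMap T₃ Be hX) ?_ (show FlatCA.GeomIrredFibres R₃ Be from inferInstance) fun P hP hgP => ?_
    · rw [← IsScalarTower.algebraMap_eq, IsScalarTower.algebraMap_eq R₃ T₃ Be, ← RingHom.comp_assoc,
        ← IsScalarTower.algebraMap_eq T₃ Be D₄, ← IsScalarTower.algebraMap_eq]
    · obtain ⟨Q, hQ, hQP, hXQ⟩ := honto P hP hgP
      have heQ : e ∉ Q := fun h => hXQ (Q.mem_of_dvd hdX h)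
      have hdis : Disjoint (Submonoid.powers e : Set T₃) (Q : Set T₃) := (Ideal.disjoint_powers_iff_notMem_of_isPrime _).2 heQ
      have hQ' : (Q.map (algebraMap T₃ Be)).comap (algebraMap T₃ Be) = Q :=
        IsLocalization.under_map_of_isPrime_disjoint (Submonoid.powers e) _ hQ hdis
      refine ⟨Q.map (algebraMap T₃ Be), IsLocalization.isPrime_of_isPrime_disjoint (Submonoid.powers e) _ _ hQ hdis,
        ?_, fun h => hXQ ((SetLike.ext_iff.1 hQ' hX).1 h)⟩
      rw [IsScalarTower.algebraMap_eq R₃ T₃ Be, ← Ideal.comap_comap, hQ', hQP]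
  -- the composite
  letI aRR₄ : Algebra R R₄ := Algebra.compHom R₄ (algebraMap R R₂)
  haveI tRR₂R₄ : IsScalarTower R R₂ R₄ := IsScalarTower.of_algebraMap_eq fun _ => rfl
  letI aDD₄ : Algebra D D₄ := Algebra.compHom D₄ (algebraMap D D₂)
  haveI tDD₂D₄ : IsScalarTower D D₂ D₄ := IsScalarTower.of_algebraMap_eq fun _ => rfl
  letI aRD₄ : Algebra R D₄ := Algebra.compHom D₄ (algebraMap R R₄)
  haveI tRR₄D₄ : IsScalarTower R R₄ D₄ := IsScalarTower.of_algebraMap_eq fun _ => rfl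
  haveI tR₂R₄D₄ : IsScalarTower R₂ R₄ D₄ := IsScalarTower.of_algebraMap_eq fun r => by
    rw [IsScalarTower.algebraMap_apply R₂ R₃ R₄, ← IsScalarTower.algebraMap_apply R₃ R₄ D₄,
      ← IsScalarTower.algebraMap_apply R₂ R₃ D₄]
  haveI tR₂D₂D₄ : IsScalarTower R₂ D₂ D₄ := IsScalarTower.of_algebraMap_eq fun r => by
    rw [IsScalarTower.algebraMap_apply R₂ T₃ D₄, IsScalarTower.algebraMap_apply R₂ D₂ T₃,
      ← IsScalarTower.algebraMap_apply D₂ T₃ D₄]
  haveI tRDD₄ : IsScalarTower R D D₄ := IsScalarTower.of_algebraMap_eq fun r => by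
    rw [IsScalarTower.algebraMap_apply D D₂ D₄, ← IsScalarTower.algebraMap_apply R D D₂,
      IsScalarTower.algebraMap_apply R R₂ D₂, ← IsScalarTower.algebraMap_apply R₂ D₂ D₄,
      IsScalarTower.algebraMap_apply R₂ R₄ D₄, ← IsScalarTower.algebraMap_apply R R₂ R₄,
      ← IsScalarTower.algebraMap_apply R R₄ D₄]
  have hnR : FlatCA.IsEtaleNhd R R₄ p p₄ := isEtaleNhd_trans p p₂ p₄ hR (isEtaleNhd_trans p₂ p₃ p₄ hn₃ hn₄)
  haveI hy₄y₂ : y₄.LiesOver y₂ := Ideal.LiesOver.trans y₄ y₃ y₂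
  have hnD : FlatCA.IsEtaleNhd D D₄ y y₄ :=
    isEtaleNhd_trans y y₂ y₄ hD (isEtaleNhd_trans y₂ y₃ y₄ (isEtaleNhd_bc hn₃ y₂ y₃) hd₄)
  let iso : N₄ ≃ₗ[D₄] D₄ ⊗[D] T :=
    (TensorProduct.AlgebraTensorModule.cancelBaseChange D₂ T₃ D₄ D₄ (D₂ ⊗[D] T)).trans
      (TensorProduct.AlgebraTensorModule.cancelBaseChange D D₂ D₄ D₄ T)
  exact ⟨R₄, inferInstance, aRR₄, p₄, inferInstance, D₄, inferInstance, inferInstance, aDD₄, aRD₄, tRR₄D₄, tRDD₄,
    y₄, inferInstance, inferInstance, hnR, hnD, hgi, Or.inr (hasCDA_congr ⟨𝒟₄, ⟨𝒜₄⟩⟩ iso.symm)⟩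

/-- Local dimensions bounded by a number are numbers. -/
theorem exists_nat_localDim {X : Type*} [TopologicalSpace X] (x : X) (n : ℕ)
    (h : FlatMor.localDim X x < (n : WithBot ℕ∞)) : ∃ m : ℕ, FlatMor.localDim X x = m ∧ m < n := by
  obtain ⟨U, hU⟩ := TopDimLib.exists_localDim_eq x
  rw [← hU] at h ⊢
  haveI : Nonempty (TopologicalSpace.IrreducibleCloseds (U.1 : Set X)) :=
    ⟨⟨closure {⟨x, U.2⟩}, isIrreducible_singleton.closure, isClosed_closure⟩⟩
  have hb : topologicalKrullDim (U.1 : Set X) ≠ ⊥ := Order.krullDim_ne_bot_iff.2 inferInstance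
  obtain ⟨v, hv⟩ := WithBot.ne_bot_iff_exists.1 hb
  rw [← hv] at h ⊢
  have hv' : v < (n : ℕ∞) := WithBot.coe_lt_coe.1 h
  obtain ⟨m, rfl⟩ := ENat.ne_top_iff_exists.1 (ne_top_of_lt hv')
  exact ⟨m, rfl, by exact_mod_cast hv'⟩

/-- Complete dévissages exist after étale localization, by induction on the local dimension. -/
theorem exists_completeDevissage (n : ℕ) :
    ∀ {R S : Type u} [CommRing R] [CommRing S] [Algebra R S] [Algebra.FiniteType R S]
      (N : Type u) [AddCommGroup N] [Module S N] [Module R N] [IsScalarTower R S N] [Module.Finite S N]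
      (p : Ideal R) [p.IsPrime] (q : Ideal S) [q.IsPrime] [q.LiesOver p]
      (x : PrimeSpectrum (p.Fiber S)) (_ : x.asIdeal = FlatCA.fiberIdeal p q)
      (hx : x ∈ Module.support (p.Fiber S) (FlatCA.fiberMod p S N))
      (_ : FlatMor.localDim (Module.support (p.Fiber S) (FlatCA.fiberMod p S N)) ⟨x, hx⟩ = n),
    ∃ (R' S' : Type u) (_ : CommRing R') (_ : CommRing S') (_ : Algebra R R') (_ : Algebra S S') (_ : Algebra R' S')
      (_ : Algebra R S') (_ : IsScalarTower R R' S') (_ : IsScalarTower R S S')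
      (p' : Ideal R') (q' : Ideal S') (_ : p'.IsPrime) (_ : q'.IsPrime),
      FlatCA.IsEtaleNhd R R' p p' ∧ FlatCA.IsEtaleNhd S S' q q' ∧ q'.LiesOver p' ∧
      FlatCA.HasCompleteDevissageAt R' S' (S' ⊗[S] N) p' q' := by
  induction n using Nat.strong_induction_on with
  | _ n ih =>
    intro R S _ _ _ _ N _ _ _ _ _ p _ q _ _ x hxq hx hn
    obtain ⟨R₁, S₁, _, _, _, _, _, _, _, _, p₁, q₁, _, _, hR₁, hS₁, hq₁, H, A, hAd, hdrop⟩ :=
      exists_first N p q n x hxq hx hn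
    haveI := H.smooth
    haveI := H.finiteG
    haveI := H.finiteDC
    haveI : Module.Finite H.D H.G := Module.Finite.trans H.C H.G
    let T := H.G ⧸ LinearMap.range H.α
    have key : GlueData p₁ A.y T := by
      by_cases hy : (⟨A.y, A.hy⟩ : PrimeSpectrum H.D) ∈ Module.support H.D T
      swap
      · exact glueData_of_notMem_support p₁ A.y H.geomIrred T hy
      have hmem : (⟨A.y, A.hy⟩ : PrimeSpectrum H.D) ∈ fibreSupp p₁ T := ⟨A.yOver.over.symm, hy⟩
      have hlt : FlatMor.localDim (fibreSupp p₁ T) ⟨⟨A.y, A.hy⟩, hmem⟩ < (n : WithBot ℕ∞) :=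
        (TopDimLib.localDim_le _).trans_lt (supportDim_eq_topDim (B := H.D) p₁ T ▸ hdrop)
      obtain ⟨m, hm, hmn⟩ := exists_nat_localDim _ n hlt
      obtain ⟨x', hx', hxy', hd'⟩ := (locDim_iff p₁ T A.y m).2 ⟨hmem, hm⟩
      obtain ⟨R₂, D₂, _, _, _, _, _, _, _, _, p₂, y₂, _, _, hR₂, hD₂, hy₂, hcd⟩ := ih m hmn T p₁ A.y x' hxy' hx' hd'
      haveI := hy₂
      exact glueData_of_cda p₁ A.y A.d A.relDim A.pureTrans T p₂ y₂ hR₂ hD₂ hcd
    obtain ⟨R₄, _, _, p₄, _, D₄, _, _, _, _, _, _, y₄, _, _, hR₄, hD₄, hgi, hT⟩ := key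
    obtain ⟨S₄, _, _, _, _, _, _, q₄, _, hS₄, hq₄, hcd⟩ := exists_glue H A p₄ hR₄ y₄ hD₄ hgi hT
    letI aRR₄ : Algebra R R₄ := Algebra.compHom R₄ (algebraMap R R₁)
    haveI : IsScalarTower R R₁ R₄ := IsScalarTower.of_algebraMap_eq fun _ => rfl
    letI aSS₄ : Algebra S S₄ := Algebra.compHom S₄ (algebraMap S S₁)
    haveI : IsScalarTower S S₁ S₄ := IsScalarTower.of_algebraMap_eq fun _ => rfl
    letI aRS₄ : Algebra R S₄ := Algebra.compHom S₄ (algebraMap R S)
    haveI tRSS₄ : IsScalarTower R S S₄ := IsScalarTower.of_algebraMap_eq fun _ => rfl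
    haveI tRR₄S₄ : IsScalarTower R R₄ S₄ := IsScalarTower.of_algebraMap_eq fun r => by
      rw [IsScalarTower.algebraMap_apply R S S₄, IsScalarTower.algebraMap_apply S S₁ S₄,
        ← IsScalarTower.algebraMap_apply R S S₁, IsScalarTower.algebraMap_apply R R₁ S₁,
        ← IsScalarTower.algebraMap_apply R₁ S₁ S₄, IsScalarTower.algebraMap_apply R R₁ R₄,
        ← IsScalarTower.algebraMap_apply R₁ R₄ S₄]
    exact ⟨R₄, S₄, inferInstance, inferInstance, aRR₄, aSS₄, inferInstance, aRS₄, tRR₄S₄, tRSS₄, p₄, q₄,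
      inferInstance, inferInstance, isEtaleNhd_trans p p₁ p₄ hR₁ hR₄, isEtaleNhd_trans q q₁ q₄ hS₁ hS₄, hq₄,
      hasCDA_congr hcd (TensorProduct.AlgebraTensorModule.cancelBaseChange S S₁ S₄ S₄ N).symm⟩

/-- Local dimensions in the fibres of finite type algebras are numbers. -/
theorem exists_nat_localDim_fiber {R S : Type u} [CommRing R] [CommRing S] [Algebra R S] [Algebra.FiniteType R S]
    (p : Ideal R) [p.IsPrime] (N : Type u) [AddCommGroup N] [Module S N] (x : PrimeSpectrum (p.Fiber S))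
    (hx : x ∈ Module.support (p.Fiber S) (FlatCA.fiberMod p S N)) :
    ∃ m : ℕ, FlatMor.localDim (Module.support (p.Fiber S) (FlatCA.fiberMod p S N)) ⟨x, hx⟩ = m := by
  obtain ⟨k, φ, hφ⟩ := Algebra.FiniteType.iff_quotient_mvPolynomial''.1
    (inferInstance : Algebra.FiniteType p.ResidueField (p.Fiber S))
  have h : FlatMor.localDim (Module.support (p.Fiber S) (FlatCA.fiberMod p S N)) ⟨x, hx⟩ < ((k + 1 : ℕ) : WithBot ℕ∞) := by
    refine lt_of_le_of_lt ((TopDimLib.localDim_le _).trans ((topologicalKrullDim_subspace_le _ _).trans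
      (le_of_eq_of_le (PrimeSpectrum.topologicalKrullDim_eq_ringKrullDim _) (ringKrullDim_le_of_surjective φ.toRingHom hφ)))) ?_
    rw [MvPolynomial.ringKrullDim_of_isNoetherianRing, ringKrullDim_eq_zero_of_field, zero_add]
    simp only [Nat.card_fin]
    exact_mod_cast Nat.lt_succ_self k
  obtain ⟨m, hm, -⟩ := exists_nat_localDim _ _ h
  exact ⟨m, hm⟩

end Groth.Agent.Dev4
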