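import Groth.Prelude.Def_FlatCA
import Groth.Agent.Lib.FlatH4.FlatComp

/-!
# Flatness at points, transferred along flat and formally unramified maps
-/

set_option autoImplicit false

universe u

open TensorProduct

set_option backward.isDefEq.respectTransparency.types false

namespace Groth.Agent.Dev4

/-- Localised modules as tensor products. -/
theorem exists_localizedEquiv {S : Type u} [CommRing S] (T : Submonoid S) (A : Type u) [CommRing A] [Algebra S A]
    [IsLocalization T A] (N : Type u) [AddCommGroup N] [Module S N] :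
    Nonempty (LocalizedModule T N ≃ₗ[S] A ⊗[S] N) := by
  haveI : IsLocalizedModule T (TensorProduct.mk S A N 1) :=
    (isLocalizedModule_iff_isBaseChange T A _).2 (TensorProduct.isBaseChange S N A)
  exact ⟨IsLocalizedModule.iso T (TensorProduct.mk S A N 1)⟩

/-- Flatness at a point is inherited along flat maps. -/
theorem flatAt_of_flat_map {R S C : Type u} [CommRing R] [CommRing S] [CommRing C] [Algebra R S] [Algebra S C]
    [Algebra R C] [IsScalarTower R S C] [Module.Flat S C] (N : Type u) [AddCommGroup N] [Module S N] [Module R N]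
    [IsScalarTower R S N] (q : Ideal S) [q.IsPrime] (q' : Ideal C) [q'.IsPrime] [hq : q'.LiesOver q]
    (h : FlatCA.FlatAt R q N) : FlatCA.FlatAt R q' (C ⊗[S] N) := by
  let Sq := Localization.AtPrime q
  let Cq := Localization.AtPrime q'
  letI : Algebra Sq Cq := (Localization.localRingHom q q' (algebraMap S C) hq.over).toAlgebra
  haveI : IsScalarTower S Sq Cq := IsScalarTower.of_algebraMap_eq fun s => by
    rw [RingHom.algebraMap_toAlgebra, Localization.localRingHom_to_map, ← IsScalarTower.algebraMap_apply]
  haveI : IsScalarTower R Sq Cq := IsScalarTower.of_algebraMap_eq fun r => by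
    rw [IsScalarTower.algebraMap_apply R S Sq, ← IsScalarTower.algebraMap_apply S Sq Cq, ← IsScalarTower.algebraMap_apply R S Cq]
  haveI : Module.Flat C Cq := IsLocalization.flat Cq q'.primeCompl
  haveI : Module.Flat S Cq := Module.Flat.trans S C Cq
  haveI : Algebra.FormallyUnramified S Sq := .of_isLocalization q.primeCompl
  haveI : Algebra.EssFiniteType S Sq := .of_isLocalization Sq q.primeCompl
  haveI : Module.Flat Sq Cq := Algebra.FormallyUnramified.flat_of_restrictScalars S Sq Cq
  obtain ⟨e₁⟩ := exists_localizedEquiv q.primeCompl Sq N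
  haveI : Module.Flat R (Sq ⊗[S] N) :=
    haveI : Module.Flat R (LocalizedModule q.primeCompl N) := h
    Module.Flat.of_linearEquiv (M := LocalizedModule q.primeCompl N) (e₁.restrictScalars R).symm
  haveI : Module.Flat R (Cq ⊗[Sq] (Sq ⊗[S] N)) := FlatH4.flat_tensor_of_flat
  obtain ⟨e₂⟩ := exists_localizedEquiv q'.primeCompl Cq (C ⊗[S] N)
  let e₃ : Cq ⊗[Sq] (Sq ⊗[S] N) ≃ₗ[Cq] Cq ⊗[S] N := AlgebraTensorModule.cancelBaseChange S Sq Cq Cq N
  let e₄ : Cq ⊗[C] (C ⊗[S] N) ≃ₗ[Cq] Cq ⊗[S] N := AlgebraTensorModule.cancelBaseChange S C Cq Cq N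
  exact Module.Flat.of_linearEquiv (M := Cq ⊗[Sq] (Sq ⊗[S] N))
    ((e₂.restrictScalars R).trans ((e₄.trans e₃.symm).restrictScalars R))

/-- Flatness over the base passes to a formally unramified base extension. -/
theorem flatAt_of_unramified {R L C : Type u} [CommRing R] [CommRing L] [CommRing C] [Algebra R L]
    [Algebra.FormallyUnramified R L] [Algebra.EssFiniteType R L] [Algebra L C] [Algebra R C] [IsScalarTower R L C]
    (M : Type u) [AddCommGroup M] [Module C M] [Module L M] [Module R M] [IsScalarTower L C M] [IsScalarTower R C M]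
    [IsScalarTower R L M] (q : Ideal C) [q.IsPrime] (h : FlatCA.FlatAt R q M) : FlatCA.FlatAt L q M := by
  haveI : Module.Flat R (LocalizedModule q.primeCompl M) := h
  exact Algebra.FormallyUnramified.flat_of_restrictScalars R L (LocalizedModule q.primeCompl M)

end Groth.Agent.Dev4
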