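import Groth.Agent.S1253
import Groth.Agent.Lib.Dev4.Construct
import Groth.Agent.Lib.Dev4.FlatAtTransfer

/-!
# Flat modules become free after étale localization
-/

set_option autoImplicit false

universe u

open TensorProduct IsLocalRing

set_option backward.isDefEq.respectTransparency.types false

attribute [local instance] Algebra.TensorProduct.rightAlgebra

namespace Groth.Agent.Dev4

/-- The point of the fibre given by a prime is the extended ideal. -/
theorem eq_fiberIdeal {R S : Type u} [CommRing R] [CommRing S] [Algebra R S] (p : Ideal R) [p.IsPrime] (q : Ideal S)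
    (x : PrimeSpectrum (p.Fiber S)) (hx : x.asIdeal.comap (algebraMap S (p.Fiber S)) = q) :
    x.asIdeal = FlatCA.fiberIdeal p q := by
  refine le_antisymm (fun w hw => ?_) (Ideal.map_le_iff_le_comap.2 hx.ge)
  obtain ⟨t, ht, d, hd⟩ := Ideal.Fiber.exists_smul_eq_one_tmul p w
  have hd' : algebraMap R (p.Fiber S) t * w = algebraMap S (p.Fiber S) d := by rw [← Algebra.smul_def]; exact hd
  have hu : IsUnit (algebraMap R (p.Fiber S) t) := by
    rw [IsScalarTower.algebraMap_apply R p.ResidueField (p.Fiber S)]
    exact (isUnit_iff_ne_zero.2 fun h => ht (Ideal.algebraMap_residueField_eq_zero.1 h)).map _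
  refine (Ideal.unit_mul_mem_iff_mem _ hu).1 (hd' ▸ Ideal.mem_map_of_mem _ ?_)
  have : algebraMap S (p.Fiber S) d ∈ x.asIdeal := hd' ▸ x.asIdeal.mul_mem_left _ hw
  exact (SetLike.ext_iff.1 hx d).1 this

/-- A point of the support gives a point of the fibre support. -/
theorem exists_fibre_support_point {R S : Type u} [CommRing R] [CommRing S] [Algebra R S]
    (N : Type u) [AddCommGroup N] [Module S N] [Module R N] [IsScalarTower R S N] [Module.Finite S N]
    (p : Ideal R) [p.IsPrime] (q : Ideal S) [q.IsPrime] [q.LiesOver p]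
    (hq : (⟨q, ‹_›⟩ : PrimeSpectrum S) ∈ Module.support S N) :
    ∃ x ∈ Module.support (p.Fiber S) (FlatCA.fiberMod p S N), x.asIdeal = FlatCA.fiberIdeal p q := by
  obtain ⟨x, hx⟩ := RG4.exists_fiber_point p q
  refine ⟨x, (FlatPur25.mem_support_baseChange_iff (B := S) (C := p.Fiber S) (M := N) x).2 ?_, eq_fiberIdeal p q x hx⟩
  rwa [show PrimeSpectrum.comap (algebraMap S (p.Fiber S)) x = ⟨q, ‹_›⟩ from PrimeSpectrum.ext hx]

/-- Residue fields do not change at the closed point of a local ring. -/
theorem bijective_residue_atPrime {R : Type u} [CommRing R] (p : Ideal R) [p.IsPrime]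
    [h : (maximalIdeal (Localization.AtPrime p)).LiesOver p] :
    Function.Bijective (Ideal.ResidueField.mapₐ p (maximalIdeal (Localization.AtPrime p))
      (Algebra.ofId R (Localization.AtPrime p)) h.over) :=
  (RingHom.surjectiveOnStalks_of_isLocalization p.primeCompl (Localization.AtPrime p)).residueFieldMap_bijective
    p (maximalIdeal (Localization.AtPrime p)) h.over

/-- Restricting scalars by hand changes nothing. -/
theorem free_restrictScalars {L C X : Type u} [CommRing L] [CommRing C] [Algebra L C] [AddCommMonoid X] [Module C X]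
    [Module L X] [IsScalarTower L C X] [Module.Free L X] : Module.Free L (RestrictScalars L C X) :=
  Module.Free.of_equiv
    { toFun := (RestrictScalars.addEquiv L C X).symm
      invFun := RestrictScalars.addEquiv L C X
      left_inv := fun x => AddEquiv.apply_symm_apply _ x
      right_inv := fun x => AddEquiv.symm_apply_apply _ x
      map_add' := map_add _
      map_smul' := fun l x => (RestrictScalars.addEquiv L C X).injective (by
        rw [RingHom.id_apply, RestrictScalars.addEquiv_map_smul, AddEquiv.apply_symm_apply, AddEquiv.apply_symm_apply,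
          algebraMap_smul]) }

/-- Composite residue field maps. -/
theorem bijective_residue_comp {A B C : Type u} [CommRing A] [CommRing B] [CommRing C] [Algebra A B] [Algebra B C]
    [Algebra A C] [IsScalarTower A B C] (a : Ideal A) [a.IsPrime] (b : Ideal B) [b.IsPrime] (c : Ideal C) [c.IsPrime]
    [hb : b.LiesOver a] [hc : c.LiesOver b] [hac : c.LiesOver a]
    (h₁ : Function.Bijective (Ideal.ResidueField.mapₐ a b (Algebra.ofId A B) hb.over))
    (h₂ : Function.Bijective (Ideal.ResidueField.map b c (algebraMap B C) hc.over)) :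
    Function.Bijective (Ideal.ResidueField.mapₐ a c (Algebra.ofId A C) hac.over) := by
  have hcomp := Ideal.ResidueField.ringHom_ext (I := a)
    (f := (Ideal.ResidueField.mapₐ a c (Algebra.ofId A C) hac.over).toRingHom)
    (g := (Ideal.ResidueField.map b c (algebraMap B C) hc.over).comp
      (Ideal.ResidueField.mapₐ a b (Algebra.ofId A B) hb.over).toRingHom) (RingHom.ext fun s => by
    show Ideal.ResidueField.mapₐ a c (Algebra.ofId A C) _ (algebraMap A a.ResidueField s) =
      Ideal.ResidueField.map b c (algebraMap B C) _ (Ideal.ResidueField.mapₐ a b (Algebra.ofId A B) _ (algebraMap A a.ResidueField s))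
    rw [AlgHom.commutes, AlgHom.commutes, IsScalarTower.algebraMap_apply A B b.ResidueField,
      Ideal.ResidueField.map_algebraMap, ← IsScalarTower.algebraMap_apply A B C,
      ← IsScalarTower.algebraMap_apply A C c.ResidueField])
  have : ⇑(Ideal.ResidueField.mapₐ a c (Algebra.ofId A C) hac.over) =
      (Ideal.ResidueField.map b c (algebraMap B C) hc.over) ∘ (Ideal.ResidueField.mapₐ a b (Algebra.ofId A B) hb.over) :=
    funext fun z => DFunLike.congr_fun hcomp z
  rw [this]
  exact h₂.comp h₁

/-- Base change of dévissages at points, for the tensor product. -/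
theorem hasCDA_tensor {R S : Type u} [CommRing R] [CommRing S] [Algebra R S] {N : Type u} [AddCommGroup N] [Module S N]
    {p : Ideal R} [p.IsPrime] {q : Ideal S} [q.IsPrime] (hcd : FlatCA.HasCompleteDevissageAt R S N p q)
    (R' : Type u) [CommRing R'] [Algebra R R'] (p' : Ideal R') [p'.IsPrime] [hp' : p'.LiesOver p]
    (hκ : Function.Bijective (Ideal.ResidueField.mapₐ p p' (Algebra.ofId R R') hp'.over))
    (S' : Type u) [CommRing S'] [Algebra R' S'] [Algebra R S'] [Algebra S S'] [IsScalarTower R R' S']
    [IsScalarTower R S S'] [Algebra.IsPushout R R' S S'] (q' : Ideal S') [q'.IsPrime] [q'.LiesOver q] [q'.LiesOver p'] :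
    FlatCA.HasCompleteDevissageAt R' S' (S' ⊗[S] N) p' q' := by
  obtain ⟨𝒟, ⟨𝒜⟩⟩ := hcd
  exact hasCDA_bc (𝒟.n - 1) 𝒟 (Nat.succ_pred_eq_of_pos 𝒟.pos).symm 𝒜 R' p' hκ S' (TensorProduct.mk S S' N 1)
    (TensorProduct.isBaseChange S N S') q'

section

variable {R S : Type u} [CommRing R] [CommRing S] [Algebra R S]

/-- Étaleness of a map to the base changed piece. -/
theorem etale_of_local_pieces {R' S' L SA C : Type u} [CommRing R'] [CommRing S'] [CommRing L] [CommRing SA] [CommRing C]
    [Algebra R R'] [Algebra.Etale R R'] [Algebra S S'] [Algebra.Etale S S'] [Algebra R' S']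
    (T : Submonoid R') [Algebra R' L] [IsLocalization T L] [Algebra R L] [IsScalarTower R R' L]
    [Algebra R SA] [Algebra S SA] [Algebra L SA] [IsScalarTower R S SA] [IsScalarTower R L SA] [Algebra.IsPushout R S L SA]
    [Algebra R' C] [Algebra S' C] [Algebra L C] [IsScalarTower R' S' C] [IsScalarTower R' L C] [Algebra.IsPushout R' S' L C]
    [Algebra S C] [IsScalarTower S S' C] [Algebra SA C] [IsScalarTower S SA C] [IsScalarTower L SA C]
    [Algebra.FinitePresentation L C] [Algebra.FinitePresentation R S] : Algebra.Etale SA C := by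
  haveI : Algebra.FormallyEtale R' L := .of_isLocalization T
  haveI : Algebra.FormallyEtale R L := Algebra.FormallyEtale.comp R R' L
  haveI : Algebra.FormallyEtale S SA := Algebra.FormallyEtale.of_equiv (Algebra.IsPushout.equiv R S L SA)
  haveI : Algebra.FormallyEtale S' C := Algebra.FormallyEtale.of_equiv (Algebra.IsPushout.equiv R' S' L C)
  haveI : Algebra.FormallyEtale S C := Algebra.FormallyEtale.comp S S' C
  haveI : Algebra.FormallyEtale SA C := Algebra.FormallyEtale.of_restrictScalars (R := S)
  haveI : Algebra.IsPushout R L S SA := Algebra.IsPushout.symm inferInstance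
  haveI : Algebra.FiniteType L SA := Algebra.FiniteType.equiv (inferInstance : Algebra.FiniteType L (L ⊗[R] S))
    (Algebra.IsPushout.equiv R L S SA)
  haveI : Algebra.FinitePresentation SA C := Algebra.FinitePresentation.of_restrict_scalars_finitePresentation L SA C
  exact { }

variable [Algebra.FinitePresentation R S]

/-- Away from the support. -/
theorem exists_free_local_of_notMem (N : Type u) [AddCommGroup N] [Module S N] [Module.Finite S N]
    (p : Ideal R) [p.IsPrime] (q : Ideal S) [q.IsPrime] [q.LiesOver p]
    (hq : (⟨q, ‹_›⟩ : PrimeSpectrum S) ∉ Module.support S N)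
    (SA NA : Type u) [CommRing SA] [Algebra R SA] [Algebra S SA] [Algebra (Localization.AtPrime p) SA]
    [IsScalarTower R S SA] [IsScalarTower R (Localization.AtPrime p) SA]
    [Algebra.IsPushout R S (Localization.AtPrime p) SA]
    [AddCommGroup NA] [Module SA NA] [Module S NA] [IsScalarTower S SA NA]
    (f : N →ₗ[S] NA) (hf : IsBaseChange SA f) :
    ∃ (C : Type u) (_ : CommRing C) (_ : Algebra SA C) (_ : Algebra (Localization.AtPrime p) C)
      (_ : IsScalarTower (Localization.AtPrime p) SA C) (_ : Algebra S C) (_ : IsScalarTower S SA C)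
      (x' : Ideal C) (_ : x'.IsPrime) (hx : x'.LiesOver q),
      x'.LiesOver (maximalIdeal (Localization.AtPrime p)) ∧
      Algebra.Etale SA C ∧ Algebra.FinitePresentation (Localization.AtPrime p) C ∧
      Function.Bijective (Ideal.ResidueField.mapₐ q x' (Algebra.ofId S C) hx.over) ∧
      Module.FinitePresentation C (C ⊗[SA] NA) ∧
      Module.Free (Localization.AtPrime p) (RestrictScalars (Localization.AtPrime p) C (C ⊗[SA] NA)) := by
  rw [Module.mem_support_iff_of_finite] at hq
  obtain ⟨g, hg, hgq⟩ := SetLike.not_le_iff_exists.1 hq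
  let L := Localization.AtPrime p
  haveI hm : (maximalIdeal L).LiesOver p := ⟨(Localization.AtPrime.comap_maximalIdeal (I := p)).symm⟩
  haveI : Algebra.IsPushout R L S SA := Algebra.IsPushout.symm inferInstance
  obtain ⟨Q, hQ, hQm, hQq⟩ := exists_prime_over (R' := L) (B := S) (B' := SA) (bijective_residue_atPrime p) q
  haveI := hQm
  haveI := hQq
  have hgQ : algebraMap S SA g ∉ Q := fun h => hgq ((Ideal.mem_of_liesOver Q q g).2 h)
  let C := Localization.Away (algebraMap S SA g)
  have hdis : Disjoint (Submonoid.powers (algebraMap S SA g) : Set SA) (Q : Set SA) :=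
    (Ideal.disjoint_powers_iff_notMem_of_isPrime _).2 hgQ
  let x' : Ideal C := Q.map (algebraMap SA C)
  haveI : x'.IsPrime := IsLocalization.isPrime_of_isPrime_disjoint (Submonoid.powers _) _ _ hQ hdis
  haveI hxQ : x'.LiesOver Q := ⟨(IsLocalization.under_map_of_isPrime_disjoint (Submonoid.powers _) _ hQ hdis).symm⟩
  haveI hxq : x'.LiesOver q := Ideal.LiesOver.trans x' Q q
  haveI hxm : x'.LiesOver (maximalIdeal L) := Ideal.LiesOver.trans x' Q (maximalIdeal L)
  haveI : Algebra.FinitePresentation L SA := Algebra.FinitePresentation.equiv (Algebra.IsPushout.equiv R L S SA)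
  haveI : Algebra.FinitePresentation SA C := IsLocalization.Away.finitePresentation (algebraMap S SA g)
  haveI : Algebra.FinitePresentation L C := Algebra.FinitePresentation.trans L SA C
  haveI : Subsingleton (C ⊗[SA] NA) := by
    refine subsingleton_of_forall_eq 0 fun z => ?_
    induction z using TensorProduct.induction_on with
    | zero => rfl
    | tmul c t =>
      obtain ⟨v, hv⟩ : IsUnit (algebraMap SA C (algebraMap S SA g)) := IsLocalization.Away.algebraMap_isUnit _
      have hgt : algebraMap S SA g • t = 0 := by
        rw [algebraMap_smul]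
        induction t using hf.inductionOn with
        | zero => rw [smul_zero]
        | tmul n => rw [← map_smul, Module.mem_annihilator.1 hg n, map_zero]
        | smul s n hn => rw [smul_comm, hn, smul_zero]
        | add a b ha hb => rw [smul_add, ha, hb, add_zero]
      have : c = algebraMap S SA g • (c * ((v⁻¹ : Cˣ) : C)) := by
        rw [Algebra.smul_def, ← hv, mul_left_comm, Units.mul_inv, mul_one]
      rw [this, TensorProduct.smul_tmul, hgt, TensorProduct.tmul_zero]
    | add a c ha hc => rw [ha, hc, add_zero]
  haveI : Subsingleton (RestrictScalars L C (C ⊗[SA] NA)) := (RestrictScalars.addEquiv L C _).toEquiv.subsingleton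
  haveI : Module.Free C (C ⊗[SA] NA) := Module.Free.of_subsingleton C _
  refine ⟨C, inferInstance, inferInstance, inferInstance, inferInstance, inferInstance, inferInstance, x', inferInstance,
    hxq, hxm, Algebra.Etale.of_isLocalizationAway (algebraMap S SA g), inferInstance, ?_,
    Module.finitePresentation_of_projective C _, Module.Free.of_subsingleton L _⟩
  exact bijective_residue_comp q Q x'
    (bijective_residue_bc (R := R) (B := S) (bijective_residue_atPrime p) q Q)
    ((RingHom.surjectiveOnStalks_of_isLocalization (Submonoid.powers (algebraMap S SA g)) C).residueFieldMap_bijective Q x' _)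

/-- With a dévissage. -/
theorem exists_free_local_of_cda (N : Type u) [AddCommGroup N] [Module S N] [Module R N] [IsScalarTower R S N] [Module.Finite S N]
    (p : Ideal R) [p.IsPrime] (q : Ideal S) [q.IsPrime] [q.LiesOver p] (hflat : FlatCA.FlatAt R q N)
    {R' S' : Type u} [CommRing R'] [CommRing S'] [Algebra R R'] [Algebra S S'] [Algebra R' S'] [Algebra R S']
    [IsScalarTower R R' S'] [IsScalarTower R S S'] (p' : Ideal R') (q' : Ideal S') [p'.IsPrime] [q'.IsPrime]
    (hR : FlatCA.IsEtaleNhd R R' p p') (hS : FlatCA.IsEtaleNhd S S' q q') (hqp : q'.LiesOver p')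
    (hcd : FlatCA.HasCompleteDevissageAt R' S' (S' ⊗[S] N) p' q')
    (SA NA : Type u) [CommRing SA] [Algebra R SA] [Algebra S SA] [Algebra (Localization.AtPrime p') SA]
    [IsScalarTower R S SA] [IsScalarTower R (Localization.AtPrime p') SA]
    [Algebra.IsPushout R S (Localization.AtPrime p') SA]
    [AddCommGroup NA] [Module SA NA] [Module S NA] [IsScalarTower S SA NA]
    (f : N →ₗ[S] NA) (hf : IsBaseChange SA f) :
    ∃ (C : Type u) (_ : CommRing C) (_ : Algebra SA C) (_ : Algebra (Localization.AtPrime p') C)
      (_ : IsScalarTower (Localization.AtPrime p') SA C) (_ : Algebra S C) (_ : IsScalarTower S SA C)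
      (x' : Ideal C) (_ : x'.IsPrime) (hx : x'.LiesOver q),
      x'.LiesOver (maximalIdeal (Localization.AtPrime p')) ∧
      Algebra.Etale SA C ∧ Algebra.FinitePresentation (Localization.AtPrime p') C ∧
      Function.Bijective (Ideal.ResidueField.mapₐ q x' (Algebra.ofId S C) hx.over) ∧
      Module.FinitePresentation C (C ⊗[SA] NA) ∧
      Module.Free (Localization.AtPrime p') (RestrictScalars (Localization.AtPrime p') C (C ⊗[SA] NA)) := by
  obtain ⟨heR, hlR, -⟩ := id hR
  obtain ⟨heS, hlS, hκS⟩ := id hS
  haveI := heR
  haveI := hlR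
  haveI := heS
  haveI := hlS
  haveI := hqp
  let L := Localization.AtPrime p'
  haveI hm : (maximalIdeal L).LiesOver p' := ⟨(Localization.AtPrime.comap_maximalIdeal (I := p')).symm⟩
  have hκ := bijective_residue_atPrime p'
  let C := L ⊗[R'] S'
  haveI : Algebra.FinitePresentation R S' := Algebra.FinitePresentation.trans R S S'
  haveI : Algebra.FinitePresentation R' S' := Algebra.FinitePresentation.of_restrict_scalars_finitePresentation R R' S'
  haveI : Algebra.FinitePresentation L C := inferInstance
  obtain ⟨qC, hqC, hqCm, hqCq⟩ := exists_prime_over (B := S') (B' := C) hκ q'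
  haveI := hqCm
  haveI := hqCq
  letI aSC : Algebra S C := Algebra.compHom C (algebraMap S S')
  haveI tSSC : IsScalarTower S S' C := IsScalarTower.of_algebraMap_eq fun _ => rfl
  haveI tRR'C : IsScalarTower R R' C := inferInstance
  haveI tRSC : IsScalarTower R S C := IsScalarTower.of_algebraMap_eq fun r => by
    rw [IsScalarTower.algebraMap_apply S S' C, ← IsScalarTower.algebraMap_apply R S S',
      IsScalarTower.algebraMap_apply R R' S', ← IsScalarTower.algebraMap_apply R' S' C, ← IsScalarTower.algebraMap_apply R R' C]
  haveI tRLC : IsScalarTower R L C := inferInstance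
  let φ : SA →ₐ[R] C := Algebra.pushoutDesc SA (IsScalarTower.toAlgHom R S C) (IsScalarTower.toAlgHom R L C)
    fun _ _ => mul_comm _ _
  letI aSAC : Algebra SA C := φ.toRingHom.toAlgebra
  haveI tSSAC : IsScalarTower S SA C := IsScalarTower.of_algebraMap_eq fun s =>
    (Algebra.pushoutDesc_left SA (IsScalarTower.toAlgHom R S C) (IsScalarTower.toAlgHom R L C) _ s).symm
  haveI tLSAC : IsScalarTower L SA C := IsScalarTower.of_algebraMap_eq fun l =>
    (Algebra.pushoutDesc_right SA (IsScalarTower.toAlgHom R S C) (IsScalarTower.toAlgHom R L C) _ l).symm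
  haveI hpo : Algebra.IsPushout R' S' L C := Algebra.IsPushout.symm inferInstance
  haveI hpo' : Algebra.IsPushout R' L S' C := inferInstance
  haveI : Algebra.Etale SA C := etale_of_local_pieces (R := R) (S := S) (R' := R') (S' := S') (L := L) p'.primeCompl
  haveI hqCq₀ : qC.LiesOver q := Ideal.LiesOver.trans qC q' q
  have hbij : Function.Bijective (Ideal.ResidueField.mapₐ q qC (Algebra.ofId S C) hqCq₀.over) :=
    bijective_residue_comp q q' qC hκS (bijective_residue_bc (R := R') (B := S') hκ q' qC)
  let N₁ := S' ⊗[S] N
  have hcd' : FlatCA.HasCompleteDevissageAt L C (C ⊗[S'] N₁) (maximalIdeal L) qC :=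
    hasCDA_tensor hcd L (maximalIdeal L) hκ C qC
  let X := C ⊗[SA] NA
  let e₀ : C ⊗[S] N ≃ₗ[C] X :=
    ((LinearEquiv.baseChange SA C NA (SA ⊗[S] N) hf.equiv.symm).trans
      (AlgebraTensorModule.cancelBaseChange S SA C C N)).symm
  let e₁ : X ≃ₗ[C] C ⊗[S'] N₁ :=
    e₀.symm.trans (AlgebraTensorModule.cancelBaseChange S S' C C N).symm
  obtain ⟨ℰ, hℰ⟩ := hasCDA_congr (N₁ := X) hcd' e₁
  haveI : IsScalarTower L C X := inferInstance
  haveI : IsScalarTower R L X := IsScalarTower.of_algebraMap_smul fun r x => by
    rw [← algebraMap_smul C (algebraMap R L r) x, ← IsScalarTower.algebraMap_apply, algebraMap_smul]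
  haveI : Module.Finite C X := Module.Finite.equiv e₀
  haveI : Algebra.FormallyUnramified R' L := .of_isLocalization p'.primeCompl
  haveI : Algebra.FormallyUnramified R L := Algebra.FormallyUnramified.comp R R' L
  haveI : Algebra.EssFiniteType R' L := .of_isLocalization L p'.primeCompl
  haveI : Algebra.EssFiniteType R L := Algebra.EssFiniteType.comp R R' L
  haveI : Module.Flat S' C := Module.Flat.of_linearEquiv (Algebra.IsPushout.equiv R' S' L C).symm.toLinearEquiv
  haveI : Module.Flat S C := Module.Flat.trans S S' C
  haveI : Module.Flat R' L := IsLocalization.flat L p'.primeCompl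
  have hfl : FlatCA.FlatAt L qC X :=
    flatAt_of_unramified (R := R) X qC (RG4.flatAt_congr qC e₀ (flatAt_of_flat_map N q qC hflat))
  obtain ⟨hfp, hfree, -⟩ := S1253.result X qC hfl ℰ hℰ
  haveI := hfree
  exact ⟨C, inferInstance, aSAC, inferInstance, tLSAC, aSC, tSSAC, qC, hqC, hqCq₀, hqCm, inferInstance, inferInstance,
    hbij, hfp, free_restrictScalars⟩

/-- Near a point where a finite module is flat it becomes free over the local ring after étale localization. -/
theorem exists_free_local (N : Type u) [AddCommGroup N] [Module S N] [Module R N] [IsScalarTower R S N] [Module.Finite S N]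
    (p : Ideal R) [p.IsPrime] (q : Ideal S) [q.IsPrime] [q.LiesOver p] (hflat : FlatCA.FlatAt R q N) :
    ∃ (R' : Type u) (_ : CommRing R') (_ : Algebra R R') (p' : Ideal R') (_ : p'.IsPrime), FlatCA.IsEtaleNhd R R' p p' ∧
      ∀ (SA NA : Type u) [CommRing SA] [Algebra R SA] [Algebra S SA] [Algebra (Localization.AtPrime p') SA]
        [IsScalarTower R S SA] [IsScalarTower R (Localization.AtPrime p') SA]
        [Algebra.IsPushout R S (Localization.AtPrime p') SA]
        [AddCommGroup NA] [Module SA NA] [Module S NA] [IsScalarTower S SA NA]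
        (f : N →ₗ[S] NA), IsBaseChange SA f →
        ∃ (C : Type u) (_ : CommRing C) (_ : Algebra SA C) (_ : Algebra (Localization.AtPrime p') C)
          (_ : IsScalarTower (Localization.AtPrime p') SA C) (_ : Algebra S C) (_ : IsScalarTower S SA C)
          (x' : Ideal C) (_ : x'.IsPrime) (hx : x'.LiesOver q),
          x'.LiesOver (maximalIdeal (Localization.AtPrime p')) ∧
          Algebra.Etale SA C ∧ Algebra.FinitePresentation (Localization.AtPrime p') C ∧
          Function.Bijective (Ideal.ResidueField.mapₐ q x' (Algebra.ofId S C) hx.over) ∧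
          Module.FinitePresentation C (C ⊗[SA] NA) ∧
          Module.Free (Localization.AtPrime p') (RestrictScalars (Localization.AtPrime p') C (C ⊗[SA] NA)) := by
  by_cases hq : (⟨q, ‹_›⟩ : PrimeSpectrum S) ∈ Module.support S N
  swap
  · refine ⟨R, inferInstance, inferInstance, p, inferInstance,
      ⟨inferInstance, ⟨(Ideal.comap_id p).symm⟩, ?_⟩, ?_⟩
    · exact (RingHom.surjectiveOnStalks_of_surjective (fun x => ⟨x, rfl⟩ : Function.Surjective (algebraMap R R))).residueFieldMap_bijective p p _
    exact fun SA NA _ _ _ _ _ _ _ _ _ _ _ f hf => exists_free_local_of_notMem N p q hq SA NA f hf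
  obtain ⟨x, hx, hxq⟩ := exists_fibre_support_point N p q hq
  obtain ⟨n, hn⟩ := exists_nat_localDim_fiber p N x hx
  obtain ⟨R', S', _, _, _, _, _, _, _, _, p', q', _, _, hR, hS, hqp, hcd⟩ := exists_completeDevissage n N p q x hxq hx hn
  refine ⟨R', inferInstance, inferInstance, p', inferInstance, hR, ?_⟩
  exact fun SA NA _ _ _ _ _ _ _ _ _ _ _ f hf => exists_free_local_of_cda N p q hflat p' q' hR hS hqp hcd SA NA f hf

end

end Groth.Agent.Dev4
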