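import Groth.Agent.S0276
import Groth.Agent.Lib.Dev4.Free

/-!
# Descending freeness after an étale map to flatness on an open
-/

set_option autoImplicit false

universe u

open TensorProduct IsLocalRing

set_option backward.isDefEq.respectTransparency.types false

attribute [local instance] Algebra.TensorProduct.rightAlgebra

namespace Groth.Agent.Dev4

/-- Finite presentation of modules descends along faithfully flat maps. -/
theorem finitePresentation_of_faithfullyFlat {A B : Type u} [CommRing A] [CommRing B] [Algebra A B]
    [Module.FaithfullyFlat A B] (M : Type u) [AddCommGroup M] [Module A M] [Module.FinitePresentation B (B ⊗[A] M)] :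
    Module.FinitePresentation A M := by
  refine S0276.result A B (fun P _ _ => ?_) M
  have h : LinearMap.lTensor P (Algebra.linearMap A B) =
      (TensorProduct.comm A B P).toLinearMap ∘ₗ TensorProduct.mk A B P 1 ∘ₗ (TensorProduct.rid A P).toLinearMap := by
    refine TensorProduct.ext' fun x r => ?_
    simp only [LinearMap.lTensor_tmul, Algebra.linearMap_apply, LinearMap.comp_apply, LinearEquiv.coe_coe,
      TensorProduct.rid_tmul, TensorProduct.mk_apply, TensorProduct.comm_tmul, Algebra.algebraMap_eq_smul_one,
      TensorProduct.tmul_smul, TensorProduct.smul_tmul']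
  rw [h]
  exact (TensorProduct.comm A B P).injective.comp
    ((Module.FaithfullyFlat.tensorProduct_mk_injective P).comp (TensorProduct.rid A P).injective)

/-- A module that is flat and finitely presented after an étale map is so near every image point. -/
theorem exists_good_open {L A C : Type u} [CommRing L] [CommRing A] [CommRing C] [Algebra L A] [Algebra A C]
    [Algebra L C] [IsScalarTower L A C] [Algebra.Etale A C] (M : Type u) [AddCommGroup M] [Module A M] [Module L M]
    [IsScalarTower L A M] (x' : Ideal C) [x'.IsPrime] (hfl : Module.Flat L (C ⊗[A] M)) :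
    ∃ g : A, g ∉ x'.comap (algebraMap A C) ∧ Module.Flat L (LocalizedModule (Submonoid.powers g) M) ∧
      (Module.FinitePresentation C (C ⊗[A] M) →
        Module.FinitePresentation (Localization.Away g) (LocalizedModule (Submonoid.powers g) M)) := by
  have himg : IsOpen (Set.range (PrimeSpectrum.comap (algebraMap A C))) := by
    rw [← Set.image_univ]
    exact PrimeSpectrum.isOpenMap_comap_of_hasGoingDown_of_finitePresentation _ isOpen_univ
  obtain ⟨_, ⟨g, rfl⟩, hg, hgsub⟩ := PrimeSpectrum.isTopologicalBasis_basic_opens.exists_subset_of_mem_open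
    (show PrimeSpectrum.comap (algebraMap A C) ⟨x', ‹_›⟩ ∈ Set.range _ from ⟨_, rfl⟩) himg
  refine ⟨g, hg, ?_⟩
  let Ag := Localization.Away g
  let Cg := Localization.Away (algebraMap A C g)
  have hu : IsUnit (algebraMap A Cg g) := by
    rw [IsScalarTower.algebraMap_apply A C Cg]
    exact IsLocalization.Away.algebraMap_isUnit (algebraMap A C g)
  letI : Algebra Ag Cg := (IsLocalization.Away.lift g hu).toAlgebra
  haveI : IsScalarTower A Ag Cg := IsScalarTower.of_algebraMap_eq fun a => (IsLocalization.Away.lift_eq g hu a).symm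
  haveI : Algebra.FormallyUnramified A Ag := .of_isLocalization (Submonoid.powers g)
  haveI : Module.Flat C Cg := IsLocalization.flat Cg (Submonoid.powers (algebraMap A C g))
  haveI : Module.Flat A Cg := Module.Flat.trans A C Cg
  haveI : Module.Flat Ag Cg := Algebra.FormallyUnramified.flat_of_restrictScalars A Ag Cg
  haveI : Module.FaithfullyFlat Ag Cg := by
    refine Module.FaithfullyFlat.of_comap_surjective fun P => ?_
    have hgP : g ∉ (PrimeSpectrum.comap (algebraMap A Ag) P).asIdeal := fun h =>
      P.isPrime.ne_top (Ideal.eq_top_of_isUnit_mem _ h (IsLocalization.Away.algebraMap_isUnit g))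
    obtain ⟨Q, hQ⟩ := hgsub hgP
    have hgQ : algebraMap A C g ∉ Q.asIdeal := fun h =>
      hgP ((SetLike.ext_iff.1 (congrArg PrimeSpectrum.asIdeal hQ) g).1 h)
    obtain ⟨Q', hQ'⟩ : Q ∈ Set.range (PrimeSpectrum.comap (algebraMap C Cg)) := by
      rw [PrimeSpectrum.localization_away_comap_range Cg (algebraMap A C g)]; exact hgQ
    refine ⟨Q', PrimeSpectrum.localization_comap_injective Ag (Submonoid.powers g) ?_⟩
    rw [← hQ, ← hQ']
    refine PrimeSpectrum.ext ?_
    simp only [PrimeSpectrum.comap_asIdeal]
    rw [Ideal.comap_comap, ← IsScalarTower.algebraMap_eq, Ideal.comap_comap, ← IsScalarTower.algebraMap_eq]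
  let Mg := LocalizedModule (Submonoid.powers g) M
  have hb : IsBaseChange Ag (LocalizedModule.mkLinearMap (Submonoid.powers g) M) :=
    (isLocalizedModule_iff_isBaseChange (Submonoid.powers g) Ag _).1 inferInstance
  let e : Cg ⊗[Ag] Mg ≃ₗ[Cg] Cg ⊗[C] (C ⊗[A] M) :=
    (LinearEquiv.baseChange Ag Cg Mg (Ag ⊗[A] M) hb.equiv.symm).trans
      ((AlgebraTensorModule.cancelBaseChange A Ag Cg Cg M).trans
        (AlgebraTensorModule.cancelBaseChange A C Cg Cg M).symm)
  refine ⟨?_, fun hfp => ?_⟩
  · haveI := hfl
    haveI : IsScalarTower L C Cg := inferInstance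
    haveI : Module.Flat L (Cg ⊗[C] (C ⊗[A] M)) := FlatH4.flat_tensor_of_flat
    haveI : Module.Flat L (Cg ⊗[Ag] Mg) :=
      Module.Flat.of_linearEquiv (M := Cg ⊗[C] (C ⊗[A] M)) (e.restrictScalars L)
    haveI : IsScalarTower L Ag Cg := IsScalarTower.of_algebraMap_eq fun l => by
      rw [IsScalarTower.algebraMap_apply L A Ag, ← IsScalarTower.algebraMap_apply A Ag Cg, IsScalarTower.algebraMap_apply L A Cg]
    exact FlatH4.flat_of_flat_tensor (B := Ag) (C := Cg)
  · haveI := hfp
    haveI : Module.FinitePresentation Cg (Cg ⊗[Ag] Mg) := Module.FinitePresentation.of_equiv e.symm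
    exact finitePresentation_of_faithfullyFlat (A := Ag) (B := Cg) Mg

end Groth.Agent.Dev4
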