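import Groth.Prelude.Def_FlatCA
import Mathlib.RingTheory.AdicCompletion.Basic
import Mathlib.RingTheory.Filtration
import Mathlib.RingTheory.Ideal.AssociatedPrime.Basic
import Mathlib.RingTheory.TensorProduct.DirectLimitFG
import Mathlib.LinearAlgebra.TensorProduct.Quotient

/-!
# Universal injectivity of the map to the completion
-/

set_option autoImplicit false

universe u

open TensorProduct

set_option backward.isDefEq.respectTransparency.types false

namespace Groth.Agent.Dev4

variable {R S : Type u} [CommRing R] [CommRing S] [Algebra R S] [IsNoetherianRing S] (I : Ideal R)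
  (N : Type u) [AddCommGroup N] [Module S N] [Module R N] [IsScalarTower R S N] [Module.Finite S N]

/-- Universal injectivity of `N → N^` when the associated points of all `N ⊗ Q` meet the closed subscheme. -/
theorem univInj_adicCompletion_of_meet
    (h : ∀ (Q : Type u) [AddCommGroup Q] [Module R Q], Module.Finite R Q →
      ∀ q ∈ associatedPrimes S (N ⊗[R] Q), I.map (algebraMap R S) ⊔ q ≠ ⊤) :
    FlatCA.UnivInj R (AdicCompletion.of I N) := by
  classical
  intro Q _ _
  rw [injective_iff_map_eq_zero]
  intro z hz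
  obtain ⟨Q₀, hQ₀, t, rfl⟩ := TensorProduct.exists_of_fg (R := R) (M := Q) (N := N) z
  have h0 : LinearMap.rTensor (AdicCompletion I N) Q₀.subtype ((AdicCompletion.of I N).lTensor Q₀ t) = 0 := by
    rw [← LinearMap.comp_apply, LinearMap.rTensor_comp_lTensor, ← LinearMap.lTensor_comp_rTensor]
    exact hz
  obtain ⟨Q₁, hle, hQ₁, h1⟩ := TensorProduct.eq_zero_of_fg_of_subtype_eq_zero hQ₀ h0
  let t₁ := LinearMap.rTensor N (Submodule.inclusion hle) t
  have h2 : (AdicCompletion.of I N).lTensor Q₁ t₁ = 0 := by
    rw [← h1]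
    show (AdicCompletion.of I N).lTensor Q₁ (LinearMap.rTensor N (Submodule.inclusion hle) t) = _
    rw [← LinearMap.comp_apply, LinearMap.lTensor_comp_rTensor, ← LinearMap.rTensor_comp_lTensor]
    rfl
  suffices ht₁ : t₁ = 0 by
    have h3 := congrArg (LinearMap.rTensor N Q₁.subtype) ht₁
    rw [map_zero, show t₁ = LinearMap.rTensor N (Submodule.inclusion hle) t from rfl, ← LinearMap.rTensor_comp_apply,
      Submodule.subtype_comp_inclusion] at h3
    exact h3
  haveI : Module.Finite R Q₁ := Module.Finite.iff_fg.2 hQ₁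
  haveI : Module.Finite S (N ⊗[R] Q₁) := by
    obtain ⟨k, g, hg⟩ := Module.Finite.exists_fin' R Q₁
    haveI : Module.Finite S (N ⊗[R] (Fin k → R)) :=
      Module.Finite.equiv (TensorProduct.piScalarRight R S N (Fin k)).symm
    exact Module.Finite.of_surjective (AlgebraTensorModule.lTensor S N g) (LinearMap.lTensor_surjective N hg)
  let J := I.map (algebraMap R S)
  let x : N ⊗[R] Q₁ := TensorProduct.comm R Q₁ N t₁
  have hx : ∀ n : ℕ, x ∈ (J ^ n • ⊤ : Submodule S (N ⊗[R] Q₁)) := by
    intro n
    have h4 : (Submodule.mkQ (I ^ n • ⊤ : Submodule R N)).lTensor Q₁ t₁ = 0 := by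
      have : (Submodule.mkQ (I ^ n • ⊤ : Submodule R N)) = (AdicCompletion.eval I N n).comp (AdicCompletion.of I N) :=
        LinearMap.ext fun y => (AdicCompletion.eval_of I N n y).symm
      rw [this, LinearMap.lTensor_comp_apply, h2, map_zero]
    obtain ⟨w, hw⟩ := ((lTensor_exact Q₁ (LinearMap.exact_subtype_mkQ (I ^ n • ⊤ : Submodule R N))
      (Submodule.mkQ_surjective _)) t₁).1 h4
    show TensorProduct.comm R Q₁ N t₁ ∈ _
    rw [← hw]
    clear hw h4
    induction w using TensorProduct.induction_on with
    | zero => simp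
    | add a b ha hb => rw [map_add, map_add]; exact add_mem ha hb
    | tmul a y =>
      rw [LinearMap.lTensor_tmul, TensorProduct.comm_tmul, Submodule.subtype_apply]
      have hy := y.2
      generalize (y : N) = y' at hy
      induction hy using Submodule.smul_induction_on' with
      | smul r hr m _ =>
        rw [← TensorProduct.smul_tmul', ← algebraMap_smul S r (m ⊗ₜ[R] a)]
        refine Submodule.smul_mem_smul ?_ Submodule.mem_top
        rw [← Ideal.map_pow]
        exact Ideal.mem_map_of_mem _ hr
      | add u _ v _ hu hv => rw [TensorProduct.add_tmul]; exact add_mem hu hv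
  obtain ⟨r, hr⟩ := (Ideal.mem_iInf_smul_pow_eq_bot_iff J x).1 ((Submodule.mem_iInf _).2 hx)
  by_contra hne
  obtain ⟨q, hq, hqle⟩ := exists_le_isAssociatedPrime_of_isNoetherianRing (R := S) x
    fun h => hne ((LinearEquiv.map_eq_zero_iff _).1 h)
  have hmem : 1 - (r : S) ∈ q := hqle (Submodule.mem_colon_singleton.2 (by
    rw [Submodule.mem_bot, sub_smul, one_smul, hr, sub_self]))
  refine h Q₁ inferInstance q hq ((Ideal.eq_top_iff_one _).2 ?_)
  rw [show (1 : S) = (r : S) + (1 - (r : S)) by ring]
  exact add_mem (Ideal.mem_sup_left r.2) (Ideal.mem_sup_right hmem)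

end Groth.Agent.Dev4
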