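import Mathlib

/-!
# Tensor products with finite products of algebras
-/

set_option autoImplicit false

universe u

open TensorProduct

set_option backward.isDefEq.respectTransparency.types false

namespace Groth.Agent.Dev4

variable {S : Type u} [CommRing S] {ι : Type} [Finite ι] (C : ι → Type u) [∀ i, CommRing (C i)] [∀ i, Algebra S (C i)]
  (N : Type u) [AddCommGroup N] [Module S N]

/-- Tensor products commute with finite products, linearly over the product. -/
theorem exists_piTensor : ∃ g : ((∀ i, C i) ⊗[S] N) →ₗ[∀ i, C i] ∀ i, C i ⊗[S] N, Function.Bijective g ∧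
    ∀ (z : ∀ i, C i) (n : N) (i : ι), g (z ⊗ₜ n) i = z i ⊗ₜ n := by
  classical
  haveI := Fintype.ofFinite ι
  haveI : IsScalarTower S (∀ i, C i) (∀ i, C i ⊗[S] N) := IsScalarTower.of_algebraMap_smul fun s x => by
    funext i
    show algebraMap S (C i) s • x i = s • x i
    rw [algebraMap_smul]
  let b : N →ₗ[S] ∀ i, C i ⊗[S] N := LinearMap.pi fun i => TensorProduct.mk S (C i) N 1
  let g := LinearMap.liftBaseChange (∀ i, C i) b
  have hz : ∀ (z : ∀ i, C i) (n : N) (i : ι), g (z ⊗ₜ n) i = z i ⊗ₜ n := fun z n i => by
    rw [LinearMap.liftBaseChange_tmul]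
    show z i • ((1 : C i) ⊗ₜ[S] n) = _
    rw [TensorProduct.smul_tmul', smul_eq_mul, mul_one]
  refine ⟨g, ?_, hz⟩
  have : ⇑g = ⇑(TensorProduct.piLeft S N C) := by
    funext w
    induction w using TensorProduct.induction_on with
    | zero => rw [map_zero, map_zero]
    | tmul z n => funext i; rw [hz]; simp [TensorProduct.piLeft]
    | add x y hx hy => rw [map_add, map_add, hx, hy]
  rw [this]
  exact (TensorProduct.piLeft S N C).bijective

/-- A family of finitely presented modules is finitely presented over the product. -/
theorem finitePresentation_piModule {ι : Type} [Finite ι] (A : ι → Type u) [∀ i, CommRing (A i)] (M : ι → Type u)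
    [∀ i, AddCommGroup (M i)] [∀ i, Module (A i) (M i)] (h : ∀ i, Module.FinitePresentation (A i) (M i)) :
    Module.FinitePresentation (∀ i, A i) (∀ i, M i) := by
  classical
  letI m : ∀ i, Module (∀ i, A i) (M i) := fun i => Module.compHom _ (Pi.evalRingHom A i)
  haveI : ∀ i, Module.FinitePresentation (∀ i, A i) (M i) := fun i => by
    letI : Algebra (∀ i, A i) (A i) := (Pi.evalRingHom A i).toAlgebra
    haveI : IsScalarTower (∀ i, A i) (A i) (M i) := IsScalarTower.of_algebraMap_smul fun _ _ => rfl
    haveI : Module.FinitePresentation (∀ i, A i) (A i) := by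
      refine Module.finitePresentation_of_surjective (Algebra.linearMap (∀ i, A i) (A i))
        (fun c => ⟨Pi.single i c, Pi.single_eq_same i c⟩) ?_
      refine ⟨{1 - Pi.single i 1}, le_antisymm ?_ ?_⟩
      · rw [Finset.coe_singleton, Submodule.span_le, Set.singleton_subset_iff]
        show (1 - Pi.single i 1 : ∀ i, A i) i = 0
        simp
      · intro z hz
        have hz' : z i = 0 := hz
        rw [Finset.coe_singleton, Submodule.mem_span_singleton]
        refine ⟨z, funext fun j => ?_⟩
        show z j * (1 - Pi.single i 1 : ∀ i, A i) j = z j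
        rcases eq_or_ne j i with rfl | hne
        · rw [hz', zero_mul]
        · simp [hne]
    haveI := h i
    exact Module.FinitePresentation.trans (∀ i, A i) (M i) (A i)
  have hp : @Module.FinitePresentation (∀ i, A i) (∀ i, M i) _ _ (Pi.module ι M (∀ i, A i)) := inferInstance
  exact @Module.FinitePresentation.of_equiv (∀ i, A i) (∀ i, M i) (∀ i, M i) _ _ (Pi.module ι M (∀ i, A i)) _ _
    { toFun := id, invFun := id, left_inv := fun _ => rfl, right_inv := fun _ => rfl,
      map_add' := fun _ _ => rfl, map_smul' := fun _ _ => rfl } hp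

/-- Finite presentation over a product. -/
theorem finitePresentation_pi (g : ((∀ i, C i) ⊗[S] N) →ₗ[∀ i, C i] ∀ i, C i ⊗[S] N) (hg : Function.Bijective g)
    (h : ∀ i, Module.FinitePresentation (C i) (C i ⊗[S] N)) :
    Module.FinitePresentation (∀ i, C i) ((∀ i, C i) ⊗[S] N) := by
  haveI := finitePresentation_piModule C (fun i => C i ⊗[S] N) h
  exact Module.FinitePresentation.of_equiv (LinearEquiv.ofBijective g hg).symm

end Groth.Agent.Dev4
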