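import Groth.Agent.Lib.Dev4.Refine
import Groth.Agent.Lib.Dev4.PiTensor

/-!
# Freeness along a fibre after étale localization
-/

set_option autoImplicit false

universe u

open TensorProduct IsLocalRing

set_option backward.isDefEq.respectTransparency.types false

attribute [local instance] Algebra.TensorProduct.rightAlgebra

namespace Groth.Agent.Dev4

/-- Residue fields agree above as they agree with the base. -/
theorem bijective_residue_cancel {A B C : Type u} [CommRing A] [CommRing B] [CommRing C] [Algebra A B] [Algebra B C]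
    [Algebra A C] [IsScalarTower A B C] (a : Ideal A) [a.IsPrime] (b : Ideal B) [b.IsPrime] (c : Ideal C) [c.IsPrime]
    [hb : b.LiesOver a] [hc : c.LiesOver b] [hac : c.LiesOver a]
    (h₂ : Function.Bijective (Ideal.ResidueField.mapₐ a c (Algebra.ofId A C) hac.over)) :
    Function.Bijective (Ideal.ResidueField.mapₐ b c (Algebra.ofId B C) hc.over) := by
  refine ⟨RingHom.injective _, fun w => ?_⟩
  obtain ⟨v, hv⟩ := h₂.2 w
  refine ⟨Ideal.ResidueField.mapₐ a b (Algebra.ofId A B) hb.over v, ?_⟩
  rw [← hv]
  have hcomp := Ideal.ResidueField.ringHom_ext (I := a)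
    (f := (Ideal.ResidueField.mapₐ b c (Algebra.ofId B C) hc.over).toRingHom.comp
      (Ideal.ResidueField.mapₐ a b (Algebra.ofId A B) hb.over).toRingHom)
    (g := (Ideal.ResidueField.mapₐ a c (Algebra.ofId A C) hac.over).toRingHom) (RingHom.ext fun s => by
    show Ideal.ResidueField.mapₐ b c (Algebra.ofId B C) _ (Ideal.ResidueField.mapₐ a b (Algebra.ofId A B) _ (algebraMap A a.ResidueField s)) =
      Ideal.ResidueField.mapₐ a c (Algebra.ofId A C) _ (algebraMap A a.ResidueField s)
    rw [AlgHom.commutes, AlgHom.commutes, IsScalarTower.algebraMap_apply A B b.ResidueField, AlgHom.commutes,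
      IsScalarTower.algebraMap_apply B C c.ResidueField, ← IsScalarTower.algebraMap_apply A B C,
      ← IsScalarTower.algebraMap_apply A C c.ResidueField])
  exact DFunLike.congr_fun hcomp v

/-- The residue field at the closed point of the local ring of a neighbourhood. -/
theorem exists_bijective_local {R R' : Type u} [CommRing R] [CommRing R'] [Algebra R R'] {p : Ideal R} [p.IsPrime]
    {p' : Ideal R'} [p'.IsPrime] (hR : FlatCA.IsEtaleNhd R R' p p') :
    ∃ h : (maximalIdeal (Localization.AtPrime p')).LiesOver p,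
      Function.Bijective (Ideal.ResidueField.mapₐ p (maximalIdeal (Localization.AtPrime p'))
        (Algebra.ofId R (Localization.AtPrime p')) h.over) := by
  obtain ⟨-, hl, hκ⟩ := id hR
  haveI := hl
  haveI hm : (maximalIdeal (Localization.AtPrime p')).LiesOver p' :=
    ⟨(Localization.AtPrime.comap_maximalIdeal (I := p')).symm⟩
  haveI hmp : (maximalIdeal (Localization.AtPrime p')).LiesOver p := Ideal.LiesOver.trans _ p' p
  exact ⟨hmp, bijective_residue_comp p p' _ hκ (bijective_residue_atPrime p')⟩

/-- A model of the base change. -/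
theorem exists_bc_model (R S L : Type u) [CommRing R] [CommRing S] [CommRing L] [Algebra R S] [Algebra R L] :
    ∃ (SA : Type u) (_ : CommRing SA) (_ : Algebra R SA) (_ : Algebra S SA) (_ : Algebra L SA) (_ : IsScalarTower R S SA)
      (_ : IsScalarTower R L SA), Algebra.IsPushout R S L SA :=
  ⟨S ⊗[R] L, inferInstance, inferInstance, inferInstance, inferInstance, inferInstance, inferInstance, inferInstance⟩

/-- The fibre over the closed point seen in the fibre of the base. -/
theorem exists_fibre_map {R S L SA : Type u} [CommRing R] [CommRing S] [Algebra R S] [CommRing L] [Algebra R L]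
    [CommRing SA] [Algebra R SA] [Algebra S SA] [Algebra L SA] [IsScalarTower R S SA] [IsScalarTower R L SA]
    [Algebra.IsPushout R S L SA] (p : Ideal R) [p.IsPrime] (m : Ideal L) [m.IsPrime] [hm : m.LiesOver p]
    (hκ : Function.Bijective (Ideal.ResidueField.mapₐ p m (Algebra.ofId R L) hm.over)) :
    ∃ c : PrimeSpectrum (p.Fiber S) → PrimeSpectrum SA, Continuous c ∧ ∀ y, (c y).asIdeal.LiesOver m ∧
      (c y).asIdeal.comap (algebraMap S SA) = y.asIdeal.comap (algebraMap S (p.Fiber S)) := by
  haveI : Algebra.IsPushout R L S SA := Algebra.IsPushout.symm inferInstance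
  obtain ⟨φ, hφ⟩ := exists_fiberEquiv (B := S) (B' := SA) p m hκ
  refine ⟨fun y => PrimeSpectrum.comap (algebraMap SA (m.Fiber SA)) (PrimeSpectrum.comap φ.symm.toRingHom y),
    (PrimeSpectrum.continuous_comap _).comp (PrimeSpectrum.continuous_comap _), fun y => ⟨?_, ?_⟩⟩
  · obtain ⟨-, hr⟩ := isEmbedding_fiber (B := SA) m
    have : PrimeSpectrum.comap (algebraMap SA (m.Fiber SA)) (PrimeSpectrum.comap φ.symm.toRingHom y) ∈
        Set.range (PrimeSpectrum.comap (algebraMap SA (m.Fiber SA))) := ⟨_, rfl⟩
    rw [hr] at this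
    exact ⟨this.symm⟩
  · ext b
    show φ.symm (algebraMap SA (m.Fiber SA) (algebraMap S SA b)) ∈ y.asIdeal ↔ algebraMap S (p.Fiber S) b ∈ y.asIdeal
    rw [← hφ b, RingEquiv.symm_apply_apply]

variable {R S : Type u} [CommRing R] [CommRing S] [Algebra R S] [Algebra.FiniteType R S]
  (N : Type u) [AddCommGroup N] [Module S N] [Module R N] [IsScalarTower R S N] [Module.Finite S N] (p : Ideal R) [p.IsPrime]

/-- Freeness near one point of the fibre, uniformly in refinements. -/
theorem exists_local_cover (y₀ : PrimeSpectrum (p.Fiber S))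
    (hflat : ∀ (q : Ideal S) [q.IsPrime], q.LiesOver p → FlatCA.FlatAt R q N) :
    ∃ (R' : Type u) (_ : CommRing R') (_ : Algebra R R') (p' : Ideal R') (_ : p'.IsPrime)
      (W : Set (PrimeSpectrum (p.Fiber S))), FlatCA.IsEtaleNhd R R' p p' ∧ IsOpen W ∧ y₀ ∈ W ∧
      ∀ (R'' : Type u) [CommRing R''] [Algebra R R''] (p'' : Ideal R'') [p''.IsPrime] (_ : FlatCA.IsEtaleNhd R R'' p p'')
        (φ : R' →ₐ[R] R'') (_ : p''.comap φ = p')
        (SA : Type u) [CommRing SA] [Algebra R SA] [Algebra S SA] [Algebra (Localization.AtPrime p'') SA]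
        [IsScalarTower R S SA] [IsScalarTower R (Localization.AtPrime p'') SA]
        [Algebra.IsPushout R S (Localization.AtPrime p'') SA],
        ∃ (C : Type u) (_ : CommRing C) (_ : Algebra SA C) (_ : Algebra (Localization.AtPrime p'') C)
          (_ : IsScalarTower (Localization.AtPrime p'') SA C) (_ : Algebra S C) (_ : IsScalarTower S SA C),
          Algebra.Etale SA C ∧
          Module.Free (Localization.AtPrime p'') (RestrictScalars (Localization.AtPrime p'') C (C ⊗[S] N)) ∧
          (Algebra.FinitePresentation R S →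
            Algebra.FinitePresentation (Localization.AtPrime p'') C ∧ Module.FinitePresentation C (C ⊗[S] N)) ∧
          ∀ y ∈ W, ∃ x' : Ideal C, x'.IsPrime ∧ x'.comap (algebraMap S C) = y.asIdeal.comap (algebraMap S (p.Fiber S)) ∧
            x'.LiesOver (maximalIdeal (Localization.AtPrime p'')) := by
  let q := y₀.asIdeal.comap (algebraMap S (p.Fiber S))
  haveI hqp : q.LiesOver p := by
    obtain ⟨-, hr⟩ := isEmbedding_fiber (B := S) p
    have : PrimeSpectrum.comap (algebraMap S (p.Fiber S)) y₀ ∈ Set.range (PrimeSpectrum.comap (algebraMap S (p.Fiber S))) :=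
      ⟨_, rfl⟩
    rw [hr] at this
    exact ⟨this.symm⟩
  obtain ⟨R', _, _, p', _, hR, h⟩ := exists_free_point N p q (hflat q hqp)
  obtain ⟨hmp, hκm⟩ := exists_bijective_local hR
  haveI := hmp
  obtain ⟨SA₀, _, _, _, _, _, _, _⟩ := exists_bc_model R S (Localization.AtPrime p')
  haveI : Algebra.IsPushout R (Localization.AtPrime p') S SA₀ := Algebra.IsPushout.symm inferInstance
  obtain ⟨C₀, _, _, _, _, _, _, x₀, _, hx₀q, hx₀m, het, -, hfree, hfp⟩ := h SA₀
  haveI := het
  haveI := hx₀m
  have huniq : ∀ (Q₁ Q₂ : Ideal SA₀) [Q₁.IsPrime] [Q₂.IsPrime], Q₁.LiesOver (maximalIdeal (Localization.AtPrime p')) →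
      Q₂.LiesOver (maximalIdeal (Localization.AtPrime p')) →
      Q₁.comap (algebraMap S SA₀) = Q₂.comap (algebraMap S SA₀) → Q₁ = Q₂ := fun Q₁ Q₂ _ _ _ _ he =>
    prime_ext (R := R) (R' := Localization.AtPrime p') (B := S) hκm Q₁ Q₂ he
  obtain ⟨c, hc, hcy⟩ := exists_fibre_map (S := S) (SA := SA₀) p (maximalIdeal (Localization.AtPrime p')) hκm
  let V := Set.range (PrimeSpectrum.comap (algebraMap SA₀ C₀))
  have hV : IsOpen V := by
    show IsOpen (Set.range _)
    rw [← Set.image_univ]
    exact PrimeSpectrum.isOpenMap_comap_of_hasGoingDown_of_finitePresentation _ isOpen_univ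
  refine ⟨R', inferInstance, inferInstance, p', inferInstance, c ⁻¹' V, hR, hV.preimage hc, ?_, ?_⟩
  · refine ⟨⟨x₀, inferInstance⟩, ?_⟩
    haveI := (hcy y₀).1
    haveI : (x₀.comap (algebraMap SA₀ C₀)).LiesOver (maximalIdeal (Localization.AtPrime p')) := ⟨by
      show _ = (x₀.comap (algebraMap SA₀ C₀)).comap (algebraMap (Localization.AtPrime p') SA₀)
      rw [Ideal.comap_comap, ← IsScalarTower.algebraMap_eq]; exact hx₀m.over⟩
    refine PrimeSpectrum.ext (huniq (x₀.comap (algebraMap SA₀ C₀)) (c y₀).asIdeal inferInstance inferInstance ?_)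
    show (x₀.comap (algebraMap SA₀ C₀)).comap (algebraMap S SA₀) = _
    rw [(hcy y₀).2, Ideal.comap_comap, ← IsScalarTower.algebraMap_eq]
    exact hx₀q.over.symm
  intro R'' _ _ p'' _ hR'' φ hφ SA _ _ _ _ _ _ _
  obtain ⟨hmp'', hκ''⟩ := exists_bijective_local hR''
  haveI := hmp''
  letI : Algebra (Localization.AtPrime p') (Localization.AtPrime p'') :=
    (Localization.localRingHom p' p'' φ.toRingHom hφ.symm).toAlgebra
  haveI : IsScalarTower R (Localization.AtPrime p') (Localization.AtPrime p'') := IsScalarTower.of_algebraMap_eq fun r => by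
    rw [IsScalarTower.algebraMap_apply R R' (Localization.AtPrime p'), RingHom.algebraMap_toAlgebra,
      Localization.localRingHom_to_map, IsScalarTower.algebraMap_apply R R'' (Localization.AtPrime p'')]
    exact congrArg _ (φ.commutes r).symm
  haveI hmm : (maximalIdeal (Localization.AtPrime p'')).LiesOver (maximalIdeal (Localization.AtPrime p')) := by
    haveI : IsLocalHom (algebraMap (Localization.AtPrime p') (Localization.AtPrime p'')) :=
      Localization.isLocalHom_localRingHom p' p'' _ hφ.symm
    refine ⟨?_⟩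
    show maximalIdeal (Localization.AtPrime p') = (maximalIdeal (Localization.AtPrime p'')).comap (algebraMap (Localization.AtPrime p') (Localization.AtPrime p''))
    exact (IsLocalRing.maximalIdeal_comap (algebraMap (Localization.AtPrime p') (Localization.AtPrime p''))).symm
  obtain ⟨C, i1, i2, i3, i4, i5, i6, j1, j2, j3, j4⟩ := exists_moved_piece (R := R) (SA := SA₀) (SA' := SA) (C := C₀)
    (maximalIdeal (Localization.AtPrime p')) (maximalIdeal (Localization.AtPrime p''))
    (bijective_residue_cancel p (maximalIdeal (Localization.AtPrime p')) (maximalIdeal (Localization.AtPrime p'')) hκ'')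
    N hfree huniq
  refine ⟨C, i1, i2, i3, i4, i5, i6, j1, j2, fun hRS => j3 (hfp hRS).1 (hfp hRS).2, fun y hy => ?_⟩
  obtain ⟨x, hx⟩ := hy
  have hx' : x.asIdeal.comap (algebraMap SA₀ C₀) = (c y).asIdeal := congrArg PrimeSpectrum.asIdeal hx
  haveI := (hcy y).1
  haveI hxm : x.asIdeal.LiesOver (maximalIdeal (Localization.AtPrime p')) := ⟨by
    rw [Ideal.under_def, IsScalarTower.algebraMap_eq (Localization.AtPrime p') SA₀ C₀, ← Ideal.comap_comap, hx']
    exact Ideal.over_def (c y).asIdeal _⟩
  have hxS : x.asIdeal.comap (algebraMap S C₀) = y.asIdeal.comap (algebraMap S (p.Fiber S)) := by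
    rw [IsScalarTower.algebraMap_eq S SA₀ C₀, ← Ideal.comap_comap, hx', (hcy y).2]
  let qy := y.asIdeal.comap (algebraMap S (p.Fiber S))
  haveI : qy.LiesOver p := ⟨by
    show p = (y.asIdeal.comap (algebraMap S (p.Fiber S))).comap (algebraMap R S)
    rw [← (hcy y).2, Ideal.comap_comap, ← IsScalarTower.algebraMap_eq,
      IsScalarTower.algebraMap_eq R (Localization.AtPrime p') SA₀, ← Ideal.comap_comap,
      show (c y).asIdeal.comap (algebraMap (Localization.AtPrime p') SA₀) = maximalIdeal (Localization.AtPrime p') from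
        ((hcy y).1).over.symm]
    exact hmp.over⟩
  haveI : Algebra.IsPushout R (Localization.AtPrime p'') S SA := Algebra.IsPushout.symm inferInstance
  obtain ⟨Q', hQ', hQm, hQq⟩ := exists_prime_over (R := R) (R' := Localization.AtPrime p'') (B := S) (B' := SA) hκ'' qy
  obtain ⟨x', hx'1, hx'2, hx'3⟩ := j4 x.asIdeal Q' hxm hQm (hQq.over.symm.trans hxS.symm)
  exact ⟨x', hx'1, hx'2.trans hxS, hx'3⟩

/-- Freeness along the fibre after étale localization. -/
theorem exists_free_along (hflat : ∀ (q : Ideal S) [q.IsPrime], q.LiesOver p → FlatCA.FlatAt R q N) :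
    ∃ (R' : Type u) (_ : CommRing R') (_ : Algebra R R') (p' : Ideal R') (_ : p'.IsPrime), FlatCA.IsEtaleNhd R R' p p' ∧
      ∀ (SA : Type u) [CommRing SA] [Algebra R SA] [Algebra S SA] [Algebra (Localization.AtPrime p') SA]
        [IsScalarTower R S SA] [IsScalarTower R (Localization.AtPrime p') SA]
        [Algebra.IsPushout R S (Localization.AtPrime p') SA],
        ∃ (C : Type u) (_ : CommRing C) (_ : Algebra SA C) (_ : Algebra (Localization.AtPrime p') C)
          (_ : IsScalarTower (Localization.AtPrime p') SA C) (_ : Algebra S C) (_ : IsScalarTower S SA C),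
          Algebra.Etale SA C ∧
          (∀ (q : Ideal S) [q.IsPrime], q.LiesOver p → ∃ x' : Ideal C, x'.IsPrime ∧ x'.comap (algebraMap S C) = q ∧
            x'.LiesOver (maximalIdeal (Localization.AtPrime p'))) ∧
          Module.Free (Localization.AtPrime p') (RestrictScalars (Localization.AtPrime p') C (C ⊗[S] N)) ∧
          (Algebra.FinitePresentation R S →
            Algebra.FinitePresentation (Localization.AtPrime p') C ∧ Module.FinitePresentation C (C ⊗[S] N)) := by
  classical
  choose Ry iy1 iy2 py iy3 W hR hW hmem hspec using fun y => exists_local_cover N p y hflat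
  obtain ⟨t, ht⟩ := (isCompact_univ (X := PrimeSpectrum (p.Fiber S))).elim_finite_subcover W hW
    fun y _ => Set.mem_iUnion.2 ⟨y, hmem y⟩
  let e : Fin t.card ≃ {y // y ∈ t} := t.equivFin.symm
  obtain ⟨R'', _, _, p'', _, φ, hR'', hφ⟩ :=
    exists_refinement p t.card (fun i => Ry (e i).1) (fun i => py (e i).1) fun i => hR (e i).1
  refine ⟨R'', inferInstance, inferInstance, p'', inferInstance, hR'', ?_⟩
  intro SA _ _ _ _ _ _ _
  choose C iC1 iC2 iC3 iC4 iC5 iC6 het hfree hfp hcov using
    fun i => hspec (e i).1 R'' p'' hR'' (φ i) (hφ i) SA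
  refine ⟨∀ i, C i, inferInstance, inferInstance, inferInstance, inferInstance, inferInstance, inferInstance,
    inferInstance, fun q _ hq => ?_, ?_, fun hRS => ?_⟩
  · haveI := hq
    obtain ⟨y, hy⟩ := RG4.exists_fiber_point p q
    obtain ⟨z, hz, hyz⟩ := Set.mem_iUnion₂.1 (ht (Set.mem_univ y))
    obtain ⟨i, rfl⟩ : ∃ i, (e i).1 = z := ⟨e.symm ⟨z, hz⟩, by rw [Equiv.apply_symm_apply]⟩
    obtain ⟨x', hx', hxq, hxm⟩ := hcov i y hyz
    refine ⟨x'.comap (Pi.evalRingHom C i), Ideal.IsPrime.comap _, ?_, ⟨?_⟩⟩
    · rw [Ideal.comap_comap]; exact hxq.trans hy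
    · show _ = (x'.comap (Pi.evalRingHom C i)).comap _
      rw [Ideal.comap_comap]; exact hxm.over
  · haveI : ∀ i, Module.Free (Localization.AtPrime p'') (C i ⊗[S] N) := fun i =>
      haveI := hfree i
      free_of_restrictScalars (C := C i)
    obtain ⟨g, hg, -⟩ := exists_piTensor (S := S) C N
    haveI : Module.Free (Localization.AtPrime p'') ((∀ i, C i) ⊗[S] N) :=
      Module.Free.of_equiv (LinearEquiv.ofBijective (g.restrictScalars (Localization.AtPrime p'')) hg).symm
    exact free_restrictScalars
  · haveI : ∀ i, Algebra.FinitePresentation (Localization.AtPrime p'') (C i) := fun i => (hfp i hRS).1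
    refine ⟨inferInstance, ?_⟩
    obtain ⟨g, hg, hev⟩ := exists_piTensor (S := S) C N
    exact finitePresentation_pi C N g hg fun i => (hfp i hRS).2

end Groth.Agent.Dev4
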