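import Groth.Agent.Lib.Dev4.AlongFiber

/-!
# Flatness and finite presentation along a fibre
-/

set_option autoImplicit false

universe u

open TensorProduct IsLocalRing

set_option backward.isDefEq.respectTransparency.types false

attribute [local instance] Algebra.TensorProduct.rightAlgebra

namespace Groth.Agent.Dev4

/-- The étale cover of the fibre gives flatness on opens. -/
theorem exists_open_of_cover {L S SA C : Type u} [CommRing L] [CommRing S] [CommRing SA] [CommRing C] [Algebra L SA]
    [Algebra S SA] [Algebra SA C] [Algebra L C] [IsScalarTower L SA C] [Algebra S C] [IsScalarTower S SA C]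
    [Algebra.Etale SA C] {N NA : Type u} [AddCommGroup N] [Module S N] [AddCommGroup NA] [Module SA NA] [Module S NA]
    [IsScalarTower S SA NA] [Module L NA] [IsScalarTower L SA NA] (f : N →ₗ[S] NA) (hf : IsBaseChange SA f)
    (hfree : Module.Free L (RestrictScalars L C (C ⊗[S] N))) (x' : Ideal C) [x'.IsPrime] :
    ∃ g : SA, g ∉ x'.comap (algebraMap SA C) ∧ Module.Flat L (LocalizedModule (Submonoid.powers g) NA) ∧
      (Module.FinitePresentation C (C ⊗[S] N) →
        Module.FinitePresentation (Localization.Away g) (LocalizedModule (Submonoid.powers g) NA)) := by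
  haveI := hfree
  haveI : Module.Free L (C ⊗[S] N) := free_of_restrictScalars (C := C)
  let e₀ : C ⊗[SA] NA ≃ₗ[C] C ⊗[S] N :=
    (LinearEquiv.baseChange SA C NA (SA ⊗[S] N) hf.equiv.symm).trans (AlgebraTensorModule.cancelBaseChange S SA C C N)
  have hfl : Module.Flat L (C ⊗[SA] NA) := Module.Flat.of_linearEquiv (M := C ⊗[S] N) (e₀.restrictScalars L)
  obtain ⟨g, hg, h1, h2⟩ := exists_good_open NA x' hfl
  exact ⟨g, hg, h1, fun h => h2 (haveI := h; Module.FinitePresentation.of_equiv e₀.symm)⟩

/-- Flatness and finite presentation along the fibre. -/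
theorem exists_flat_along {R S : Type u} [CommRing R] [CommRing S] [Algebra R S] [Algebra.FiniteType R S]
    (N : Type u) [AddCommGroup N] [Module S N] [Module R N] [IsScalarTower R S N] [Module.Finite S N] (p : Ideal R) [p.IsPrime]
    (hflat : ∀ (q : Ideal S) [q.IsPrime], q.LiesOver p → FlatCA.FlatAt R q N) :
    ∃ (R' : Type u) (_ : CommRing R') (_ : Algebra R R') (p' : Ideal R') (_ : p'.IsPrime), FlatCA.IsEtaleNhd R R' p p' ∧
      ∀ (SA NA : Type u) [CommRing SA] [Algebra R SA] [Algebra S SA] [Algebra (Localization.AtPrime p') SA]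
        [IsScalarTower R S SA] [IsScalarTower R (Localization.AtPrime p') SA]
        [Algebra.IsPushout R S (Localization.AtPrime p') SA]
        [AddCommGroup NA] [Module SA NA] [Module S NA] [IsScalarTower S SA NA]
        [Module (Localization.AtPrime p') NA] [IsScalarTower (Localization.AtPrime p') SA NA]
        (f : N →ₗ[S] NA), IsBaseChange SA f →
        ∀ (Q : Ideal SA) [Q.IsPrime], Q.LiesOver (maximalIdeal (Localization.AtPrime p')) →
        ∃ g : SA, g ∉ Q ∧ Module.Flat (Localization.AtPrime p') (LocalizedModule (Submonoid.powers g) NA) ∧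
          (Algebra.FinitePresentation R S →
            Module.FinitePresentation (Localization.Away g) (LocalizedModule (Submonoid.powers g) NA)) := by
  obtain ⟨R', _, _, p', _, hR, h⟩ := exists_free_along N p hflat
  refine ⟨R', inferInstance, inferInstance, p', inferInstance, hR, ?_⟩
  intro SA NA _ _ _ _ _ _ _ _ _ _ _ _ _ f hf Q _ hQ
  obtain ⟨C, _, _, _, _, _, _, het, hcov, hfree, hfp⟩ := h SA
  obtain ⟨hmp, -⟩ := exists_bijective_local hR
  haveI := hmp
  haveI := hQ
  let q := Q.comap (algebraMap S SA)
  haveI : Q.LiesOver q := ⟨rfl⟩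
  haveI hqp : q.LiesOver p := ⟨by
    show p = (Q.comap (algebraMap S SA)).comap (algebraMap R S)
    rw [Ideal.comap_comap, ← IsScalarTower.algebraMap_eq, IsScalarTower.algebraMap_eq R (Localization.AtPrime p') SA,
      ← Ideal.comap_comap, show Q.comap (algebraMap (Localization.AtPrime p') SA) = _ from hQ.over.symm]
    exact hmp.over⟩
  obtain ⟨x', hx', hxq, hxm⟩ := hcov q hqp
  haveI := het
  obtain ⟨g, hg, h1, h2⟩ := exists_open_of_cover f hf hfree x'
  refine ⟨g, ?_, h1, fun hRS => h2 (hfp hRS).2⟩
  let Q₀ := x'.comap (algebraMap SA C)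
  haveI : Q₀.LiesOver q := ⟨by
    show q = (x'.comap (algebraMap SA C)).comap (algebraMap S SA)
    rw [Ideal.comap_comap, ← IsScalarTower.algebraMap_eq]; exact hxq.symm⟩
  haveI : Q₀.LiesOver (maximalIdeal (Localization.AtPrime p')) := ⟨by
    show _ = (x'.comap (algebraMap SA C)).comap (algebraMap (Localization.AtPrime p') SA)
    rw [Ideal.comap_comap, ← IsScalarTower.algebraMap_eq]; exact hxm.over⟩
  rw [eq_of_liesOver_local p hR q Q Q₀]
  exact hg

end Groth.Agent.Dev4
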