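import Groth.Prelude.Def_FlatCA
import Groth.Agent.Lib.CI2.FibAss
import Groth.Agent.Lib.FlatFibInj.Main
import Mathlib.RingTheory.Flat.Basic
import Mathlib.RingTheory.FiniteType
import Mathlib.LinearAlgebra.TensorProduct.Tower

/-!
# Universal injectivity along flat maps covering the relevant points
-/

set_option autoImplicit false

universe u

open TensorProduct

set_option backward.isDefEq.respectTransparency.types false

namespace Groth.Agent.Dev4

variable {R S S' : Type u} [CommRing R] [CommRing S] [CommRing S'] [Algebra R S] [Algebra S S'] [Algebra R S']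
  [IsScalarTower R S S'] [Module.Flat S S']

/-- An element killed by a flat extension is killed off every prime in the image. -/
theorem exists_smul_eq_zero_of_one_tmul {W : Type u} [AddCommGroup W] [Module S W] {x : W}
    (hx : (1 : S') ⊗ₜ[S] x = 0) (q' : Ideal S') [q'.IsPrime] :
    ∃ s : S, s • x = 0 ∧ algebraMap S S' s ∉ q' := by
  by_contra hc
  push Not at hc
  let t := LinearMap.toSpanSingleton S W x
  let φ : (S ⧸ LinearMap.ker t) →ₗ[S] W := (LinearMap.ker t).liftQ t le_rfl
  have hφ : Function.Injective φ := LinearMap.ker_eq_bot.1 (Submodule.ker_liftQ_eq_bot _ _ _ le_rfl)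
  have h0 : (1 : S') ⊗ₜ[S] (Submodule.Quotient.mk (1 : S) : S ⧸ LinearMap.ker t) = 0 :=
    Module.Flat.lTensor_preserves_injective_linearMap (M := S') φ hφ (by
      rw [map_zero, LinearMap.lTensor_tmul]
      show (1 : S') ⊗ₜ[S] (t 1) = 0
      rw [LinearMap.toSpanSingleton_apply, one_smul, hx])
  let Φ : (S ⧸ LinearMap.ker t) →ₗ[S] (S' →ₗ[S] S' ⧸ (q'.restrictScalars S)) :=
    (LinearMap.ker t).liftQ (LinearMap.toSpanSingleton S _ (q'.restrictScalars S).mkQ) fun s hs => by
      rw [LinearMap.mem_ker, LinearMap.toSpanSingleton_apply]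
      refine LinearMap.ext fun a => ?_
      rw [LinearMap.smul_apply, LinearMap.zero_apply, ← map_smul, Submodule.mkQ_apply, Submodule.Quotient.mk_eq_zero,
        Algebra.smul_def]
      exact Ideal.mul_mem_right _ _ (hc s (by simpa [t] using hs))
  have h1 := congrArg (TensorProduct.lift Φ.flip) h0
  rw [map_zero, TensorProduct.lift.tmul, LinearMap.flip_apply] at h1
  replace h1 : ((1 : S) • (q'.restrictScalars S).mkQ) (1 : S') = 0 := h1
  rw [one_smul, Submodule.mkQ_apply, Submodule.Quotient.mk_eq_zero] at h1
  exact (‹q'.IsPrime›).ne_top ((Ideal.eq_top_iff_one q').2 h1)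

variable (N : Type u) [AddCommGroup N] [Module S N] [Module R N] [IsScalarTower R S N]

variable (R) in
/-- Elements killed by the base change of `N → S' ⊗ N`. -/
theorem exists_smul_eq_zero_of_lTensor {Q : Type u} [AddCommGroup Q] [Module R Q] {z : Q ⊗[R] N}
    (hz : ((TensorProduct.mk S S' N 1).restrictScalars R).lTensor Q z = 0) (q' : Ideal S') [q'.IsPrime] :
    ∃ s : S, s • TensorProduct.comm R Q N z = 0 ∧ algebraMap S S' s ∉ q' := by
  refine exists_smul_eq_zero_of_one_tmul ?_ q'
  let e := AlgebraTensorModule.assoc R S S S' N Q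
  have key : ∀ w, e (TensorProduct.comm R Q (S' ⊗[S] N) (((TensorProduct.mk S S' N 1).restrictScalars R).lTensor Q w)) =
      (1 : S') ⊗ₜ[S] TensorProduct.comm R Q N w := fun w => by
    induction w using TensorProduct.induction_on with
    | zero => simp
    | add a b ha hb => simp only [map_add, TensorProduct.tmul_add, ha, hb]
    | tmul x n => simp [e]
  rw [← key, hz, map_zero, map_zero]

omit [Module.Flat S S'] in
/-- A nonzero element of the fibre lives at an associated prime. -/
theorem exists_assoc_of_ne_zero [Algebra.EssFiniteType R S] (p : Ideal R) [p.IsPrime] {w : N ⊗[R] p.ResidueField}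
    (hw : w ≠ 0) :
    ∃ q : Ideal S, q.IsPrime ∧ q.LiesOver p ∧
      FlatCA.fiberIdeal p q ∈ associatedPrimes (p.Fiber S) (FlatCA.fiberMod p S N) ∧ ∀ s : S, s • w = 0 → s ∈ q := by
  classical
  letI := (Algebra.TensorProduct.includeRight (R := R) (A := p.ResidueField) (B := S)).toRingHom.toAlgebra
  let W := (p.Fiber S) ⊗[S] N
  let θ₀ : N →ₗ[S] p.ResidueField →ₗ[R] W :=
    { toFun := fun n =>
        { toFun := fun x => (x ⊗ₜ[R] (1 : S) : p.Fiber S) ⊗ₜ[S] n
          map_add' := fun x y => by rw [TensorProduct.add_tmul, TensorProduct.add_tmul]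
          map_smul' := fun c x => by rw [RingHom.id_apply]; rfl }
      map_add' := fun n n' => LinearMap.ext fun x => TensorProduct.tmul_add _ _ _
      map_smul' := fun c n => LinearMap.ext fun x => TensorProduct.tmul_smul _ _ _ }
  let θ : N ⊗[R] p.ResidueField →ₗ[S] W := AlgebraTensorModule.lift θ₀
  have hθ : ∀ v, CI2.FibAss.psi p N (θ v) = v := fun v => by
    induction v using TensorProduct.induction_on with
    | zero => rw [map_zero]; exact map_zero _
    | add a b ha hb =>
      rw [map_add]; refine (map_add (CI2.FibAss.psi p N) _ _).trans ?_; rw [ha, hb]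
    | tmul n x =>
      show (1 : S) • (n ⊗ₜ[R] x) = n ⊗ₜ[R] x
      rw [one_smul]
  have hy : θ w ≠ 0 := fun h => hw (by
    have h1 := hθ w
    rw [h] at h1
    rw [← h1]; exact map_zero _)
  haveI : IsNoetherianRing (p.Fiber S) := Algebra.EssFiniteType.isNoetherianRing p.ResidueField (p.Fiber S)
  obtain ⟨P, hP, hle⟩ := exists_le_isAssociatedPrime_of_isNoetherianRing (R := p.Fiber S) (M := W) (θ w) hy
  haveI := hP.isPrime
  let i := CI2.FibAss.inc (S := S) p
  refine ⟨P.comap i, inferInstance, ⟨?_⟩, ?_, fun s hs => hle (Submodule.mem_colon_singleton.2 ?_)⟩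
  · ext s
    refine ⟨fun h => ?_, fun h => ?_⟩
    · show i (algebraMap R S s) ∈ P
      rw [CI2.FibAss.inc_eq_zero p h]; exact zero_mem _
    · by_contra hs
      exact hP.isPrime.ne_top (Ideal.eq_top_of_isUnit_mem _ h (CI2.FibAss.isUnit_inc p hs))
  · have heq : FlatCA.fiberIdeal p (P.comap i) = P := by
      refine le_antisymm (Ideal.map_le_iff_le_comap.2 le_rfl) fun f hf => ?_
      obtain ⟨c, hc, a, ha⟩ := CI2.FibAss.fib_frac p f
      obtain ⟨v, hv⟩ := CI2.FibAss.isUnit_inc (S := S) p hc
      have hfa : f = (↑v⁻¹ : p.Fiber S) * i a := by rw [← ha, ← hv, Units.inv_mul_cancel_left]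
      have ha' : a ∈ P.comap i := by
        show i a ∈ P
        rw [← ha]; exact P.mul_mem_left _ hf
      rw [hfa]
      exact Ideal.mul_mem_left _ _ (Ideal.mem_map_of_mem i ha')
    rw [heq]; exact hP
  · rw [Submodule.mem_bot]
    have h := congrArg θ hs
    rw [map_smul, map_zero] at h
    rw [← h]
    exact algebraMap_smul (p.Fiber S) s (θ w)

/-- Flatness of `S' ⊗ N` over the base. -/
theorem flat_tensor [Module.Flat R N] : Module.Flat R (S' ⊗[S] N) := by
  refine Module.Flat.iff_lTensor_preserves_injective_linearMap.2 fun {P P'} _ _ _ _ l hl => ?_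
  let e := AlgebraTensorModule.assoc R S S S' N P
  let e' := AlgebraTensorModule.assoc R S S S' N P'
  have key : ∀ w, e' (l.lTensor (S' ⊗[S] N) w) = (AlgebraTensorModule.lTensor S N l).lTensor S' (e w) := fun w => by
    induction w using TensorProduct.induction_on with
    | zero => simp
    | add a b ha hb => simp only [map_add, ha, hb]
    | tmul t x =>
      induction t using TensorProduct.induction_on with
      | zero => simp
      | add a b ha hb => simp only [TensorProduct.add_tmul, map_add, ha, hb]
      | tmul a n => simp [e, e']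
  intro x y hxy
  apply e.injective
  refine Module.Flat.lTensor_preserves_injective_linearMap (M := S') (AlgebraTensorModule.lTensor S N l)
    (Module.Flat.lTensor_preserves_injective_linearMap (M := N) l hl) ?_
  rw [← key, ← key, hxy]

/-- Universal injectivity of `N → S' ⊗ N` when all the fibrewise associated points are covered. -/
theorem univInj_mk_of_fibres [Algebra.FiniteType R S] [Module.Finite S N] [Module.Flat R N]
    (h : ∀ (p : Ideal R) (q : Ideal S) [p.IsPrime] [q.IsPrime] [q.LiesOver p],
      FlatCA.fiberIdeal p q ∈ associatedPrimes (p.Fiber S) (FlatCA.fiberMod p S N) →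
      ∃ q' : Ideal S', q'.IsPrime ∧ q'.comap (algebraMap S S') = q) :
    FlatCA.UnivInj R ((TensorProduct.mk S S' N 1).restrictScalars R) := by
  intro Q _ _
  haveI : IsLocalization (⊥ : Submonoid S) S := IsLocalization.self bot_le
  haveI : Module.Flat R (S' ⊗[S] N) := flat_tensor N
  refine FlatFibInj.injective_lTensor_of_fibres (B := S) (L := S) ⊥ _ (fun p _ => ?_) Q
  rw [injective_iff_map_eq_zero]
  intro z hz
  by_contra hz0
  obtain ⟨q, hq, hqp, hass, hann⟩ := exists_assoc_of_ne_zero (R := R) (S := S) N p
    (w := TensorProduct.comm R p.ResidueField N z) (fun h => hz0 ((LinearEquiv.map_eq_zero_iff _).1 h))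
  obtain ⟨q', hq', hq'q⟩ := h p q hass
  obtain ⟨s, hs, hsq⟩ := exists_smul_eq_zero_of_lTensor R N hz q'
  exact hsq (show s ∈ q'.comap (algebraMap S S') by rw [hq'q]; exact hann s hs)

end Groth.Agent.Dev4
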