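import Groth.Agent.Lib.Dev4.NoAss
import Groth.Agent.Lib.Dev4.Free
import Groth.Agent.Lib.Dev4.Covering
import Groth.Agent.Lib.Dev4.FlatAtTransfer
import Groth.Agent.Lib.CI2.FibAss
import Groth.Agent.Lib.FlatH4.FlatAt
import Groth.Agent.S1233
import Mathlib.RingTheory.LocalRing.Module
import Mathlib.RingTheory.Unramified.LocalRing

/-!
# Weakly associated points of tensor products over flat families
-/

set_option autoImplicit false
set_option maxSynthPendingDepth 3

universe u

open TensorProduct IsLocalRing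

set_option backward.isDefEq.respectTransparency.types false

attribute [local instance] Algebra.TensorProduct.rightAlgebra

namespace Groth.Agent.Dev4

/-- `z` witnesses that `q` is weakly associated. -/
def IsWk {S X : Type u} [CommRing S] [AddCommGroup X] [Module S X] (q : Ideal S) (z : X) : Prop :=
  (∀ a ∈ q, ∃ s : S, s ∉ q ∧ ∃ k : ℕ, (s * a ^ k) • z = 0) ∧ ∀ s : S, s • z = 0 → s ∈ q

theorem mem_weakAss_iff_exists {S X : Type u} [CommRing S] [AddCommGroup X] [Module S X] (q : Ideal S) [q.IsPrime] :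
    q ∈ FlatCA.weakAss S X ↔ ∃ z : X, IsWk q z := by
  constructor
  · rintro ⟨z, hz⟩
    refine ⟨z, fun a ha => ?_, fun s hs => hz.1.2 ((Submodule.mem_annihilator_span_singleton _ _).2 hs)⟩
    by_contra hc
    push Not at hc
    obtain ⟨r, hr, hIr, hdis⟩ := Ideal.exists_le_prime_disjoint (Submodule.span S {z}).annihilator
      (q.primeCompl ⊔ Submonoid.powers a) (Set.disjoint_left.2 fun x hx hxT => by
        obtain ⟨s, hs, _, ⟨k, rfl⟩, rfl⟩ := Submonoid.mem_sup.1 hxT
        exact hc s hs k ((Submodule.mem_annihilator_span_singleton _ _).1 hx))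
    have hrq : r ≤ q := fun x hx => by
      by_contra hxq
      exact Set.disjoint_left.1 hdis hx (Submonoid.mem_sup_left (S := q.primeCompl) hxq)
    exact Set.disjoint_left.1 hdis (hz.2 ⟨hr, hIr⟩ hrq ha) (Submonoid.mem_sup_right (Submonoid.mem_powers a))
  · rintro ⟨z, h1, h2⟩
    refine ⟨z, ⟨inferInstance, fun s hs => h2 s ((Submodule.mem_annihilator_span_singleton _ _).1 hs)⟩, ?_⟩
    rintro r ⟨hr, hIr⟩ hrq a ha
    obtain ⟨s, hs, k, hk⟩ := h1 a ha
    have : s * a ^ k ∈ r := hIr ((Submodule.mem_annihilator_span_singleton _ _).2 hk)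
    exact hr.mem_of_pow_mem k ((hr.mem_or_mem this).resolve_left fun h => hs (hrq h))

/-- Trimming a witness by powers of finitely many elements. -/
theorem exists_trim {S X : Type u} [CommRing S] [AddCommGroup X] [Module S X] (q : Ideal S) [q.IsPrime] {k : ℕ}
    (a : Fin k → S) (z : X) (h1 : ∀ i, ∃ s : S, s ∉ q ∧ ∃ n : ℕ, (s * a i ^ n) • z = 0)
    (h2 : ∀ s : S, s • z = 0 → s ∈ q) :
    ∃ π : S, (∀ s : S, s • π • z = 0 → s ∈ q) ∧ ∀ i, ∃ s : S, s ∉ q ∧ (s * a i) • π • z = 0 := by
  classical
  suffices H : ∀ T : Finset (Fin k), ∃ π : S, (∀ s : S, s • π • z = 0 → s ∈ q) ∧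
      ∀ i ∈ T, ∃ s : S, s ∉ q ∧ (s * a i) • π • z = 0 by
    obtain ⟨π, h, h'⟩ := H Finset.univ
    exact ⟨π, h, fun i => h' i (Finset.mem_univ i)⟩
  intro T
  induction T using Finset.induction with
  | empty => exact ⟨1, fun s hs => h2 s (by rwa [one_smul] at hs), fun i hi => (Finset.notMem_empty i hi).elim⟩
  | insert i T _ ih =>
    obtain ⟨π, hπ, hT⟩ := ih
    have hex : ∃ n : ℕ, ∃ s : S, s ∉ q ∧ (s * a i ^ n) • π • z = 0 := by
      obtain ⟨s, hs, n, hn⟩ := h1 i
      exact ⟨n, s, hs, by rw [smul_comm, hn, smul_zero]⟩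
    obtain ⟨s, hs, hsn⟩ := Nat.find_spec hex
    rcases hn : Nat.find hex with _ | n
    · rw [hn, pow_zero, mul_one] at hsn
      exact (hs (hπ s hsn)).elim
    refine ⟨a i ^ n * π, fun t ht => ?_, fun j hj => ?_⟩
    · by_contra htq
      refine Nat.find_min hex (m := n) (by omega) ⟨t, htq, ?_⟩
      rw [mul_smul] at ht ⊢
      exact ht
    · rcases Finset.mem_insert.1 hj with rfl | hj
      · refine ⟨s, hs, ?_⟩
        rw [hn] at hsn
        rw [← hsn, mul_smul (a j ^ n) π z, smul_smul, pow_succ']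
        congr 1
        ring
      · obtain ⟨t, ht, htj⟩ := hT j hj
        exact ⟨t, ht, by rw [mul_smul (a i ^ n) π z, smul_comm, htj, smul_zero]⟩

section Fibre

variable {R S : Type u} [CommRing R] [CommRing S] [Algebra R S] (p : Ideal R) [p.IsPrime]
  (N : Type u) [AddCommGroup N] [Module S N] [Module R N] [IsScalarTower R S N]

theorem exists_smul_eq_tmul_one (w : N ⊗[R] p.ResidueField) :
    ∃ c : R, c ∉ p ∧ ∃ x : N, algebraMap R S c • w = x ⊗ₜ[R] (1 : p.ResidueField) := by
  induction w using TensorProduct.induction_on with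
  | zero => exact ⟨1, fun h => ‹p.IsPrime›.ne_top ((Ideal.eq_top_iff_one p).2 h), 0, by simp⟩
  | add u v hu hv =>
    obtain ⟨c, hc, x, hx⟩ := hu
    obtain ⟨d, hd, y, hy⟩ := hv
    refine ⟨c * d, fun h => (‹p.IsPrime›.mem_or_mem h).elim hc hd, algebraMap R S d • x + algebraMap R S c • y, ?_⟩
    rw [TensorProduct.add_tmul, ← TensorProduct.smul_tmul', ← TensorProduct.smul_tmul', ← hx, ← hy, smul_add, map_mul,
      smul_smul, smul_smul, mul_comm (algebraMap R S d)]
  | tmul n ξ =>
    obtain ⟨r, s, hs, hx⟩ := IsFractionRing.div_surjective (A := R ⧸ p) ξ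
    obtain ⟨r, rfl⟩ := Ideal.Quotient.mk_surjective r
    obtain ⟨s, rfl⟩ := Ideal.Quotient.mk_surjective s
    refine ⟨s, fun h => nonZeroDivisors.ne_zero hs (Ideal.Quotient.eq_zero_iff_mem.2 h), r • n, ?_⟩
    rw [TensorProduct.smul_tmul', algebraMap_smul, TensorProduct.smul_tmul, TensorProduct.smul_tmul, ← hx,
      Algebra.smul_def, Algebra.smul_def, mul_one,
      IsScalarTower.algebraMap_apply R (R ⧸ p) p.ResidueField s, IsScalarTower.algebraMap_apply R (R ⧸ p) p.ResidueField r]
    congr 1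
    exact mul_div_cancel₀ _ fun h => nonZeroDivisors.ne_zero hs
      (IsFractionRing.injective (R ⧸ p) p.ResidueField (h.trans (map_zero _).symm))

theorem exists_smul_mem_of_tmul_one_eq_zero {x : N} (hx : x ⊗ₜ[R] (1 : p.ResidueField) = 0) :
    ∃ c : R, c ∉ p ∧ c • x ∈ p • (⊤ : Submodule R N) :=
  exists_smul_mem_of_tmul_eq_zero p x (by
    have := congrArg (TensorProduct.comm R N p.ResidueField) hx
    rwa [TensorProduct.comm_tmul, map_zero] at this)

theorem tmul_one_eq_zero_of_mem {x : N} (hx : x ∈ p • (⊤ : Submodule R N)) : x ⊗ₜ[R] (1 : p.ResidueField) = 0 := by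
  induction hx using Submodule.smul_induction_on' with
  | smul r hr n _ =>
    rw [TensorProduct.smul_tmul, Algebra.smul_def, mul_one, Ideal.algebraMap_residueField_eq_zero.2 hr,
      TensorProduct.tmul_zero]
  | add a _ c _ ha hc => rw [TensorProduct.add_tmul, ha, hc, add_zero]

/-- Associated points of the fibre by witnesses. -/
theorem fiberIdeal_mem_associatedPrimes_iff [Algebra.FiniteType R S] (q : Ideal S) [q.IsPrime] [q.LiesOver p] :
    FlatCA.fiberIdeal p q ∈ associatedPrimes (p.Fiber S) (FlatCA.fiberMod p S N) ↔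
      ∃ w : N ⊗[R] p.ResidueField, IsWk q w := by
  classical
  let i := CI2.FibAss.inc (S := S) p
  have hcomap : ∀ t : S, i t ∈ FlatCA.fiberIdeal p q → t ∈ q := by
    intro t ht
    let π : p.ResidueField →ₐ[R] q.ResidueField :=
      Ideal.ResidueField.mapₐ p q (Algebra.ofId R S) (Ideal.LiesOver.over (P := q) (p := p))
    let Φ := Algebra.TensorProduct.lift π (IsScalarTower.toAlgHom R S q.ResidueField) fun _ _ => Commute.all _ _
    have hle : FlatCA.fiberIdeal p q ≤ RingHom.ker Φ := Ideal.map_le_iff_le_comap.2 fun x hx => by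
      show Φ ((1 : p.ResidueField) ⊗ₜ[R] x) = 0
      rw [Algebra.TensorProduct.lift_tmul, map_one, one_mul]
      exact Ideal.algebraMap_residueField_eq_zero.2 hx
    have h0 : Φ ((1 : p.ResidueField) ⊗ₜ[R] t) = 0 := hle ht
    rw [Algebra.TensorProduct.lift_tmul, map_one, one_mul] at h0
    exact Ideal.algebraMap_residueField_eq_zero.1 h0
  have hqp : ∀ c : R, c ∉ p → algebraMap R S c ∉ q := fun c hc h => hc ((Ideal.mem_of_liesOver q p c).2 h)
  have hfrac : ∀ f : p.Fiber S, ∃ (v : (p.Fiber S)ˣ) (a : S), f = (v : p.Fiber S) * i a := fun f => by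
    obtain ⟨c, hc, a, ha⟩ := CI2.FibAss.fib_frac p f
    obtain ⟨v, hv⟩ := CI2.FibAss.isUnit_inc (S := S) p hc
    exact ⟨v⁻¹, a, by rw [← ha, ← hv, Units.inv_mul_cancel_left]⟩
  letI := i.toAlgebra
  let W := (p.Fiber S) ⊗[S] N
  let θ₀ : N →ₗ[S] p.ResidueField →ₗ[R] W :=
    { toFun := fun n =>
        { toFun := fun x => (x ⊗ₜ[R] (1 : S) : p.Fiber S) ⊗ₜ[S] n
          map_add' := fun x y => by rw [TensorProduct.add_tmul, TensorProduct.add_tmul]
          map_smul' := fun c x => by rw [RingHom.id_apply]; rfl }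
      map_add' := fun n n' => LinearMap.ext fun x => TensorProduct.tmul_add _ _ _
      map_smul' := fun c n => LinearMap.ext fun x => TensorProduct.tmul_smul _ _ _ }
  let θ : N ⊗[R] p.ResidueField →ₗ[S] W := AlgebraTensorModule.lift θ₀
  let ψ : W →ₗ[S] N ⊗[R] p.ResidueField := CI2.FibAss.psi p N
  have hψθ : ∀ v, ψ (θ v) = v := fun v => by
    induction v using TensorProduct.induction_on with
    | zero => rw [map_zero, map_zero]
    | add a b ha hb => rw [map_add, map_add, ha, hb]
    | tmul n x =>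
      show (1 : S) • (n ⊗ₜ[R] x) = n ⊗ₜ[R] x
      rw [one_smul]
  have hact : ∀ (s : S) (y : W), i s • y = s • y := fun s y => algebraMap_smul (p.Fiber S) s y
  have hθψ : ∀ y : W, θ (ψ y) = y := fun y => by
    obtain ⟨c, hc, n, hn⟩ := CI2.FibAss.surj0 p N y
    obtain ⟨v, hv⟩ := CI2.FibAss.isUnit_inc (S := S) p hc
    have h1 : θ (ψ (algebraMap R S c • y)) = algebraMap R S c • y := by
      have hn' : algebraMap R S c • y = (1 : p.Fiber S) ⊗ₜ[S] n := hn
      rw [hn', show ψ ((1 : p.Fiber S) ⊗ₜ[S] n) = n ⊗ₜ[R] (1 : p.ResidueField) from CI2.FibAss.psi_ι p N n]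
      rfl
    rw [map_smul, map_smul, ← hact, ← hact] at h1
    have h2 := congrArg ((↑v⁻¹ : p.Fiber S) • ·) h1
    simp only [i, ← hv, smul_smul, Units.inv_mul, one_smul] at h2
    exact h2
  constructor
  · intro h
    obtain ⟨hP, y, hy⟩ := h
    let y' : W := y
    refine ⟨ψ y', fun a ha => ?_, fun s hs => ?_⟩
    · have ha' : i a ∈ FlatCA.fiberIdeal p q := Ideal.mem_map_of_mem i ha
      rw [hy] at ha'
      obtain ⟨k, hk⟩ := ha'
      refine ⟨1, fun h => ‹q.IsPrime›.ne_top ((Ideal.eq_top_iff_one q).2 h), k, ?_⟩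
      have hk' : (i a ^ k) • y' = 0 := (Submodule.mem_bot _).1 (Submodule.mem_colon_singleton.1 hk)
      rw [← map_pow, hact] at hk'
      rw [one_mul, ← map_smul, hk', map_zero]
    · refine hcomap s ?_
      rw [hy]
      refine Ideal.le_radical (Submodule.mem_colon_singleton.2 ((Submodule.mem_bot _).2 ?_))
      show i s • y' = 0
      rw [hact, ← hθψ (s • y'), map_smul ψ, hs, map_zero]
  · rintro ⟨w, h1, h2⟩
    obtain ⟨k, a, haq, hspan, -⟩ := exists_gens p q
    obtain ⟨π, hπ, hkill⟩ := exists_trim q a w (fun j => h1 _ (haq j)) h2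
    choose s hs hsa using hkill
    let σ := ∏ j, s j
    have hσ : σ ∉ q := fun h => by
      obtain ⟨j, -, hj⟩ := (Ideal.IsPrime.prod_mem_iff).1 h; exact hs j hj
    let y : W := θ (σ • π • w)
    have hle : ∀ f ∈ FlatCA.fiberIdeal p q, f • y = 0 := by
      intro f hf
      have hf' : f ∈ (Ideal.span (Set.range a)).map i := hspan hf
      rw [Ideal.map_span, ← Set.range_comp] at hf'
      obtain ⟨c, rfl⟩ := (Ideal.mem_span_range_iff_exists_fun).1 hf'
      rw [Finset.sum_smul]
      refine Finset.sum_eq_zero fun j _ => ?_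
      rw [mul_smul, Function.comp_apply, hact, ← map_smul θ]
      suffices a j • σ • π • w = 0 by rw [this, map_zero, smul_zero]
      show a j • (∏ j, s j) • π • w = 0
      rw [← Finset.mul_prod_erase _ _ (Finset.mem_univ j), smul_smul, show a j * (s j * ∏ l ∈ Finset.univ.erase j, s l) =
        (∏ l ∈ Finset.univ.erase j, s l) * (s j * a j) by ring, mul_smul, hsa j, smul_zero]
    have hge : ∀ f : p.Fiber S, f • y = 0 → f ∈ FlatCA.fiberIdeal p q := by
      intro f hf
      obtain ⟨v, t, rfl⟩ := hfrac f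
      refine Ideal.mul_mem_left _ _ (Ideal.mem_map_of_mem i ?_)
      rw [mul_smul] at hf
      have h0 : i t • y = 0 := by
        have := congrArg ((↑v⁻¹ : p.Fiber S) • ·) hf
        simpa [smul_smul] using this
      rw [hact, ← map_smul θ] at h0
      have h3 := congrArg ψ h0
      rw [hψθ, map_zero, ← mul_smul] at h3
      exact (‹q.IsPrime›.mem_or_mem (hπ _ h3)).resolve_right hσ
    have hprime : (FlatCA.fiberIdeal p q).IsPrime := by
      refine ⟨fun h => hσ ?_, fun {f g} hfg => ?_⟩
      · refine hπ σ ?_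
        have h0 := congrArg ψ (hle 1 (h ▸ Submodule.mem_top))
        rwa [one_smul, hψθ, map_zero] at h0
      · obtain ⟨v, t, rfl⟩ := hfrac f
        obtain ⟨v', t', rfl⟩ := hfrac g
        have h0 : i (t * t') ∈ FlatCA.fiberIdeal p q := by
          have := (FlatCA.fiberIdeal p q).mul_mem_left ((v⁻¹ * v'⁻¹ : (p.Fiber S)ˣ) : p.Fiber S) hfg
          convert this using 1
          rw [map_mul, Units.val_mul]
          calc i t * i t' = ((↑v⁻¹ : p.Fiber S) * v) * ((↑v'⁻¹ : p.Fiber S) * v') * (i t * i t') := by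
                rw [Units.inv_mul, Units.inv_mul, one_mul, one_mul]
            _ = _ := by ring
        rcases ‹q.IsPrime›.mem_or_mem (hcomap _ h0) with h | h
        · exact Or.inl (Ideal.mul_mem_left _ _ (Ideal.mem_map_of_mem i h))
        · exact Or.inr (Ideal.mul_mem_left _ _ (Ideal.mem_map_of_mem i h))
    let y' : FlatCA.fiberMod p S N := y
    refine ⟨hprime, y', ?_⟩
    have : Submodule.colon (⊥ : Submodule (p.Fiber S) (FlatCA.fiberMod p S N)) {y'} = FlatCA.fiberIdeal p q := by
      ext f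
      exact Submodule.mem_colon_singleton.trans ((Submodule.mem_bot _).trans ⟨hge f, hle f⟩)
    rw [this]
    exact (hprime.isRadical.radical).symm

end Fibre

/-- Universal injectivity of a family of endomorphisms of a free module from the closed fibre. -/
theorem eq_zero_of_forall_rTensor_eq_zero {L F : Type u} [CommRing L] [IsLocalRing L] [AddCommGroup F] [Module L F]
    [Module.Free L F] {k : ℕ} (φ : Fin k → F →ₗ[L] F)
    (hφ : ∀ y : F, (∀ i, φ i y ∈ maximalIdeal L • (⊤ : Submodule L F)) → y ∈ maximalIdeal L • (⊤ : Submodule L F))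
    {Q : Type u} [AddCommGroup Q] [Module L Q] (v : F ⊗[L] Q) (hv : ∀ i, (φ i).rTensor Q v = 0) : v = 0 := by
  classical
  let b := Module.Free.chooseBasis L F
  let e : F ⊗[L] Q ≃ₗ[L] (Module.Free.ChooseBasisIndex L F →₀ Q) :=
    (TensorProduct.congr b.repr (LinearEquiv.refl L Q)).trans (TensorProduct.finsuppScalarLeft L Q _)
  let T₀ := (e v).support
  let incl : (T₀ → L) →ₗ[L] F := Fintype.linearCombination L fun j : T₀ => b j
  have hincl : ∀ (a : T₀ → L) (j : T₀), b.repr (incl a) (j : Module.Free.ChooseBasisIndex L F) = a j := fun a j => by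
    simp [incl, Fintype.linearCombination_apply, Finsupp.single_apply, Subtype.coe_inj]
  let w : (T₀ → L) ⊗[L] Q := ∑ j : T₀, Pi.single j 1 ⊗ₜ[L] e v j
  have hw : incl.rTensor Q w = v := by
    conv_rhs => rw [← e.symm_apply_apply v, ← Finsupp.sum_single (e v)]
    rw [Finsupp.sum, map_sum, map_sum, ← Finset.sum_coe_sort T₀]
    refine Finset.sum_congr rfl fun j _ => ?_
    simp [e, incl, Fintype.linearCombination_apply_single]
  let T₁ : Finset (Module.Free.ChooseBasisIndex L F) :=
    Finset.univ.biUnion fun i : Fin k => Finset.univ.biUnion fun j : T₀ => (b.repr (φ i (b j))).support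
  let ψ : (T₀ → L) →ₗ[L] (Fin k × T₁ → L) :=
    LinearMap.pi fun it : Fin k × T₁ => (Finsupp.lapply (it.2 : Module.Free.ChooseBasisIndex L F)) ∘ₗ
      b.repr.toLinearMap ∘ₗ φ it.1 ∘ₗ incl
  have hmem : ∀ y : F, y ∈ maximalIdeal L • (⊤ : Submodule L F) ↔ ∀ l, b.repr y l ∈ maximalIdeal L := by
    intro y
    refine ⟨fun h l => ?_, fun h => ?_⟩
    · induction h using Submodule.smul_induction_on' with
      | smul r hr n _ => rw [map_smul, Finsupp.smul_apply, smul_eq_mul]; exact Ideal.mul_mem_right _ _ hr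
      | add a _ c _ ha hc => rw [map_add, Finsupp.add_apply]; exact add_mem ha hc
    · rw [← b.linearCombination_repr y, Finsupp.linearCombination_apply]
      exact sum_mem fun l _ => Submodule.smul_mem_smul (h l) Submodule.mem_top
  have hout : ∀ i a l, l ∉ T₁ → b.repr (φ i (incl a)) l = 0 := fun i a l hl => by
    have : ∀ j : T₀, b.repr (φ i (b j)) l = 0 := fun j => Finsupp.notMem_support_iff.1 fun h => hl
      (Finset.mem_biUnion.2 ⟨i, Finset.mem_univ _, Finset.mem_biUnion.2 ⟨j, Finset.mem_univ _, h⟩⟩)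
    simp [incl, Fintype.linearCombination_apply, this]
  have hinj : Function.Injective (ψ.lTensor (ResidueField L)) := by
    rw [injective_iff_map_eq_zero]
    intro x hx
    obtain ⟨a, rfl⟩ := TensorProduct.mk_surjective L (T₀ → L) (ResidueField L) Ideal.Quotient.mk_surjective x
    have hψ : ∀ it, ψ a it ∈ maximalIdeal L := fun it => by
      have h := congrArg (fun z => TensorProduct.piScalarRight L L (ResidueField L) (Fin k × T₁) z it) hx
      simp only [TensorProduct.mk_apply, LinearMap.lTensor_tmul, map_zero, Pi.zero_apply,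
        TensorProduct.piScalarRight_apply, TensorProduct.piScalarRightHom_tmul, Algebra.smul_def, mul_one] at h
      exact (IsLocalRing.residue_eq_zero_iff _).1 h
    have hy := hφ (incl a) fun i => (hmem _).2 fun l => by
      by_cases hl : l ∈ T₁
      · exact hψ (i, ⟨l, hl⟩)
      · rw [hout i a l hl]; exact zero_mem _
    show (1 : ResidueField L) ⊗ₜ[L] a = 0
    rw [← Finset.univ_sum_single a, TensorProduct.tmul_sum]
    refine Finset.sum_eq_zero fun j _ => ?_
    rw [show Pi.single j (a j) = a j • Pi.single (M := fun _ : T₀ => L) j 1 by ext l; simp [Pi.single_apply],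
      ← TensorProduct.smul_tmul, ← hincl a j, Algebra.smul_def, mul_one]
    show (IsLocalRing.residue L (b.repr (incl a) j)) ⊗ₜ[L] _ = 0
    rw [(IsLocalRing.residue_eq_zero_iff _).2 ((hmem _).1 hy j), TensorProduct.zero_tmul]
  obtain ⟨ρ, hρ⟩ := (IsLocalRing.split_injective_iff_lTensor_residueField_injective ψ).2 hinj
  have hψw : ψ.rTensor Q w = 0 := by
    apply (TensorProduct.piScalarRight L L Q (Fin k × T₁)).injective.comp (TensorProduct.comm L _ Q).injective
    simp only [Function.comp_apply, map_zero]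
    funext it
    have h := hv it.1
    rw [← hw, ← LinearMap.rTensor_comp_apply] at h
    have h' := congrArg (fun z => e z (it.2 : Module.Free.ChooseBasisIndex L F)) h
    simp only [map_zero, Finsupp.zero_apply] at h'
    rw [Pi.zero_apply, ← h']
    clear h h' hw
    generalize w = w'
    induction w' using TensorProduct.induction_on with
    | zero => simp
    | add c d hc hd => simp only [map_add, Pi.add_apply, Finsupp.add_apply, hc, hd]
    | tmul c x => simp [ψ, e, Finsupp.sum, TensorProduct.finsuppScalarLeft_apply_tmul_apply]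
  rw [← hw, show w = ρ.rTensor Q (ψ.rTensor Q w) by rw [← LinearMap.rTensor_comp_apply, hρ, LinearMap.rTensor_id_apply],
    hψw, map_zero, map_zero]

end Groth.Agent.Dev4
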