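import Groth.Agent.Lib.CI2.FibAss
import Groth.Agent.Lib.Dev4.WeakAssTensor
import Mathlib.RingTheory.Ideal.AssociatedPrime.Finiteness

/-!
# Associated primes of flat families over a Noetherian base
-/

set_option autoImplicit false
set_option maxSynthPendingDepth 3

universe u

open TensorProduct

set_option backward.isDefEq.respectTransparency.types false

attribute [local instance] Algebra.TensorProduct.rightAlgebra

namespace Groth.Agent.Dev4

variable {R S : Type u} [CommRing R] [CommRing S] [Algebra R S] (N : Type u) [AddCommGroup N] [Module S N] [Module R N]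
  [IsScalarTower R S N] [Module.Flat R N]

/-- Associated primes of `N ⊗ Q` are associated to fibres. -/
theorem exists_fibre_of_ass_tensor [IsNoetherianRing R] (Q : Type u) [AddCommGroup Q] [Module R Q] (hQ : Module.Finite R Q)
    {q : Ideal S} (h : q ∈ FlatCA.ass S (N ⊗[R] Q)) :
    ∃ (p : Ideal R) (_ : p.IsPrime), q.comap (algebraMap R S) = p ∧ q ∈ FlatCA.ass S (FlatCA.fiberMod p S N) := by
  revert h
  refine IsNoetherianRing.induction_on_isQuotientEquivQuotientPrime (A := R) hQ
    (motive := fun X _ _ _ => q ∈ FlatCA.ass S (N ⊗[R] X) →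
      ∃ (p : Ideal R) (_ : p.IsPrime), q.comap (algebraMap R S) = p ∧ q ∈ FlatCA.ass S (FlatCA.fiberMod p S N))
    ?_ ?_ ?_
  · intro X _ _ _ _ hX
    obtain ⟨hq, m, hm⟩ := hX
    haveI : Subsingleton (N ⊗[R] X) := subsingleton_of_forall_eq 0 fun z => by
      induction z using TensorProduct.induction_on with
      | zero => rfl
      | add a b ha hb => rw [ha, hb, add_zero]
      | tmul n x => rw [Subsingleton.elim x 0, TensorProduct.tmul_zero]
    exact (hq.ne_top (by rw [hm, Subsingleton.elim m 0, Ideal.eq_top_iff_one, Submodule.mem_annihilator_span_singleton, smul_zero])).elim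
  · intro X _ _ _ p e hX
    have h1 := (CI2.FibAss.ass_linearEquiv (AlgebraTensorModule.congr (LinearEquiv.refl S N) e)).1 hX
    have h2 := (CI2.FibAss.tensorQuot p.1 N).1 h1
    obtain ⟨h3, h4⟩ := CI2.FibAss.ass_quot_eq (S := S) p.1 N
    exact ⟨p.1, inferInstance, h4 q h2, h3 ▸ h2⟩
  · intro X₁ _ _ _ X₂ _ _ _ X₃ _ _ _ f g hf hg hfg h₁ h₃ hX
    rcases CI2.FibAss.ass_of_exact (AlgebraTensorModule.lTensor S N f) (AlgebraTensorModule.lTensor S N g)
      (Module.Flat.lTensor_preserves_injective_linearMap f hf) (lTensor_exact N hfg hg) hX with h | h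
    · exact h₁ h
    · exact h₃ h

omit [Module.Flat R N] in
/-- Associated primes of the fibre module, by witnesses. -/
theorem exists_isWk_of_ass_fiberMod (p : Ideal R) [p.IsPrime] {q : Ideal S} [q.IsPrime]
    (hq : q.comap (algebraMap R S) = p) (h : q ∈ FlatCA.ass S (FlatCA.fiberMod p S N)) :
    ∃ w : N ⊗[R] p.ResidueField, IsWk q w := by
  obtain ⟨-, n, hn⟩ := CI2.FibAss.ass_fib_repr p N h
  refine ⟨n ⊗ₜ[R] (1 : p.ResidueField), fun a ha => ?_, fun s hs => ?_⟩
  · refine ⟨1, fun h1 => ‹q.IsPrime›.ne_top ((Ideal.eq_top_iff_one q).2 h1), 1, ?_⟩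
    rw [one_mul, pow_one, TensorProduct.smul_tmul', ← CI2.FibAss.psi_ι (S := S), (hn a).1 ha, map_zero]
  · rw [TensorProduct.smul_tmul'] at hs
    obtain ⟨d, hd, hd'⟩ := exists_smul_mem_of_tmul_one_eq_zero p N hs
    have h1 : algebraMap R S d * s ∈ q := (hn _).2 (by
      rw [mul_smul, algebraMap_smul]
      exact CI2.FibAss.ι_pS p N (CI2.FibAss.pR_le p N hd'))
    exact (‹q.IsPrime›.mem_or_mem h1).resolve_left fun h2 => hd (by rw [← hq]; exact h2)

omit [Module.Flat R N] in
/-- Associated primes over the algebra of the fibre module give associated primes of the fibre ring. -/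
theorem fiberIdeal_mem_of_ass_fiberMod (p : Ideal R) [p.IsPrime] (q : Ideal S) [q.IsPrime]
    (h : q ∈ FlatCA.ass S (FlatCA.fiberMod p S N)) :
    FlatCA.fiberIdeal p q ∈ associatedPrimes (p.Fiber S) (FlatCA.fiberMod p S N) := by
  obtain ⟨-, y, hy⟩ := CI2.FibAss.mem_ass_iff.1 h
  let i := CI2.FibAss.inc (S := S) p
  have hfrac : ∀ f : p.Fiber S, ∃ (v : (p.Fiber S)ˣ) (a : S), f = (v : p.Fiber S) * i a := fun f => by
    obtain ⟨c, hc, a, ha⟩ := CI2.FibAss.fib_frac p f
    obtain ⟨v, hv⟩ := CI2.FibAss.isUnit_inc (S := S) p hc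
    exact ⟨v⁻¹, a, by rw [← ha, ← hv, Units.inv_mul_cancel_left]⟩
  have hker : ∀ f : p.Fiber S, f • y = 0 ↔ f ∈ FlatCA.fiberIdeal p q := by
    refine fun f => ⟨fun hf => ?_, fun hf => ?_⟩
    · obtain ⟨v, t, rfl⟩ := hfrac f
      refine Ideal.mul_mem_left _ _ (Ideal.mem_map_of_mem i ((hy t).2 ?_))
      rw [mul_smul, v.isUnit.smul_eq_zero] at hf
      rw [CI2.FibAss.smul_eq_inc]; exact hf
    · induction hf using Submodule.span_induction with
      | mem g hg =>
        obtain ⟨a, ha, rfl⟩ := hg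
        show i a • y = 0
        rw [← CI2.FibAss.smul_eq_inc]; exact (hy a).1 ha
      | zero => exact zero_smul _ _
      | add a b _ _ ha hb => rw [add_smul, ha, hb, add_zero]
      | smul a b _ hb => rw [smul_eq_mul, mul_smul, hb, smul_zero]
  have hcomap : ∀ t : S, i t ∈ FlatCA.fiberIdeal p q → t ∈ q := fun t ht => (hy t).2 (by
    rw [CI2.FibAss.smul_eq_inc]; exact (hker _).2 ht)
  have hprime : (FlatCA.fiberIdeal p q).IsPrime := by
    refine ⟨fun h1 => ?_, fun {f g} hfg => ?_⟩
    · exact ‹q.IsPrime›.ne_top ((Ideal.eq_top_iff_one q).2 (hcomap 1 (by rw [h1]; exact Submodule.mem_top)))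
    · obtain ⟨v, t, rfl⟩ := hfrac f
      obtain ⟨v', t', rfl⟩ := hfrac g
      have h0 : i (t * t') ∈ FlatCA.fiberIdeal p q := by
        refine (Ideal.unit_mul_mem_iff_mem _ (v * v').isUnit).1 ?_
        rw [map_mul, Units.val_mul]
        convert hfg using 1
        ring
      rcases ‹q.IsPrime›.mem_or_mem (hcomap _ h0) with h | h
      · exact Or.inl (Ideal.mul_mem_left _ _ (Ideal.mem_map_of_mem i h))
      · exact Or.inr (Ideal.mul_mem_left _ _ (Ideal.mem_map_of_mem i h))
  refine ⟨hprime, y, ?_⟩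
  have : Submodule.colon (⊥ : Submodule (p.Fiber S) (FlatCA.fiberMod p S N)) {y} = FlatCA.fiberIdeal p q := by
    ext f
    exact Submodule.mem_colon_singleton.trans ((Submodule.mem_bot _).trans (hker f))
  rw [this]
  exact (hprime.isRadical.radical).symm

theorem ass_of_mem_associatedPrimes {A X : Type u} [CommRing A] [IsNoetherianRing A] [AddCommGroup X] [Module A X]
    {q : Ideal A} (h : q ∈ associatedPrimes A X) : q ∈ FlatCA.ass A X := by
  obtain ⟨hq, f, hf⟩ := (isAssociatedPrime_iff_exists_injective_linearMap (I := q) (M := X)).1 h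
  refine CI2.FibAss.mem_ass_iff.2 ⟨hq, f (Submodule.Quotient.mk 1), fun a => ?_⟩
  rw [← map_smul, map_eq_zero_iff f hf, ← Submodule.Quotient.mk_smul, smul_eq_mul, mul_one, Submodule.Quotient.mk_eq_zero]

end Groth.Agent.Dev4
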