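import Groth.Agent.Lib.Dev4.Cons
import Groth.Agent.Lib.Dev4.Point
import Groth.Agent.Lib.RG4.Generic
import Groth.Agent.Lib.RG4.Domain

/-!
# Base change of the steps of a dévissage
-/

set_option autoImplicit false

universe u

open TensorProduct

set_option backward.isDefEq.respectTransparency.types false

attribute [local instance] Algebra.TensorProduct.rightAlgebra

namespace Groth.Agent.Dev4

section General

/-- A base change to a quotient-like extension is a base change to the smaller ring. -/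
theorem isBaseChange_restrict {B B' A A' M M' : Type u} [CommRing B] [CommRing B'] [CommRing A] [CommRing A']
    [Algebra B B'] [Algebra B A] [Algebra B' A'] [Algebra A A'] [Algebra B A'] [IsScalarTower B B' A']
    [IsScalarTower B A A'] [Algebra.IsPushout B B' A A'] [AddCommGroup M] [Module A M] [Module B M]
    [IsScalarTower B A M] [AddCommGroup M'] [Module A' M'] [Module B' M'] [IsScalarTower B' A' M'] [Module A M']
    [IsScalarTower A A' M'] [Module B M'] [IsScalarTower B B' M'] [IsScalarTower B A M'] (g : M →ₗ[A] M')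
    (hg : IsBaseChange A' g) : IsBaseChange B' (g.restrictScalars B) := by
  refine IsBaseChange.of_equiv
    ((Algebra.IsPushout.cancelBaseChange B B' A A' M).symm.trans (hg.equiv.restrictScalars B')) fun m => ?_
  have : (Algebra.IsPushout.cancelBaseChange B B' A A' M).symm (1 ⊗ₜ[B] m) = 1 ⊗ₜ[A] m := by
    rw [LinearEquiv.symm_apply_eq, Algebra.IsPushout.cancelBaseChange_tmul]
  show hg.equiv ((Algebra.IsPushout.cancelBaseChange B B' A A' M).symm (1 ⊗ₜ[B] m)) = g m
  rw [this, hg.equiv_tmul, one_smul]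

/-- Base change preceded by an isomorphism. -/
theorem isBaseChange_comp_equiv {S S' N G G' : Type u} [CommRing S] [CommRing S'] [Algebra S S'] [AddCommGroup N]
    [Module S N] [AddCommGroup G] [Module S G] [AddCommGroup G'] [Module S G'] [Module S' G'] [IsScalarTower S S' G']
    (e : N ≃ₗ[S] G) (g : G →ₗ[S] G') (hg : IsBaseChange S' g) : IsBaseChange S' (g ∘ₗ e.toLinearMap) := by
  refine IsBaseChange.of_equiv ((TensorProduct.AlgebraTensorModule.congr (LinearEquiv.refl S' S') e).trans hg.equiv)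
    fun n => ?_
  show hg.equiv ((1 : S') ⊗ₜ[S] e n) = g (e n)
  rw [hg.equiv_tmul, one_smul]

/-- Two base changes of a linear map are bijective together. -/
theorem bijective_iff_of_isBaseChange {D K F G X Y : Type u} [CommRing D] [CommRing K] [Algebra D K]
    [AddCommGroup F] [Module D F] [AddCommGroup G] [Module D G] [AddCommGroup X] [Module D X] [Module K X]
    [IsScalarTower D K X] [AddCommGroup Y] [Module D Y] [Module K Y] [IsScalarTower D K Y]
    {jF : F →ₗ[D] X} (hF : IsBaseChange K jF) {jG : G →ₗ[D] Y} (hG : IsBaseChange K jG) (α : F →ₗ[D] G)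
    (φ : X →ₗ[K] Y) (hφ : ∀ m, φ (jF m) = jG (α m)) :
    Function.Bijective φ ↔ Function.Bijective (α.baseChange K) := by
  have h : φ ∘ₗ hF.equiv.toLinearMap = hG.equiv.toLinearMap ∘ₗ α.baseChange K := by
    refine TensorProduct.AlgebraTensorModule.curry_injective ?_
    ext m
    simp [hφ]
  have h' : (φ : X → Y) ∘ hF.equiv = hG.equiv ∘ α.baseChange K := funext (DFunLike.congr_fun h)
  rw [← Function.Bijective.of_comp_iff φ hF.equiv.bijective, h',
    Function.Bijective.of_comp_iff' hG.equiv.bijective]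

/-- Bijectivity over a field passes to its extensions. -/
theorem bijective_baseChange_trans {D K K' F G : Type u} [CommRing D] [CommRing K] [CommRing K'] [Algebra D K]
    [Algebra D K'] [Algebra K K'] [IsScalarTower D K K'] [AddCommGroup F] [Module D F] [AddCommGroup G] [Module D G]
    (α : F →ₗ[D] G) (h : Function.Bijective (α.baseChange K)) : Function.Bijective (α.baseChange K') := by
  have hb : Function.Bijective ((α.baseChange K).baseChange K') :=
    ((LinearEquiv.ofBijective (α.baseChange K) h).baseChange K K').bijective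
  refine (bijective_iff_of_isBaseChange
    ((TensorProduct.isBaseChange D F K).comp (TensorProduct.isBaseChange K (K ⊗[D] F) K'))
    ((TensorProduct.isBaseChange D G K).comp (TensorProduct.isBaseChange K (K ⊗[D] G) K'))
    α ((α.baseChange K).baseChange K') fun m => ?_).1 hb
  simp

/-- Fibres of a base change of a linear map. -/
theorem bijective_baseChange_of_square {D D' K' F G F' G' : Type u} [CommRing D] [CommRing D'] [Algebra D D']
    [CommRing K'] [Algebra D' K'] [Algebra D K'] [IsScalarTower D D' K']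
    [AddCommGroup F] [Module D F] [AddCommGroup G] [Module D G]
    [AddCommGroup F'] [Module D F'] [Module D' F'] [IsScalarTower D D' F']
    [AddCommGroup G'] [Module D G'] [Module D' G'] [IsScalarTower D D' G']
    (gF : F →ₗ[D] F') (hF : IsBaseChange D' gF) (gG : G →ₗ[D] G') (hG : IsBaseChange D' gG)
    (α : F →ₗ[D] G) (α' : F' →ₗ[D'] G') (hα : ∀ m, α' (gF m) = gG (α m))
    (h : Function.Bijective (α.baseChange K')) : Function.Bijective (α'.baseChange K') := by
  refine (bijective_iff_of_isBaseChange (hF.comp (TensorProduct.isBaseChange D' F' K'))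
    (hG.comp (TensorProduct.isBaseChange D' G' K')) α (α'.baseChange K') fun m => ?_).2 h
  simp [hα]

/-- Free modules of finite rank base change to free modules. -/
theorem isBaseChange_pi (D D' : Type u) [CommRing D] [CommRing D'] [Algebra D D'] (r : ℕ) :
    IsBaseChange D' ((Algebra.linearMap D D').compLeft (Fin r)) :=
  IsBaseChange.finitePow (Fin r) (IsBaseChange.linearMap D D')

variable {R D : Type u} [CommRing R] [CommRing D] [Algebra R D]

/-- The extension of a prime is the kernel of the map to the fibre. -/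
theorem map_eq_comap_bot [Module.Flat R D] (p : Ideal R) [p.IsPrime] :
    (⊥ : Ideal (p.Fiber D)).comap (algebraMap D (p.Fiber D)) = p.map (algebraMap R D) := by
  ext d
  let e := Algebra.TensorProduct.quotIdealMapEquivQuotTensor D p
  let ι : (R ⧸ p) →ₐ[R] p.ResidueField := IsScalarTower.toAlgHom R (R ⧸ p) p.ResidueField
  have hι : Function.Injective (ι.toLinearMap.rTensor D) :=
    Module.Flat.rTensor_preserves_injective_linearMap _ (Ideal.injective_algebraMap_quotient_residueField p)
  rw [Ideal.mem_comap, Submodule.mem_bot]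
  show (1 : p.ResidueField) ⊗ₜ[R] d = 0 ↔ _
  rw [show (1 : p.ResidueField) ⊗ₜ[R] d = ι.toLinearMap.rTensor D ((1 : R ⧸ p) ⊗ₜ[R] d) by simp,
    map_eq_zero_iff _ hι, ← Ideal.Quotient.eq_zero_iff_mem,
    ← map_eq_zero_iff e e.injective]
  rfl

/-- The extension of a prime to a smooth algebra with geometrically irreducible fibres is prime. -/
theorem isPrime_map [Algebra.Smooth R D] (h : FlatCA.GeomIrredFibres R D) (p : Ideal R) [p.IsPrime] :
    (p.map (algebraMap R D)).IsPrime := by
  haveI := RG4.isDomain_fiber_of_smooth h p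
  rw [← map_eq_comap_bot p]
  infer_instance

theorem map_comap_baseChange [Module.Flat R D] (p : Ideal R) [p.IsPrime] (R' : Type u) [CommRing R'] [Algebra R R'] (p' : Ideal R')
    [p'.IsPrime] [hp' : p'.LiesOver p] :
    p.map (algebraMap R D) = (p'.map (algebraMap R' (R' ⊗[R] D))).comap (algebraMap D (R' ⊗[R] D)) := by
  rw [← map_eq_comap_bot (D := R' ⊗[R] D) p', ← map_eq_comap_bot (D := D) p]
  ext d
  let ι : p.ResidueField →ₐ[R] p'.ResidueField := Ideal.ResidueField.mapₐ p p' (Algebra.ofId R R') hp'.over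
  have hι : Function.Injective (ι.toLinearMap.rTensor D) :=
    Module.Flat.rTensor_preserves_injective_linearMap _ ι.toRingHom.injective
  let c := Algebra.TensorProduct.cancelBaseChange R R' p'.ResidueField p'.ResidueField D
  simp only [Ideal.mem_comap, Submodule.mem_bot]
  show (1 : p.ResidueField) ⊗ₜ[R] d = 0 ↔ (1 : p'.ResidueField) ⊗ₜ[R'] ((1 : R') ⊗ₜ[R] d) = 0
  rw [← map_eq_zero_iff c c.injective, ← map_eq_zero_iff _ hι]
  simp [c, ι]

end General

variable {R : Type u} [CommRing R] {p : Ideal R} [p.IsPrime] {S : Type u} [CommRing S] [Algebra R S]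
  {N : Type u} [AddCommGroup N] [Module S N]
  (H : Head R S N p) (R' : Type u) [CommRing R'] [Algebra R R']
  (S' : Type u) [CommRing S'] [Algebra R' S'] [Algebra R S'] [Algebra S S'] [IsScalarTower R R' S']
  [IsScalarTower R S S'] [Algebra.IsPushout R R' S S']

namespace Head

/-- The ring map between the base changes of the first step. -/
@[reducible] noncomputable def bcDC : Algebra (R' ⊗[R] H.D) (R' ⊗[R] H.C) :=
  (Algebra.TensorProduct.map (AlgHom.id R' R') (IsScalarTower.toAlgHom R H.D H.C)).toRingHom.toAlgebra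

theorem bcDC_tmul (r : R') (d : H.D) :
    letI := H.bcDC R'
    algebraMap (R' ⊗[R] H.D) (R' ⊗[R] H.C) (r ⊗ₜ d) = r ⊗ₜ algebraMap H.D H.C d := rfl

theorem bcDC_tower : letI := H.bcDC R'; IsScalarTower R' (R' ⊗[R] H.D) (R' ⊗[R] H.C) :=
  letI := H.bcDC R'
  IsScalarTower.of_algebraMap_eq fun r =>
    ((Algebra.TensorProduct.map (AlgHom.id R' R') (IsScalarTower.toAlgHom R H.D H.C)).commutes r).symm

/-- The map from the base change of the ring, over the base. -/
noncomputable def bcSC₀ : S' →ₐ[R] R' ⊗[R] H.C :=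
  Algebra.pushoutDesc S' (Algebra.TensorProduct.includeLeft : R' →ₐ[R] R' ⊗[R] H.C)
    ((Algebra.TensorProduct.includeRight : H.C →ₐ[R] R' ⊗[R] H.C).comp (IsScalarTower.toAlgHom R S H.C))
    fun _ _ => mul_comm _ _

theorem bcSC₀_left (r : R') : H.bcSC₀ R' S' (algebraMap R' S' r) = algebraMap R' (R' ⊗[R] H.C) r :=
  Algebra.pushoutDesc_left S' _ _ _ r

theorem bcSC₀_right (s : S) : H.bcSC₀ R' S' (algebraMap S S' s) = 1 ⊗ₜ algebraMap S H.C s :=
  Algebra.pushoutDesc_right S' _ _ _ s

/-- The map from the base change of the ring. -/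
noncomputable def bcSC : S' →ₐ[R'] R' ⊗[R] H.C :=
  ⟨(H.bcSC₀ R' S').toRingHom, H.bcSC₀_left R' S'⟩

theorem bcSC_algebraMap (s : S) : H.bcSC R' S' (algebraMap S S' s) = 1 ⊗ₜ algebraMap S H.C s :=
  H.bcSC₀_right R' S' s

theorem bcSC_surjective : Function.Surjective (H.bcSC R' S') := by
  intro z
  induction z using TensorProduct.induction_on with
  | zero => exact ⟨0, map_zero _⟩
  | tmul r c =>
    obtain ⟨s, rfl⟩ := H.surjSC c
    refine ⟨algebraMap R' S' r * algebraMap S S' s, ?_⟩
    rw [map_mul, AlgHom.commutes, bcSC_algebraMap]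
    show (r ⊗ₜ[R] (1 : H.C)) * ((1 : R') ⊗ₜ[R] algebraMap S H.C s) = _
    rw [Algebra.TensorProduct.tmul_mul_tmul, mul_one, one_mul]
  | add x y hx hy =>
    obtain ⟨a, rfl⟩ := hx; obtain ⟨b, rfl⟩ := hy
    exact ⟨a + b, map_add _ _ _⟩

/-- The structure of an algebra on the base change. -/
@[reducible] noncomputable def bcS'C : Algebra S' (R' ⊗[R] H.C) := (H.bcSC R' S').toRingHom.toAlgebra

theorem bcS'C_tower : letI := H.bcS'C R' S'; IsScalarTower R' S' (R' ⊗[R] H.C) :=
  letI := H.bcS'C R' S'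
  IsScalarTower.of_algebraMap_eq fun r => ((H.bcSC R' S').commutes r).symm

theorem bc_pushout :
    letI := H.bcS'C R' S'
    letI : Algebra S (R' ⊗[R] H.C) := Algebra.compHom _ (algebraMap S H.C)
    ∃ (_ : IsScalarTower S H.C (R' ⊗[R] H.C)) (_ : IsScalarTower S S' (R' ⊗[R] H.C)),
      Algebra.IsPushout S S' H.C (R' ⊗[R] H.C) := by
  letI := H.bcS'C R' S'
  letI : Algebra S (R' ⊗[R] H.C) := Algebra.compHom _ (algebraMap S H.C)
  haveI : IsScalarTower S H.C (R' ⊗[R] H.C) := IsScalarTower.of_algebraMap_eq fun _ => rfl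
  haveI : IsScalarTower S S' (R' ⊗[R] H.C) := IsScalarTower.of_algebraMap_eq fun s => (H.bcSC_algebraMap R' S' s).symm
  haveI := H.bcS'C_tower R' S'
  refine ⟨inferInstance, inferInstance, ?_⟩
  haveI : Algebra.IsPushout R S R' S' := .symm inferInstance
  haveI hC : Algebra.IsPushout R H.C R' (R' ⊗[R] H.C) := .symm inferInstance
  haveI : IsScalarTower R S' (R' ⊗[R] H.C) := IsScalarTower.of_algebraMap_eq fun r => by
    rw [IsScalarTower.algebraMap_apply R R' S', ← IsScalarTower.algebraMap_apply R' S', ← IsScalarTower.algebraMap_apply]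
  haveI : IsScalarTower R S (R' ⊗[R] H.C) := IsScalarTower.of_algebraMap_eq fun r => by
    rw [IsScalarTower.algebraMap_apply S S', ← IsScalarTower.algebraMap_apply R S S', ← IsScalarTower.algebraMap_apply]
  exact ((Algebra.IsPushout.comp_iff R S R' S').1 hC).symm

theorem bcSC_finitePresentation :
    letI := H.bcS'C R' S'; Algebra.FinitePresentation S' (R' ⊗[R] H.C) := by
  letI := H.bcS'C R' S'
  letI : Algebra S (R' ⊗[R] H.C) := Algebra.compHom _ (algebraMap S H.C)
  obtain ⟨_, _, h⟩ := H.bc_pushout R' S'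
  haveI := H.fpSC
  exact Algebra.FinitePresentation.equiv (Algebra.IsPushout.equiv S S' H.C (R' ⊗[R] H.C))

theorem bc_finite : letI := H.bcDC R'; Module.Finite (R' ⊗[R] H.D) (R' ⊗[R] H.C) := by
  letI := H.bcDC R'
  classical
  haveI := H.finiteDC
  obtain ⟨s, hs⟩ := Module.Finite.fg_top (R := H.D) (M := H.C)
  refine ⟨⟨s.image fun c => (1 : R') ⊗ₜ[R] c, eq_top_iff.2 fun z hz => ?_⟩⟩
  clear hz
  induction z using TensorProduct.induction_on with
  | zero => exact zero_mem _
  | add x y hx hy => exact add_mem hx hy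
  | tmul r c =>
    have hc : c ∈ Submodule.span H.D (s : Set H.C) := hs ▸ Submodule.mem_top
    induction hc using Submodule.span_induction generalizing r with
    | mem x hx =>
      have : r ⊗ₜ[R] x = (r ⊗ₜ[R] (1 : H.D)) • ((1 : R') ⊗ₜ[R] x : R' ⊗[R] H.C) := by
        rw [Algebra.smul_def, H.bcDC_tmul, map_one, Algebra.TensorProduct.tmul_mul_tmul, mul_one, one_mul]
      rw [this]
      exact Submodule.smul_mem _ _ (Submodule.subset_span (Finset.mem_coe.2 (Finset.mem_image_of_mem _ hx)))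
    | zero => rw [TensorProduct.tmul_zero]; exact zero_mem _
    | add x y _ _ hx hy => rw [TensorProduct.tmul_add]; exact add_mem (hx r) (hy r)
    | smul d x _ hx =>
      have : r ⊗ₜ[R] (d • x) = ((1 : R') ⊗ₜ[R] d) • (r ⊗ₜ[R] x : R' ⊗[R] H.C) := by
        rw [Algebra.smul_def, Algebra.smul_def, H.bcDC_tmul, Algebra.TensorProduct.tmul_mul_tmul, one_mul]
      rw [this]
      exact Submodule.smul_mem _ _ (hx r)

/-- The module of the base change. -/
abbrev bcG : Type u := (R' ⊗[R] H.C) ⊗[H.C] H.G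

/-- The map from the free module. -/
noncomputable def bcα : letI := H.bcDC R'; (Fin H.r → R' ⊗[R] H.D) →ₗ[R' ⊗[R] H.D] H.bcG R' :=
  letI := H.bcDC R'
  (Pi.basisFun (R' ⊗[R] H.D) (Fin H.r)).constr ℕ fun i => (1 : R' ⊗[R] H.C) ⊗ₜ[H.C] H.α (Pi.single i 1)

theorem bcα_single (i : Fin H.r) :
    letI := H.bcDC R'
    H.bcα R' (Pi.single i 1) = (1 : R' ⊗[R] H.C) ⊗ₜ[H.C] H.α (Pi.single i 1) := by
  letI := H.bcDC R'
  rw [← Pi.basisFun_apply, bcα, Module.Basis.constr_basis]

theorem tmul_smul_of_D (d : H.D) (x : H.G) :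
    letI := H.bcDC R'
    (1 : R' ⊗[R] H.C) ⊗ₜ[H.C] (d • x) = algebraMap H.D (R' ⊗[R] H.D) d • ((1 : R' ⊗[R] H.C) ⊗ₜ[H.C] x) := by
  letI := H.bcDC R'
  rw [show d • x = algebraMap H.D H.C d • x from (algebraMap_smul H.C d x).symm, TensorProduct.tmul_smul]
  show algebraMap H.D H.C d • ((1 : R' ⊗[R] H.C) ⊗ₜ[H.C] x) =
    algebraMap (R' ⊗[R] H.D) (R' ⊗[R] H.C) ((1 : R') ⊗ₜ[R] d) • ((1 : R' ⊗[R] H.C) ⊗ₜ[H.C] x)
  rw [H.bcDC_tmul]
  exact (algebraMap_smul (R' ⊗[R] H.C) (algebraMap H.D H.C d) _).symm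

theorem bcα_map (v : Fin H.r → H.D) :
    letI := H.bcDC R'
    H.bcα R' (fun i => algebraMap H.D (R' ⊗[R] H.D) (v i)) = (1 : R' ⊗[R] H.C) ⊗ₜ[H.C] H.α v := by
  letI := H.bcDC R'
  classical
  conv_lhs => rw [pi_eq_sum_univ' (fun i => algebraMap H.D (R' ⊗[R] H.D) (v i))]
  conv_rhs => rw [pi_eq_sum_univ' v]
  simp only [map_sum, map_smul, TensorProduct.tmul_sum]
  refine Finset.sum_congr rfl fun i _ => ?_
  rw [H.tmul_smul_of_D R', ← H.bcα_single R']

theorem range_bcα :
    letI := H.bcDC R'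
    LinearMap.range (H.bcα R') = Submodule.span (R' ⊗[R] H.D)
      ((fun x => (1 : R' ⊗[R] H.C) ⊗ₜ[H.C] x) '' (LinearMap.range H.α : Set H.G)) := by
  letI := H.bcDC R'
  classical
  refine le_antisymm ?_ (Submodule.span_le.2 ?_)
  · rw [bcα, Module.Basis.constr_range]
    exact Submodule.span_mono (by rintro _ ⟨i, rfl⟩; exact ⟨_, ⟨_, rfl⟩, rfl⟩)
  · rintro _ ⟨_, ⟨v, rfl⟩, rfl⟩
    exact ⟨_, H.bcα_map R' v⟩

/-- The map of modules. -/
noncomputable def bcToG : H.G →ₗ[H.C] H.bcG R' := TensorProduct.mk H.C (R' ⊗[R] H.C) H.G 1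

variable (p' : Ideal R') [p'.IsPrime] [hp' : p'.LiesOver p]

include hp' in
theorem bc_fibreIso [(p'.map (algebraMap R' (R' ⊗[R] H.D))).IsPrime] :
    letI := H.bcDC R'
    Function.Bijective ((H.bcα R').baseChange (p'.map (algebraMap R' (R' ⊗[R] H.D))).ResidueField) := by
  letI := H.bcDC R'
  haveI := H.smooth
  let D' := R' ⊗[R] H.D
  let C' := R' ⊗[R] H.C
  let P := p.map (algebraMap R H.D)
  let P' := p'.map (algebraMap R' D')
  let K := P.ResidueField
  let K' := P'.ResidueField
  have hP : P = P'.comap (algebraMap H.D D') := map_comap_baseChange (D := H.D) p R' p'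
  letI : Algebra K K' := (Ideal.ResidueField.map P P' (algebraMap H.D D') hP).toAlgebra
  haveI : IsScalarTower H.D K K' := IsScalarTower.of_algebraMap_eq fun d => by
    rw [RingHom.algebraMap_toAlgebra, Ideal.ResidueField.map_algebraMap, ← IsScalarTower.algebraMap_apply]
  -- bijectivity over the larger field
  have h0 : Function.Bijective (H.α.baseChange K') := bijective_baseChange_trans H.α H.fibreIso
  -- the base change of the modules
  letI : Algebra H.D C' := Algebra.compHom _ (algebraMap H.D H.C)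
  haveI t1 : IsScalarTower H.D H.C C' := IsScalarTower.of_algebraMap_eq fun _ => rfl
  haveI t2 : IsScalarTower H.D D' C' := IsScalarTower.of_algebraMap_eq fun d => by
    show (1 : R') ⊗ₜ[R] algebraMap H.D H.C d = algebraMap D' C' ((1 : R') ⊗ₜ[R] d)
    rw [H.bcDC_tmul]
  haveI t3 : IsScalarTower H.D H.C (H.bcG R') := IsScalarTower.of_algebraMap_smul fun d x => by
    rw [← algebraMap_smul C' (algebraMap H.D H.C d) x, ← IsScalarTower.algebraMap_apply, algebraMap_smul]
  haveI t4 : IsScalarTower H.D D' (H.bcG R') := IsScalarTower.of_algebraMap_smul fun d x => by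
    rw [← algebraMap_smul C' (algebraMap H.D D' d) x, ← IsScalarTower.algebraMap_apply, algebraMap_smul]
  haveI hpc : Algebra.IsPushout H.D D' H.C C' := by
    haveI hD : Algebra.IsPushout R H.D R' D' := .symm inferInstance
    haveI hC : Algebra.IsPushout R H.C R' C' := .symm inferInstance
    haveI := H.bcDC_tower R'
    haveI : IsScalarTower R D' C' := IsScalarTower.of_algebraMap_eq fun r => by
      rw [IsScalarTower.algebraMap_apply R R' D', ← IsScalarTower.algebraMap_apply R' D', ← IsScalarTower.algebraMap_apply]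
    haveI : IsScalarTower R H.D C' := IsScalarTower.of_algebraMap_eq fun r => by
      rw [IsScalarTower.algebraMap_apply H.D H.C, ← IsScalarTower.algebraMap_apply R H.D H.C, ← IsScalarTower.algebraMap_apply]
    exact ((Algebra.IsPushout.comp_iff R H.D R' D').1 hC).symm
  let gF : (Fin H.r → H.D) →ₗ[H.D] (Fin H.r → D') := (Algebra.linearMap H.D D').compLeft (Fin H.r)
  have hgF : IsBaseChange D' gF := isBaseChange_pi H.D D' H.r
  have hgG : IsBaseChange D' ((H.bcToG R').restrictScalars H.D) :=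
    isBaseChange_restrict (B' := D') (A' := C') _ (TensorProduct.isBaseChange H.C H.G C')
  exact bijective_baseChange_of_square gF hgF _ hgG H.α (H.bcα R') (H.bcα_map R') h0

variable {N' : Type u} [AddCommGroup N'] [Module S' N'] [Module S N'] [IsScalarTower S S' N']
  (f : N →ₗ[S] N') (hf : IsBaseChange S' f)

include hf in
theorem exists_bcIso :
    letI := H.bcS'C R' S'
    ∃ e : N' ≃ₗ[S'] H.bcG R', ∀ x, e (f x) = H.bcToG R' (H.isoN x) := by
  letI := H.bcS'C R' S'
  letI : Algebra S (R' ⊗[R] H.C) := Algebra.compHom _ (algebraMap S H.C)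
  obtain ⟨_, _, h⟩ := H.bc_pushout R' S'
  haveI : IsScalarTower S S' (H.bcG R') := IsScalarTower.of_algebraMap_smul fun s x => by
    show algebraMap S' (R' ⊗[R] H.C) (algebraMap S S' s) • x = s • x
    rw [← IsScalarTower.algebraMap_apply, algebraMap_smul]
  haveI : IsScalarTower S H.C (H.bcG R') := IsScalarTower.of_algebraMap_smul fun s x => by
    rw [← algebraMap_smul (R' ⊗[R] H.C) (algebraMap S H.C s) x, ← IsScalarTower.algebraMap_apply, algebraMap_smul]
  have hg := isBaseChange_comp_equiv H.isoN ((H.bcToG R').restrictScalars S)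
    (isBaseChange_restrict (B' := S') (A' := R' ⊗[R] H.C) (H.bcToG R') (TensorProduct.isBaseChange H.C H.G (R' ⊗[R] H.C)))
  refine ⟨hf.equiv.symm.trans hg.equiv, fun x => ?_⟩
  rw [LinearEquiv.trans_apply, hf.equiv_symm_apply, hg.equiv_tmul, one_smul]
  rfl

/-- The base change of a first step. -/
noncomputable def bc : Head R' S' N' p' :=
  letI := H.bcDC R'
  letI := H.bcS'C R' S'
  haveI := H.bcDC_tower R'
  haveI := H.bcS'C_tower R' S'
  haveI := H.smooth
  haveI := H.finiteG
  haveI : (p'.map (algebraMap R' (R' ⊗[R] H.D))).IsPrime := isPrime_map (RG4.geomIrredFibres_baseChange R' H.geomIrred) p'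
  { C := R' ⊗[R] H.C
    D := R' ⊗[R] H.D
    G := H.bcG R'
    r := H.r
    α := H.bcα R'
    surjSC := H.bcSC_surjective R' S'
    fpSC := H.bcSC_finitePresentation R' S'
    finiteDC := H.bc_finite R'
    smooth := inferInstance
    geomIrred := RG4.geomIrredFibres_baseChange R' H.geomIrred
    finiteG := inferInstance
    isoN := (H.exists_bcIso R' S' f hf).choose
    fibreIso := H.bc_fibreIso R' p' }

theorem bc_isoN (x : N) : (H.bc R' S' p' f hf).isoN (f x) = H.bcToG R' (H.isoN x) :=
  (H.exists_bcIso R' S' f hf).choose_spec x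

theorem bc_r : (H.bc R' S' p' f hf).r = H.r := rfl

/-- The natural algebra structure over the old smooth algebra. -/
@[reducible] noncomputable def bcAlgDC : Algebra H.D (R' ⊗[R] H.C) := Algebra.compHom _ (algebraMap H.D H.C)

theorem bc_pushoutDC :
    letI := H.bcDC R'
    letI := H.bcAlgDC R'
    ∃ (_ : IsScalarTower H.D H.C (R' ⊗[R] H.C)) (_ : IsScalarTower H.D (R' ⊗[R] H.D) (R' ⊗[R] H.C)),
      Algebra.IsPushout H.D (R' ⊗[R] H.D) H.C (R' ⊗[R] H.C) := by
  letI := H.bcDC R'
  letI := H.bcAlgDC R'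
  haveI t1 : IsScalarTower H.D H.C (R' ⊗[R] H.C) := IsScalarTower.of_algebraMap_eq fun _ => rfl
  haveI t2 : IsScalarTower H.D (R' ⊗[R] H.D) (R' ⊗[R] H.C) := IsScalarTower.of_algebraMap_eq fun d => by
    show (1 : R') ⊗ₜ[R] algebraMap H.D H.C d = algebraMap (R' ⊗[R] H.D) (R' ⊗[R] H.C) ((1 : R') ⊗ₜ[R] d)
    rw [H.bcDC_tmul]
  refine ⟨t1, t2, ?_⟩
  haveI hD : Algebra.IsPushout R H.D R' (R' ⊗[R] H.D) := .symm inferInstance
  haveI hC : Algebra.IsPushout R H.C R' (R' ⊗[R] H.C) := .symm inferInstance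
  haveI := H.bcDC_tower R'
  haveI : IsScalarTower R (R' ⊗[R] H.D) (R' ⊗[R] H.C) := IsScalarTower.of_algebraMap_eq fun r => by
    rw [IsScalarTower.algebraMap_apply R R' (R' ⊗[R] H.D), ← IsScalarTower.algebraMap_apply R' (R' ⊗[R] H.D),
      ← IsScalarTower.algebraMap_apply]
  haveI : IsScalarTower R H.D (R' ⊗[R] H.C) := IsScalarTower.of_algebraMap_eq fun r => by
    rw [IsScalarTower.algebraMap_apply H.D H.C, ← IsScalarTower.algebraMap_apply R H.D H.C,
      ← IsScalarTower.algebraMap_apply]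
  exact ((Algebra.IsPushout.comp_iff R H.D R' (R' ⊗[R] H.D)).1 hC).symm

end Head

namespace HeadAt

variable {H} (R' : Type u) [CommRing R'] [Algebra R R']
  (S' : Type u) [CommRing S'] [Algebra R' S'] [Algebra R S'] [Algebra S S'] [IsScalarTower R R' S']
  [IsScalarTower R S S'] [Algebra.IsPushout R R' S S'] (p' : Ideal R') [p'.IsPrime] [hp' : p'.LiesOver p]
  {N' : Type u} [AddCommGroup N'] [Module S' N'] [Module S N'] [IsScalarTower S S' N']
  (f : N →ₗ[S] N') (hf : IsBaseChange S' f) {q : Ideal S} [q.IsPrime] (A : HeadAt H q)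
  (hκ : Function.Bijective (Ideal.ResidueField.mapₐ p p' (Algebra.ofId R R') hp'.over))
  (q' : Ideal S') [q'.IsPrime] [q'.LiesOver q] [q'.LiesOver p']

include hκ in
theorem exists_bc_z :
    ∃ z' : Ideal (R' ⊗[R] H.C), z'.IsPrime ∧ z'.LiesOver p' ∧ z'.LiesOver A.z := by
  haveI : A.z.LiesOver p := Ideal.LiesOver.trans A.z A.y p
  exact exists_prime_over hκ A.z

include hκ in
/-- The pointed base change of a first step. -/
theorem exists_bc :
    ∃ A' : HeadAt (H.bc R' S' p' f hf) q', A'.d = A.d ∧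
      A'.y.comap (algebraMap H.D (R' ⊗[R] H.D)) = A.y ∧ A'.z.comap (algebraMap H.C (R' ⊗[R] H.C)) = A.z := by
  letI := H.bcDC R'
  letI := H.bcAlgDC R'
  letI := H.bcS'C R' S'
  haveI := H.bcDC_tower R'
  haveI := H.bcS'C_tower R' S'
  obtain ⟨t1, t2, hpc⟩ := H.bc_pushoutDC R'
  obtain ⟨z', hz'p, hz'o, hz'z⟩ := A.exists_bc_z R' p' hκ
  let y' : Ideal (R' ⊗[R] H.D) := z'.comap (algebraMap _ (R' ⊗[R] H.C))
  haveI : z'.LiesOver y' := ⟨rfl⟩
  haveI hyo : y'.LiesOver p' := Ideal.LiesOver.tower_bot z' y' p'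
  haveI : z'.LiesOver A.y := Ideal.LiesOver.trans z' A.z A.y
  haveI hyy : y'.LiesOver A.y := Ideal.LiesOver.tower_bot z' y' A.y
  have hy : y'.comap (algebraMap H.D (R' ⊗[R] H.D)) = A.y := hyy.over.symm
  have hz : z'.comap (algebraMap H.C (R' ⊗[R] H.C)) = A.z := hz'z.over.symm
  have huniq : ∀ (Q : Ideal (R' ⊗[R] H.C)) [Q.IsPrime], Q.LiesOver y' → Q = z' := by
    intro Q _ hQ
    haveI : Q.LiesOver p' := Ideal.LiesOver.trans Q y' p'
    refine prime_ext (B := H.C) hκ Q z' ?_
    haveI : Q.LiesOver A.y := Ideal.LiesOver.trans Q y' A.y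
    haveI : (Q.comap (algebraMap H.C (R' ⊗[R] H.C))).LiesOver A.y := ⟨by
      rw [Ideal.under_def, Ideal.comap_comap, ← IsScalarTower.algebraMap_eq]; exact Ideal.over_def Q A.y⟩
    rw [hz]
    exact A.uniq _ inferInstance
  have hq0 : z'.comap (algebraMap S' (R' ⊗[R] H.C)) = q' := by
    haveI : (z'.comap (algebraMap S' (R' ⊗[R] H.C))).LiesOver p' :=
      haveI : z'.LiesOver (z'.comap (algebraMap S' (R' ⊗[R] H.C))) := ⟨rfl⟩
      Ideal.LiesOver.tower_bot z' _ p'
    refine prime_ext (B := S) hκ _ q' ?_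
    rw [Ideal.comap_comap, show q'.comap (algebraMap S S') = q from (‹q'.LiesOver q›).over.symm, ← A.q0,
      ← hz, Ideal.comap_comap]
    congr 1
    exact RingHom.ext fun s => H.bcSC_algebraMap R' S' s
  haveI := H.finiteDC
  haveI := H.finiteG
  haveI : Module.Finite H.D H.G := Module.Finite.trans H.C H.G
  haveI t3 : IsScalarTower H.D H.C (H.bcG R') := IsScalarTower.of_algebraMap_smul fun d x => by
    rw [← algebraMap_smul (R' ⊗[R] H.C) (algebraMap H.D H.C d) x, ← IsScalarTower.algebraMap_apply, algebraMap_smul]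
  haveI t4 : IsScalarTower H.D (R' ⊗[R] H.D) (H.bcG R') := IsScalarTower.of_algebraMap_smul fun d x => by
    rw [← algebraMap_smul (R' ⊗[R] H.C) (algebraMap H.D (R' ⊗[R] H.D) d) x, ← IsScalarTower.algebraMap_apply,
      algebraMap_smul]
  have hgG : IsBaseChange (R' ⊗[R] H.D) ((H.bcToG R').restrictScalars H.D) :=
    isBaseChange_restrict (B' := R' ⊗[R] H.D) (A' := R' ⊗[R] H.C) _ (TensorProduct.isBaseChange H.C H.G (R' ⊗[R] H.C))
  haveI hy' : y'.IsPrime := inferInstance
  have hrel : FlatCA.SmoothRelDim A.d R' (R' ⊗[R] H.D) := smoothRelDim_bc (R := R) (B := H.D) A.relDim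
  have hloc := locDim_bc hκ ((H.bcToG R').restrictScalars H.D) hgG A.y y' A.d A.locDim
  have hpt := pureTrans_bc hκ A.y y' A.pureTrans
  exact ⟨{ y := y', z := z', hy := hy', hz := hz'p, yOver := hyo, zOver := ⟨rfl⟩, pureTrans := hpt,
           uniq := huniq, q0 := hq0, d := A.d, relDim := hrel, locDim := hloc }, rfl, hy, hz⟩

end HeadAt

end Groth.Agent.Dev4
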