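import Groth.Agent.Lib.Dev4.BaseChange
import Groth.Agent.Lib.Dev4.Coker

/-!
# The base change of a complete dévissage
-/

set_option autoImplicit false

universe u

open TensorProduct

set_option backward.isDefEq.respectTransparency.types false

attribute [local instance] Algebra.TensorProduct.rightAlgebra

namespace Groth.Agent.Dev4

variable {R : Type u} [CommRing R] {S : Type u} [CommRing S] [Algebra R S]
  {N : Type u} [AddCommGroup N] [Module S N] {p : Ideal R} [p.IsPrime]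

/-- A complete dévissage over a ring `R'` is a base change of one over `R`. -/
structure BCData (𝒟 : FlatCA.CompleteDevissage R S N p) (R' : Type u) [CommRing R'] [Algebra R R']
    {S' : Type u} [CommRing S'] [Algebra R' S'] [Algebra S S'] {N' : Type u} [AddCommGroup N'] [Module S' N']
    [Module S N'] (f : N →ₗ[S] N') {p' : Ideal R'} [p'.IsPrime]
    (𝒟' : FlatCA.CompleteDevissage R' S' N' p') : Type (u + 1) where
  n_eq : 𝒟'.n = 𝒟.n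
  r_eq : 𝒟'.r = 𝒟.r
  aA : ∀ i : Fin 𝒟.n, Algebra (𝒟.A i) (𝒟'.A i)
  rA : ∀ i : Fin 𝒟.n, Algebra R (𝒟'.A i)
  t1 : ∀ i : Fin 𝒟.n, IsScalarTower R R' (𝒟'.A i)
  t2 : ∀ i : Fin 𝒟.n, IsScalarTower R (𝒟.A i) (𝒟'.A i)
  aB : ∀ i : Fin 𝒟.n, Algebra (𝒟.B i) (𝒟'.B i)
  rB : ∀ i : Fin 𝒟.n, Algebra R (𝒟'.B i)
  t3 : ∀ i : Fin 𝒟.n, IsScalarTower R R' (𝒟'.B i)
  t4 : ∀ i : Fin 𝒟.n, IsScalarTower R (𝒟.B i) (𝒟'.B i)
  mA : ∀ i : Fin 𝒟.n, Module (𝒟.A i) (𝒟'.M i)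
  t9 : ∀ i : Fin 𝒟.n, IsScalarTower (𝒟.A i) (𝒟'.A i) (𝒟'.M i)
  gM : ∀ i : Fin 𝒟.n, 𝒟.M i →ₗ[𝒟.A i] 𝒟'.M i
  commBA : ∀ (i : Fin 𝒟.n) (b : 𝒟.B i), algebraMap (𝒟'.B i) (𝒟'.A i) (algebraMap (𝒟.B i) (𝒟'.B i) b) =
    algebraMap (𝒟.A i) (𝒟'.A i) (algebraMap (𝒟.B i) (𝒟.A i) b)
  commBA' : ∀ (i : Fin 𝒟.n) (h : (i : ℕ) + 1 < 𝒟.n), letI := aA ⟨i + 1, h⟩; ∀ b : 𝒟.B i,
    algebraMap (𝒟'.B i) (𝒟'.A (i + 1)) (algebraMap (𝒟.B i) (𝒟'.B i) b) =
      algebraMap (𝒟.A (i + 1)) (𝒟'.A (i + 1)) (algebraMap (𝒟.B i) (𝒟.A (i + 1)) b)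
  commS : letI := aA ⟨0, 𝒟.pos⟩; ∀ s : S,
    algebraMap S' (𝒟'.A 0) (algebraMap S S' s) = algebraMap (𝒟.A 0) (𝒟'.A 0) (algebraMap S (𝒟.A 0) s)
  isoN_eq : ∀ x : N, 𝒟'.isoN (f x) = gM ⟨0, 𝒟.pos⟩ (𝒟.isoN x)
  pushA : ∀ i : Fin 𝒟.n, Algebra.IsPushout R R' (𝒟.A i) (𝒟'.A i)
  pushB : ∀ i : Fin 𝒟.n, Algebra.IsPushout R R' (𝒟.B i) (𝒟'.B i)
  bc : ∀ i : Fin 𝒟.n, IsBaseChange (𝒟'.A i) (gM i)
  range : ∀ i : Fin 𝒟.n, LinearMap.range (𝒟'.α i) =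
    Submodule.span (𝒟'.B i) ((gM i) '' (LinearMap.range (𝒟.α i) : Set (𝒟.M i)))

/-- Every complete dévissage has a base change. -/
theorem exists_bcData (k : ℕ) :
    ∀ {S : Type u} [CommRing S] [Algebra R S] {N : Type u} [AddCommGroup N] [Module S N]
      (𝒟 : FlatCA.CompleteDevissage R S N p) (_ : 𝒟.n = k + 1)
      (R' : Type u) [CommRing R'] [Algebra R R'] (p' : Ideal R') [p'.IsPrime] [p'.LiesOver p]
      (S' : Type u) [CommRing S'] [Algebra R' S'] [Algebra R S'] [Algebra S S'] [IsScalarTower R R' S']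
      [IsScalarTower R S S'] [Algebra.IsPushout R R' S S']
      {N' : Type u} [AddCommGroup N'] [Module S' N'] [Module S N'] [IsScalarTower S S' N']
      (f : N →ₗ[S] N'), IsBaseChange S' f →
      ∃ 𝒟' : FlatCA.CompleteDevissage R' S' N' p', Nonempty (BCData 𝒟 R' f 𝒟') := by
  induction k with
  | zero =>
    intro S _ _ N _ _ 𝒟 hn R' _ _ p' _ _ S' _ _ _ _ _ _ _ N' _ _ _ _ f hf
    let H := head 𝒟
    let H' := H.bc R' S' p' f hf
    letI := H.bcDC R'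
    obtain ⟨t1, t2, hpc⟩ := H.bc_pushoutDC R'
    have hsurj : Function.Surjective H.α := by
      have h := 𝒟.cokerLast
      rw [show 𝒟.n - 1 = 0 by omega] at h
      exact h
    have hsurj' : Function.Surjective H'.α := by
      refine LinearMap.range_eq_top.1 ((H.range_bcα R').trans ?_)
      letI := H.bcAlgDC R'
      haveI t3 : IsScalarTower H.D H.C (H.bcG R') := IsScalarTower.of_algebraMap_smul fun d x => by
        rw [← algebraMap_smul (R' ⊗[R] H.C) (algebraMap H.D H.C d) x, ← IsScalarTower.algebraMap_apply, algebraMap_smul]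
      haveI t4 : IsScalarTower H.D (R' ⊗[R] H.D) (H.bcG R') := IsScalarTower.of_algebraMap_smul fun d x => by
        rw [← algebraMap_smul (R' ⊗[R] H.C) (algebraMap H.D (R' ⊗[R] H.D) d) x, ← IsScalarTower.algebraMap_apply,
          algebraMap_smul]
      exact eq_top_of_span ((H.bcToG R').restrictScalars H.D)
        (isBaseChange_restrict (B' := R' ⊗[R] H.D) (A' := R' ⊗[R] H.C) (H.bcToG R')
          (TensorProduct.isBaseChange H.C H.G (R' ⊗[R] H.C))) _ (LinearMap.range_eq_top.2 hsurj)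
    refine ⟨single' H' hsurj' fun i => 𝒟.r (i + 1), ⟨?_⟩⟩
    have h0 : ∀ i : Fin 𝒟.n, (i : ℕ) = 0 := fun i => by omega
    exact
      { n_eq := hn.symm
        r_eq := funext fun i => by cases i <;> rfl
        aA := fun | ⟨0, _⟩ => (inferInstance : Algebra H.C (R' ⊗[R] H.C)) | ⟨i + 1, h⟩ => absurd h (by omega)
        rA := fun | ⟨0, _⟩ => (inferInstance : Algebra R (R' ⊗[R] H.C)) | ⟨i + 1, h⟩ => absurd h (by omega)
        t1 := fun | ⟨0, _⟩ => (inferInstance : IsScalarTower R R' (R' ⊗[R] H.C)) | ⟨i + 1, h⟩ => absurd h (by omega)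
        t2 := fun | ⟨0, _⟩ => (inferInstance : IsScalarTower R H.C (R' ⊗[R] H.C)) | ⟨i + 1, h⟩ => absurd h (by omega)
        aB := fun | ⟨0, _⟩ => (inferInstance : Algebra H.D (R' ⊗[R] H.D)) | ⟨i + 1, h⟩ => absurd h (by omega)
        rB := fun | ⟨0, _⟩ => (inferInstance : Algebra R (R' ⊗[R] H.D)) | ⟨i + 1, h⟩ => absurd h (by omega)
        t3 := fun | ⟨0, _⟩ => (inferInstance : IsScalarTower R R' (R' ⊗[R] H.D)) | ⟨i + 1, h⟩ => absurd h (by omega)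
        t4 := fun | ⟨0, _⟩ => (inferInstance : IsScalarTower R H.D (R' ⊗[R] H.D)) | ⟨i + 1, h⟩ => absurd h (by omega)
        mA := fun | ⟨0, _⟩ => (inferInstance : Module H.C (H.bcG R')) | ⟨i + 1, h⟩ => absurd h (by omega)
        t9 := fun | ⟨0, _⟩ => (inferInstance : IsScalarTower H.C (R' ⊗[R] H.C) (H.bcG R')) | ⟨i + 1, h⟩ => absurd h (by omega)
        gM := fun | ⟨0, _⟩ => H.bcToG R' | ⟨i + 1, h⟩ => absurd h (by omega)
        commBA := fun | ⟨0, _⟩ => fun b => H.bcDC_tmul R' 1 b | ⟨i + 1, h⟩ => absurd h (by omega)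
        commBA' := fun i h => absurd h (by omega)
        commS := fun s => H.bcSC_algebraMap R' S' s
        isoN_eq := fun x => H.bc_isoN R' S' p' f hf x
        pushA := fun | ⟨0, _⟩ => (inferInstance : Algebra.IsPushout R R' H.C (R' ⊗[R] H.C)) | ⟨i + 1, h⟩ => absurd h (by omega)
        pushB := fun | ⟨0, _⟩ => (inferInstance : Algebra.IsPushout R R' H.D (R' ⊗[R] H.D)) | ⟨i + 1, h⟩ => absurd h (by omega)
        bc := fun | ⟨0, _⟩ => TensorProduct.isBaseChange H.C H.G (R' ⊗[R] H.C) | ⟨i + 1, h⟩ => absurd h (by omega)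
        range := fun | ⟨0, _⟩ => H.range_bcα R' | ⟨i + 1, h⟩ => absurd h (by omega) }
  | succ k ih =>
    intro S _ _ N _ _ 𝒟 hn R' _ _ p' _ _ S' _ _ _ _ _ _ _ N' _ _ _ _ f hf
    let H := head 𝒟
    let H' := H.bc R' S' p' f hf
    have h1 : 1 < 𝒟.n := by omega
    letI : Module H.D (𝒟.M 1) := 𝒟.mB'M 0
    let T' := (R' ⊗[R] H.D) ⊗[H.D] 𝒟.M 1
    let t : 𝒟.M 1 →ₗ[H.D] T' := TensorProduct.mk H.D (R' ⊗[R] H.D) (𝒟.M 1) 1
    have ht : IsBaseChange (R' ⊗[R] H.D) t := TensorProduct.isBaseChange H.D (𝒟.M 1) _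
    let 𝒯 : FlatCA.CompleteDevissage R H.D (𝒟.M 1) p := tail 𝒟 h1
    have hT : 𝒯.n = k + 1 := show 𝒟.n - 1 = k + 1 by omega
    obtain ⟨ℰ, ⟨E⟩⟩ := @ih H.D H.cD H.aRD (𝒟.M 1) _ _ 𝒯 hT R' _ _ p' _ _ (R' ⊗[R] H.D) _ _ _ _ _ _ _ T' _ _ _ _ t ht
    letI := H.bcDC R'
    letI := H.bcAlgDC R'
    obtain ⟨t1, t2, hpc⟩ := H.bc_pushoutDC R'
    haveI t3 : IsScalarTower H.D H.C (H.bcG R') := IsScalarTower.of_algebraMap_smul fun d x => by
      rw [← algebraMap_smul (R' ⊗[R] H.C) (algebraMap H.D H.C d) x, ← IsScalarTower.algebraMap_apply, algebraMap_smul]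
    haveI t4 : IsScalarTower H.D (R' ⊗[R] H.D) (H.bcG R') := IsScalarTower.of_algebraMap_smul fun d x => by
      rw [← algebraMap_smul (R' ⊗[R] H.C) (algebraMap H.D (R' ⊗[R] H.D) d) x, ← IsScalarTower.algebraMap_apply,
        algebraMap_smul]
    obtain ⟨e', -⟩ := exists_cokerEquiv ((H.bcToG R').restrictScalars H.D)
      (isBaseChange_restrict (B' := R' ⊗[R] H.D) (A' := R' ⊗[R] H.C) (H.bcToG R')
        (TensorProduct.isBaseChange H.C H.G (R' ⊗[R] H.C)))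
      (LinearMap.range H.α) (LinearMap.range (H.bcα R')) (H.range_bcα R') (𝒟.isoCoker 0 h1) t ht
    letI : Module H'.D T' := (inferInstance : Module (R' ⊗[R] H.D) T')
    refine ⟨cons H' e' ℰ, ⟨?_⟩⟩
    have hb : ∀ {i : ℕ}, i + 1 < 𝒟.n → i < 𝒟.n - 1 := fun h => Nat.lt_sub_of_add_lt h
    exact
      { n_eq := (congrArg (· + 1) E.n_eq).trans (Nat.sub_add_cancel 𝒟.pos)
        r_eq := funext fun | 0 => rfl | i + 1 => congrFun E.r_eq i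
        aA := fun | ⟨0, _⟩ => (inferInstance : Algebra H.C (R' ⊗[R] H.C)) | ⟨i + 1, h⟩ => E.aA ⟨i, hb h⟩
        rA := fun | ⟨0, _⟩ => (inferInstance : Algebra R (R' ⊗[R] H.C)) | ⟨i + 1, h⟩ => E.rA ⟨i, hb h⟩
        t1 := fun | ⟨0, _⟩ => (inferInstance : IsScalarTower R R' (R' ⊗[R] H.C)) | ⟨i + 1, h⟩ => E.t1 ⟨i, hb h⟩
        t2 := fun | ⟨0, _⟩ => (inferInstance : IsScalarTower R H.C (R' ⊗[R] H.C)) | ⟨i + 1, h⟩ => E.t2 ⟨i, hb h⟩
        aB := fun | ⟨0, _⟩ => (inferInstance : Algebra H.D (R' ⊗[R] H.D)) | ⟨i + 1, h⟩ => E.aB ⟨i, hb h⟩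
        rB := fun | ⟨0, _⟩ => (inferInstance : Algebra R (R' ⊗[R] H.D)) | ⟨i + 1, h⟩ => E.rB ⟨i, hb h⟩
        t3 := fun | ⟨0, _⟩ => (inferInstance : IsScalarTower R R' (R' ⊗[R] H.D)) | ⟨i + 1, h⟩ => E.t3 ⟨i, hb h⟩
        t4 := fun | ⟨0, _⟩ => (inferInstance : IsScalarTower R H.D (R' ⊗[R] H.D)) | ⟨i + 1, h⟩ => E.t4 ⟨i, hb h⟩
        mA := fun | ⟨0, _⟩ => (inferInstance : Module H.C (H.bcG R')) | ⟨i + 1, h⟩ => E.mA ⟨i, hb h⟩
        t9 := fun | ⟨0, _⟩ => (inferInstance : IsScalarTower H.C (R' ⊗[R] H.C) (H.bcG R')) | ⟨i + 1, h⟩ => E.t9 ⟨i, hb h⟩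
        gM := fun | ⟨0, _⟩ => H.bcToG R' | ⟨i + 1, h⟩ => E.gM ⟨i, hb h⟩
        commBA := fun | ⟨0, _⟩ => fun b => H.bcDC_tmul R' 1 b | ⟨i + 1, h⟩ => E.commBA ⟨i, hb h⟩
        commBA' := fun
          | ⟨0, _⟩, _ => fun b => E.commS b
          | ⟨i + 1, h⟩, h' => E.commBA' ⟨i, hb h⟩ (hb h')
        commS := fun s => H.bcSC_algebraMap R' S' s
        isoN_eq := fun x => H.bc_isoN R' S' p' f hf x
        pushA := fun | ⟨0, _⟩ => (inferInstance : Algebra.IsPushout R R' H.C (R' ⊗[R] H.C)) | ⟨i + 1, h⟩ => E.pushA ⟨i, hb h⟩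
        pushB := fun | ⟨0, _⟩ => (inferInstance : Algebra.IsPushout R R' H.D (R' ⊗[R] H.D)) | ⟨i + 1, h⟩ => E.pushB ⟨i, hb h⟩
        bc := fun | ⟨0, _⟩ => TensorProduct.isBaseChange H.C H.G (R' ⊗[R] H.C) | ⟨i + 1, h⟩ => E.bc ⟨i, hb h⟩
        range := fun | ⟨0, _⟩ => H.range_bcα R' | ⟨i + 1, h⟩ => E.range ⟨i, hb h⟩ }

end Groth.Agent.Dev4
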