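import Groth.Agent.Lib.Dev4.CdaFlat

/-!
# Flatness at a point without socle from flatness below it
-/

set_option autoImplicit false

universe u

open TensorProduct IsLocalRing

set_option backward.isDefEq.respectTransparency.types false

namespace Groth.Agent.Dev4

/-- A point with a complete dévissage without socle is a flat point if the smaller points are. -/
theorem flatAt_of_cda {R S : Type u} [CommRing R] [IsLocalRing R] [CommRing S] [Algebra R S] [Algebra.FiniteType R S]
    (N : Type u) [AddCommGroup N] [Module S N] [Module R N] [IsScalarTower R S N] [Module.Finite S N]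
    (q : Ideal S) [q.IsPrime] [q.LiesOver (maximalIdeal R)]
    (hcd : FlatCA.HasCompleteDevissageAt R S N (maximalIdeal R) q)
    (hbelow : ∀ (Q : Ideal S) [Q.IsPrime], Q.LiesOver (maximalIdeal R) → Q < q → FlatCA.FlatAt R Q N)
    (hass : NoAssAt (maximalIdeal R) q N) : FlatCA.FlatAt R q N := by
  obtain ⟨D, ⟨DA⟩⟩ := hcd
  set m := maximalIdeal R
  letI : Field (R ⧸ m) := Ideal.Quotient.field m
  haveI : ∀ i, (DA.qB i).IsPrime := DA.hqB
  haveI : ∀ i, (DA.qA i).IsPrime := DA.hqA
  haveI : ∀ i, (DA.qB i).LiesOver m := DA.overB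
  haveI : ∀ i, (DA.qA i).LiesOver (DA.qB i) := DA.overA
  haveI hRAM : ∀ i, IsScalarTower R (D.A i) (D.M i) := fun i => IsScalarTower.of_algebraMap_smul fun x y => by
    rw [IsScalarTower.algebraMap_apply R (D.B i) (D.A i), algebraMap_smul, algebraMap_smul]
  haveI hRB'M : ∀ i, IsScalarTower R (D.B i) (D.M (i + 1)) := fun i => IsScalarTower.of_algebraMap_smul fun x y => by
    rw [← algebraMap_smul (D.A (i + 1)) (algebraMap R (D.B i) x) y, ← IsScalarTower.algebraMap_apply, algebraMap_smul]
  haveI hRSM : IsScalarTower R S (D.M 0) := IsScalarTower.of_algebraMap_smul fun x y => by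
    rw [← algebraMap_smul (D.A 0) (algebraMap R S x) y, ← IsScalarTower.algebraMap_apply, algebraMap_smul]
  haveI : Module.Finite S (D.A 0) := Module.Finite.of_surjective (Algebra.linearMap S (D.A 0)) D.surjSA
  haveI : (DA.qA 0).LiesOver q := ⟨DA.q0.symm⟩
  have hnoeth : ∀ i, i < D.n → IsNoetherianRing (D.A i ⧸ m.map (algebraMap R (D.A i))) := fun i hi => by
    haveI := D.smooth i hi
    haveI := D.finiteBA i hi
    haveI : Algebra.FiniteType R (D.A i) := Algebra.FiniteType.trans (S := D.B i) inferInstance inferInstance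
    let e0 : (R ⧸ m) ⊗[R] D.A i ≃+* D.A i ⧸ m.map (algebraMap R (D.A i)) :=
      ((Algebra.TensorProduct.quotIdealMapEquivTensorQuot (D.A i) m).toRingEquiv.trans
        (Algebra.TensorProduct.comm R (D.A i) (R ⧸ m)).toRingEquiv).symm
    haveI : IsNoetherianRing ((R ⧸ m) ⊗[R] D.A i) := Algebra.FiniteType.isNoetherianRing (R ⧸ m) _
    exact isNoetherianRing_of_ringEquiv _ e0
  -- backwards along the dévissage
  have key : ∀ j i, i + j + 1 = D.n →
      (∀ (y' : Ideal (D.B i)) [y'.IsPrime], y'.LiesOver m → y' < DA.qB i → FlatCA.FlatAt R y' (D.M i)) →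
      NoAssAt m (DA.qB i) (D.M i) → FlatCA.FlatAt R (DA.qB i) (D.M i) := by
    intro j
    induction j using Nat.strong_induction_on with
    | h j ih =>
      intro i hi hlt hno
      have hin : i < D.n := by omega
      haveI := D.smooth i hin
      haveI := D.finiteBA i hin
      haveI := D.finiteM i hin
      haveI : Module.Finite (D.B i) (D.M i) := Module.Finite.trans (D.A i) (D.M i)
      have hPy : m.map (algebraMap R (D.B i)) ≤ DA.qB i :=
        Ideal.map_le_iff_le_comap.2 (Ideal.LiesOver.over (P := DA.qB i) (p := m)).le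
      by_cases hP : m.map (algebraMap R (D.B i)) = DA.qB i
      · exact flatAt_of_eq_map (DA.qB i) hP hno
      haveI hPo : (m.map (algebraMap R (D.B i))).LiesOver m := ⟨le_antisymm Ideal.le_comap_map
        ((Ideal.comap_mono hPy).trans (Ideal.LiesOver.over (P := DA.qB i) (p := m)).ge)⟩
      have hflP := hlt _ hPo (lt_of_le_of_ne hPy hP)
      by_cases hT : NoAssAt m (DA.qB i) (D.M i ⧸ LinearMap.range (D.α i))
      swap
      · exact flatAt_of_not_noAss (D.geomIrred i hin) (DA.qB i) hflP (D.α i) (D.fibreIso i hin) hno hT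
      -- the step
      have hu : FlatCA.UnivInj R ((D.α i).restrictScalars R) :=
        (RG4.univInj_and_flatAt_coker (D.geomIrred i hin) (m.map (algebraMap R (D.B i))) hflP (D.α i)
          (D.fibreIso i hin)).1
      have hTlt : ∀ (y' : Ideal (D.B i)) [y'.IsPrime], y'.LiesOver m → y' < DA.qB i →
          FlatCA.FlatAt R y' (D.M i ⧸ LinearMap.range (D.α i)) := fun y' _ hy' hy'' =>
        RG4.flatAt_coker y' (D.α i) hu (hlt y' hy' hy'')
      have hTflat : FlatCA.FlatAt R (DA.qB i) (D.M i ⧸ LinearMap.range (D.α i)) := by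
        by_cases hlast : i + 1 < D.n
        · have hsurj := D.surjBA' i hlast
          haveI : Module.Finite (D.B i) (D.A (i + 1)) :=
            Module.Finite.of_surjective (Algebra.linearMap (D.B i) (D.A (i + 1))) hsurj
          haveI : (DA.qA (i + 1)).LiesOver (DA.qB i) := ⟨(DA.qStep i hlast).symm⟩
          haveI := D.finiteBA (i + 1) hlast
          haveI := hnoeth (i + 1) hlast
          have huniq : ∀ (Q : Ideal (D.A (i + 1))) [Q.IsPrime], Q.LiesOver (DA.qB i) → Q = DA.qA (i + 1) :=
            fun Q _ hQ => Ideal.comap_injective_of_surjective _ hsurj (hQ.over.symm.trans (DA.qStep i hlast).symm)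
          have h1 : ∀ (Q : Ideal (D.A (i + 1))) [Q.IsPrime], Q.LiesOver m → Q < DA.qA (i + 1) →
              FlatCA.FlatAt R Q (D.M (i + 1)) := by
            intro Q _ hQm hQlt
            let y' := Q.comap (algebraMap (D.B i) (D.A (i + 1)))
            haveI : Q.LiesOver y' := ⟨rfl⟩
            have hy'm : y'.LiesOver m := ⟨by
              show m = (Q.comap _).comap (algebraMap R (D.B i))
              rw [Ideal.comap_comap, ← IsScalarTower.algebraMap_eq]; exact hQm.over⟩
            have hy'lt : y' < DA.qB i := lt_of_le_of_ne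
              ((Ideal.comap_mono hQlt.le).trans (DA.qStep i hlast).le)
              fun h => hQlt.ne (Ideal.comap_injective_of_surjective _ hsurj (h.trans (DA.qStep i hlast).symm))
            exact (RG4.flatAt_iff_of_unique Q y' fun Q' _ hQ' => Ideal.comap_injective_of_surjective _ hsurj
              hQ'.over.symm).2 (RG4.flatAt_congr y' (D.isoCoker i hlast) (hTlt y' hy'm hy'lt))
          have h2 := ih (j - 1) (by omega) (i + 1) (by omega) (fun y' _ hy' hy'lt =>
            flatAt_of_forall_over (A := D.A (i + 1)) y' fun Q _ hQ => by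
              refine h1 Q ⟨?_⟩ ?_
              · show m = Q.comap (algebraMap R (D.A (i + 1)))
                rw [IsScalarTower.algebraMap_eq R (D.B (i + 1)) (D.A (i + 1)), ← Ideal.comap_comap]
                exact hy'.over.trans (congrArg (Ideal.comap _) hQ.over)
              · obtain ⟨Q', hQQ', hQ', hQ'y⟩ := Ideal.exists_ideal_over_prime_of_isIntegral (DA.qB (i + 1)) Q
                  (hQ.over.ge.trans hy'lt.le)
                obtain rfl := DA.uniq (i + 1) hlast Q' ⟨hQ'y.symm⟩
                exact lt_of_le_of_ne hQQ' fun h => hy'lt.ne ((hQ.over.trans (congrArg _ h)).trans hQ'y))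
            (noAssAt_of_unique (DA.qA (i + 1)) (DA.qB (i + 1)) (fun Q _ hQ => DA.uniq (i + 1) hlast Q hQ)
              (noAssAt_of_surjective hsurj (DA.qB i) (DA.qA (i + 1))
                (noAssAt_congr (D.isoCoker i hlast) hT)))
          exact RG4.flatAt_congr _ (D.isoCoker i hlast).symm
            ((RG4.flatAt_iff_of_unique (DA.qA (i + 1)) (DA.qB i) huniq).1
              ((RG4.flatAt_iff_of_unique (DA.qA (i + 1)) (DA.qB (i + 1))
                fun Q _ hQ => DA.uniq (i + 1) hlast Q hQ).2 h2))
        · obtain rfl : i = D.n - 1 := by omega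
          haveI : Subsingleton (D.M (D.n - 1) ⧸ LinearMap.range (D.α (D.n - 1))) := by
            rw [Submodule.Quotient.subsingleton_iff, LinearMap.range_eq_top]; exact D.cokerLast
          haveI : Subsingleton (LocalizedModule (DA.qB (D.n - 1)).primeCompl
              (D.M (D.n - 1) ⧸ LinearMap.range (D.α (D.n - 1)))) := inferInstance
          exact (Module.Flat.of_free : Module.Flat R
            (LocalizedModule (DA.qB (D.n - 1)).primeCompl (D.M (D.n - 1) ⧸ LinearMap.range (D.α (D.n - 1)))))
      let T := (DA.qB i).primeCompl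
      haveI : Module.Flat R (D.B i) := inferInstance
      haveI : Module.Flat R (Fin (D.r i) → D.B i) :=
        Module.Flat.of_linearEquiv (DirectSum.linearEquivFunOnFintype R (Fin (D.r i)) (fun _ => D.B i)).symm
      haveI : Module.Flat R (LocalizedModule T (Fin (D.r i) → D.B i)) :=
        RG4.flat_of_isLocalizedModule T (LocalizedModule.mkLinearMap T (Fin (D.r i) → D.B i))
      haveI : Module.Flat R (LocalizedModule T (D.M i ⧸ LinearMap.range (D.α i))) := hTflat
      exact RG4.flat_of_exact
        (g := (LocalizedModule.map T (LinearMap.range (D.α i)).mkQ).restrictScalars R)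
        (LocalizedModule.map_surjective T _ (Submodule.mkQ_surjective _))
        (f := (LocalizedModule.map T (D.α i)).restrictScalars R)
        (LocalizedModule.map_exact T (D.α i) (LinearMap.range (D.α i)).mkQ (LinearMap.exact_map_mkQ_range (D.α i)))
        (LocalizedModule.map_injective T (D.α i) fun x y hxy => (TensorProduct.lid R _).symm.injective (hu R (by
          show (1 : R) ⊗ₜ[R] D.α i x = (1 : R) ⊗ₜ[R] D.α i y
          rw [hxy])))
  -- the first module
  have h0 : 0 < D.n := D.pos
  haveI := D.finiteBA 0 h0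
  haveI := hnoeth 0 h0
  have huniq0 : ∀ (Q : Ideal (D.A 0)) [Q.IsPrime], Q.LiesOver q → Q = DA.qA 0 := fun Q _ hQ =>
    Ideal.comap_injective_of_surjective _ D.surjSA (hQ.over.symm.trans DA.q0.symm)
  have hA0 : ∀ (Q : Ideal (D.A 0)) [Q.IsPrime], Q.LiesOver m → Q < DA.qA 0 → FlatCA.FlatAt R Q (D.M 0) := by
    intro Q _ hQm hQlt
    let Q₀ := Q.comap (algebraMap S (D.A 0))
    haveI : Q.LiesOver Q₀ := ⟨rfl⟩
    have hQ₀m : Q₀.LiesOver m := ⟨by
      show m = (Q.comap _).comap (algebraMap R S)
      rw [Ideal.comap_comap, ← IsScalarTower.algebraMap_eq]; exact hQm.over⟩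
    have hlt : Q₀ < q := lt_of_le_of_ne ((Ideal.comap_mono hQlt.le).trans DA.q0.le)
      fun h => hQlt.ne (Ideal.comap_injective_of_surjective _ D.surjSA (h.trans DA.q0.symm))
    exact (RG4.flatAt_iff_of_unique Q Q₀ fun Q' _ hQ' => Ideal.comap_injective_of_surjective _ D.surjSA
      hQ'.over.symm).2 (RG4.flatAt_congr Q₀ D.isoN (hbelow Q₀ hQ₀m hlt))
  have hB0 := key (D.n - 1) 0 (by omega) (fun y' _ hy' hy'lt => flatAt_of_forall_over (A := D.A 0) y' fun Q _ hQ => by
      refine hA0 Q ⟨?_⟩ ?_
      · show m = Q.comap (algebraMap R (D.A 0))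
        rw [IsScalarTower.algebraMap_eq R (D.B 0) (D.A 0), ← Ideal.comap_comap]
        exact hy'.over.trans (congrArg (Ideal.comap _) hQ.over)
      · obtain ⟨Q', hQQ', hQ', hQ'y⟩ := Ideal.exists_ideal_over_prime_of_isIntegral (DA.qB 0) Q
          (hQ.over.ge.trans hy'lt.le)
        obtain rfl := DA.uniq 0 h0 Q' ⟨hQ'y.symm⟩
        exact lt_of_le_of_ne hQQ' fun h => hy'lt.ne ((hQ.over.trans (congrArg _ h)).trans hQ'y))
    (noAssAt_of_unique (DA.qA 0) (DA.qB 0) (fun Q _ hQ => DA.uniq 0 h0 Q hQ)
      (noAssAt_of_surjective D.surjSA q (DA.qA 0) (noAssAt_congr D.isoN hass)))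
  exact RG4.flatAt_congr q D.isoN.symm ((RG4.flatAt_iff_of_unique (DA.qA 0) q huniq0).1
    ((RG4.flatAt_iff_of_unique (DA.qA 0) (DA.qB 0) fun Q _ hQ => DA.uniq 0 h0 Q hQ).2 hB0))

end Groth.Agent.Dev4
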