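import Mathlib.RingTheory.DiscreteValuationRing.TFAE
import Mathlib.RingTheory.Ideal.AssociatedPrime.Finiteness
import Mathlib.RingTheory.IntegralClosure.IntegrallyClosed
import Mathlib.LinearAlgebra.FreeModule.PID

/-!
# A module of positive depth with a free submodule whose quotient has depth zero
-/

set_option autoImplicit false

universe u

open IsLocalRing

namespace Groth.Agent.Dev4

/-- Over a local noetherian normal domain, a module of positive depth containing a free module with quotient of
depth zero is free; the ring is then a discrete valuation ring. -/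
theorem free_of_coker_depth_zero {D X : Type u} [CommRing D] [IsDomain D] [IsNoetherianRing D] [IsLocalRing D]
    [IsIntegrallyClosed D] [AddCommGroup X] [Module D X] [Module.Finite D X] {r : ℕ} (φ : (Fin r → D) →ₗ[D] X)
    (hX : ∀ x : X, (∀ a ∈ maximalIdeal D, a • x = 0) → x = 0) (z : X) (hz : z ∉ LinearMap.range φ)
    (hzm : ∀ a ∈ maximalIdeal D, a • z ∈ LinearMap.range φ) (hφ : Function.Injective φ) :
    Module.Free D X := by
  classical
  -- a regular element in the maximal ideal
  have hnot : ∀ P ∈ associatedPrimes D X, ¬ maximalIdeal D ≤ P := by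
    intro P hP hle
    obtain ⟨hPp, x, hx⟩ := isAssociatedPrime_iff.1 hP
    have hx0 : x = 0 := hX x fun a ha => by
      have := hle ha
      rw [hx, Submodule.mem_colon_singleton, Submodule.mem_bot] at this
      exact this
    exact hPp.ne_top (by rw [hx, hx0]; ext a; simp [Submodule.mem_colon_singleton])
  have hfin := associatedPrimes.finite D X
  by_cases hcov : (maximalIdeal D : Set D) ⊆ ⋃ P ∈ (hfin.toFinset : Set (Ideal D)), (P : Set D)
  · obtain ⟨P, hP, hle⟩ := (Ideal.subset_union_prime (⊥ : Ideal D) (⊥ : Ideal D)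
      (fun P hP _ _ => IsAssociatedPrime.isPrime (hfin.mem_toFinset.1 hP))).1 hcov
    exact absurd hle (hnot P (hfin.mem_toFinset.1 hP))
  obtain ⟨t, htm, ht⟩ := Set.not_subset.1 hcov
  have htreg : ∀ x : X, t • x = 0 → x = 0 := fun x hx => by
    by_contra h0
    have h1 : t ∈ ⋃ P ∈ associatedPrimes D X, (P : Set D) := by
      rw [biUnion_associatedPrimes_eq_zero_divisors]; exact ⟨x, h0, hx⟩
    simp only [Set.mem_iUnion] at h1 ht
    obtain ⟨P, hP, htP⟩ := h1
    exact ht ⟨P, hfin.mem_toFinset.2 hP, htP⟩
  obtain ⟨v, hv⟩ := hzm t htm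
  have hcomm : ∀ a (w : Fin r → D), φ w = a • z → a • v = t • w := fun a w hw => hφ (by
    rw [map_smul, map_smul, hv, hw, smul_comm])
  have ht0 : t ≠ 0 := fun h => hz ⟨0, by rw [map_zero]; exact (htreg z (by rw [h, zero_smul]) ).symm⟩
  have hvt : ∃ j, ¬ t ∣ v j := by
    by_contra hc
    push Not at hc
    choose w hw using hc
    refine hz ⟨w, ?_⟩
    have : t • (φ w - z) = 0 := by
      rw [smul_sub, ← map_smul, show t • w = v from funext fun j => (hw j).symm, hv, sub_self]
    exact sub_eq_zero.1 (htreg _ this)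
  obtain ⟨j, hj⟩ := hvt
  have hdiv : ∀ a ∈ maximalIdeal D, ∃ c, a * v j = t * c := fun a ha => by
    obtain ⟨w, hw⟩ := hzm a ha
    exact ⟨w j, congrFun (hcomm a w hw) j⟩
  -- the maximal ideal is principal
  let K := FractionRing D
  let ω : K := algebraMap D K (v j) / algebraMap D K t
  have htK : algebraMap D K t ≠ 0 := fun h => ht0 (IsFractionRing.injective D K (h.trans (map_zero _).symm))
  have hω : ∀ a c, a * v j = t * c → algebraMap D K a * ω = algebraMap D K c := fun a c h => by
    rw [show algebraMap D K a * ω = algebraMap D K (a * v j) / algebraMap D K t by rw [map_mul, mul_div_assoc], h,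
      map_mul, mul_div_cancel_left₀ _ htK]
  have hnotint : ∀ c : D, algebraMap D K c ≠ ω := fun c hc => hj ⟨c, IsFractionRing.injective D K (by
    rw [map_mul, hc, mul_div_cancel₀ _ htK])⟩
  by_cases hall : ∀ a ∈ maximalIdeal D, ∀ c, a * v j = t * c → c ∈ maximalIdeal D
  · exfalso
    let N : Submodule D K := Submodule.map (Algebra.linearMap D K) (maximalIdeal D)
    have hN : N.FG := Submodule.FG.map _ (IsNoetherian.noetherian _)
    have hint : IsIntegral D ω := by
      refine isIntegral_of_smul_mem_submodule N (fun hN0 => ?_) hN ω fun n hn => ?_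
      · have : algebraMap D K t = 0 := (Submodule.eq_bot_iff _).1 hN0 _ ⟨t, htm, rfl⟩
        exact htK this
      · obtain ⟨a, ha, rfl⟩ := hn
        obtain ⟨c, hc⟩ := hdiv a ha
        refine ⟨c, hall a ha c hc, ?_⟩
        show algebraMap D K c = ω • algebraMap D K a
        rw [← hω a c hc, smul_eq_mul, mul_comm]
    obtain ⟨c, hc⟩ := IsIntegrallyClosed.isIntegral_iff.1 hint
    exact hnotint c hc
  push Not at hall
  obtain ⟨π, hπ, u, hu, hum⟩ := hall
  obtain ⟨u, rfl⟩ : IsUnit u := notMem_maximalIdeal.1 hum
  have hprin : maximalIdeal D = Ideal.span {π} := by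
    refine le_antisymm (fun a ha => ?_) ((Ideal.span_singleton_le_iff_mem _).2 hπ)
    obtain ⟨c, hc⟩ := hdiv a ha
    refine Ideal.mem_span_singleton.2 ⟨↑u⁻¹ * c, IsFractionRing.injective D K ?_⟩
    have h1 := hω a c hc
    have h2 := hω π u hu
    rw [map_mul, map_mul, ← h1]
    calc algebraMap D K a = algebraMap D K a * (algebraMap D K ↑u⁻¹ * (algebraMap D K π * ω)) := by
          rw [h2, ← map_mul, Units.inv_mul, map_one, mul_one]
      _ = _ := by ring
  haveI : (maximalIdeal D).IsPrincipal := ⟨⟨π, hprin⟩⟩
  haveI : IsPrincipalIdealRing D :=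
    ((tfae_of_isNoetherianRing_of_isLocalRing_of_isDomain D).out 4 0 rfl rfl).1 ⟨⟨π, hprin⟩⟩
  have hπreg : ∀ x : X, π • x = 0 → x = 0 := fun x hx => hX x fun a ha => by
    rw [hprin, Ideal.mem_span_singleton] at ha
    obtain ⟨c, rfl⟩ := ha
    rw [mul_comm, mul_smul, hx, smul_zero]
  have hπirr : Irreducible π := by
    have hπ0 : π ≠ 0 := fun h => htm |> fun hm => ht0 (by
      rw [hprin, h, Ideal.span_singleton_eq_bot.2 rfl] at hm; exact hm)
    have hP : (Ideal.span {π}).IsPrime := hprin ▸ (maximalIdeal.isMaximal D).isPrime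
    exact ((Ideal.span_singleton_prime hπ0).1 hP).irreducible
  haveI : IsDiscreteValuationRing D :=
    { toIsPrincipalIdealRing := inferInstance
      not_a_field' := fun h => hπirr.ne_zero (by rw [h] at hπ; exact hπ) }
  haveI : Module.IsTorsionFree D X := by
    refine Module.IsTorsionFree.of_smul_eq_zero fun a x hax => ?_
    by_cases ha : a = 0
    · exact Or.inl ha
    obtain ⟨n, w, rfl⟩ := IsDiscreteValuationRing.eq_unit_mul_pow_irreducible ha hπirr
    refine Or.inr ?_
    rw [mul_smul, ← Units.smul_def, smul_eq_zero_iff_eq] at hax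
    clear ha
    induction n with
    | zero => rwa [pow_zero, one_smul] at hax
    | succ n ih => exact ih (hπreg _ (by rwa [← mul_smul, ← pow_succ']))
  exact Module.free_of_finite_type_torsion_free'

end Groth.Agent.Dev4
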