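import Groth.Agent.Lib.Dev4.NoAss
import Groth.Agent.Lib.Dev4.DepthOne
import Groth.Agent.Lib.Dev4.BaseChange
import Groth.Agent.Lib.Dev4.FlatAtTransfer
import Groth.Agent.Lib.RG4.Step
import Groth.Agent.Lib.NormalSmooth12.Basic

/-!
# Flatness at a point without socle, along a dévissage
-/

set_option autoImplicit false

universe u

open TensorProduct IsLocalRing

set_option backward.isDefEq.respectTransparency.types false

attribute [local instance] Algebra.TensorProduct.rightAlgebra

namespace Groth.Agent.Dev4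

/-- Flatness at a prime of the smaller ring from flatness at the primes over it. -/
theorem flatAt_of_forall_over {R B A M : Type u} [CommRing R] [CommRing B] [CommRing A] [Algebra R B] [Algebra R A]
    [Algebra B A] [IsScalarTower R B A] [Algebra.IsIntegral B A] [AddCommGroup M] [Module A M] [Module B M]
    [Module R M] [IsScalarTower B A M] [IsScalarTower R A M] [IsScalarTower R B M] (y : Ideal B) [y.IsPrime]
    (h : ∀ (Q : Ideal A) [Q.IsPrime], Q.LiesOver y → FlatCA.FlatAt R Q M) : FlatCA.FlatAt R y M := by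
  let T := Algebra.algebraMapSubmonoid A y.primeCompl
  let C := Localization T
  haveI : Module.Flat A C := IsLocalization.flat C T
  obtain ⟨eM⟩ := exists_localizedEquiv T C M
  haveI : Module.Flat R (C ⊗[A] M) := Module.flat_of_isLocalized_maximal (R := R)
    (M := C ⊗[A] M) C (fun P => LocalizedModule P.primeCompl (C ⊗[A] M))
    (fun P _ => LocalizedModule.mkLinearMap P.primeCompl _) fun P _ => by
      let Q : PrimeSpectrum A := PrimeSpectrum.comap (algebraMap A C) ⟨P, inferInstance⟩
      haveI : P.LiesOver Q.asIdeal := ⟨rfl⟩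
      have hQy : Q.asIdeal.comap (algebraMap B A) ≤ y := fun b hb => by
        by_contra hby
        exact (inferInstance : P.IsPrime).ne_top (Ideal.eq_top_of_isUnit_mem _ hb
          (IsLocalization.map_units C (⟨_, b, hby, rfl⟩ : T)))
      obtain ⟨Q', hQQ', hQ', hQ'y⟩ := Ideal.exists_ideal_over_prime_of_isIntegral y Q.asIdeal hQy
      haveI : FlatCA.FlatAt R Q' M := h Q' ⟨hQ'y.symm⟩
      exact flatAt_of_flat_map (R := R) (C := C) M Q.asIdeal P (RG4.flatAt_of_le hQQ' ‹_›)
  haveI : Module.Flat R (LocalizedModule T M) := Module.Flat.of_linearEquiv (eM.restrictScalars R)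
  haveI : IsLocalizedModule y.primeCompl ((LocalizedModule.mkLinearMap T M).restrictScalars B) :=
    IsLocalizedModule.restrictScalars y.primeCompl (LocalizedModule.mkLinearMap T M)
  exact Module.Flat.of_linearEquiv (M := LocalizedModule T M)
    ((IsLocalizedModule.iso y.primeCompl ((LocalizedModule.mkLinearMap T M).restrictScalars B)).restrictScalars R)

variable {R B : Type u} [CommRing R] [IsLocalRing R] [CommRing B] [Algebra R B]

/-- At the generic point of the fibre. -/
theorem flatAt_of_eq_map {M : Type u} [AddCommGroup M] [Module B M] [Module R M] [IsScalarTower R B M] [Module.Finite B M]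
    (y : Ideal B) [y.IsPrime] (hy : (maximalIdeal R).map (algebraMap R B) = y)
    (h : NoAssAt (maximalIdeal R) y M) : FlatCA.FlatAt R y M := by
  have hsub : Subsingleton (LocalizedModule y.primeCompl M) := by
    have htop : (⊤ : Submodule (Localization.AtPrime y) (LocalizedModule y.primeCompl M)) ≤
        maximalIdeal (Localization.AtPrime y) • ⊤ := by
      intro z _
      induction z using LocalizedModule.induction_on with
      | h x t =>
        obtain ⟨s, hs, hsx⟩ := h x fun a ha => ⟨1, fun h1 => ‹y.IsPrime›.ne_top ((Ideal.eq_top_iff_one y).2 h1), by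
          rw [one_mul, mem_smul_top_iff (B := B), hy]; exact Submodule.smul_mem_smul ha Submodule.mem_top⟩
        rw [mem_smul_top_iff (B := B), hy] at hsx
        rw [show LocalizedModule.mk x t = Localization.mk 1 (⟨s, hs⟩ * t) • LocalizedModule.mk (s • x) (1 : y.primeCompl) by
          rw [LocalizedModule.mk_smul_mk, one_smul, mul_one, LocalizedModule.mk_eq]
          exact ⟨1, by simp only [Submonoid.smul_def, Submonoid.coe_mul, OneMemClass.coe_one, one_smul]; rw [smul_smul, mul_comm]⟩]
        refine Submodule.smul_mem _ _ ?_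
        generalize s • x = w at hsx
        induction hsx using Submodule.smul_induction_on' with
        | smul a ha n _ =>
          rw [← LocalizedModule.smul'_mk, ← algebraMap_smul (Localization.AtPrime y) a]
          refine Submodule.smul_mem_smul ?_ Submodule.mem_top
          rw [← Localization.AtPrime.map_eq_maximalIdeal]
          exact Ideal.mem_map_of_mem _ ha
        | add u _ v _ hu hv =>
          have : LocalizedModule.mk (u + v) (1 : y.primeCompl) = LocalizedModule.mk u 1 + LocalizedModule.mk v 1 :=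
            map_add (LocalizedModule.mkLinearMap y.primeCompl M) u v
          rw [this]; exact add_mem hu hv
    have hfg : (⊤ : Submodule (Localization.AtPrime y) (LocalizedModule y.primeCompl M)).FG := Module.Finite.fg_top
    have := Submodule.eq_bot_of_le_smul_of_le_jacobson_bot _ _ hfg htop (IsLocalRing.maximalIdeal_le_jacobson _)
    exact (Submodule.subsingleton_iff _).1 ⟨fun a b => by
      rw [show a = ⊥ from le_bot_iff.1 (le_top.trans this.le), show b = ⊥ from le_bot_iff.1 (le_top.trans this.le)]⟩
  exact (Module.Flat.of_free : Module.Flat R (LocalizedModule y.primeCompl M))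

/-- When the cokernel of the step has a socle, the module is free over the fibre ring, hence flat. -/
theorem flatAt_of_not_noAss [Algebra.Smooth R B] [((maximalIdeal R).map (algebraMap R B)).IsPrime]
    (hB : FlatCA.GeomIrredFibres R B) (y : Ideal B) [y.IsPrime] [y.LiesOver (maximalIdeal R)]
    {M : Type u} [AddCommGroup M] [Module B M] [Module R M] [IsScalarTower R B M] [Module.Finite B M]
    (hP : FlatCA.FlatAt R ((maximalIdeal R).map (algebraMap R B)) M)
    {r : ℕ} (α : (Fin r → B) →ₗ[B] M)
    (hα : Function.Bijective (α.baseChange ((maximalIdeal R).map (algebraMap R B)).ResidueField))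
    (hM : NoAssAt (maximalIdeal R) y M) (hT : ¬ NoAssAt (maximalIdeal R) y (M ⧸ LinearMap.range α)) :
    FlatCA.FlatAt R y M := by
  classical
  set m := maximalIdeal R
  set P := m.map (algebraMap R B) with hPdef
  have hPy : P ≤ y := Ideal.map_le_iff_le_comap.2 (Ideal.LiesOver.over (P := y) (p := m)).le
  -- the fibre ring at the point
  let F := B ⧸ P
  let yF : Ideal F := y.map (Ideal.Quotient.mk P)
  haveI hyF : yF.IsPrime := Ideal.map_isPrime_of_surjective Ideal.Quotient.mk_surjective (by rwa [Ideal.mk_ker])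
  have hmemF : ∀ b : B, Ideal.Quotient.mk P b ∈ yF ↔ b ∈ y := fun b => by
    rw [← Ideal.mem_comap, Ideal.comap_map_of_surjective _ Ideal.Quotient.mk_surjective, ← RingHom.ker_eq_comap_bot,
      Ideal.mk_ker, sup_eq_left.2 hPy]
  let D := Localization.AtPrime yF
  let K := P.ResidueField
  letI : Field (R ⧸ m) := Ideal.Quotient.field m
  let e0 : (R ⧸ m) ⊗[R] B ≃+* F :=
    ((Algebra.TensorProduct.quotIdealMapEquivTensorQuot B m).toRingEquiv.trans
      (Algebra.TensorProduct.comm R B (R ⧸ m)).toRingEquiv).symm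
  letI : Algebra (R ⧸ m) F := (e0.toRingHom.comp (algebraMap (R ⧸ m) ((R ⧸ m) ⊗[R] B))).toAlgebra
  let e1 : (R ⧸ m) ⊗[R] B ≃ₐ[R ⧸ m] F := AlgEquiv.ofRingEquiv (f := e0) fun _ => rfl
  haveI : Algebra.Smooth (R ⧸ m) F := Algebra.Smooth.of_equiv e1
  haveI : IsNoetherianRing F := Algebra.FiniteType.isNoetherianRing (R ⧸ m) F
  haveI : IsNoetherianRing D := IsLocalization.isNoetherianRing yF.primeCompl D inferInstance
  haveI : IsDomain D := IsLocalization.isDomain_localization yF.primeCompl_le_nonZeroDivisors
  haveI : IsIntegrallyClosed D :=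
    (NormalSmooth12.isNormalRing_of_smooth_field (algebraMap (R ⧸ m) F) (RingHom.smooth_algebraMap.2 inferInstance) yF).2
  letI : Algebra D K := (IsLocalization.lift (M := yF.primeCompl) (g := algebraMap F K) fun s =>
    isUnit_iff_ne_zero.2 fun h => s.2 (by
      rw [(injective_iff_map_eq_zero _).1 (IsFractionRing.injective F K) _ h]; exact zero_mem _)).toAlgebra
  haveI : IsScalarTower F D K := IsScalarTower.of_algebraMap_eq fun x => (IsLocalization.lift_eq _ x).symm
  haveI : IsScalarTower B D K := IsScalarTower.of_algebraMap_eq fun b => by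
    rw [IsScalarTower.algebraMap_apply B F D, ← IsScalarTower.algebraMap_apply F D K, ← IsScalarTower.algebraMap_apply B F K]
  -- elements of `D ⊗ M`
  let ι : M →ₗ[B] D ⊗[B] M := TensorProduct.mk B D M 1
  have hunit : ∀ s : B, s ∉ y → IsUnit (algebraMap B D s) := fun s hs => by
    rw [IsScalarTower.algebraMap_apply B F D]
    exact IsLocalization.map_units D (⟨_, fun h => hs ((hmemF s).1 h)⟩ : yF.primeCompl)
  have hrep : ∀ z : D ⊗[B] M, ∃ (s : B) (x : M), s ∉ y ∧ s • z = ι x := by
    intro z
    induction z using TensorProduct.induction_on with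
    | zero => exact ⟨1, 0, fun h => ‹y.IsPrime›.ne_top ((Ideal.eq_top_iff_one y).2 h), by simp⟩
    | tmul d x =>
      obtain ⟨⟨b, s⟩, hbs⟩ := IsLocalization.surj yF.primeCompl d
      obtain ⟨b, rfl⟩ := Ideal.Quotient.mk_surjective b
      obtain ⟨s, hs⟩ := s
      obtain ⟨s, rfl⟩ := Ideal.Quotient.mk_surjective s
      refine ⟨s, b • x, fun h => hs ((hmemF s).2 h), ?_⟩
      show s • d ⊗ₜ[B] x = (1 : D) ⊗ₜ[B] (b • x)
      rw [TensorProduct.tmul_smul, TensorProduct.smul_tmul', TensorProduct.smul_tmul', Algebra.smul_def, Algebra.smul_def,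
        mul_one, IsScalarTower.algebraMap_apply B F D, IsScalarTower.algebraMap_apply B F D, mul_comm]
      exact congrArg (· ⊗ₜ[B] x) hbs
    | add u v hu hv =>
      obtain ⟨s, x, hs, hsx⟩ := hu
      obtain ⟨t, w, ht, htw⟩ := hv
      refine ⟨s * t, t • x + s • w, fun h => (‹y.IsPrime›.mem_or_mem h).elim hs ht, ?_⟩
      rw [map_add, map_smul, map_smul, ← hsx, ← htw, smul_add, mul_comm s t, mul_smul, mul_comm t s, mul_smul]
  have hι0 : ∀ x : M, x ∈ m • (⊤ : Submodule R M) → ι x = 0 := by
    intro x hx
    rw [mem_smul_top_iff (B := B)] at hx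
    induction hx using Submodule.smul_induction_on' with
    | smul a ha n _ =>
      show (1 : D) ⊗ₜ[B] (a • n) = 0
      rw [← TensorProduct.smul_tmul, Algebra.smul_def, mul_one, IsScalarTower.algebraMap_apply B F D,
        Ideal.Quotient.algebraMap_eq, Ideal.Quotient.eq_zero_iff_mem.2 ha, map_zero, TensorProduct.zero_tmul]
    | add u _ v _ hu hv => rw [map_add, hu, hv, add_zero]
  have hker : ∀ x : M, ι x = 0 → ∃ s : B, s ∉ y ∧ s • x ∈ m • (⊤ : Submodule R M) := by
    intro x hx
    have h0 : TensorProduct.mk F D (F ⊗[B] M) 1 ((1 : F) ⊗ₜ[B] x) = 0 := by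
      apply (AlgebraTensorModule.cancelBaseChange B F D D M).injective
      rw [map_zero]
      show AlgebraTensorModule.cancelBaseChange B F D D M ((1 : D) ⊗ₜ[F] ((1 : F) ⊗ₜ[B] x)) = 0
      rw [AlgebraTensorModule.cancelBaseChange_tmul, one_smul]
      exact hx
    haveI : IsLocalizedModule yF.primeCompl (TensorProduct.mk F D (F ⊗[B] M) 1) :=
      (isLocalizedModule_iff_isBaseChange yF.primeCompl D _).2 (TensorProduct.isBaseChange F (F ⊗[B] M) D)
    obtain ⟨⟨s, hs⟩, hsx⟩ := IsLocalizedModule.exists_of_eq (S := yF.primeCompl)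
      (f := TensorProduct.mk F D (F ⊗[B] M) 1) (h0.trans (map_zero _).symm)
    obtain ⟨s, rfl⟩ := Ideal.Quotient.mk_surjective s
    simp only [Submonoid.smul_def, smul_zero] at hsx
    rw [TensorProduct.smul_tmul', smul_eq_mul, mul_one] at hsx
    have h1 := congrArg (TensorProduct.quotTensorEquivQuotSMul M P) hsx
    rw [map_zero, TensorProduct.quotTensorEquivQuotSMul_mk_tmul, Submodule.Quotient.mk_eq_zero] at h1
    exact ⟨s, fun h => hs ((hmemF s).2 h), (mem_smul_top_iff (B := B) m _).2 h1⟩
  have hcancel : ∀ (s : B), s ∉ y → ∀ z : D ⊗[B] M, s • z = 0 → z = 0 := fun s hs z hz => by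
    rw [← algebraMap_smul D s z] at hz
    exact (hunit s hs).smul_eq_zero.1 hz
  have hmax : ∀ d ∈ maximalIdeal D, ∃ s a : B, s ∉ y ∧ a ∈ y ∧ algebraMap B D s * d = algebraMap B D a := by
    intro d hd
    obtain ⟨⟨b, s⟩, hbs⟩ := IsLocalization.surj yF.primeCompl d
    obtain ⟨b, rfl⟩ := Ideal.Quotient.mk_surjective b
    obtain ⟨s, hs⟩ := s
    obtain ⟨s, rfl⟩ := Ideal.Quotient.mk_surjective s
    refine ⟨s, b, fun h => hs ((hmemF s).2 h), ?_, ?_⟩
    · by_contra hb
      have h1 : IsUnit (algebraMap B D b) := hunit b hb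
      rw [IsScalarTower.algebraMap_apply B F D, Ideal.Quotient.algebraMap_eq, ← hbs] at h1
      exact hd (isUnit_of_mul_isUnit_left h1)
    · rw [IsScalarTower.algebraMap_apply B F D, IsScalarTower.algebraMap_apply B F D, mul_comm]; exact hbs
  have hX : ∀ z : D ⊗[B] M, (∀ a ∈ maximalIdeal D, a • z = 0) → z = 0 := by
    intro z hz
    obtain ⟨s, x, hs, hsx⟩ := hrep z
    obtain ⟨t, ht, htx⟩ := hM x fun a ha => by
      have h0 : ι (a • x) = 0 := by
        rw [map_smul, ← hsx, ← algebraMap_smul D s z, ← algebraMap_smul D a, smul_comm]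
        rw [hz (algebraMap B D a) ?_, smul_zero]
        rw [IsScalarTower.algebraMap_apply B F D]
        exact (IsLocalization.AtPrime.to_map_mem_maximal_iff D yF _).2 ((hmemF a).2 ha)
      obtain ⟨u, hu, hux⟩ := hker _ h0
      exact ⟨u, hu, by rwa [mul_smul]⟩
    refine hcancel s hs z (hcancel t ht _ ?_)
    rw [hsx, ← map_smul]; exact hι0 _ htx
  -- the base change of the step
  let eB : D ⊗[B] (Fin r → B) ≃ₗ[D] (Fin r → D) := TensorProduct.piScalarRight B D D (Fin r)
  let φ : (Fin r → D) →ₗ[D] D ⊗[B] M := α.baseChange D ∘ₗ eB.symm.toLinearMap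
  have hφ : Function.Injective φ := by
    show Function.Injective (⇑(α.baseChange D) ∘ ⇑eB.symm)
    refine Function.Injective.comp ?_ eB.symm.injective
    intro u v huv
    let j : D ⊗[B] (Fin r → B) →ₗ[D] K ⊗[B] (Fin r → B) :=
      (AlgebraTensorModule.rTensor B (Fin r → B) (Algebra.linearMap D K))
    have hj : Function.Injective j := by
      refine Module.Flat.rTensor_preserves_injective_linearMap (M := Fin r → B)
        ((Algebra.linearMap D K).restrictScalars B) ?_
      show Function.Injective (algebraMap D K)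
      refine (IsLocalization.lift_injective_iff _).2 fun u v => ?_
      rw [(IsFractionRing.injective F K).eq_iff,
        (IsLocalization.injective D yF.primeCompl_le_nonZeroDivisors).eq_iff]
    apply hj
    apply hα.1
    have hcomm : ∀ w, α.baseChange K (j w) = (AlgebraTensorModule.rTensor B M (Algebra.linearMap D K)) (α.baseChange D w) :=
      fun w => by
        induction w using TensorProduct.induction_on with
        | zero => simp
        | tmul d f => rfl
        | add a b ha hb => simp only [map_add, ha, hb]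
    rw [hcomm, hcomm, huv]
  -- the socle of the cokernel
  have hrange : ∀ (s : B) (x : M), s • x ∈ LinearMap.range α → s • ι x ∈ (LinearMap.range φ).restrictScalars B := by
    rintro s x ⟨v, hv⟩
    refine ⟨eB ((1 : D) ⊗ₜ[B] v), ?_⟩
    show α.baseChange D (eB.symm (eB _)) = _
    rw [LinearEquiv.symm_apply_apply, LinearMap.baseChange_tmul, hv, ← map_smul]
    rfl
  simp only [NoAssAt, not_forall] at hT
  obtain ⟨xb, hxb, hnot⟩ := hT
  push Not at hnot
  obtain ⟨x, rfl⟩ := Submodule.Quotient.mk_surjective _ xb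
  let π : M →ₗ[R] M ⧸ LinearMap.range α := (LinearMap.range α).mkQ.restrictScalars R
  have hmemT : ∀ w : M, π w ∈ m • (⊤ : Submodule R (M ⧸ LinearMap.range α)) ↔
      ∃ w' ∈ m • (⊤ : Submodule R M), w - w' ∈ LinearMap.range α := by
    intro w
    have htop : m • (⊤ : Submodule R (M ⧸ LinearMap.range α)) = (m • (⊤ : Submodule R M)).map π := by
      rw [Submodule.map_smul'', Submodule.map_top, (LinearMap.range_eq_top (f := π)).2 (Submodule.mkQ_surjective _)]
    rw [htop]
    exact ⟨fun ⟨w', hw', h⟩ => ⟨w', hw', (Submodule.Quotient.eq _).1 h.symm⟩,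
      fun ⟨w', hw', h⟩ => ⟨w', hw', ((Submodule.Quotient.eq _).2 h).symm⟩⟩
  have hzm : ∀ d ∈ maximalIdeal D, d • ι x ∈ LinearMap.range φ := by
    intro d hd
    obtain ⟨s, a, hs, ha, hsa⟩ := hmax d hd
    obtain ⟨t, ht, htx⟩ := hxb a ha
    obtain ⟨w', hw', hw⟩ := (hmemT _).1 htx
    have h1 : (1 : B) • ι ((t * a) • x - w') ∈ (LinearMap.range φ).restrictScalars B := hrange 1 _ (by rwa [one_smul])
    have h0 : ι ((t * a) • x - w') = ι ((t * a) • x) := by rw [map_sub, hι0 _ hw']; exact sub_zero (ι ((t * a) • x))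
    rw [one_smul, h0] at h1
    rw [map_smul, ← algebraMap_smul D (t * a)] at h1
    have h2 : d • ι x = ((↑((hunit t ht).unit⁻¹) : D) * (↑((hunit s hs).unit⁻¹) : D)) • algebraMap B D (t * a) • ι x := by
      rw [← mul_smul, map_mul, ← hsa, show ((↑(hunit t ht).unit⁻¹ : D) * ↑(hunit s hs).unit⁻¹) *
        (algebraMap B D t * (algebraMap B D s * d)) = ((↑(hunit t ht).unit⁻¹ : D) * algebraMap B D t) *
        ((↑(hunit s hs).unit⁻¹ : D) * algebraMap B D s) * d by ring, IsUnit.val_inv_mul, IsUnit.val_inv_mul, one_mul,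
        one_mul]
    rw [h2]
    exact Submodule.smul_mem _ _ h1
  have hz : ι x ∉ LinearMap.range φ := by
    rintro ⟨v, hv⟩
    have h1 : ∃ (s : B) (w : Fin r → B), s ∉ y ∧ s • v = eB ((1 : D) ⊗ₜ[B] w) := by
      have hex : ∀ j, ∃ (s b : B), s ∉ y ∧ algebraMap B D s * v j = algebraMap B D b := fun j => by
        obtain ⟨⟨b, s⟩, hbs⟩ := IsLocalization.surj yF.primeCompl (v j)
        obtain ⟨b, rfl⟩ := Ideal.Quotient.mk_surjective b
        obtain ⟨s, hs⟩ := s
        obtain ⟨s, rfl⟩ := Ideal.Quotient.mk_surjective s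
        exact ⟨s, b, fun h => hs ((hmemF s).2 h), by
          rw [IsScalarTower.algebraMap_apply B F D, IsScalarTower.algebraMap_apply B F D, mul_comm]; exact hbs⟩
      choose s b hs hsb using hex
      refine ⟨∏ j, s j, fun j => (∏ i ∈ Finset.univ.erase j, s i) * b j, fun h => ?_, funext fun j => ?_⟩
      · obtain ⟨i, -, hi⟩ := (Ideal.IsPrime.prod_mem_iff).1 h; exact hs i hi
      · rw [TensorProduct.piScalarRight_apply, TensorProduct.piScalarRightHom_tmul, Pi.smul_apply, Algebra.smul_def]
        show _ = ((∏ i ∈ Finset.univ.erase j, s i) * b j) • (1 : D)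
        rw [Algebra.smul_def, mul_one, map_mul, ← hsb, ← Finset.mul_prod_erase _ _ (Finset.mem_univ j), map_mul]
        ring
    obtain ⟨s, w, hs, hsw⟩ := h1
    have h2 : ι (s • x - α w) = 0 := by
      rw [map_sub, map_smul, ← hv, ← algebraMap_smul D s (φ v), ← map_smul, algebraMap_smul, hsw, sub_eq_zero]
      show α.baseChange D (eB.symm (eB ((1 : D) ⊗ₜ[B] w))) = _
      rw [LinearEquiv.symm_apply_apply, LinearMap.baseChange_tmul]; rfl
    obtain ⟨t, ht, htx⟩ := hker _ h2
    refine hnot (t * s) (fun h => (‹y.IsPrime›.mem_or_mem h).elim ht hs) ((hmemT _).2 ⟨_, htx, ?_⟩)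
    rw [smul_sub, ← mul_smul, sub_sub_cancel]
    exact Submodule.smul_mem _ _ ⟨w, rfl⟩
  haveI := free_of_coker_depth_zero φ hX (ι x) hz hzm hφ
  -- lift a basis
  let b := Module.Free.chooseBasis D (D ⊗[B] M)
  haveI : Fintype (Module.Free.ChooseBasisIndex D (D ⊗[B] M)) := inferInstance
  obtain ⟨k, b⟩ : Σ k : ℕ, Module.Basis (Fin k) D (D ⊗[B] M) := ⟨_, b.reindex (Fintype.equivFin _)⟩
  choose s x hs hsx using fun j => hrep (b j)
  let β : (Fin k → B) →ₗ[B] M := Fintype.linearCombination B x
  have hβ : Function.Bijective (β.baseChange D) := by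
    let b' := b.unitsSMul fun j => (hunit (s j) (hs j)).unit
    have hb' : ∀ j, b' j = ι (x j) := fun j => by
      rw [Module.Basis.unitsSMul_apply, Units.smul_def, IsUnit.unit_spec, algebraMap_smul, hsx]
    have he : β.baseChange D = ((TensorProduct.piScalarRight B D D (Fin k)).trans b'.equivFun.symm).toLinearMap := by
      refine TensorProduct.AlgebraTensorModule.curry_injective ?_
      ext j
      show (1 : D) ⊗ₜ[B] β (Pi.single j 1) = b'.equivFun.symm (TensorProduct.piScalarRight B D D (Fin k) ((1 : D) ⊗ₜ[B] Pi.single j 1))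
      rw [show β (Pi.single j 1) = x j by simp [β, Fintype.linearCombination_apply_single]]
      rw [TensorProduct.piScalarRight_apply, TensorProduct.piScalarRightHom_tmul, Module.Basis.equivFun_symm_apply]
      refine (hb' j).symm.trans ?_
      rw [Finset.sum_eq_single j]
      · rw [Pi.single_eq_same, one_smul (M := B), one_smul]
      · intro i _ hi; rw [Pi.single_eq_of_ne hi, zero_smul, zero_smul]
      · intro h; exact absurd (Finset.mem_univ j) h
    rw [he]; exact LinearEquiv.bijective _
  have hβK : Function.Bijective (β.baseChange K) := bijective_baseChange_trans β hβ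
  have hu := RG4.univInj_localized hB hP hβK
  have hinjβ : Function.Injective β := fun u v huv => by
    refine (TensorProduct.lid R _).symm.injective (hu R ?_)
    show (1 : R) ⊗ₜ[R] _ = (1 : R) ⊗ₜ[R] _
    rw [LinearMap.restrictScalars_apply, LinearMap.comp_apply, huv]
    rfl
  have hsurjy : Function.Surjective (LocalizedModule.map y.primeCompl β) := by
    haveI : Subsingleton (y.ResidueField ⊗[B] (M ⧸ LinearMap.range β)) := by
      letI : Algebra D y.ResidueField := (IsLocalization.lift (M := yF.primeCompl)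
        (g := Ideal.Quotient.lift P (algebraMap B y.ResidueField) fun a ha =>
          Ideal.algebraMap_residueField_eq_zero.2 (hPy ha)) fun u => by
        obtain ⟨u, hu⟩ := u
        obtain ⟨u, rfl⟩ := Ideal.Quotient.mk_surjective u
        rw [Ideal.Quotient.lift_mk]
        exact isUnit_iff_ne_zero.2 fun h => hu ((hmemF u).2 (Ideal.algebraMap_residueField_eq_zero.1 h))).toAlgebra
      haveI : IsScalarTower B D y.ResidueField := IsScalarTower.of_algebraMap_eq fun c => by
        rw [IsScalarTower.algebraMap_apply B F D, RingHom.algebraMap_toAlgebra, IsLocalization.lift_eq]; rfl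
      exact RG4.subsingleton_baseChange_coker _ β (bijective_baseChange_trans β hβ).2
    have hns : (⟨y, ‹_›⟩ : PrimeSpectrum B) ∉ Module.support B (M ⧸ LinearMap.range β) := fun h => by
      rw [Module.mem_support_iff_nontrivial_residueField_tensorProduct] at h
      exact not_subsingleton _ ‹Subsingleton (y.ResidueField ⊗[B] (M ⧸ LinearMap.range β))›
    intro z
    induction z using LocalizedModule.induction_on with
    | h w t =>
      obtain ⟨u, hu, huw⟩ := Module.notMem_support_iff'.1 hns (Submodule.Quotient.mk w)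
      obtain ⟨v, hv⟩ : u • w ∈ LinearMap.range β := (Submodule.Quotient.mk_eq_zero _).1 (by rw [← huw]; rfl)
      refine ⟨LocalizedModule.mk v (⟨u, hu⟩ * t), ?_⟩
      rw [LocalizedModule.map_mk, hv, LocalizedModule.mk_eq]
      exact ⟨1, by simp only [Submonoid.smul_def, Submonoid.coe_mul, OneMemClass.coe_one, one_smul]; rw [smul_smul, mul_comm]⟩
  have hbij : Function.Bijective (LocalizedModule.map y.primeCompl β) :=
    ⟨LocalizedModule.map_injective y.primeCompl β hinjβ, hsurjy⟩
  haveI : Module.Flat R B := inferInstance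
  haveI : Module.Flat R (Fin k → B) :=
    Module.Flat.of_linearEquiv (DirectSum.linearEquivFunOnFintype R (Fin k) (fun _ => B)).symm
  haveI : Module.Flat R (LocalizedModule y.primeCompl (Fin k → B)) :=
    RG4.flat_of_isLocalizedModule y.primeCompl (LocalizedModule.mkLinearMap y.primeCompl (Fin k → B))
  exact Module.Flat.of_linearEquiv ((LinearEquiv.ofBijective _ hbij).restrictScalars R).symm

end Groth.Agent.Dev4
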