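import Groth.Agent.Lib.Dev4.WeakAssTensorCore
import Mathlib.RingTheory.FinitePresentation
import Mathlib.RingTheory.Ideal.AssociatedPrime.Finiteness

/-!
# Weakly associated points of tensor products over flat families of finite type
-/

set_option autoImplicit false
set_option maxSynthPendingDepth 3

universe u

open TensorProduct IsLocalRing

set_option backward.isDefEq.respectTransparency.types false

attribute [local instance] Algebra.TensorProduct.rightAlgebra

namespace Groth.Agent.Dev4

/-- Witnesses pass to localisations. -/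
theorem isWk_map {S A X Y : Type u} [CommRing S] [CommRing A] [Algebra S A] (T : Submonoid S) [IsLocalization T A]
    [AddCommGroup X] [Module S X] [AddCommGroup Y] [Module S Y] [Module A Y] [IsScalarTower S A Y]
    (j : X →ₗ[S] Y) [IsLocalizedModule T j] (q : Ideal S) [q.IsPrime] (Q : Ideal A) [Q.IsPrime] [Q.LiesOver q]
    {x : X} (hx : IsWk q x) : IsWk Q (j x) := by
  refine ⟨fun a ha => ?_, fun a ha => ?_⟩
  · obtain ⟨⟨b, t⟩, hbt⟩ := IsLocalization.surj T a
    obtain ⟨s, hs, k, hk⟩ := hx.1 b ((Ideal.mem_of_liesOver Q q b).2 (by rw [← hbt]; exact Q.mul_mem_right _ ha))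
    refine ⟨algebraMap S A (s * (t : S) ^ k), fun h => ?_, k, ?_⟩
    · rcases ‹q.IsPrime›.mem_or_mem ((Ideal.mem_of_liesOver Q q _).2 h) with h | h
      · exact hs h
      · refine ‹Q.IsPrime›.ne_top (Ideal.eq_top_of_isUnit_mem _
          ((Ideal.mem_of_liesOver Q q _).1 (‹q.IsPrime›.mem_of_pow_mem k h)) (IsLocalization.map_units A t))
    · have : algebraMap S A (s * (t : S) ^ k) * a ^ k = algebraMap S A (s * b ^ k) := by
        rw [map_mul, map_mul, map_pow, map_pow, ← hbt, mul_pow]; ring
      rw [this, algebraMap_smul, ← map_smul, hk, map_zero]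
  · obtain ⟨⟨b, t⟩, hbt⟩ := IsLocalization.surj T a
    have h : j (b • x) = 0 := by
      rw [map_smul, ← algebraMap_smul A b (j x), ← hbt, mul_comm, mul_smul, ha, smul_zero]
    obtain ⟨u, hu⟩ := (IsLocalizedModule.eq_zero_iff T j).1 h
    rw [Submonoid.smul_def, ← mul_smul] at hu
    have hb : b ∈ q := (‹q.IsPrime›.mem_or_mem (hx.2 _ hu)).resolve_left fun h =>
      ‹Q.IsPrime›.ne_top (Ideal.eq_top_of_isUnit_mem _ ((Ideal.mem_of_liesOver Q q _).1 h) (IsLocalization.map_units A u))
    have h1 : a * algebraMap S A t ∈ Q := by rw [hbt]; exact (Ideal.mem_of_liesOver Q q _).1 hb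
    exact (‹Q.IsPrime›.mem_or_mem h1).resolve_right fun h =>
      ‹Q.IsPrime›.ne_top (Ideal.eq_top_of_isUnit_mem _ h (IsLocalization.map_units A t))

/-- Witnesses descend from localisations. -/
theorem exists_isWk_of_map {S A X Y : Type u} [CommRing S] [CommRing A] [Algebra S A] (T : Submonoid S) [IsLocalization T A]
    [AddCommGroup X] [Module S X] [AddCommGroup Y] [Module S Y] [Module A Y] [IsScalarTower S A Y]
    (j : X →ₗ[S] Y) [IsLocalizedModule T j] (q : Ideal S) [q.IsPrime] (Q : Ideal A) [Q.IsPrime] [Q.LiesOver q]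
    {y : Y} (hy : IsWk Q y) : ∃ x : X, IsWk q x := by
  have hT : ∀ u : T, (u : S) ∉ q := fun u h =>
    ‹Q.IsPrime›.ne_top (Ideal.eq_top_of_isUnit_mem _ ((Ideal.mem_of_liesOver Q q _).1 h) (IsLocalization.map_units A u))
  obtain ⟨⟨x, t⟩, hxt⟩ := IsLocalizedModule.surj T j y
  rw [Submonoid.smul_def] at hxt
  refine ⟨x, fun a ha => ?_, fun s hs => ?_⟩
  · obtain ⟨s', hs', k, hk⟩ := hy.1 (algebraMap S A a) ((Ideal.mem_of_liesOver Q q a).1 ha)
    obtain ⟨⟨b, u⟩, hbu⟩ := IsLocalization.surj T s'
    have hb : b ∉ q := fun h => hs' ((‹Q.IsPrime›.mem_or_mem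
      (show s' * algebraMap S A u ∈ Q by rw [hbu]; exact (Ideal.mem_of_liesOver Q q _).1 h)).resolve_right
        fun h' => ‹Q.IsPrime›.ne_top (Ideal.eq_top_of_isUnit_mem _ h' (IsLocalization.map_units A u)))
    have h0 : j ((b * a ^ k) • x) = 0 := by
      rw [map_smul, ← hxt, smul_comm, ← algebraMap_smul A (b * a ^ k) y, map_mul, map_pow, ← hbu,
        show s' * algebraMap S A u * algebraMap S A a ^ k = algebraMap S A u * (s' * algebraMap S A a ^ k) by ring,
        mul_smul, hk, smul_zero, smul_zero]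
    obtain ⟨v, hv⟩ := (IsLocalizedModule.eq_zero_iff T j).1 h0
    rw [Submonoid.smul_def, ← mul_smul, ← mul_assoc] at hv
    exact ⟨v * b, fun h => (‹q.IsPrime›.mem_or_mem h).elim (hT v) hb, k, hv⟩
  · have h0 : algebraMap S A (s * t) • y = 0 := by
      rw [algebraMap_smul, mul_smul, hxt, ← map_smul, hs, map_zero]
    exact (‹q.IsPrime›.mem_or_mem ((Ideal.mem_of_liesOver Q q _).2 (hy.2 _ h0))).resolve_right (hT t)

theorem comap_fiberIdeal {R S : Type u} [CommRing R] [CommRing S] [Algebra R S] (p : Ideal R) [p.IsPrime]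
    (q : Ideal S) [q.IsPrime] [q.LiesOver p] :
    (FlatCA.fiberIdeal p q).comap (CI2.FibAss.inc (S := S) p) = q := by
  refine le_antisymm (fun t ht => ?_) Ideal.le_comap_map
  let π : p.ResidueField →ₐ[R] q.ResidueField :=
    Ideal.ResidueField.mapₐ p q (Algebra.ofId R S) (Ideal.LiesOver.over (P := q) (p := p))
  let Φ := Algebra.TensorProduct.lift π (IsScalarTower.toAlgHom R S q.ResidueField) fun _ _ => Commute.all _ _
  have hle : FlatCA.fiberIdeal p q ≤ RingHom.ker Φ := Ideal.map_le_iff_le_comap.2 fun x hx => by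
    show Φ ((1 : p.ResidueField) ⊗ₜ[R] x) = 0
    rw [Algebra.TensorProduct.lift_tmul, map_one, one_mul]
    exact Ideal.algebraMap_residueField_eq_zero.2 hx
  have h0 : Φ ((1 : p.ResidueField) ⊗ₜ[R] t) = 0 := hle ht
  rw [Algebra.TensorProduct.lift_tmul, map_one, one_mul] at h0
  exact Ideal.algebraMap_residueField_eq_zero.1 h0

/-- An element off `q` vanishing at the fibre points which are not below `q`. -/
theorem exists_separating {R S : Type u} [CommRing R] [CommRing S] [Algebra R S] [Algebra.FiniteType R S]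
    (N : Type u) [AddCommGroup N] [Module S N] [Module R N] [IsScalarTower R S N] [Module.Finite S N]
    (p : Ideal R) [p.IsPrime] (q : Ideal S) [q.IsPrime] :
    ∃ g : S, g ∉ q ∧ ∀ r : Ideal S, r.IsPrime → r.LiesOver p → (∃ w : N ⊗[R] p.ResidueField, IsWk r w) →
      ¬ r ≤ q → g ∈ r := by
  classical
  haveI : IsNoetherianRing (p.Fiber S) := Algebra.FiniteType.isNoetherianRing p.ResidueField (p.Fiber S)
  haveI : Module.Finite (p.Fiber S) (FlatCA.fiberMod p S N) :=
    inferInstanceAs (Module.Finite (p.Fiber S) ((p.Fiber S) ⊗[S] N))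
  have hfin := associatedPrimes.finite (p.Fiber S) (FlatCA.fiberMod p S N)
  have hsel : ∀ P : Ideal (p.Fiber S), ∃ x : S, x ∉ q ∧
      (¬ P.comap (CI2.FibAss.inc (S := S) p) ≤ q → x ∈ P.comap (CI2.FibAss.inc (S := S) p)) := fun P => by
    by_cases h : P.comap (CI2.FibAss.inc (S := S) p) ≤ q
    · exact ⟨1, fun h1 => ‹q.IsPrime›.ne_top ((Ideal.eq_top_iff_one q).2 h1), fun h' => (h' h).elim⟩
    · obtain ⟨x, hx, hxq⟩ := Set.not_subset.1 h
      exact ⟨x, hxq, fun _ => hx⟩
  choose x hxq hx using hsel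
  refine ⟨∏ P ∈ hfin.toFinset, x P, fun h => ?_, fun r hr hrp hwk hrq => ?_⟩
  · obtain ⟨P, -, hP⟩ := (Ideal.IsPrime.prod_mem_iff).1 h
    exact hxq P hP
  · haveI := hrp
    have hP : FlatCA.fiberIdeal p r ∈ hfin.toFinset := hfin.mem_toFinset.2 ((fiberIdeal_mem_associatedPrimes_iff p N r).2 hwk)
    have h := hx (FlatCA.fiberIdeal p r) (by rwa [comap_fiberIdeal])
    rw [comap_fiberIdeal] at h
    exact Ideal.mem_of_dvd _ (Finset.dvd_prod_of_mem x hP) h

/-- The weakly associated points of a tensor product over a finitely presented algebra. -/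
theorem isWk_tensor_fp {R S : Type u} [CommRing R] [CommRing S] [Algebra R S] [Algebra.FinitePresentation R S]
    (N : Type u) [AddCommGroup N] [Module S N] [Module R N] [IsScalarTower R S N] [Module.Finite S N]
    (M : Type u) [AddCommGroup M] [Module R M] (p : Ideal R) [p.IsPrime] (q : Ideal S) [q.IsPrime] [q.LiesOver p]
    (hflat : FlatCA.FlatAt R q N) {z : N ⊗[R] M} (hz : IsWk q z) :
    (∃ m : M, IsWk p m) ∧ ∃ w : N ⊗[R] p.ResidueField, IsWk q w := by
  obtain ⟨g, hgq, hg⟩ := exists_separating N p q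
  let A := Localization.Away g
  let T := Submonoid.powers g
  let Q : Ideal A := q.map (algebraMap S A)
  have hdis : Disjoint (T : Set S) (q : Set S) := (Ideal.disjoint_powers_iff_notMem_of_isPrime _).2 hgq
  haveI : Q.IsPrime := IsLocalization.isPrime_of_isPrime_disjoint T _ _ ‹q.IsPrime› hdis
  haveI : Q.LiesOver q := ⟨(IsLocalization.under_map_of_isPrime_disjoint T A ‹q.IsPrime› hdis).symm⟩
  haveI : Q.LiesOver p := Ideal.LiesOver.trans Q q p
  haveI : Algebra.FinitePresentation R A :=
    haveI := IsLocalization.Away.finitePresentation (S := A) g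
    Algebra.FinitePresentation.trans R S A
  haveI : Module.Flat S A := IsLocalization.flat A T
  let N₁ := A ⊗[S] N
  haveI : IsLocalizedModule T (TensorProduct.mk S A N 1) :=
    (isLocalizedModule_iff_isBaseChange T A _).2 (TensorProduct.isBaseChange S N A)
  have hflat₁ : FlatCA.FlatAt R Q N₁ := flatAt_of_flat_map (R := R) (C := A) N q Q hflat
  have h1 := isWk_of_tensor N₁ M p Q hflat₁ (fun r hr hrp ⟨w, hw⟩ => by
      let r₀ := r.comap (algebraMap S A)
      haveI : r.LiesOver r₀ := ⟨rfl⟩
      haveI := hr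
      haveI := hrp
      haveI : r₀.LiesOver p := ⟨by
        rw [Ideal.LiesOver.over (P := r) (p := p)]
        show r.comap (algebraMap R A) = (r.comap (algebraMap S A)).comap (algebraMap R S)
        rw [Ideal.comap_comap, ← IsScalarTower.algebraMap_eq]⟩
      have hgr : g ∉ r₀ := fun h => hr.ne_top (Ideal.eq_top_of_isUnit_mem _ h
        (IsLocalization.map_units A (⟨g, Submonoid.mem_powers g⟩ : T)))
      have hle : r₀ ≤ q := by
        by_contra hc
        exact hgr (hg r₀ inferInstance inferInstance (exists_isWk_of_map T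
          (AlgebraTensorModule.rTensor R p.ResidueField (TensorProduct.mk S A N 1)) r₀ r hw) hc)
      have h : r = r₀.map (algebraMap S A) := (IsLocalization.map_comap T A r).symm
      rw [h]
      exact Ideal.map_mono hle)
    (isWk_map T (AlgebraTensorModule.rTensor R M (TensorProduct.mk S A N 1)) q Q hz)
  obtain ⟨hm, w, hw⟩ := h1
  exact ⟨hm, exists_isWk_of_map T (AlgebraTensorModule.rTensor R p.ResidueField (TensorProduct.mk S A N 1)) q Q hw⟩

/-- Witnesses do not see quotient rings. -/
theorem isWk_comap {P S X : Type u} [CommRing P] [CommRing S] [Algebra P S] [AddCommGroup X] [Module P X] [Module S X]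
    [IsScalarTower P S X] (hs : Function.Surjective (algebraMap P S)) (q : Ideal S) (x : X) :
    IsWk (q.comap (algebraMap P S)) x ↔ IsWk q x := by
  constructor
  · refine fun h => ⟨fun a ha => ?_, fun s hs' => ?_⟩
    · obtain ⟨a, rfl⟩ := hs a
      obtain ⟨s, hs', k, hk⟩ := h.1 a ha
      exact ⟨algebraMap P S s, hs', k, by rw [← map_pow, ← map_mul, algebraMap_smul, hk]⟩
    · obtain ⟨s, rfl⟩ := hs s
      exact h.2 s (by rwa [algebraMap_smul] at hs')
  · refine fun h => ⟨fun a ha => ?_, fun s hs' => h.2 _ (by rw [algebraMap_smul, hs'])⟩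
    obtain ⟨s, hs', k, hk⟩ := h.1 _ ha
    obtain ⟨s, rfl⟩ := hs s
    exact ⟨s, hs', k, by rwa [← map_pow, ← map_mul, algebraMap_smul] at hk⟩

/-- The weakly associated points of the tensor product with a module flat at the point. -/
theorem mem_weakAss_tensor_iff {R S : Type u} [CommRing R] [CommRing S] [Algebra R S] [Algebra.FiniteType R S]
    (N : Type u) [AddCommGroup N] [Module S N] [Module R N] [IsScalarTower R S N] [Module.Finite S N]
    (M : Type u) [AddCommGroup M] [Module R M]
    (p : Ideal R) [p.IsPrime] (q : Ideal S) [q.IsPrime] [q.LiesOver p] (hflat : FlatCA.FlatAt R q N) :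
    q ∈ FlatCA.weakAss S (N ⊗[R] M) ↔
      (p ∈ FlatCA.weakAss R M ∧ FlatCA.fiberIdeal p q ∈ associatedPrimes (p.Fiber S) (FlatCA.fiberMod p S N)) := by
  rw [mem_weakAss_iff_exists, mem_weakAss_iff_exists, fiberIdeal_mem_associatedPrimes_iff p N q]
  refine ⟨fun ⟨z, hz⟩ => ?_, fun ⟨⟨m, hm⟩, ⟨w, hw⟩⟩ => isWk_tensor N M p q hflat hm hw⟩
  obtain ⟨n, φ, hφ⟩ := Algebra.FiniteType.iff_quotient_mvPolynomial''.1 ‹Algebra.FiniteType R S›
  letI : Algebra (MvPolynomial (Fin n) R) S := φ.toRingHom.toAlgebra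
  haveI : IsScalarTower R (MvPolynomial (Fin n) R) S := IsScalarTower.of_algHom φ
  letI : Module (MvPolynomial (Fin n) R) N := Module.compHom N φ.toRingHom
  haveI : IsScalarTower (MvPolynomial (Fin n) R) S N := IsScalarTower.of_algebraMap_smul fun _ _ => rfl
  haveI : IsScalarTower R (MvPolynomial (Fin n) R) N :=
    IsScalarTower.of_algebraMap_smul fun r x => by
      show φ (algebraMap R _ r) • x = r • x
      rw [AlgHom.commutes, algebraMap_smul]
  haveI : Module.Finite (MvPolynomial (Fin n) R) S := Module.Finite.of_surjective (Algebra.linearMap _ S) hφ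
  haveI : Module.Finite (MvPolynomial (Fin n) R) N := Module.Finite.trans S N
  have hflat' : FlatCA.FlatAt R (q.comap φ) N :=
    (FlatH4.flat_localized_comap_iff (M := N) φ hφ q (fun _ _ => rfl)).2 hflat
  haveI : (q.comap (algebraMap (MvPolynomial (Fin n) R) S)).LiesOver p := ⟨by
    rw [Ideal.LiesOver.over (P := q) (p := p)]
    show q.comap (algebraMap R S) = (q.comap (algebraMap (MvPolynomial (Fin n) R) S)).comap _
    rw [Ideal.comap_comap, ← IsScalarTower.algebraMap_eq]⟩
  obtain ⟨hm, w, hw⟩ := isWk_tensor_fp (S := MvPolynomial (Fin n) R) N M p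
    (q.comap (algebraMap (MvPolynomial (Fin n) R) S)) hflat' ((isWk_comap hφ q z).2 hz)
  exact ⟨hm, w, (isWk_comap hφ q w).1 hw⟩

end Groth.Agent.Dev4
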