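import Groth.Agent.Lib.Dev4.Covering
import Groth.Agent.Lib.Dev4.WeakAssTensorIff
import Groth.Agent.Lib.SchDom.FlatInj
import Groth.Agent.Lib.FlatH4.FlatLocusFP
import Groth.Agent.Lib.FlatSyz.Kernel
import Groth.Agent.Lib.RG4.LocFlat

/-!
# Spreading out coverings of associated fibre points
-/

set_option autoImplicit false
set_option maxSynthPendingDepth 3

universe u

open TensorProduct

set_option backward.isDefEq.respectTransparency.types false

namespace Groth.Agent.Dev4

/-- An open set containing everything over the generalisations of a point contains a tube. -/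
theorem exists_tube {R B : Type u} [CommRing R] [CommRing B] [Algebra R B] (p : Ideal R) [p.IsPrime]
    (W : Set (PrimeSpectrum B)) (hW : IsOpen W)
    (h : ∀ x : PrimeSpectrum B, x.asIdeal.comap (algebraMap R B) ≤ p → x ∈ W) :
    ∃ f : R, f ∉ p ∧ ∀ x : PrimeSpectrum B, algebraMap R B f ∉ x.asIdeal → x ∈ W := by
  obtain ⟨s, hs⟩ := (PrimeSpectrum.isOpen_iff W).1 hW
  by_contra hc
  push Not at hc
  obtain ⟨r, hr, hIr, hdis⟩ := Ideal.exists_le_prime_disjoint (Ideal.span s) (Algebra.algebraMapSubmonoid B p.primeCompl)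
    (Set.disjoint_left.2 fun x hx hxT => by
      obtain ⟨f, hf, rfl⟩ := hxT
      obtain ⟨y, hy, hyW⟩ := hc f hf
      have hy' : y ∈ PrimeSpectrum.zeroLocus s := by rw [← hs]; exact hyW
      exact hy (Ideal.span_le.2 hy' hx))
  have h1 : (⟨r, hr⟩ : PrimeSpectrum B) ∈ W := h _ fun c hc' => by
    by_contra hcp
    exact Set.disjoint_left.1 hdis (show algebraMap R B c ∈ r from hc') ⟨c, hcp, rfl⟩
  have h2 : (⟨r, hr⟩ : PrimeSpectrum B) ∈ Wᶜ := by rw [hs]; exact fun x hx => hIr (Ideal.subset_span hx)
  exact h2 h1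

variable {R B : Type u} [CommRing R] [CommRing B] [Algebra R B] [Algebra.FinitePresentation R B]
  (N : Type u) [AddCommGroup N] [Module B N] [Module R N] [IsScalarTower R B N] [Module.FinitePresentation B N]
  [Module.Flat R N]

/-- Coverings of the associated fibre points over the generalisations of a point spread to a neighbourhood. -/
theorem exists_covered_away (V : Set (PrimeSpectrum B)) (hV : IsOpen V) (hVc : IsCompact V) (p : Ideal R) [p.IsPrime]
    (h : ∀ (t : Ideal R) [t.IsPrime] (r : Ideal B) [r.IsPrime] [r.LiesOver t], t ≤ p →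
      (∃ w : N ⊗[R] t.ResidueField, IsWk r w) → (⟨r, inferInstance⟩ : PrimeSpectrum B) ∈ V) :
    ∃ f : R, f ∉ p ∧ ∀ (t : Ideal R) [t.IsPrime] (r : Ideal B) [r.IsPrime] [r.LiesOver t], f ∉ t →
      (∃ w : N ⊗[R] t.ResidueField, IsWk r w) → (⟨r, inferInstance⟩ : PrimeSpectrum B) ∈ V := by
  classical
  obtain ⟨G, hG, hGV⟩ := PrimeSpectrum.isCompact_isOpen_iff.1 ⟨hVc, hV⟩ |> fun h =>
    (show ∃ G : Finset B, True ∧ ∀ x : PrimeSpectrum B, x ∈ V ↔ ∃ g ∈ G, g ∉ x.asIdeal by
      obtain ⟨G, hG⟩ := h
      refine ⟨G, trivial, fun x => ?_⟩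
      rw [← hG, Set.mem_compl_iff, PrimeSpectrum.mem_zeroLocus, Set.not_subset]
      simp)
  clear hG
  let g : Fin G.card → B := fun i => G.equivFin.symm i
  have hgV : ∀ x : PrimeSpectrum B, (∀ i, g i ∈ x.asIdeal) → x ∉ V := fun x hx hxV => by
    obtain ⟨a, ha, hax⟩ := (hGV x).1 hxV
    exact hax (by simpa [g] using hx (G.equivFin ⟨a, ha⟩))
  let M := Fin G.card → N
  haveI : Module.Flat R M :=
    Module.Flat.of_linearEquiv (DirectSum.linearEquivFunOnFintype R (Fin G.card) (fun _ => N)).symm
  haveI : Module.FinitePresentation B M := Module.FinitePresentation.pi (fun _ : Fin G.card => N)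
  let ψ : N →ₗ[B] M := LinearMap.pi fun i => g i • LinearMap.id
  -- injective on the fibres over generalisations
  have hgood : ∀ x : PrimeSpectrum B, x.asIdeal.comap (algebraMap R B) ≤ p →
      (∀ (y : N) (t : B), t ∉ x.asIdeal → t • ψ y = 0 → ∃ t' ∉ x.asIdeal, t' • y = 0) ∧
      Module.Flat R (LocalizedModule x.asIdeal.primeCompl (M ⧸ LinearMap.range ψ)) := by
    intro x hx
    let t := x.asIdeal.comap (algebraMap R B)
    refine SchDom.injective_flat_coker_of_fibre (A := R) x.asIdeal ψ fun z σ hσ hz => ?_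
    have hgi : ∀ i, σ • g i • z ∈ t • (⊤ : Submodule R N) := fun i => by
      have h1 := Submodule.mem_map_of_mem (f := LinearMap.proj (R := R) (φ := fun _ : Fin G.card => N) i) hz
      rw [Submodule.map_smul''] at h1
      exact Submodule.smul_mono le_rfl le_top h1
    have hw : σ • z ⊗ₜ[R] (1 : t.ResidueField) = 0 := by
      by_contra hne
      obtain ⟨r, hr, hrt, hrass, hann⟩ := exists_assoc_of_ne_zero (R := R) (S := B) N t hne
      haveI := hrt
      refine hgV ⟨r, hr⟩ (fun i => hann _ ?_) (h t r hx ((fiberIdeal_mem_associatedPrimes_iff t N r).1 hrass))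
      rw [smul_comm (g i), TensorProduct.smul_tmul', TensorProduct.smul_tmul']
      exact tmul_one_eq_zero_of_mem t N (hgi i)
    rw [TensorProduct.smul_tmul'] at hw
    obtain ⟨d, hd, hdz⟩ := exists_smul_mem_of_tmul_one_eq_zero t N hw
    exact ⟨algebraMap R B d * σ, fun hm => (x.2.mem_or_mem hm).elim hd hσ, by rwa [mul_smul, algebraMap_smul]⟩
  haveI : Module.FinitePresentation B (M ⧸ LinearMap.range ψ) :=
    Module.finitePresentation_of_surjective (LinearMap.range ψ).mkQ (Submodule.mkQ_surjective _)
      (by rw [Submodule.ker_mkQ, LinearMap.range_eq_map]; exact Module.Finite.fg_top.map ψ)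
  -- the cokernel is flat over a tube
  obtain ⟨f₁, hf₁, hflat₁⟩ := exists_tube p _ (FlatH4.isOpen_flat_localized (R := R) (S := B) (M := M ⧸ LinearMap.range ψ))
    fun x hx => (hgood x hx).2
  -- the kernel after localisation is finitely generated
  let T := Submonoid.powers (algebraMap R B f₁)
  let B₁ := Localization T
  haveI : IsLocalization.Away (algebraMap R B f₁) B₁ := inferInstanceAs (IsLocalization T B₁)
  haveI : Algebra.FinitePresentation B B₁ := IsLocalization.Away.finitePresentation (algebraMap R B f₁)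
  haveI : Algebra.FinitePresentation R B₁ := Algebra.FinitePresentation.trans R B B₁
  let M₁ := LocalizedModule T M
  let N₁ := LocalizedModule T N
  haveI : Module.FinitePresentation B₁ N₁ := inferInstance
  haveI : Module.FinitePresentation B₁ M₁ := inferInstance
  let ψ₁ : N₁ →ₗ[B₁] M₁ := LocalizedModule.map T ψ
  let π₁ : M₁ →ₗ[B₁] LocalizedModule T (M ⧸ LinearMap.range ψ) := LocalizedModule.map T (LinearMap.range ψ).mkQ
  haveI : Module.Flat R (LocalizedModule T (M ⧸ LinearMap.range ψ)) :=
    Module.flat_of_isLocalized_maximal (R := R) (M := LocalizedModule T (M ⧸ LinearMap.range ψ)) B₁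
      (fun P => LocalizedModule P.primeCompl _) (fun P _ => LocalizedModule.mkLinearMap P.primeCompl _) fun P _ => by
        let Q : PrimeSpectrum B := PrimeSpectrum.comap (algebraMap B B₁) ⟨P, inferInstance⟩
        haveI : P.LiesOver Q.asIdeal := ⟨rfl⟩
        obtain ⟨eP⟩ := exists_localizedEquiv T B₁ (M ⧸ LinearMap.range ψ)
        let e' : LocalizedModule T (M ⧸ LinearMap.range ψ) ≃ₗ[B₁] B₁ ⊗[B] (M ⧸ LinearMap.range ψ) :=
          LinearEquiv.extendScalarsOfIsLocalization T B₁ eP
        have hQ := flatAt_of_flat_map (R := R) (C := B₁) (M ⧸ LinearMap.range ψ) Q.asIdeal P (hflat₁ Q fun hh => by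
          refine (inferInstance : P.IsMaximal).ne_top (Ideal.eq_top_of_isUnit_mem _ hh ?_)
          exact IsLocalization.map_units B₁ (⟨_, Submonoid.mem_powers _⟩ : T))
        exact (FlatH4.flat_localized_congr P e').2 hQ
  have hker : (LinearMap.ker ψ₁).FG := by
    haveI := FlatSyz.finitePresentation_ker (A := R) π₁ (LocalizedModule.map_surjective T _ (Submodule.mkQ_surjective _))
    haveI : Module.FinitePresentation B₁ (LinearMap.range ψ₁) :=
      Module.FinitePresentation.of_equiv (LinearEquiv.ofEq _ _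
        (LinearMap.exact_iff.1 (show Function.Exact ψ₁ π₁ from
          fun z => (LocalizedModule.map_exact T ψ (LinearMap.range ψ).mkQ (LinearMap.exact_map_mkQ_range ψ)) z)))
    rw [← LinearMap.ker_rangeRestrict]
    exact Module.FinitePresentation.fg_ker ψ₁.rangeRestrict ψ₁.surjective_rangeRestrict
  obtain ⟨K, hKfg, hKle, hK⟩ : ∃ K : Submodule B N, K.FG ∧ (∀ y ∈ K, ψ y = 0) ∧
      ∀ y : N, ψ y = 0 → ∃ n : ℕ, algebraMap R B f₁ ^ n • y ∈ K := by
    obtain ⟨k, gen, hgen⟩ := Submodule.fg_iff_exists_fin_generating_family.1 hker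
    have hlift : ∀ i, ∃ (a : N) (u : B₁), ψ a = 0 ∧ gen i = u • LocalizedModule.mk a 1 := fun i => by
      have hi : ψ₁ (gen i) = 0 := LinearMap.mem_ker.1 (hgen.le (Submodule.subset_span ⟨i, rfl⟩))
      generalize gen i = y at hi
      induction y using LocalizedModule.induction_on with
      | h a t =>
        replace hi : LocalizedModule.map T ψ (LocalizedModule.mk a t) = 0 := hi
        rw [LocalizedModule.map_mk, ← LocalizedModule.zero_mk t, LocalizedModule.mk_eq] at hi
        obtain ⟨v, hv⟩ := hi
        simp only [Submonoid.smul_def, smul_zero, smul_smul] at hv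
        refine ⟨((v : B) * (t : B)) • a, Localization.mk 1 (t * (v * t)), by rw [map_smul, hv], ?_⟩
        rw [LocalizedModule.mk_smul_mk, one_smul, mul_one, LocalizedModule.mk_eq]
        exact ⟨1, by simp only [Submonoid.smul_def, Submonoid.coe_mul, OneMemClass.coe_one, one_smul, smul_smul]⟩
    choose a u ha hu using hlift
    refine ⟨Submodule.span B (Set.range a), Submodule.fg_span (Set.finite_range a),
      fun y hy => (Submodule.span_le (p := LinearMap.ker ψ)).2 (by rintro _ ⟨i, rfl⟩; exact ha i) hy, fun y hy => ?_⟩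
    have hmem : ∀ v ∈ LinearMap.ker ψ₁, ∃ (t : T) (c : N), c ∈ Submodule.span B (Set.range a) ∧ v = LocalizedModule.mk c t := by
      intro v hv
      rw [← hgen] at hv
      induction hv using Submodule.span_induction with
      | mem v hv =>
        obtain ⟨i, rfl⟩ := hv
        rw [hu i]
        induction u i using Localization.induction_on with
        | H bt =>
          refine ⟨bt.2 * 1, bt.1 • a i, Submodule.smul_mem _ _ (Submodule.subset_span ⟨i, rfl⟩), ?_⟩
          rw [LocalizedModule.mk_smul_mk]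
      | zero => exact ⟨1, 0, zero_mem _, (LocalizedModule.zero_mk 1).symm⟩
      | add v w _ _ hv hw =>
        obtain ⟨t, c, hc, rfl⟩ := hv
        obtain ⟨t', c', hc', rfl⟩ := hw
        exact ⟨t * t', t' • c + t • c', add_mem (Submodule.smul_mem _ _ hc) (Submodule.smul_mem _ _ hc'),
          LocalizedModule.mk_add_mk⟩
      | smul b v _ hv =>
        obtain ⟨t, c, hc, rfl⟩ := hv
        induction b using Localization.induction_on with
        | H bt =>
          exact ⟨bt.2 * t, bt.1 • c, Submodule.smul_mem _ _ hc, LocalizedModule.mk_smul_mk _ _ _ _⟩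
    obtain ⟨t, c, hc, hyc⟩ := hmem (LocalizedModule.mk y 1) (by
      rw [LinearMap.mem_ker]
      show LocalizedModule.map T ψ (LocalizedModule.mk y 1) = 0
      rw [LocalizedModule.map_mk, hy, LocalizedModule.zero_mk])
    rw [LocalizedModule.mk_eq] at hyc
    obtain ⟨v, hv⟩ := hyc
    obtain ⟨n, hn⟩ := (v * t).2
    refine ⟨n, ?_⟩
    simp only [Submonoid.smul_def, OneMemClass.coe_one, one_smul, smul_smul] at hv
    rw [show algebraMap R B f₁ ^ n = (v : B) * (t : B) from hn, hv]
    exact Submodule.smul_mem _ _ hc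
  -- the kernel vanishes over a tube
  obtain ⟨f₂, hf₂, hKill⟩ := exists_tube p (PrimeSpectrum.zeroLocus (Submodule.annihilator K : Set B))ᶜ
    (PrimeSpectrum.isClosed_zeroLocus _).isOpen_compl fun x hx hxA => by
      obtain ⟨G', hG'⟩ := hKfg
      have hloc : ∀ y ∈ G', ∃ t : B, t ∉ x.asIdeal ∧ t • y = 0 := fun y hy => by
        obtain ⟨t, ht, hty⟩ := (hgood x hx).1 y 1 (fun h1 => x.2.ne_top ((Ideal.eq_top_iff_one _).2 h1))
          (by rw [one_smul]; exact hKle y (hG'.le (Submodule.subset_span hy)))
        exact ⟨t, ht, hty⟩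
      choose τ hτ hτy using hloc
      have hprod : ∏ y ∈ G'.attach, τ y.1 y.2 ∈ Submodule.annihilator K := by
        rw [← hG', Submodule.mem_annihilator_span]
        rintro ⟨y, hy⟩
        rw [← Finset.prod_erase_mul _ _ (Finset.mem_attach G' ⟨y, hy⟩), mul_smul, hτy y hy, smul_zero]
      obtain ⟨y, -, hy⟩ := (Ideal.IsPrime.prod_mem_iff).1 (hxA hprod)
      exact hτ y.1 y.2 hy
  refine ⟨f₁ * f₂, fun hm => (‹p.IsPrime›.mem_or_mem hm).elim hf₁ hf₂, fun t _ r _ _ hft ⟨w, hw⟩ => ?_⟩
  by_contra hrV
  have hgr : ∀ i, g i ∈ r := fun i => by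
    by_contra hgi
    exact hrV ((hGV _).2 ⟨g i, (G.equivFin.symm i).2, hgi⟩)
  have hfr : ∀ c : R, c ∉ t → algebraMap R B c ∉ r := fun c hc hm => hc ((Ideal.mem_of_liesOver r t c).2 hm)
  have hf1r := hfr f₁ fun hm => hft (t.mul_mem_right _ hm)
  have hf2r := hfr f₂ fun hm => hft (t.mul_mem_left _ hm)
  obtain ⟨π, hπ, hkill⟩ := exists_trim r g w (fun i => hw.1 _ (hgr i)) hw.2
  choose s hs hsa using hkill
  let σ := ∏ i, s i
  have hσ : σ ∉ r := fun h => by
    obtain ⟨i, -, hi⟩ := (Ideal.IsPrime.prod_mem_iff).1 h; exact hs i hi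
  let w' : N ⊗[R] t.ResidueField := σ • π • w
  have hgw : ∀ i, g i • w' = 0 := fun i => by
    show g i • (∏ j, s j) • π • w = 0
    rw [← Finset.mul_prod_erase _ _ (Finset.mem_univ i), smul_smul, show g i * (s i * ∏ j ∈ Finset.univ.erase i, s j) =
      (∏ j ∈ Finset.univ.erase i, s j) * (s i * g i) by ring, mul_smul, hsa i, smul_zero]
  -- `ψ` is universally injective at `r`
  have hui : Function.Injective (((LocalizedModule.map r.primeCompl ψ).restrictScalars R).lTensor t.ResidueField) := by
    haveI : Module.Flat R (LocalizedModule r.primeCompl (M ⧸ LinearMap.range ψ)) :=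
      hflat₁ ⟨r, inferInstance⟩ hf1r
    refine LinearMap.lTensor_injective_of_exact_of_flat
      ((LocalizedModule.map r.primeCompl (LinearMap.range ψ).mkQ).restrictScalars R)
      (LocalizedModule.map_surjective r.primeCompl _ (Submodule.mkQ_surjective _))
      ((LocalizedModule.map r.primeCompl ψ).restrictScalars R) ?_
      (LocalizedModule.map_exact r.primeCompl ψ _ (LinearMap.exact_map_mkQ_range ψ)) _
    show Function.Injective (LocalizedModule.map r.primeCompl ψ)
    refine (injective_iff_map_eq_zero _).2 fun z hz => ?_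
    induction z using LocalizedModule.induction_on with
    | h y u =>
      rw [LocalizedModule.map_mk, ← LocalizedModule.zero_mk u, LocalizedModule.mk_eq] at hz
      obtain ⟨v, hv⟩ := hz
      simp only [Submonoid.smul_def, smul_zero, smul_smul] at hv
      rw [← map_smul] at hv
      obtain ⟨n, hn⟩ := hK _ hv
      obtain ⟨c, hcA, hcr⟩ := Set.not_subset.1 (hKill ⟨r, inferInstance⟩ hf2r)
      have h0 : (c * (algebraMap R B f₁ ^ n * ((v : B) * (u : B)))) • y = 0 := by
        rw [mul_smul, mul_smul]; exact Submodule.mem_annihilator.1 hcA _ hn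
      rw [← LocalizedModule.zero_mk u, LocalizedModule.mk_eq]
      refine ⟨⟨c * algebraMap R B f₁ ^ n * v, r.primeCompl.mul_mem (r.primeCompl.mul_mem hcr
        fun hm => hf1r (‹r.IsPrime›.mem_of_pow_mem n hm)) v.2⟩, ?_⟩
      simp only [Submonoid.smul_def, smul_zero, smul_smul]
      rw [← h0]; congr 1; ring
  let ι : N →ₗ[B] LocalizedModule r.primeCompl N := LocalizedModule.mkLinearMap r.primeCompl N
  let gA : N ⊗[R] t.ResidueField →ₗ[B] LocalizedModule r.primeCompl N ⊗[R] t.ResidueField :=
    AlgebraTensorModule.rTensor R t.ResidueField ι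
  have h0 : gA w' = 0 := by
    apply (TensorProduct.comm R _ t.ResidueField).injective
    rw [map_zero]
    refine hui ?_
    rw [map_zero]
    let ιM := LocalizedModule.mkLinearMap r.primeCompl M
    let gM : M ⊗[R] t.ResidueField →ₗ[B] LocalizedModule r.primeCompl M ⊗[R] t.ResidueField :=
      AlgebraTensorModule.rTensor R t.ResidueField ιM
    have key : ∀ v, ((LocalizedModule.map r.primeCompl ψ).restrictScalars R).lTensor t.ResidueField
        (TensorProduct.comm R _ t.ResidueField (gA v)) =
        TensorProduct.comm R _ t.ResidueField (gM (AlgebraTensorModule.rTensor R t.ResidueField ψ v)) := fun v => by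
      induction v using TensorProduct.induction_on with
      | zero => simp
      | add a b ha hb => simp only [map_add, ha, hb]
      | tmul a x => simp [gA, gM, ι, ιM, LocalizedModule.map_mk]
    rw [key]
    have hψw : AlgebraTensorModule.rTensor R t.ResidueField ψ w' = 0 := by
      apply (TensorProduct.piLeft R t.ResidueField (fun _ : Fin G.card => N)).injective
      rw [map_zero]
      funext i
      rw [Pi.zero_apply, ← hgw i]
      generalize w' = v
      induction v using TensorProduct.induction_on with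
      | zero => simp
      | add a b ha hb => simp only [map_add, Pi.add_apply, smul_add, ha, hb]
      | tmul a x => simp [ψ, TensorProduct.smul_tmul']; rfl
    rw [hψw, map_zero, map_zero]
  obtain ⟨c, hc⟩ := (IsLocalizedModule.eq_zero_iff r.primeCompl gA).1 h0
  rw [Submonoid.smul_def] at hc
  have : (c : B) * σ ∈ r := hπ _ (by rw [mul_smul]; exact hc)
  exact (‹r.IsPrime›.mem_or_mem this).elim c.2 hσ

end Groth.Agent.Dev4
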