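import Groth.Agent.Lib.Dev4.ColimSystems
import Groth.Agent.Lib.Dev4.PureSpread
import Groth.Agent.Lib.Dev4.Covering
import Groth.Agent.S4848

/-!
# Descending injectivity with flat cokernel along a directed colimit
-/

set_option autoImplicit false
set_option maxSynthPendingDepth 3

universe u

open TensorProduct

set_option backward.isDefEq.respectTransparency.types false

attribute [local instance] Algebra.TensorProduct.rightAlgebra

namespace Groth.Agent.Dev4

/-- Flatness of the base change to the local ring gives flatness at the points over the prime. -/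
theorem flatAt_of_flat_local {R S : Type u} [CommRing R] [CommRing S] [Algebra R S]
    (N : Type u) [AddCommGroup N] [Module S N] [Module R N] [IsScalarTower R S N] (p : Ideal R) [p.IsPrime]
    [Module.Flat R (Localization.AtPrime p ⊗[R] N)] (q : Ideal S) [q.IsPrime] [q.LiesOver p] :
    FlatCA.FlatAt R q N := by
  let T := Algebra.algebraMapSubmonoid S p.primeCompl
  let f := LocalizedModule.mkLinearMap T N
  haveI : IsLocalizedModule p.primeCompl (f.restrictScalars R) := IsLocalizedModule.restrictScalars _ _
  haveI : IsLocalizedModule p.primeCompl (TensorProduct.mk R (Localization.AtPrime p) N 1) :=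
    (isLocalizedModule_iff_isBaseChange p.primeCompl (Localization.AtPrime p) _).2 (TensorProduct.isBaseChange R N _)
  haveI : Module.Flat R (LocalizedModule T N) := Module.Flat.of_linearEquiv
    (IsLocalizedModule.linearEquiv p.primeCompl (f.restrictScalars R) (TensorProduct.mk R (Localization.AtPrime p) N 1))
  refine RG4.flat_of_isLocalizedModule q.primeCompl
    (IsLocalizedModule.liftOfLE T q.primeCompl ?_ f (LocalizedModule.mkLinearMap q.primeCompl N))
  rintro _ ⟨c, hc, rfl⟩ hcq
  exact hc ((Ideal.mem_of_liesOver q p c).2 hcq)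

/-- The map multiplying by finitely many elements. -/
abbrev mulMap {B : Type u} [CommRing B] (N : Type u) [AddCommGroup N] [Module B N] {n : ℕ} (g : Fin n → B) :
    N →ₗ[B] (Fin n → N) := LinearMap.pi fun i => g i • LinearMap.id

/-- An injective map with flat cokernel stays injective after tensoring. -/
theorem lTensor_injective_of_flat_coker {R B : Type u} [CommRing R] [CommRing B] [Algebra R B]
    {X Y : Type u} [AddCommGroup X] [Module B X] [Module R X] [IsScalarTower R B X]
    [AddCommGroup Y] [Module B Y] [Module R Y] [IsScalarTower R B Y] (f : X →ₗ[B] Y) (hf : Function.Injective f)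
    [Module.Flat R (Y ⧸ LinearMap.range f)] (Q : Type u) [AddCommGroup Q] [Module R Q] :
    Function.Injective ((f.restrictScalars R).lTensor Q) := by
  refine LinearMap.lTensor_injective_of_exact_of_flat ((LinearMap.range f).mkQ.restrictScalars R) ?_
    (f.restrictScalars R) ?_ ?_ Q
  · exact Submodule.mkQ_surjective _
  · exact hf
  · exact LinearMap.exact_map_mkQ_range f

section Covered

variable {R B : Type u} [CommRing R] [CommRing B] [Algebra R B]
  (N : Type u) [AddCommGroup N] [Module B N] [Module R N] [IsScalarTower R B N]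
  [Module.Flat R N] {n : ℕ} (g : Fin n → B)

/-- If no associated fibre point contains all the elements, the multiplication map is injective with flat cokernel. -/
theorem injective_flat_coker_of_covered [Algebra.FinitePresentation R B] [Module.FinitePresentation B N]
    (h : ∀ (t : Ideal R) [t.IsPrime] (r : Ideal B) [r.IsPrime] [r.LiesOver t],
      (∃ w : N ⊗[R] t.ResidueField, IsWk r w) → ∃ i, g i ∉ r) :
    Function.Injective (mulMap N g) ∧ Module.Flat R ((Fin n → N) ⧸ LinearMap.range (mulMap N g)) := by
  classical
  let M := Fin n → N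
  haveI : Module.Flat R M :=
    Module.Flat.of_linearEquiv (DirectSum.linearEquivFunOnFintype R (Fin n) (fun _ => N)).symm
  haveI : Module.FinitePresentation B M := Module.FinitePresentation.pi (fun _ : Fin n => N)
  have hgood : ∀ x : PrimeSpectrum B,
      (∀ (y : N) (t : B), t ∉ x.asIdeal → t • mulMap N g y = 0 → ∃ t' ∉ x.asIdeal, t' • y = 0) ∧
      Module.Flat R (LocalizedModule x.asIdeal.primeCompl (M ⧸ LinearMap.range (mulMap N g))) := by
    intro x
    let t := x.asIdeal.comap (algebraMap R B)
    refine SchDom.injective_flat_coker_of_fibre (A := R) x.asIdeal (mulMap N g) fun z σ hσ hz => ?_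
    have hgi : ∀ i, σ • g i • z ∈ t • (⊤ : Submodule R N) := fun i => by
      have h1 := Submodule.mem_map_of_mem (f := LinearMap.proj (R := R) (φ := fun _ : Fin n => N) i) hz
      rw [Submodule.map_smul''] at h1
      exact Submodule.smul_mono le_rfl le_top h1
    have hw : σ • z ⊗ₜ[R] (1 : t.ResidueField) = 0 := by
      by_contra hne
      obtain ⟨r, hr, hrt, hrass, hann⟩ := exists_assoc_of_ne_zero (R := R) (S := B) N t hne
      haveI := hrt
      obtain ⟨i, hi⟩ := h t r ((fiberIdeal_mem_associatedPrimes_iff t N r).1 hrass)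
      refine hi (hann _ ?_)
      rw [smul_comm (g i), TensorProduct.smul_tmul', TensorProduct.smul_tmul']
      exact tmul_one_eq_zero_of_mem t N (hgi i)
    rw [TensorProduct.smul_tmul'] at hw
    obtain ⟨d, hd, hdz⟩ := exists_smul_mem_of_tmul_one_eq_zero t N hw
    exact ⟨algebraMap R B d * σ, fun hm => (x.2.mem_or_mem hm).elim hd hσ, by rwa [mul_smul, algebraMap_smul]⟩
  refine ⟨(injective_iff_map_eq_zero _).2 fun y hy => ?_, ?_⟩
  · by_contra hy0
    obtain ⟨P, hP, hle⟩ := Ideal.exists_le_maximal ((Submodule.span B {y}).annihilator) (fun htop => hy0 (by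
      have h1 : (1 : B) ∈ (Submodule.span B {y}).annihilator := htop ▸ Submodule.mem_top
      simpa using Submodule.mem_annihilator_span_singleton _ _ |>.1 h1))
    obtain ⟨c, hc, hcy⟩ := (hgood ⟨P, hP.isPrime⟩).1 y 1
      (fun h1 => hP.ne_top ((Ideal.eq_top_iff_one P).2 h1)) (by rw [one_smul]; exact hy)
    exact hc (hle ((Submodule.mem_annihilator_span_singleton _ _).2 hcy))
  · exact Module.flat_of_isLocalized_maximal (R := R) B (M ⧸ LinearMap.range (mulMap N g))
      (fun P => LocalizedModule P.primeCompl _) (fun P _ => LocalizedModule.mkLinearMap P.primeCompl _)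
      fun P hP => (hgood ⟨P, hP.isPrime⟩).2

omit [Module.Flat R N] in
/-- The components of the multiplication map after tensoring. -/
theorem piRight_mulMap {κ : Type u} [AddCommGroup κ] [Module R κ] (v : N ⊗[R] κ) (i : Fin n) :
    TensorProduct.piRight R R κ (fun _ : Fin n => N)
      (((mulMap N g).restrictScalars R).lTensor κ (TensorProduct.comm R N κ v)) i =
      TensorProduct.comm R N κ (g i • v) := by
  induction v using TensorProduct.induction_on with
  | zero => simp
  | add a b ha hb => rw [map_add, map_add, map_add, Pi.add_apply, ha, hb, smul_add, map_add]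
  | tmul a x => simp [TensorProduct.smul_tmul']

/-- Conversely, injectivity with flat cokernel excludes associated fibre points containing all the elements. -/
theorem covered_of_injective_flat_coker (hinj : Function.Injective (mulMap N g))
    [Module.Flat R ((Fin n → N) ⧸ LinearMap.range (mulMap N g))]
    (t : Ideal R) [t.IsPrime] (r : Ideal B) [r.IsPrime] [r.LiesOver t]
    {w : N ⊗[R] t.ResidueField} (hw : IsWk r w) : ∃ i, g i ∉ r := by
  classical
  by_contra hc
  push Not at hc
  obtain ⟨π, hπ, hkill⟩ := exists_trim r g w (fun i => hw.1 _ (hc i)) hw.2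
  choose s hs hsa using hkill
  let σ := ∏ i, s i
  have hσ : σ ∉ r := fun h => by
    obtain ⟨i, -, hi⟩ := (Ideal.IsPrime.prod_mem_iff).1 h; exact hs i hi
  let w' : N ⊗[R] t.ResidueField := σ • π • w
  have hgw : ∀ i, g i • w' = 0 := fun i => by
    show g i • (∏ j, s j) • π • w = 0
    rw [← Finset.mul_prod_erase _ _ (Finset.mem_univ i), smul_smul, show g i * (s i * ∏ j ∈ Finset.univ.erase i, s j) =
      (∏ j ∈ Finset.univ.erase i, s j) * (s i * g i) by ring, mul_smul, hsa i, smul_zero]
  have hui : Function.Injective (((mulMap N g).restrictScalars R).lTensor t.ResidueField) :=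
    lTensor_injective_of_flat_coker (mulMap N g) hinj t.ResidueField
  have h0 : w' = 0 := by
    apply (TensorProduct.comm R _ t.ResidueField).injective
    rw [map_zero]
    refine hui ?_
    rw [map_zero]
    apply (TensorProduct.piRight R R t.ResidueField (fun _ : Fin n => N)).injective
    rw [map_zero]
    funext i
    rw [piRight_mulMap N g, hgw i, map_zero, Pi.zero_apply]
  exact hσ (hπ _ h0)

end Covered

/-- Injectivity with flat cokernel descends to a stage. -/
theorem exists_stage_injective_flat_coker {R : Type u} [CommRing R] {ι : Type u} [Preorder ι]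
    {G : ι → Type u} [∀ i, CommRing (G i)] [∀ i, Algebra R (G i)] {g : ∀ i j, i ≤ j → G i →ₐ[R] G j}
    {A : Type u} [CommRing A] [Algebra R A] [∀ i, Algebra (G i) A] [∀ i, IsScalarTower R (G i) A]
    (hcolim : FlatCA.IsDirectedColimitRing G (fun i j h => (g i j h).toRingHom) A)
    {B : Type u} [CommRing B] [Algebra R B] [Algebra.FinitePresentation R B]
    {M M' : Type u} [AddCommGroup M] [Module B M] [Module R M] [IsScalarTower R B M] [Module.FinitePresentation B M]
    [AddCommGroup M'] [Module B M'] [Module R M'] [IsScalarTower R B M'] [Module.FinitePresentation B M']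
    (ψ : M →ₗ[B] M') [Module.Flat A (A ⊗[R] M)] [Module.Flat A (A ⊗[R] (M' ⧸ LinearMap.range ψ))]
    (hinj : Function.Injective ((ψ.restrictScalars R).lTensor A)) :
    ∃ l, Module.Flat (G l) (G l ⊗[R] M) ∧ Module.Flat (G l) (G l ⊗[R] (M' ⧸ LinearMap.range ψ)) ∧
      Function.Injective ((ψ.restrictScalars R).lTensor (G l)) := by
  classical
  haveI : Module.FinitePresentation B (M' ⧸ LinearMap.range ψ) :=
    Module.finitePresentation_of_surjective (LinearMap.range ψ).mkQ (Submodule.mkQ_surjective _)
      (by rw [Submodule.ker_mkQ, LinearMap.range_eq_map]; exact Module.Finite.fg_top.map ψ)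
  obtain ⟨k₁, hk₁⟩ := (S4848.result G g A hcolim (B₀ := B) M).1 inferInstance
  obtain ⟨k₂, hk₂⟩ := (S4848.result G g A hcolim (B₀ := B) (M' ⧸ LinearMap.range ψ)).1 inferInstance
  obtain ⟨hdir, hne, hid, hcomp, hcompat, hsurj, hzero⟩ := id hcolim
  haveI : IsDirectedOrder ι := hdir
  have hmove : ∀ (X : Type u) [AddCommGroup X] [Module R X] (i j : ι), i ≤ j → Module.Flat (G i) (G i ⊗[R] X) →
      Module.Flat (G j) (G j ⊗[R] X) := fun X _ _ i j h hX => by
    letI : Algebra (G i) (G j) := (g i j h).toRingHom.toAlgebra
    haveI : IsScalarTower R (G i) (G j) := IsScalarTower.of_algebraMap_eq fun r => ((g i j h).commutes r).symm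
    exact Module.Flat.of_linearEquiv (AlgebraTensorModule.cancelBaseChange R (G i) (G j) (G j) X).symm
  obtain ⟨k, hk₁k, hk₂k⟩ := directed_of (· ≤ ·) k₁ k₂
  haveI : Module.Flat (G k) (G k ⊗[R] (M' ⧸ LinearMap.range ψ)) := hmove _ k₂ k hk₂k hk₂
  let Bk := G k ⊗[R] B
  haveI : Algebra.IsPushout R (G k) B Bk := inferInstance
  let eX : ∀ (X : Type u) [AddCommGroup X] [Module B X] [Module R X] [IsScalarTower R B X],
      Bk ⊗[B] X ≃ₗ[G k] G k ⊗[R] X := fun X _ _ _ _ => Algebra.IsPushout.cancelBaseChange R (G k) B Bk X
  let ψk : Bk ⊗[B] M →ₗ[Bk] Bk ⊗[B] M' := ψ.baseChange Bk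
  let πk : Bk ⊗[B] M' →ₗ[Bk] Bk ⊗[B] (M' ⧸ LinearMap.range ψ) := (LinearMap.range ψ).mkQ.baseChange Bk
  haveI : Module.Flat (G k) (Bk ⊗[B] (M' ⧸ LinearMap.range ψ)) := Module.Flat.of_linearEquiv (eX _)
  have hker : (LinearMap.ker ψk).FG := by
    haveI := FlatSyz.finitePresentation_ker (A := G k) πk
      (LinearMap.lTensor_surjective Bk (Submodule.mkQ_surjective (LinearMap.range ψ)))
    haveI : Module.FinitePresentation Bk (LinearMap.range ψk) :=
      Module.FinitePresentation.of_equiv (LinearEquiv.ofEq _ _ (LinearMap.exact_iff.1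
        (show Function.Exact ψk πk from
          lTensor_exact Bk (LinearMap.exact_map_mkQ_range ψ) (Submodule.mkQ_surjective _))))
    rw [← LinearMap.ker_rangeRestrict]
    exact Module.FinitePresentation.fg_ker ψk.rangeRestrict ψk.surjective_rangeRestrict
  obtain ⟨S, hS⟩ := hker
  have hnat : ∀ x, eX M' (ψk x) = (ψ.restrictScalars R).lTensor (G k) (eX M x) := fun x => by
    obtain ⟨y, rfl⟩ := (eX M).symm.surjective x
    rw [LinearEquiv.apply_symm_apply]
    induction y using TensorProduct.induction_on with
    | zero => simp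
    | add a b ha hb => simp only [map_add, ha, hb]
    | tmul c m =>
      rw [Algebra.IsPushout.cancelBaseChange_symm_tmul, LinearMap.baseChange_tmul, LinearMap.lTensor_tmul,
        ← (eX M').apply_symm_apply (c ⊗ₜ[R] (ψ.restrictScalars R) m), Algebra.IsPushout.cancelBaseChange_symm_tmul]
      rfl
  let u := (IsScalarTower.toAlgHom R (G k) A).toLinearMap
  have hSzero : ∀ x : S, u.rTensor M (eX M x.1) = 0 := fun x => by
    refine hinj ?_
    rw [map_zero]
    have hx : ψk x.1 = 0 := by
      have : x.1 ∈ LinearMap.ker ψk := hS ▸ Submodule.subset_span x.2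
      exact this
    rw [show (ψ.restrictScalars R).lTensor A (u.rTensor M (eX M x.1)) =
        u.rTensor M' ((ψ.restrictScalars R).lTensor (G k) (eX M x.1)) by
      rw [← LinearMap.comp_apply, LinearMap.lTensor_comp_rTensor, ← LinearMap.rTensor_comp_lTensor,
        LinearMap.comp_apply], ← hnat, hx, map_zero, map_zero]
  choose jx hkx hjx using fun x : S => exists_stage_tensor_zero G g hcolim M k _ (hSzero x)
  haveI : Nonempty ι := hne
  obtain ⟨j₀, hj₀⟩ := Finite.exists_le jx
  obtain ⟨l, hkl, hj₀l⟩ := directed_of (· ≤ ·) k j₀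
  refine ⟨l, hmove _ k₁ l (hk₁k.trans hkl) hk₁, hmove _ k₂ l (hk₂k.trans hkl) hk₂, ?_⟩
  let v := (g k l hkl).toLinearMap
  -- the kernel at stage `k` dies at stage `l`
  have hdie : ∀ (x : Bk ⊗[B] M) (b : B), v.rTensor M (eX M ((algebraMap B Bk b) • x)) =
      (LinearMap.lTensor (G l) ((LinearMap.lsmul B M b).restrictScalars R)) (v.rTensor M (eX M x)) := fun x b => by
    obtain ⟨y, rfl⟩ := (eX M).symm.surjective x
    rw [LinearEquiv.apply_symm_apply]
    induction y using TensorProduct.induction_on with
    | zero => simp
    | add a c ha hc => rw [map_add, smul_add, map_add, map_add, ha, hc, map_add, map_add]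
    | tmul c m =>
      rw [Algebra.IsPushout.cancelBaseChange_symm_tmul, algebraMap_smul, TensorProduct.smul_tmul',
        TensorProduct.smul_tmul, ← Algebra.IsPushout.cancelBaseChange_symm_tmul R (G k) B Bk M c (b • m),
        LinearEquiv.apply_symm_apply]
      simp [v]
  have hzero' : ∀ x ∈ LinearMap.ker ψk, v.rTensor M (eX M x) = 0 := by
    intro x hx
    rw [← hS] at hx
    induction hx using Submodule.span_induction with
    | mem y hy =>
      have hc : g k l hkl = (g (jx ⟨y, hy⟩) l ((hj₀ _).trans hj₀l)).comp (g k (jx ⟨y, hy⟩) (hkx _)) :=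
        AlgHom.ext fun c => (RingHom.congr_fun (hcomp k (jx ⟨y, hy⟩) l (hkx _) ((hj₀ _).trans hj₀l)) c).symm
      show (g k l hkl).toLinearMap.rTensor M (eX M y) = 0
      rw [hc, AlgHom.comp_toLinearMap, LinearMap.rTensor_comp, LinearMap.comp_apply, hjx ⟨y, hy⟩, map_zero]
    | zero => simp
    | add a b _ _ ha hb => rw [map_add, map_add, ha, hb, add_zero]
    | smul c y hy ih =>
      induction c using TensorProduct.induction_on with
      | zero => simp
      | add a b ha hb => rw [add_smul, map_add, map_add, ha, hb, add_zero]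
      | tmul a b =>
        have hab : (a ⊗ₜ[R] b : Bk) = algebraMap (G k) Bk a * algebraMap B Bk b := by
          show (a ⊗ₜ[R] b : G k ⊗[R] B) = (a ⊗ₜ[R] (1 : B)) * ((1 : G k) ⊗ₜ[R] b)
          rw [Algebra.TensorProduct.tmul_mul_tmul, mul_one, one_mul]
        rw [hab, mul_smul, algebraMap_smul, map_smul]
        have hlin : ∀ z, v.rTensor M (a • z) = g k l hkl a • v.rTensor M z := fun z => by
          induction z using TensorProduct.induction_on with
          | zero => simp
          | add p q hp hq => simp only [smul_add, map_add, hp, hq]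
          | tmul p q => simp [v, TensorProduct.smul_tmul', map_mul]
        rw [hlin, hdie y b, ih, map_zero, smul_zero]
  -- so the map at stage `l` is injective
  letI : Algebra (G k) (G l) := (g k l hkl).toRingHom.toAlgebra
  haveI : IsScalarTower R (G k) (G l) := IsScalarTower.of_algebraMap_eq fun r => ((g k l hkl).commutes r).symm
  let ρ : Bk ⊗[B] M →ₗ[G k] LinearMap.range (ψk.restrictScalars (G k)) := (ψk.restrictScalars (G k)).rangeRestrict
  let inc := (LinearMap.range (ψk.restrictScalars (G k))).subtype
  have hι : Function.Injective (inc.lTensor (G l)) :=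
    LinearMap.lTensor_injective_of_exact_of_flat (πk.restrictScalars (G k))
      (LinearMap.lTensor_surjective Bk (Submodule.mkQ_surjective (LinearMap.range ψ))) inc
      (Submodule.injective_subtype _) (by
        rw [LinearMap.exact_iff, Submodule.range_subtype]
        exact LinearMap.exact_iff.1 (show Function.Exact (ψk.restrictScalars (G k)) (πk.restrictScalars (G k)) from
          lTensor_exact Bk (LinearMap.exact_map_mkQ_range ψ) (Submodule.mkQ_surjective _))) (G l)
  let E : ∀ (X : Type u) [AddCommGroup X] [Module B X] [Module R X] [IsScalarTower R B X],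
      G l ⊗[G k] (Bk ⊗[B] X) ≃ₗ[G l] G l ⊗[R] X := fun X _ _ _ _ =>
    (AlgebraTensorModule.congr (LinearEquiv.refl (G l) (G l)) (eX X)).trans
      (AlgebraTensorModule.cancelBaseChange R (G k) (G l) (G l) X)
  have hE : ∀ z, E M' ((ψk.restrictScalars (G k)).lTensor (G l) z) = (ψ.restrictScalars R).lTensor (G l) (E M z) :=
    fun z => by
    induction z using TensorProduct.induction_on with
    | zero => simp
    | add a b ha hb => simp only [map_add, ha, hb]
    | tmul a x =>
      simp only [E, LinearMap.lTensor_tmul, LinearEquiv.trans_apply, AlgebraTensorModule.congr_tmul,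
        LinearEquiv.refl_apply, LinearMap.restrictScalars_apply, hnat]
      generalize eX M x = y
      induction y using TensorProduct.induction_on with
      | zero => simp
      | add p q hp hq => simp only [map_add, TensorProduct.tmul_add, hp, hq]
      | tmul p q => simp
  rw [injective_iff_map_eq_zero]
  intro y hy
  obtain ⟨z, rfl⟩ := (E M).surjective y
  rw [← hE, LinearEquiv.map_eq_zero_iff, show ψk.restrictScalars (G k) = inc.comp ρ from rfl, LinearMap.lTensor_comp,
    LinearMap.comp_apply] at hy
  have h1 := (injective_iff_map_eq_zero _).1 hι _ hy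
  obtain ⟨z', rfl⟩ := (lTensor_exact (G l) (show Function.Exact (LinearMap.ker ρ).subtype ρ from
    LinearMap.exact_subtype_ker_map ρ) (LinearMap.surjective_rangeRestrict _) z).1 h1
  clear hy h1
  induction z' using TensorProduct.induction_on with
  | zero => simp
  | add a b ha hb => rw [map_add, map_add, ha, hb, add_zero]
  | tmul a x =>
    obtain ⟨x, hx⟩ := x
    have hx' : x ∈ LinearMap.ker ψk := by
      rw [LinearMap.ker_rangeRestrict] at hx
      exact hx
    simp only [LinearMap.lTensor_tmul, Submodule.subtype_apply, E, LinearEquiv.trans_apply,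
      AlgebraTensorModule.congr_tmul, LinearEquiv.refl_apply]
    have hc : ∀ y : G k ⊗[R] M, AlgebraTensorModule.cancelBaseChange R (G k) (G l) (G l) M (a ⊗ₜ y) =
        a • v.rTensor M y := fun y => by
      induction y using TensorProduct.induction_on with
      | zero => simp
      | add p q hp hq => simp only [map_add, TensorProduct.tmul_add, smul_add, hp, hq]
      | tmul p q => simp [v, Algebra.smul_def, TensorProduct.smul_tmul', RingHom.algebraMap_toAlgebra, mul_comm]
    rw [hc, hzero' x hx', smul_zero]

end Groth.Agent.Dev4
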