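import Groth.Agent.S1252
import Groth.Agent.Lib.Dev4.CdaChain
import Groth.Agent.Lib.Dev4.Free
import Groth.Agent.Lib.Dev4.Glue

/-!
# Flatness is decided at the associated points of the fibre
-/

set_option autoImplicit false

universe u

open TensorProduct IsLocalRing

set_option backward.isDefEq.respectTransparency.types false

attribute [local instance] Algebra.TensorProduct.rightAlgebra

namespace Groth.Agent.Dev4

/-- Flatness over the base descends along faithfully flat maps upstairs. -/
theorem flat_of_tensor_faithfullyFlat {R S C X : Type u} [CommRing R] [CommRing S] [CommRing C] [Algebra R S]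
    [Algebra S C] [Algebra R C] [IsScalarTower R S C] [Module.FaithfullyFlat S C] [AddCommGroup X] [Module S X]
    [Module R X] [IsScalarTower R S X] [Module.Flat R (C ⊗[S] X)] : Module.Flat R X := by
  rw [Module.Flat.iff_lTensor_injectiveₛ]
  intro P _ _ N
  let f : X ⊗[R] N →ₗ[S] X ⊗[R] P := AlgebraTensorModule.lTensor S X N.subtype
  suffices h : Function.Injective f from h
  refine (Module.FaithfullyFlat.lTensor_injective_iff_injective S C f).1 fun a b hab => ?_
  have h1 : ∀ w : C ⊗[S] (X ⊗[R] N), (AlgebraTensorModule.assoc R S S C X P).symm (f.lTensor C w) =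
      N.subtype.lTensor (C ⊗[S] X) ((AlgebraTensorModule.assoc R S S C X N).symm w) := by
    intro w
    induction w using TensorProduct.induction_on with
    | zero => simp
    | add u v hu hv => simp only [map_add, hu, hv]
    | tmul c z =>
      induction z using TensorProduct.induction_on with
      | zero => simp
      | add u v hu hv => simp only [map_add, TensorProduct.tmul_add, hu, hv]
      | tmul x v => rfl
  apply (AlgebraTensorModule.assoc R S S C X N).symm.injective
  apply Module.Flat.lTensor_preserves_injective_linearMap (M := C ⊗[S] X) N.subtype N.injective_subtype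
  rw [← h1, ← h1, hab]

/-- Flatness at a point descends along flat maps. -/
theorem flatAt_of_flat_map_descent {R S C : Type u} [CommRing R] [CommRing S] [CommRing C] [Algebra R S] [Algebra S C]
    [Algebra R C] [IsScalarTower R S C] [Module.Flat S C] (N : Type u) [AddCommGroup N] [Module S N] [Module R N]
    [IsScalarTower R S N] (q : Ideal S) [q.IsPrime] (q' : Ideal C) [q'.IsPrime] [hq : q'.LiesOver q]
    (h : FlatCA.FlatAt R q' (C ⊗[S] N)) : FlatCA.FlatAt R q N := by
  let Sq := Localization.AtPrime q
  let Cq := Localization.AtPrime q'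
  letI : Algebra Sq Cq := (Localization.localRingHom q q' (algebraMap S C) hq.over).toAlgebra
  haveI : IsScalarTower S Sq Cq := IsScalarTower.of_algebraMap_eq fun s => by
    rw [RingHom.algebraMap_toAlgebra, Localization.localRingHom_to_map, ← IsScalarTower.algebraMap_apply]
  haveI : IsScalarTower R Sq Cq := IsScalarTower.of_algebraMap_eq fun r => by
    rw [IsScalarTower.algebraMap_apply R S Sq, ← IsScalarTower.algebraMap_apply S Sq Cq, ← IsScalarTower.algebraMap_apply R S Cq]
  haveI : IsLocalHom (algebraMap Sq Cq) := Localization.isLocalHom_localRingHom q q' _ hq.over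
  haveI : Module.Flat C Cq := IsLocalization.flat Cq q'.primeCompl
  haveI : Module.Flat S Cq := Module.Flat.trans S C Cq
  haveI : Algebra.FormallyUnramified S Sq := .of_isLocalization q.primeCompl
  haveI : Algebra.EssFiniteType S Sq := .of_isLocalization Sq q.primeCompl
  haveI : Module.Flat Sq Cq := Algebra.FormallyUnramified.flat_of_restrictScalars S Sq Cq
  haveI : Module.FaithfullyFlat Sq Cq := Module.FaithfullyFlat.of_flat_of_isLocalHom
  obtain ⟨e₁⟩ := exists_localizedEquiv q.primeCompl Sq N
  obtain ⟨e₂⟩ := exists_localizedEquiv q'.primeCompl Cq (C ⊗[S] N)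
  let e₃ : Cq ⊗[Sq] (Sq ⊗[S] N) ≃ₗ[Cq] Cq ⊗[S] N := AlgebraTensorModule.cancelBaseChange S Sq Cq Cq N
  let e₄ : Cq ⊗[C] (C ⊗[S] N) ≃ₗ[Cq] Cq ⊗[S] N := AlgebraTensorModule.cancelBaseChange S C Cq Cq N
  haveI : Module.Flat R (Cq ⊗[Sq] (Sq ⊗[S] N)) :=
    haveI : Module.Flat R (LocalizedModule q'.primeCompl (C ⊗[S] N)) := h
    Module.Flat.of_linearEquiv (M := LocalizedModule q'.primeCompl (C ⊗[S] N))
      ((e₃.trans e₄.symm).restrictScalars R |>.trans (e₂.restrictScalars R).symm)
  haveI : Module.Flat R (Sq ⊗[S] N) := flat_of_tensor_faithfullyFlat (C := Cq) (S := Sq)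
  exact Module.Flat.of_linearEquiv (M := Sq ⊗[S] N) (e₁.restrictScalars R)

variable {R S : Type u} [CommRing R] [CommRing S] [Algebra R S] [Algebra.FiniteType R S]

/-- A point without socle in the fibre is flat if the smaller points of the fibre are. -/
theorem flatAt_of_below (N : Type u) [AddCommGroup N] [Module S N] [Module R N] [IsScalarTower R S N] [Module.Finite S N]
    (p : Ideal R) [p.IsPrime] (q : Ideal S) [q.IsPrime] [q.LiesOver p]
    (hbelow : ∀ (Q : Ideal S) [Q.IsPrime], Q.LiesOver p → Q < q → FlatCA.FlatAt R Q N)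
    (hass : NoAssAt p q N) : FlatCA.FlatAt R q N := by
  by_cases hq : (⟨q, ‹_›⟩ : PrimeSpectrum S) ∈ Module.support S N
  swap
  · haveI : Subsingleton (LocalizedModule q.primeCompl N) := Module.notMem_support_iff.1 hq
    exact (Module.Flat.of_free : Module.Flat R (LocalizedModule q.primeCompl N))
  obtain ⟨R', S', _, _, _, _, _, _, _, _, p', q', _, _, hR, hS, hqp, hcd⟩ :=
    S1252.result N p q (exists_fibre_support_point N p q hq)
  obtain ⟨heR, hlR, -⟩ := id hR
  obtain ⟨heS, hlS, -⟩ := id hS
  haveI := heR
  haveI := hlR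
  haveI := heS
  haveI := hlS
  haveI := hqp
  let L := Localization.AtPrime p'
  haveI hm : (maximalIdeal L).LiesOver p' := ⟨(Localization.AtPrime.comap_maximalIdeal (I := p')).symm⟩
  have hκ := bijective_residue_atPrime p'
  let C := L ⊗[R'] S'
  haveI : Algebra.FiniteType R S' := Algebra.FiniteType.trans (S := S) inferInstance inferInstance
  haveI : Algebra.FiniteType R' S' := Algebra.FiniteType.of_restrictScalars_finiteType R R' S'
  haveI : Algebra.FiniteType L C := inferInstance
  obtain ⟨qC, hqC, hqCm, hqCq⟩ := exists_prime_over (B := S') (B' := C) hκ q'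
  haveI := hqCm
  haveI := hqCq
  letI aSC : Algebra S C := Algebra.compHom C (algebraMap S S')
  haveI tSSC : IsScalarTower S S' C := IsScalarTower.of_algebraMap_eq fun _ => rfl
  haveI tRR'C : IsScalarTower R R' C := inferInstance
  haveI tRSC : IsScalarTower R S C := IsScalarTower.of_algebraMap_eq fun r => by
    rw [IsScalarTower.algebraMap_apply S S' C, ← IsScalarTower.algebraMap_apply R S S',
      IsScalarTower.algebraMap_apply R R' S', ← IsScalarTower.algebraMap_apply R' S' C, ← IsScalarTower.algebraMap_apply R R' C]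
  haveI tRS'C : IsScalarTower R S' C := IsScalarTower.of_algebraMap_eq fun r => by
    rw [IsScalarTower.algebraMap_apply R S C, IsScalarTower.algebraMap_apply R S S', IsScalarTower.algebraMap_apply S S' C]
  haveI tRLC : IsScalarTower R L C := inferInstance
  haveI hqCq₀ : qC.LiesOver q := Ideal.LiesOver.trans qC q' q
  haveI hCloc : IsLocalization (Algebra.algebraMapSubmonoid S' p'.primeCompl) C := inferInstance
  haveI : Module.Flat S' C := IsLocalization.flat C (Algebra.algebraMapSubmonoid S' p'.primeCompl)
  haveI : Module.Flat S C := Module.Flat.trans S S' C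
  haveI : Module.Flat R' L := IsLocalization.flat L p'.primeCompl
  haveI : Module.Flat R L := Module.Flat.trans R R' L
  let X := C ⊗[S] N
  have hcd' : FlatCA.HasCompleteDevissageAt L C X (maximalIdeal L) qC :=
    hasCDA_congr (hasCDA_tensor (hcd (S' ⊗[S] N) (TensorProduct.mk S S' N 1) (TensorProduct.isBaseChange S N S'))
      L (maximalIdeal L) hκ C qC) (AlgebraTensorModule.cancelBaseChange S S' C C N).symm
  haveI : IsScalarTower L C X := inferInstance
  haveI : IsScalarTower R L X := inferInstance
  haveI : Algebra.FormallyUnramified R' L := .of_isLocalization p'.primeCompl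
  haveI : Algebra.FormallyUnramified R L := Algebra.FormallyUnramified.comp R R' L
  haveI : Algebra.EssFiniteType R' L := .of_isLocalization L p'.primeCompl
  haveI : Algebra.EssFiniteType R L := Algebra.EssFiniteType.comp R R' L
  -- the closed point of `L` is generated by `p`
  have hpL : p.map (algebraMap R L) = maximalIdeal L := by
    letI := Localization.AtPrime.algebraOfLiesOver p p'
    exact ((Algebra.isUnramifiedAt_iff_map_eq R p p').1
      (inferInstanceAs (Algebra.FormallyUnramified R (Localization.AtPrime p')))).2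
  have hbelow' : ∀ (Q : Ideal C) [Q.IsPrime], Q.LiesOver (maximalIdeal L) → Q < qC → FlatCA.FlatAt L Q X := by
    intro Q _ hQm hQlt
    let Q₁ := Q.comap (algebraMap S' C)
    haveI : Q.LiesOver Q₁ := ⟨rfl⟩
    have hQ₁lt : Q₁ < q' := lt_of_le_of_ne ((Ideal.comap_mono hQlt.le).trans hqCq.over.ge) fun h => hQlt.ne (by
      have h1 := IsLocalization.map_under (Algebra.algebraMapSubmonoid S' p'.primeCompl) C Q
      have h2 := IsLocalization.map_under (Algebra.algebraMapSubmonoid S' p'.primeCompl) C qC
      rw [← h1, ← h2]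
      exact congrArg (Ideal.map _) (h.trans hqCq.over))
    let Q₀ := Q₁.comap (algebraMap S S')
    haveI : Q₁.LiesOver Q₀ := ⟨rfl⟩
    haveI : Q.LiesOver Q₀ := Ideal.LiesOver.trans Q Q₁ Q₀
    haveI : Q₀.LiesOver p := ⟨by
      show p = ((Q.comap (algebraMap S' C)).comap (algebraMap S S')).comap (algebraMap R S)
      rw [Ideal.comap_comap, Ideal.comap_comap, ← IsScalarTower.algebraMap_eq R S S', ← IsScalarTower.algebraMap_eq R S' C,
        IsScalarTower.algebraMap_eq R L C, ← Ideal.comap_comap]
      haveI : (maximalIdeal L).LiesOver p := Ideal.LiesOver.trans (maximalIdeal L) p' p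
      exact (Ideal.LiesOver.over (P := maximalIdeal L) (p := p)).trans (congrArg (Ideal.comap _) hQm.over)⟩
    have hQ₀lt : Q₀ < q := lt_of_le_of_ne ((Ideal.comap_mono hQ₁lt.le).trans hlS.over.ge) fun h =>
      hQ₁lt.ne (Algebra.QuasiFinite.eq_of_le_of_under_eq (R := S) Q₁ q' hQ₁lt.le (h.trans hlS.over))
    exact flatAt_of_unramified (R := R) X Q (flatAt_of_flat_map N Q₀ Q (hbelow Q₀ inferInstance hQ₀lt))
  have hass' : NoAssAt (maximalIdeal L) qC X :=
    noAssAt_of_flat N p q qC (maximalIdeal L) hpL hass (LinearEquiv.refl C X)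
  haveI hflat := flatAt_of_cda X qC hcd' hbelow' hass'
  refine flatAt_of_flat_map_descent N q qC ?_
  haveI : Module.Flat L (LocalizedModule qC.primeCompl X) := hflat
  exact Module.Flat.trans R L (LocalizedModule qC.primeCompl X)

/-- Flatness at a point is decided at the associated points of the fibre specialising to it. -/
theorem flatAt_of_assoc (N : Type u) [AddCommGroup N] [Module S N] [Module R N] [IsScalarTower R S N] [Module.Finite S N]
    (p : Ideal R) [p.IsPrime] (q : Ideal S) [q.IsPrime] [q.LiesOver p]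
    (h : ∀ (q' : Ideal S) [q'.IsPrime], q' ≤ q → q'.LiesOver p →
      FlatCA.fiberIdeal p q' ∈ associatedPrimes (p.Fiber S) (FlatCA.fiberMod p S N) → FlatCA.FlatAt R q' N) :
    FlatCA.FlatAt R q N := by
  haveI : IsNoetherianRing (p.Fiber S) := Algebra.FiniteType.isNoetherianRing p.ResidueField (p.Fiber S)
  have hprime : ∀ (Q : Ideal S) [Q.IsPrime] [Q.LiesOver p], ∃ x : PrimeSpectrum (p.Fiber S),
      x.asIdeal = FlatCA.fiberIdeal p Q ∧ x.asIdeal.comap (algebraMap S (p.Fiber S)) = Q := fun Q _ _ => by
    obtain ⟨x, hx⟩ := RG4.exists_fiber_point p Q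
    exact ⟨x, eq_fiberIdeal p Q x hx, hx⟩
  suffices key : ∀ (n : ℕ∞) (Q : Ideal S) [Q.IsPrime] [Q.LiesOver p], (FlatCA.fiberIdeal p Q).height = n → Q ≤ q →
      FlatCA.FlatAt R Q N from key _ q rfl le_rfl
  intro n
  induction n using WellFoundedLT.induction with
  | ind n ih =>
    intro Q _ _ hn hQq
    obtain ⟨x, hx, hxQ⟩ := hprime Q
    by_cases hassQ : FlatCA.fiberIdeal p Q ∈ associatedPrimes (p.Fiber S) (FlatCA.fiberMod p S N)
    · exact h Q hQq inferInstance hassQ
    refine flatAt_of_below N p Q (fun Q' _ hQ' hlt => ?_)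
      (noAssAt_of_notMem_associatedPrimes N p Q (hx ▸ x.2) hassQ)
    obtain ⟨x', hx', hx'Q⟩ := hprime Q'
    refine ih _ ?_ Q' rfl (hlt.le.trans hQq)
    rw [← hn, ← hx, ← hx']
    refine Ideal.height_strict_mono_of_isPrime (lt_of_le_of_ne ?_ fun he => hlt.ne ?_)
    · rw [hx, hx']; exact Ideal.map_mono hlt.le
    · rw [← hxQ, ← hx'Q, he]

end Groth.Agent.Dev4
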