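import Groth.Agent.Lib.Dev4.PureProjective
import Groth.Agent.Lib.Dev4.AlongFiber
import Groth.Agent.Lib.Dev4.FlatAssoc
import Groth.Agent.Lib.Dev4.Point
import Groth.Agent.Lib.Dev4.WeakAssTensorIff
import Groth.Agent.Lib.CAlgLow.ProjCrit
import Mathlib.RingTheory.Ideal.GoingDown

/-!
# A module pure along a fibre and flat there is projective over the local ring
-/

set_option autoImplicit false
set_option maxSynthPendingDepth 3

universe u

open TensorProduct IsLocalRing

set_option backward.isDefEq.respectTransparency.types false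

attribute [local instance] Algebra.TensorProduct.rightAlgebra

namespace Groth.Agent.Dev4

/-- If the associated points of all fibres specialise to the closed fibre, flatness there gives flatness. -/
theorem flat_of_specialising {L SA : Type u} [CommRing L] [IsLocalRing L] [CommRing SA] [Algebra L SA]
    [Algebra.FiniteType L SA] (NA : Type u) [AddCommGroup NA] [Module SA NA] [Module L NA] [IsScalarTower L SA NA]
    [Module.Finite SA NA]
    (hflat : ∀ (Q : Ideal SA) [Q.IsPrime], Q.LiesOver (maximalIdeal L) → FlatCA.FlatAt L Q NA)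
    (hspec : ∀ (t : Ideal L) [t.IsPrime] (Q : Ideal SA) [Q.IsPrime] [Q.LiesOver t],
      FlatCA.fiberIdeal t Q ∈ associatedPrimes (t.Fiber SA) (FlatCA.fiberMod t SA NA) →
      ∃ P : Ideal SA, P.IsPrime ∧ Q ≤ P ∧ P.LiesOver (maximalIdeal L)) :
    Module.Flat L NA := by
  refine Module.flat_of_isLocalized_maximal (R := L) (M := NA) SA (fun P => LocalizedModule P.primeCompl NA)
    (fun P _ => LocalizedModule.mkLinearMap P.primeCompl NA) fun P _ => ?_
  let t := P.comap (algebraMap L SA)
  haveI : P.LiesOver t := ⟨rfl⟩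
  refine flatAt_of_assoc NA t P fun Q _ _ hQ hass => ?_
  haveI := hQ
  obtain ⟨P', hP', hQP', hP'm⟩ := hspec t Q hass
  exact RG4.flatAt_of_le hQP' (hflat P' hP'm)

/-- An étale piece with projective module covering all associated points of all fibres gives projectivity. -/
theorem projective_of_covered {L SA C : Type u} [CommRing L] [CommRing SA] [CommRing C] [Algebra L SA]
    [Algebra SA C] [Algebra L C] [IsScalarTower L SA C] [Algebra.FiniteType L SA] [Algebra.Etale SA C]
    (NA : Type u) [AddCommGroup NA] [Module SA NA] [Module L NA] [IsScalarTower L SA NA] [Module.Finite SA NA]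
    [Module.Flat L NA] [Module.Projective L (C ⊗[SA] NA)]
    (hcov : ∀ (t : Ideal L) [t.IsPrime] (Q : Ideal SA) [Q.IsPrime] [Q.LiesOver t],
      FlatCA.fiberIdeal t Q ∈ associatedPrimes (t.Fiber SA) (FlatCA.fiberMod t SA NA) →
      ∃ x : Ideal C, x.IsPrime ∧ x.comap (algebraMap SA C) = Q) :
    Module.Projective L NA := by
  have hu : FlatCA.UnivInj L ((TensorProduct.mk SA C NA 1).restrictScalars L) :=
    univInj_mk_of_fibres NA fun t Q _ _ _ hass => hcov t Q hass
  have hML : CAlg.IsMittagLeffler L (C ⊗[SA] NA) := ((S0584.result L (C ⊗[SA] NA)).1 inferInstance).2.1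
  exact CAlgLow.projective_of_flat_mittagLeffler_countablyGenerated
    (CAlgLow.isMittagLeffler_of_ui (RG4.universallyInjective_of_univInj hu) hML) (isCountablyGenerated_of_finite (B := SA) NA)

/-- Associated points of the fibres of a localisation of the base come from those of the original fibres. -/
theorem exists_isWk_of_base_localization {R L B SA : Type u} [CommRing R] [CommRing L] [CommRing B] [CommRing SA]
    [Algebra R L] [Algebra R B] [Algebra B SA] [Algebra R SA] [IsScalarTower R B SA] [Algebra L SA]
    [IsScalarTower R L SA] (U : Submonoid R) [IsLocalization U L] (T : Submonoid B) [IsLocalization T SA]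
    (N : Type u) [AddCommGroup N] [Module B N] [Module R N] [IsScalarTower R B N]
    (NA : Type u) [AddCommGroup NA] [Module SA NA] [Module B NA] [IsScalarTower B SA NA] [Module R NA]
    [IsScalarTower R B NA] [Module L NA] [IsScalarTower L SA NA] [IsScalarTower R L NA]
    (j : N →ₗ[B] NA) [IsLocalizedModule T j]
    (t₀ : Ideal R) [t₀.IsPrime] (t : Ideal L) [t.IsPrime] [t.LiesOver t₀]
    (q : Ideal B) [q.IsPrime] (Q : Ideal SA) [Q.IsPrime] [Q.LiesOver q]
    {w : NA ⊗[L] t.ResidueField} (hw : IsWk Q w) : ∃ w₀ : N ⊗[R] t₀.ResidueField, IsWk q w₀ := by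
  haveI : IsScalarTower R SA NA := IsScalarTower.of_algebraMap_smul fun r x => by
    rw [IsScalarTower.algebraMap_apply R B SA, algebraMap_smul, algebraMap_smul]
  let θ : NA ⊗[L] t.ResidueField ≃ₗ[L] NA ⊗[R] t.ResidueField := IsLocalization.moduleTensorEquiv U L NA t.ResidueField
  have hθ : ∀ (a : SA) (z : NA ⊗[L] t.ResidueField), θ (a • z) = a • θ z := fun a z => by
    induction z using TensorProduct.induction_on with
    | zero => simp
    | add u v hu hv => simp only [smul_add, map_add, hu, hv]
    | tmul n c => rfl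
  have hw' : IsWk Q (θ w) := by
    refine ⟨fun a ha => ?_, fun s hs => hw.2 s ?_⟩
    · obtain ⟨s, hs, k, hk⟩ := hw.1 a ha
      exact ⟨s, hs, k, by rw [← hθ, hk, map_zero]⟩
    · rw [← hθ] at hs
      exact (LinearEquiv.map_eq_zero_iff θ).1 hs
  obtain ⟨w₁, hw₁⟩ := exists_isWk_of_map T (AlgebraTensorModule.rTensor R t.ResidueField j) q Q hw'
  have hκ : Function.Bijective (Ideal.ResidueField.mapₐ t₀ t (Algebra.ofId R L) (Ideal.LiesOver.over (P := t) (p := t₀))) :=
    (RingHom.surjectiveOnStalks_of_isLocalization U L).residueFieldMap_bijective _ _ _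
  let e : N ⊗[R] t₀.ResidueField ≃ₗ[B] N ⊗[R] t.ResidueField :=
    AlgebraTensorModule.congr (LinearEquiv.refl B N) (AlgEquiv.ofBijective _ hκ).toLinearEquiv
  refine ⟨e.symm w₁, fun a ha => ?_, fun s hs => hw₁.2 s ?_⟩
  · obtain ⟨s, hs, k, hk⟩ := hw₁.1 a ha
    exact ⟨s, hs, k, by rw [← map_smul, hk, map_zero]⟩
  · rw [← map_smul] at hs
    exact (LinearEquiv.map_eq_zero_iff e.symm).1 hs

/-- A module pure along a fibre and flat there is projective over the local ring of the base. -/
theorem projective_local_of_isPureAlong {R S : Type u} [CommRing R] [CommRing S] [Algebra R S] [Algebra.FiniteType R S]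
    (N : Type u) [AddCommGroup N] [Module S N] [Module R N] [IsScalarTower R S N] [Module.Finite S N]
    (p : Ideal R) [p.IsPrime] (hflat : ∀ (q : Ideal S) [q.IsPrime], q.LiesOver p → FlatCA.FlatAt R q N)
    (hpure : FlatCA.IsPureAlong R S N p) :
    Module.Projective (Localization.AtPrime p) (Localization.AtPrime p ⊗[R] N) := by
  classical
  obtain ⟨R', _, _, p', _, hR, hfree⟩ := exists_free_along N p hflat
  obtain ⟨hmp, hκ⟩ := exists_bijective_local hR
  haveI := hmp
  haveI := hR.1
  haveI : p'.LiesOver p := hR.2.choose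
  let L := Localization.AtPrime p'
  let B' := R' ⊗[R] S
  let SA := L ⊗[R'] B'
  letI : Algebra S SA := Algebra.compHom SA (algebraMap S B')
  haveI : IsScalarTower S B' SA := IsScalarTower.of_algebraMap_eq fun _ => rfl
  haveI : IsScalarTower R S SA := IsScalarTower.of_algebraMap_eq fun r => by
    rw [IsScalarTower.algebraMap_apply S B' SA, ← IsScalarTower.algebraMap_apply R S B',
      IsScalarTower.algebraMap_apply R R' B', ← IsScalarTower.algebraMap_apply R' B' SA, ← IsScalarTower.algebraMap_apply R R' SA]
  haveI : IsScalarTower R B' SA := IsScalarTower.of_algebraMap_eq fun r => by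
    rw [IsScalarTower.algebraMap_apply R S SA, IsScalarTower.algebraMap_apply R S B', IsScalarTower.algebraMap_apply S B' SA]
  haveI : IsScalarTower R L SA := inferInstance
  haveI hpo₁ : Algebra.IsPushout R S R' B' := Algebra.IsPushout.symm inferInstance
  haveI hpo : Algebra.IsPushout R S L SA :=
    (Algebra.IsPushout.comp_iff (R := R) (S := R') (R' := S) (S' := B') (T := L) (T' := SA)).2 inferInstance |>.symm
  haveI : Algebra.IsPushout R L S SA := Algebra.IsPushout.symm hpo
  let T : Submonoid B' := Algebra.algebraMapSubmonoid B' p'.primeCompl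
  haveI : IsLocalization T SA := inferInstance
  haveI : Module.Flat B' SA := IsLocalization.flat SA T
  haveI : Algebra.Etale S B' := Algebra.Etale.of_equiv (Algebra.IsPushout.equiv R S R' B' (h := hpo₁))
  haveI : Module.Flat S B' := inferInstance
  haveI : Module.Flat S SA := Module.Flat.trans S B' SA
  haveI : Algebra.FiniteType L SA := inferInstance
  let N'' := B' ⊗[S] N
  let NA := SA ⊗[B'] N''
  haveI : IsLocalizedModule T (TensorProduct.mk B' SA N'' 1) :=
    (isLocalizedModule_iff_isBaseChange T SA _).2 (TensorProduct.isBaseChange B' N'' SA)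
  haveI : Algebra.FormallyUnramified R' L := .of_isLocalization p'.primeCompl
  haveI : Algebra.FormallyUnramified R L := Algebra.FormallyUnramified.comp R R' L
  haveI : Algebra.EssFiniteType R' L := .of_isLocalization L p'.primeCompl
  haveI : Algebra.EssFiniteType R L := Algebra.EssFiniteType.comp R R' L
  let e₀ : NA ≃ₗ[SA] SA ⊗[S] N := AlgebraTensorModule.cancelBaseChange S B' SA SA N
  have hqp : ∀ (Q : Ideal SA) [Q.IsPrime], Q.LiesOver (maximalIdeal L) → (Q.comap (algebraMap S SA)).LiesOver p :=
    fun Q _ hQ => ⟨by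
      show p = (Q.comap (algebraMap S SA)).comap (algebraMap R S)
      rw [Ideal.comap_comap, ← IsScalarTower.algebraMap_eq, IsScalarTower.algebraMap_eq R L SA, ← Ideal.comap_comap]
      exact hmp.over.trans (congrArg (Ideal.comap (algebraMap R L)) hQ.over)⟩
  have hflatA : ∀ (Q : Ideal SA) [Q.IsPrime], Q.LiesOver (maximalIdeal L) → FlatCA.FlatAt L Q NA := fun Q _ hQ => by
    let q := Q.comap (algebraMap S SA)
    haveI : Q.LiesOver q := ⟨rfl⟩
    have h1 := flatAt_of_unramified (R := R) (L := L) (SA ⊗[S] N) Q (flatAt_of_flat_map N q Q (hflat q (hqp Q hQ)))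
    exact (FlatH4.flat_localized_congr Q e₀.symm).1 h1
  have hspec : ∀ (t : Ideal L) [t.IsPrime] (Q : Ideal SA) [Q.IsPrime] [Q.LiesOver t],
      FlatCA.fiberIdeal t Q ∈ associatedPrimes (t.Fiber SA) (FlatCA.fiberMod t SA NA) →
      ∃ P : Ideal SA, P.IsPrime ∧ Q ≤ P ∧ P.LiesOver (maximalIdeal L) := by
    intro t _ Q _ _ hass
    obtain ⟨w, hw⟩ := (fiberIdeal_mem_associatedPrimes_iff t NA Q).1 hass
    let t₀ := t.comap (algebraMap R' L)
    haveI : t.LiesOver t₀ := ⟨rfl⟩
    let r := Q.comap (algebraMap B' SA)
    haveI : Q.LiesOver r := ⟨rfl⟩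
    haveI : r.LiesOver t₀ := ⟨by
      show t.comap (algebraMap R' L) = (Q.comap (algebraMap B' SA)).comap (algebraMap R' B')
      rw [Ideal.comap_comap, ← IsScalarTower.algebraMap_eq, IsScalarTower.algebraMap_eq R' L SA, ← Ideal.comap_comap]
      exact congrArg (Ideal.comap (algebraMap R' L)) (Ideal.over_def Q t)⟩
    obtain ⟨w₀, hw₀⟩ := exists_isWk_of_base_localization p'.primeCompl T N'' NA (TensorProduct.mk B' SA N'' 1)
      t₀ t r Q hw
    have hle : t₀ ≤ p' := by
      rw [← Localization.AtPrime.comap_maximalIdeal (I := p')]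
      exact Ideal.comap_mono (le_maximalIdeal (Ideal.IsPrime.ne_top inferInstance))
    obtain ⟨P', hP', hrP', hP'p⟩ : ∃ P' : Ideal B', P'.IsPrime ∧ r ≤ P' ∧ P'.LiesOver p' := by
      by_contra hc
      push Not at hc
      exact hpure R' B' N'' (TensorProduct.mk S B' N 1) t₀ p' r hR
        ⟨hpo₁, TensorProduct.isBaseChange S N B', hle, inferInstance, inferInstance,
          (fiberIdeal_mem_associatedPrimes_iff t₀ N'' r).2 ⟨w₀, hw₀⟩, fun P hP h => hc P hP h⟩
    haveI := hP'
    have hdis : Disjoint (T : Set B') (P' : Set B') := Set.disjoint_left.2 fun x hx hxP => by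
      obtain ⟨c, hc, rfl⟩ := hx
      exact hc ((Ideal.mem_of_liesOver P' p' c).2 hxP)
    refine ⟨P'.map (algebraMap B' SA), IsLocalization.isPrime_of_isPrime_disjoint T _ _ hP' hdis, ?_, ⟨?_⟩⟩
    · rw [← IsLocalization.map_under T SA Q]
      exact Ideal.map_mono hrP'
    · haveI : (P'.map (algebraMap B' SA)).IsPrime := IsLocalization.isPrime_of_isPrime_disjoint T _ _ hP' hdis
      have h1 : ((P'.map (algebraMap B' SA)).comap (algebraMap L SA)).comap (algebraMap R' L) = p' := by
        rw [Ideal.comap_comap, ← IsScalarTower.algebraMap_eq, IsScalarTower.algebraMap_eq R' B' SA, ← Ideal.comap_comap,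
          show (P'.map (algebraMap B' SA)).comap (algebraMap B' SA) = P' from
            IsLocalization.under_map_of_isPrime_disjoint T SA hP' hdis]
        exact hP'p.over.symm
      show maximalIdeal L = (P'.map (algebraMap B' SA)).comap (algebraMap L SA)
      rw [← IsLocalization.map_under p'.primeCompl L ((P'.map (algebraMap B' SA)).comap (algebraMap L SA)),
        ← Localization.AtPrime.map_eq_maximalIdeal]
      exact congrArg _ h1.symm
  haveI := flat_of_specialising NA hflatA hspec
  obtain ⟨C, _, _, _, _, _, _, het, hcov, hfr, -⟩ := hfree SA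
  haveI := het
  haveI := hfr
  haveI : Module.Free L (C ⊗[S] N) := free_of_restrictScalars (C := C)
  let eC : C ⊗[SA] NA ≃ₗ[C] C ⊗[S] N :=
    (AlgebraTensorModule.congr (LinearEquiv.refl C C) e₀).trans (AlgebraTensorModule.cancelBaseChange S SA C C N)
  haveI : Module.Projective L (C ⊗[SA] NA) := Module.Projective.of_equiv (eC.restrictScalars L).symm
  haveI hproj : Module.Projective L NA := projective_of_covered (C := C) NA fun t _ Q _ _ hass => by
    obtain ⟨P, hP, hQP, hPm⟩ := hspec t Q hass
    haveI := hP
    haveI := hPm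
    obtain ⟨x', hx', hxq, hxm⟩ := hcov (P.comap (algebraMap S SA)) (hqp P hPm)
    haveI := hxm
    haveI : (x'.comap (algebraMap SA C)).LiesOver (maximalIdeal L) := ⟨by
      show _ = (x'.comap (algebraMap SA C)).comap (algebraMap L SA)
      rw [Ideal.comap_comap, ← IsScalarTower.algebraMap_eq]
      exact hxm.over⟩
    have hxP : x'.comap (algebraMap SA C) = P := prime_ext (R := R) (R' := L) (B := S) hκ _ _ (by
      rw [Ideal.comap_comap, ← IsScalarTower.algebraMap_eq]
      exact hxq)
    haveI : x'.LiesOver P := ⟨hxP.symm⟩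
    obtain ⟨x, -, hx, hxQ⟩ := Ideal.exists_ideal_le_liesOver_of_le (p := Q) (q := P) x' hQP
    exact ⟨x, hx, hxQ.over.symm⟩
  -- descend to the local ring of `R`
  let Rp := Localization.AtPrime p
  letI : Algebra Rp L := Localization.AtPrime.algebraOfLiesOver p p'
  haveI : IsScalarTower R Rp L := IsScalarTower.of_algebraMap_eq fun r => by
    rw [RingHom.algebraMap_toAlgebra, Localization.localRingHom_to_map, ← IsScalarTower.algebraMap_apply R R' L]
  haveI : IsLocalHom (algebraMap Rp L) := Localization.isLocalHom_localRingHom p p' _ (Ideal.over_def p' p)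
  haveI : Module.Flat R' L := IsLocalization.flat L p'.primeCompl
  haveI : Module.Flat R L := Module.Flat.trans R R' L
  haveI : Module.Flat Rp L := (Module.flat_iff_of_isLocalization Rp p.primeCompl L).2 inferInstance
  haveI : Module.FaithfullyFlat Rp L := Module.FaithfullyFlat.of_flat_of_isLocalHom
  haveI : Module.Projective L (L ⊗[Rp] (Rp ⊗[R] N)) :=
    Module.Projective.of_equiv ((e₀.restrictScalars L).trans ((Algebra.IsPushout.cancelBaseChange R L S SA N).trans
      (AlgebraTensorModule.cancelBaseChange R Rp L L N).symm))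
  exact CAlgLow.projective_of_faithfullyFlat (S := L)

end Groth.Agent.Dev4
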