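import Groth.Agent.Lib.Dev4.WeakAssTensor
import Mathlib.RingTheory.Flat.Stability
import Mathlib.RingTheory.Nakayama
import Mathlib.Algebra.Module.Projective

/-!
# Projective modules are universally pure
-/

set_option autoImplicit false
set_option maxSynthPendingDepth 3

universe u

open TensorProduct IsLocalRing

set_option backward.isDefEq.respectTransparency.types false

attribute [local instance] Algebra.TensorProduct.rightAlgebra

namespace Groth.Agent.Dev4

/-- Over a projective module the closures of associated fibre points meet every closed point. -/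
theorem exists_specialization_of_projective {A B : Type u} [CommRing A] [CommRing B] [Algebra A B]
    (N : Type u) [AddCommGroup N] [Module B N] [Module A N] [IsScalarTower A B N] [Module.Projective A N]
    (t' t : Ideal A) [t'.IsPrime] [t.IsPrime] (hle : t' ≤ t) (P : Ideal B) [P.IsPrime] [P.LiesOver t']
    {w : N ⊗[A] t'.ResidueField} (hw : IsWk P w) :
    ∃ P' : Ideal B, P'.IsPrime ∧ P ≤ P' ∧ P'.LiesOver t := by
  classical
  by_cases hdis : Disjoint ((P ⊔ t.map (algebraMap A B) : Ideal B) : Set B)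
      ((Algebra.algebraMapSubmonoid B t.primeCompl : Submonoid B) : Set B)
  · obtain ⟨P', hP', hle', hd⟩ := Ideal.exists_le_prime_disjoint _ _ hdis
    refine ⟨P', hP', le_sup_left.trans hle', ⟨le_antisymm (Ideal.map_le_iff_le_comap.1 (le_sup_right.trans hle')) ?_⟩⟩
    intro c hc
    by_contra hct
    exact Set.disjoint_left.1 hd (show algebraMap A B c ∈ P' from hc) ⟨c, hct, rfl⟩
  exfalso
  obtain ⟨_, hy, s, hs, rfl⟩ := Set.not_disjoint_iff.1 hdis
  obtain ⟨a, ha, b, hb, hab⟩ := Submodule.mem_sup.1 hy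
  have hPt : ∀ c : A, c ∉ t' → algebraMap A B c ∉ P := fun c hc h => hc ((Ideal.mem_of_liesOver P t' c).2 h)
  -- an element killed by `a` in the fibre
  obtain ⟨c, hc, x₁, hx₁⟩ := exists_smul_eq_tmul_one (S := B) t' N w
  have hann : ∀ v : B, v • (x₁ ⊗ₜ[A] (1 : t'.ResidueField)) = 0 → v ∈ P := fun v hv => by
    rw [← hx₁, ← mul_smul] at hv
    exact (‹P.IsPrime›.mem_or_mem (hw.2 _ hv)).resolve_right (hPt c hc)
  obtain ⟨σ, hσ, n, hn⟩ := hw.1 a ha
  have hex : ∃ n : ℕ, (σ * a ^ n) • (x₁ ⊗ₜ[A] (1 : t'.ResidueField)) = 0 :=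
    ⟨n, by rw [← hx₁, smul_comm, hn, smul_zero]⟩
  have hk := Nat.find_spec hex
  rcases hkn : Nat.find hex with _ | k
  · rw [hkn, pow_zero, mul_one] at hk
    exact hσ (hann σ hk)
  have hne : (σ * a ^ k) • (x₁ ⊗ₜ[A] (1 : t'.ResidueField)) ≠ 0 := Nat.find_min hex (by omega)
  rw [hkn] at hk
  let x := (σ * a ^ k) • x₁
  have hax : (a • x) ⊗ₜ[A] (1 : t'.ResidueField) = 0 := by
    rw [← TensorProduct.smul_tmul', ← TensorProduct.smul_tmul', ← mul_smul, ← mul_assoc, mul_comm a σ, mul_assoc,
      ← pow_succ']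
    exact hk
  obtain ⟨d, hd, hdx⟩ := exists_smul_mem_of_tmul_one_eq_zero t' N hax
  have hf0 : ∀ (φ : N →ₗ[A] A) (y : N), y ∈ t' • (⊤ : Submodule A N) → φ y ∈ t' := fun φ y hy => by
    induction hy using Submodule.smul_induction_on' with
    | smul r hr m _ => rw [map_smul, smul_eq_mul]; exact t'.mul_mem_right _ hr
    | add u _ v _ hu hv => rw [map_add]; exact add_mem hu hv
  have hfa : ∀ φ : N →ₗ[A] A, φ (a • x) ∈ t' := fun φ => by
    have h := hf0 φ _ hdx
    rw [map_smul, smul_eq_mul] at h
    exact (‹t'.IsPrime›.mem_or_mem h).resolve_left hd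
  -- the content ideal
  let I : Ideal A := LinearMap.range (LinearMap.applyₗ x : (N →ₗ[A] A) →ₗ[A] A)
  have hI : ∀ φ : N →ₗ[A] A, φ x ∈ I := fun φ => ⟨φ, rfl⟩
  have hb' : ∀ (φ : N →ₗ[A] A), φ (b • x) ∈ t * I := by
    clear hab
    induction hb using Submodule.span_induction with
    | mem y hy =>
      obtain ⟨r, hr, rfl⟩ := hy
      intro φ
      rw [algebraMap_smul, map_smul, smul_eq_mul]
      exact Ideal.mul_mem_mul hr (hI φ)
    | zero => intro φ; simp
    | add u v _ _ hu hv => intro φ; rw [add_smul, map_add]; exact add_mem (hu φ) (hv φ)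
    | smul u v _ hv =>
      intro φ
      rw [smul_eq_mul, mul_smul]
      exact hv (φ.comp ((LinearMap.lsmul B N u).restrictScalars A))
  have hsI : ∀ z ∈ I, s * z ∈ t' ⊔ t * I := by
    rintro _ ⟨φ, rfl⟩
    show s * φ x ∈ _
    have h : φ (algebraMap A B s • x) = φ (a • x) + φ (b • x) := by rw [← map_add, ← add_smul, hab]
    rw [algebraMap_smul, map_smul, smul_eq_mul] at h
    rw [h]
    exact add_mem (Ideal.mem_sup_left (hfa φ)) (Ideal.mem_sup_right (hb' φ))
  obtain ⟨σ', hσ'⟩ := Module.projective_def.1 (inferInstance : Module.Projective A N)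
  have hcoord : ∀ m : N, Finsupp.linearCombination A id (σ' m) = m := hσ'
  have hIfg : I.FG := by
    refine ⟨(σ' x).support.image fun i => σ' x i, le_antisymm (Ideal.span_le.2 ?_) ?_⟩
    · intro z hz
      obtain ⟨i, -, rfl⟩ := Finset.mem_image.1 hz
      exact hI ((Finsupp.lapply i).comp σ')
    · rintro _ ⟨φ, rfl⟩
      show φ x ∈ _
      rw [show φ x = φ (Finsupp.linearCombination A id (σ' x)) by rw [hcoord x], Finsupp.linearCombination_apply,
        Finsupp.sum, map_sum]
      refine sum_mem fun i hi => ?_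
      rw [LinearMap.map_smul φ, smul_eq_mul]
      exact Ideal.mul_mem_right _ _ (Ideal.subset_span (Finset.mem_image_of_mem (fun i => σ' x i) hi))
  let L := Localization.AtPrime t
  have hNak : I.map (algebraMap A L) ≤ t'.map (algebraMap A L) := by
    refine Submodule.le_of_le_smul_of_le_jacobson_bot (I := maximalIdeal L) (hIfg.map _)
      (IsLocalRing.maximalIdeal_le_jacobson _) (Ideal.map_le_iff_le_comap.2 fun z hz => ?_)
    show algebraMap A L z ∈ t'.map (algebraMap A L) ⊔ maximalIdeal L • I.map (algebraMap A L)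
    obtain ⟨u, hu⟩ := IsLocalization.map_units L (⟨s, hs⟩ : t.primeCompl)
    have h1 := Ideal.mem_map_of_mem (algebraMap A L) (hsI z hz)
    rw [map_mul, Ideal.map_sup, Ideal.map_mul, Localization.AtPrime.map_eq_maximalIdeal] at h1
    rw [smul_eq_mul, show algebraMap A L z = (↑u⁻¹ : L) * (algebraMap A L s * algebraMap A L z) by
      rw [show algebraMap A L s = (u : L) from hu.symm, Units.inv_mul_cancel_left]]
    exact Ideal.mul_mem_left _ _ h1
  have hIt : ∀ z ∈ I, z ∈ t' := fun z hz => by
    obtain ⟨m, hm, hmz⟩ := (IsLocalization.algebraMap_mem_map_algebraMap_iff t.primeCompl L _ _).1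
      (hNak (Ideal.mem_map_of_mem _ hz))
    exact (‹t'.IsPrime›.mem_or_mem hmz).resolve_left fun h => hm (hle h)
  refine hne ?_
  rw [TensorProduct.smul_tmul']
  refine tmul_one_eq_zero_of_mem t' N ?_
  show x ∈ _
  rw [← hcoord x, Finsupp.linearCombination_apply]
  exact sum_mem fun i _ => Submodule.smul_mem_smul (hIt _ (hI ((Finsupp.lapply i).comp σ'))) Submodule.mem_top

/-- A projective module is universally pure. -/
theorem isUnivPure_of_projective {A B : Type u} [CommRing A] [CommRing B] [Algebra A B] [Algebra.FiniteType A B]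
    (N : Type u) [AddCommGroup N] [Module B N] [Module A N] [IsScalarTower A B N] [Module.Projective A N] :
    FlatCA.IsUnivPure A B N := by
  intro p _ A' B' N' _ _ _ _ _ _ _ _ _ _ _ _ _ _ f t' t _ _ P _ himp
  obtain ⟨hpo, hbc, htt, htp, hP, hass, hno⟩ := himp
  haveI := hP
  haveI : Algebra.IsPushout A A' B B' := hpo.symm
  let e := Algebra.IsPushout.equiv A A' B B'
  haveI : Algebra.FiniteType A' B' := Algebra.FiniteType.of_surjective e.toAlgHom e.surjective
  let e₁ : A' ⊗[A] N ≃ₗ[A'] B' ⊗[B] N := (Algebra.IsPushout.cancelBaseChange A A' B B' N).symm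
  haveI : Module.Projective A' N' := Module.Projective.of_equiv (e₁.trans (hbc.equiv.restrictScalars A'))
  obtain ⟨w, hw⟩ := (fiberIdeal_mem_associatedPrimes_iff t' N' P).1 hass
  obtain ⟨P', hP', hle, hover⟩ := exists_specialization_of_projective N' t' t htt P hw
  haveI := hP'
  exact hno P' hle hover

end Groth.Agent.Dev4
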