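import Groth.Agent.Lib.Dev4.AlongFiber
import Mathlib.RingTheory.Etale.Basic

/-!
# Neighbourhood pieces covering a fibre
-/

set_option autoImplicit false
set_option maxSynthPendingDepth 3

universe u

open TensorProduct

set_option backward.isDefEq.respectTransparency.types false

attribute [local instance] Algebra.TensorProduct.rightAlgebra

namespace Groth.Agent.Dev4

/-- The open part of the fibre covered by a piece, with its behaviour under refinements. -/
theorem exists_piece_open {R S R' S' : Type u} [CommRing R] [CommRing S] [Algebra R S] [CommRing R'] [CommRing S']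
    [Algebra R R'] [Algebra S S'] [Algebra R' S'] [Algebra R S'] [IsScalarTower R R' S'] [IsScalarTower R S S']
    [Algebra.Etale S S'] (p : Ideal R) [p.IsPrime] (p' : Ideal R') [p'.IsPrime] (hR : FlatCA.IsEtaleNhd R R' p p')
    (q' : Ideal S') [q'.IsPrime] [q'.LiesOver p'] :
    ∃ W : Set (PrimeSpectrum (p.Fiber S)), IsOpen W ∧
      (∀ y : PrimeSpectrum (p.Fiber S),
        y.asIdeal.comap (algebraMap S (p.Fiber S)) = q'.comap (algebraMap S S') → y ∈ W) ∧
      ∀ (R'' : Type u) [CommRing R''] [Algebra R R''] [Algebra R' R''] [IsScalarTower R R' R'']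
        (p'' : Ideal R'') [p''.IsPrime] [p''.LiesOver p'] (_ : FlatCA.IsEtaleNhd R R'' p p''),
        ∀ y ∈ W, ∃ Q : Ideal (R'' ⊗[R'] S'), Q.IsPrime ∧ Q.LiesOver p'' ∧
          Q.comap ((Algebra.TensorProduct.includeRight : S' →ₐ[R'] R'' ⊗[R'] S').toRingHom.comp (algebraMap S S')) =
            y.asIdeal.comap (algebraMap S (p.Fiber S)) := by
  obtain ⟨het, hl, hκ⟩ := id hR
  haveI := hl
  haveI := het
  let SA := S ⊗[R] R'
  letI : Algebra SA S' := (Algebra.TensorProduct.lift (IsScalarTower.toAlgHom R S S') (IsScalarTower.toAlgHom R R' S')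
    fun _ _ => Commute.all _ _).toRingHom.toAlgebra
  haveI : IsScalarTower S SA S' := IsScalarTower.of_algebraMap_eq fun s => by
    show _ = Algebra.TensorProduct.lift _ _ _ (s ⊗ₜ (1 : R'))
    simp
  haveI : IsScalarTower R' SA S' := IsScalarTower.of_algebraMap_eq fun r => by
    show _ = Algebra.TensorProduct.lift _ _ _ ((1 : S) ⊗ₜ r)
    simp
  haveI : Algebra.Etale S SA := inferInstance
  haveI : Algebra.Etale SA S' := Algebra.Etale.of_restrictScalars S SA S'
  haveI : Algebra.IsPushout R R' S SA := Algebra.IsPushout.symm inferInstance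
  obtain ⟨c, hc, hcy⟩ := exists_fibre_map (R := R) (S := S) (L := R') (SA := SA) p p' hκ
  let V := Set.range (PrimeSpectrum.comap (algebraMap SA S'))
  have hV : IsOpen V := by
    show IsOpen (Set.range _)
    rw [← Set.image_univ]
    exact PrimeSpectrum.isOpenMap_comap_of_hasGoingDown_of_finitePresentation _ isOpen_univ
  refine ⟨c ⁻¹' V, hV.preimage hc, fun y hy => ⟨⟨q', inferInstance⟩, ?_⟩, fun R'' _ _ _ _ p'' _ _ hR'' y hy => ?_⟩
  · haveI := (hcy y).1
    haveI : (q'.comap (algebraMap SA S')).LiesOver p' := ⟨by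
      show p' = (q'.comap (algebraMap SA S')).comap (algebraMap R' SA)
      rw [Ideal.comap_comap, ← IsScalarTower.algebraMap_eq]
      exact Ideal.over_def q' p'⟩
    refine PrimeSpectrum.ext (prime_ext (R := R) (R' := R') (B := S) hκ
      (q'.comap (algebraMap SA S')) (c y).asIdeal ?_)
    rw [(hcy y).2, hy, Ideal.comap_comap, ← IsScalarTower.algebraMap_eq]
  obtain ⟨x, hx⟩ := hy
  have hx' : x.asIdeal.comap (algebraMap SA S') = (c y).asIdeal := congrArg PrimeSpectrum.asIdeal hx
  haveI := (hcy y).1
  haveI hxp : x.asIdeal.LiesOver p' := ⟨by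
    rw [Ideal.under_def, IsScalarTower.algebraMap_eq R' SA S', ← Ideal.comap_comap, hx']
    exact Ideal.over_def (c y).asIdeal _⟩
  obtain ⟨-, hl'', hκ''⟩ := id hR''
  haveI := hl''
  haveI : Algebra.IsPushout R' R'' S' (R'' ⊗[R'] S') := inferInstance
  obtain ⟨Q, hQ, hQp, hQx⟩ := exists_prime_over (R := R') (R' := R'') (B := S') (B' := R'' ⊗[R'] S')
    (bijective_residue_cancel p p' p'' hκ'') x.asIdeal
  refine ⟨Q, hQ, hQp, ?_⟩
  rw [← Ideal.comap_comap,
    show Q.comap (Algebra.TensorProduct.includeRight : S' →ₐ[R'] R'' ⊗[R'] S').toRingHom = x.asIdeal from hQx.over.symm,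
    IsScalarTower.algebraMap_eq S SA S', ← Ideal.comap_comap, hx', (hcy y).2]

/-- A piece moved to a refinement. -/
theorem exists_bc_piece {R S R' S' : Type u} [CommRing R] [CommRing S] [Algebra R S] [CommRing R'] [CommRing S']
    [Algebra R R'] [Algebra S S'] [Algebra R' S'] [Algebra R S'] [IsScalarTower R R' S'] [IsScalarTower R S S']
    [Algebra.Etale S S'] [Algebra.Etale R R'] (R'' : Type u) [CommRing R''] [Algebra R R''] [Algebra R' R'']
    [IsScalarTower R R' R''] [Algebra.Etale R R''] :
    ∃ (T : Type u) (_ : CommRing T) (_ : Algebra R'' T) (_ : Algebra S' T) (_ : Algebra R' T) (_ : Algebra S T)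
      (_ : Algebra R T) (_ : IsScalarTower R' R'' T) (_ : IsScalarTower R' S' T) (_ : IsScalarTower S S' T)
      (_ : IsScalarTower R R'' T) (_ : IsScalarTower R S T) (_ : Algebra.IsPushout R' R'' S' T),
      Algebra.Etale S T ∧ ∀ (p'' : Ideal R'') (Q₀ : Ideal S),
        (∃ Q : Ideal (R'' ⊗[R'] S'), Q.IsPrime ∧ Q.LiesOver p'' ∧
          Q.comap ((Algebra.TensorProduct.includeRight : S' →ₐ[R'] R'' ⊗[R'] S').toRingHom.comp (algebraMap S S')) = Q₀) →
        ∃ Q : Ideal T, Q.IsPrime ∧ Q.LiesOver p'' ∧ Q.comap (algebraMap S T) = Q₀ := by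
  let T := R'' ⊗[R'] S'
  haveI : Algebra.Etale R' R'' := Algebra.Etale.of_restrictScalars R R' R''
  haveI : Algebra.Etale S' T := Algebra.Etale.of_equiv (Algebra.TensorProduct.commRight R' S' R'')
  letI : Algebra S T := ((algebraMap S' T).comp (algebraMap S S')).toAlgebra
  haveI : IsScalarTower S S' T := IsScalarTower.of_algebraMap_eq fun _ => rfl
  haveI : IsScalarTower R R'' T := inferInstance
  haveI : IsScalarTower R S T := IsScalarTower.of_algebraMap_eq fun r => by
    rw [IsScalarTower.algebraMap_apply S S' T, ← IsScalarTower.algebraMap_apply R S S',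
      IsScalarTower.algebraMap_apply R R' S', ← IsScalarTower.algebraMap_apply R' S' T,
      IsScalarTower.algebraMap_apply R R'' T, IsScalarTower.algebraMap_apply R R' R'',
      ← IsScalarTower.algebraMap_apply R' R'' T]
  exact ⟨T, inferInstance, inferInstance, inferInstance, inferInstance, inferInstance, inferInstance, inferInstance,
    inferInstance, inferInstance, inferInstance, inferInstance, inferInstance, Algebra.Etale.comp S S' T,
    fun p'' Q₀ h => h⟩

/-- Projectivity moves to refinements. -/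
theorem projective_bc_piece {R S R' S' R'' T : Type u} [CommRing R] [CommRing S] [CommRing R'] [CommRing S']
    [CommRing R''] [CommRing T] [Algebra R S] [Algebra S S'] [Algebra R' S'] [Algebra R' R''] [Algebra R'' T]
    [Algebra S' T] [Algebra R' T] [Algebra S T] [IsScalarTower R' R'' T] [IsScalarTower R' S' T] [IsScalarTower S S' T]
    [Algebra.IsPushout R' R'' S' T] (N : Type u) [AddCommGroup N] [Module S N]
    (h : Module.Projective R' (S' ⊗[S] N)) : Module.Projective R'' (T ⊗[S] N) := by
  haveI := h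
  let e := Algebra.IsPushout.cancelBaseChange R' R'' S' T (S' ⊗[S] N)
  let e' : T ⊗[S'] (S' ⊗[S] N) ≃ₗ[T] T ⊗[S] N := AlgebraTensorModule.cancelBaseChange S S' T T N
  haveI : Module.Projective R'' (T ⊗[S'] (S' ⊗[S] N)) := Module.Projective.of_equiv (e.restrictScalars R'').symm
  exact Module.Projective.of_equiv (e'.restrictScalars R'')

end Groth.Agent.Dev4
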