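import Groth.Agent.Lib.Dev4.Conseq

/-!
# Freeness after étale localization for finite type algebras
-/

set_option autoImplicit false

universe u

open TensorProduct IsLocalRing

set_option backward.isDefEq.respectTransparency.types false

attribute [local instance] Algebra.TensorProduct.rightAlgebra

namespace Groth.Agent.Dev4

/-- Scalars restricted by hand and by structure agree. -/
theorem free_of_restrictScalars {L C X : Type u} [CommRing L] [CommRing C] [Algebra L C] [AddCommMonoid X] [Module C X]
    [Module L X] [IsScalarTower L C X] [Module.Free L (RestrictScalars L C X)] : Module.Free L X :=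
  Module.Free.of_equiv
    ({ RestrictScalars.addEquiv L C X with
       map_smul' := fun l x => by
         show RestrictScalars.addEquiv L C X (l • x) = l • RestrictScalars.addEquiv L C X x
         rw [RestrictScalars.addEquiv_map_smul, algebraMap_smul] } : RestrictScalars L C X ≃ₗ[L] X)

/-- Forgetting the intermediate model. -/
theorem free_fp_cancel {L S SA C : Type u} [CommRing L] [CommRing S] [CommRing SA] [CommRing C] [Algebra S SA]
    [Algebra S C] [Algebra SA C] [IsScalarTower S SA C] [Algebra L C] (N : Type u) [AddCommGroup N] [Module S N]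
    (h₁ : Module.Free L (RestrictScalars L C (C ⊗[SA] (SA ⊗[S] N))))
    (h₂ : Module.FinitePresentation C (C ⊗[SA] (SA ⊗[S] N))) :
    Module.Free L (RestrictScalars L C (C ⊗[S] N)) ∧ Module.FinitePresentation C (C ⊗[S] N) := by
  haveI := h₁
  haveI := h₂
  let e := AlgebraTensorModule.cancelBaseChange S SA C C N
  exact ⟨Module.Free.of_equiv
    ({ toFun := fun x => (RestrictScalars.addEquiv L C _).symm (e (RestrictScalars.addEquiv L C _ x))
       invFun := fun x => (RestrictScalars.addEquiv L C _).symm (e.symm (RestrictScalars.addEquiv L C _ x))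
       left_inv := fun x => by simp
       right_inv := fun x => by simp
       map_add' := fun x y => by simp
       map_smul' := fun l x => by
         apply (RestrictScalars.addEquiv L C _).injective
         simp [RestrictScalars.addEquiv_map_smul]
         exact e.toLinearMap.map_smul_of_tower l _ } :
      RestrictScalars L C (C ⊗[SA] (SA ⊗[S] N)) ≃ₗ[L] RestrictScalars L C (C ⊗[S] N)),
    Module.FinitePresentation.of_equiv e⟩

/-- The finitely presented case. -/
theorem exists_free_point_fp {R S : Type u} [CommRing R] [CommRing S] [Algebra R S] [Algebra.FinitePresentation R S]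
    (N : Type u) [AddCommGroup N] [Module S N] [Module R N] [IsScalarTower R S N] [Module.Finite S N]
    (p : Ideal R) [p.IsPrime] (q : Ideal S) [q.IsPrime] [q.LiesOver p] (hflat : FlatCA.FlatAt R q N) :
    ∃ (R' : Type u) (_ : CommRing R') (_ : Algebra R R') (p' : Ideal R') (_ : p'.IsPrime), FlatCA.IsEtaleNhd R R' p p' ∧
      ∀ (SA : Type u) [CommRing SA] [Algebra R SA] [Algebra S SA] [Algebra (Localization.AtPrime p') SA]
        [IsScalarTower R S SA] [IsScalarTower R (Localization.AtPrime p') SA]
        [Algebra.IsPushout R S (Localization.AtPrime p') SA],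
        ∃ (C : Type u) (_ : CommRing C) (_ : Algebra SA C) (_ : Algebra (Localization.AtPrime p') C)
          (_ : IsScalarTower (Localization.AtPrime p') SA C) (_ : Algebra S C) (_ : IsScalarTower S SA C)
          (x' : Ideal C) (_ : x'.IsPrime) (hx : x'.LiesOver q),
          x'.LiesOver (maximalIdeal (Localization.AtPrime p')) ∧ Algebra.Etale SA C ∧
          Function.Bijective (Ideal.ResidueField.mapₐ q x' (Algebra.ofId S C) hx.over) ∧
          Module.Free (Localization.AtPrime p') (RestrictScalars (Localization.AtPrime p') C (C ⊗[S] N)) ∧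
          (Algebra.FinitePresentation R S →
            Algebra.FinitePresentation (Localization.AtPrime p') C ∧ Module.FinitePresentation C (C ⊗[S] N)) := by
  obtain ⟨R', _, _, p', _, hR, h⟩ := exists_free_local N p q hflat
  refine ⟨R', inferInstance, inferInstance, p', inferInstance, hR, ?_⟩
  intro SA _ _ _ _ _ _ _
  obtain ⟨C, i1, i2, i3, i4, i5, i6, x', i7, hx, hxm, het, hfpC, hbij, hfp, hfree⟩ :=
    h SA (SA ⊗[S] N) (TensorProduct.mk S SA N 1) (TensorProduct.isBaseChange S N SA)
  obtain ⟨h1, h2⟩ := free_fp_cancel N hfree hfp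
  exact ⟨C, i1, i2, i3, i4, i5, i6, x', i7, hx, hxm, het, hbij, h1, fun _ => ⟨hfpC, h2⟩⟩

/-- A point of a surjective base change. -/
theorem exists_prime_of_surjective {A A' B B' : Type u} [CommRing A] [CommRing A'] [CommRing B] [CommRing B'] [Algebra A A']
    [Algebra A B] [Algebra A' B'] [Algebra A B'] [Algebra B B'] [IsScalarTower A A' B'] [IsScalarTower A B B']
    [Algebra.IsPushout A A' B B'] (hs : Function.Surjective (algebraMap A A')) (Q : Ideal A') [Q.IsPrime]
    (x : Ideal B) [x.IsPrime] [x.LiesOver (Q.comap (algebraMap A A'))] :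
    ∃ x' : Ideal B', x'.IsPrime ∧ x'.LiesOver Q ∧ x'.LiesOver x := by
  haveI : Q.LiesOver (Q.comap (algebraMap A A')) := ⟨rfl⟩
  exact exists_prime_over (R := A) (R' := A') (B := B) (B' := B')
    ((RingHom.surjectiveOnStalks_of_surjective hs).residueFieldMap_bijective (Q.comap (algebraMap A A')) Q rfl) x

/-- Residue fields through a square with one surjective side. -/
theorem bijective_residue_square {P S CP C : Type u} [CommRing P] [CommRing S] [CommRing CP] [CommRing C] [Algebra P S]
    [Algebra P CP] [Algebra S C] [Algebra CP C] [Algebra P C] [IsScalarTower P S C] [IsScalarTower P CP C]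
    (hS : Function.Surjective (algebraMap P S)) (hC : Function.Surjective (algebraMap CP C))
    (qP : Ideal P) [qP.IsPrime] (q : Ideal S) [q.IsPrime] (x : Ideal CP) [x.IsPrime] (x' : Ideal C) [x'.IsPrime]
    [hq : q.LiesOver qP] [hx : x.LiesOver qP] [hx'q : x'.LiesOver q] [hx'x : x'.LiesOver x]
    (h : Function.Bijective (Ideal.ResidueField.mapₐ qP x (Algebra.ofId P CP) hx.over)) :
    Function.Bijective (Ideal.ResidueField.mapₐ q x' (Algebra.ofId S C) hx'q.over) := by
  haveI hx'P : x'.LiesOver qP := Ideal.LiesOver.trans x' x qP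
  have h1 : Function.Bijective (Ideal.ResidueField.mapₐ qP x' (Algebra.ofId P C) hx'P.over) :=
    bijective_residue_comp qP x x' h ((RingHom.surjectiveOnStalks_of_surjective hC).residueFieldMap_bijective x x' _)
  refine ⟨RingHom.injective _, fun w => ?_⟩
  obtain ⟨v, hv⟩ := h1.2 w
  refine ⟨Ideal.ResidueField.mapₐ qP q (Algebra.ofId P S) hq.over v, ?_⟩
  rw [← hv]
  have hcomp := Ideal.ResidueField.ringHom_ext (I := qP)
    (f := (Ideal.ResidueField.mapₐ q x' (Algebra.ofId S C) hx'q.over).toRingHom.comp
      (Ideal.ResidueField.mapₐ qP q (Algebra.ofId P S) hq.over).toRingHom)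
    (g := (Ideal.ResidueField.mapₐ qP x' (Algebra.ofId P C) hx'P.over).toRingHom) (RingHom.ext fun s => by
    show Ideal.ResidueField.mapₐ q x' (Algebra.ofId S C) _ (Ideal.ResidueField.mapₐ qP q (Algebra.ofId P S) _ (algebraMap P qP.ResidueField s)) =
      Ideal.ResidueField.mapₐ qP x' (Algebra.ofId P C) _ (algebraMap P qP.ResidueField s)
    rw [AlgHom.commutes, AlgHom.commutes, IsScalarTower.algebraMap_apply P S q.ResidueField, AlgHom.commutes,
      IsScalarTower.algebraMap_apply S C x'.ResidueField, ← IsScalarTower.algebraMap_apply P S C,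
      ← IsScalarTower.algebraMap_apply P C x'.ResidueField])
  exact DFunLike.congr_fun hcomp v

/-- Freeness moves from a polynomial cover. -/
theorem free_of_cover {L P S CP C : Type u} [CommRing L] [CommRing P] [CommRing S] [CommRing CP] [CommRing C]
    [Algebra P S] [Algebra P CP] [Algebra S C] [Algebra CP C] [Algebra P C] [IsScalarTower P S C] [IsScalarTower P CP C]
    [Algebra.IsPushout P CP S C] [Algebra L CP] [Algebra L C] [IsScalarTower L CP C]
    (N : Type u) [AddCommGroup N] [Module S N] [Module P N] [IsScalarTower P S N]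
    (h : Module.Free L (RestrictScalars L CP (CP ⊗[P] N))) : Module.Free L (RestrictScalars L C (C ⊗[S] N)) := by
  haveI := h
  haveI : Module.Free L (CP ⊗[P] N) := free_of_restrictScalars (C := CP)
  let e := Algebra.IsPushout.cancelBaseChange P CP S C N
  haveI : Module.Free L (C ⊗[S] N) := Module.Free.of_equiv (e.restrictScalars L).symm
  exact free_restrictScalars

/-- The piece over the quotient of the polynomial piece. -/
theorem exists_piece_of_cover {L P S PA SA CP : Type u} [CommRing L] [CommRing P] [CommRing S] [CommRing PA] [CommRing SA]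
    [CommRing CP] [Algebra P S] [Algebra P PA] [Algebra L PA] [Algebra PA SA] [Algebra S SA] [Algebra L SA] [Algebra P SA]
    [IsScalarTower P PA SA] [IsScalarTower P S SA] [IsScalarTower L PA SA] [Algebra.IsPushout P S PA SA]
    [Algebra PA CP] [Algebra L CP] [IsScalarTower L PA CP] [Algebra P CP] [IsScalarTower P PA CP] [Algebra.Etale PA CP]
    (hπ : Function.Surjective (algebraMap P S)) (hs : Function.Surjective (algebraMap PA SA))
    (N : Type u) [AddCommGroup N] [Module S N] [Module P N] [IsScalarTower P S N]
    (hfree : Module.Free L (RestrictScalars L CP (CP ⊗[P] N)))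
    (qP : Ideal P) [qP.IsPrime] (q : Ideal S) [q.IsPrime] [q.LiesOver qP] (Q : Ideal SA) [Q.IsPrime] [Q.LiesOver q]
    (m : Ideal L) [Q.LiesOver m] (x : Ideal CP) [x.IsPrime] [x.LiesOver qP] [hxQ : x.LiesOver (Q.comap (algebraMap PA SA))]
    (hbij : Function.Bijective (Ideal.ResidueField.mapₐ qP x (Algebra.ofId P CP) (x.over_def qP))) :
    ∃ (C : Type u) (_ : CommRing C) (_ : Algebra SA C) (_ : Algebra L C)
      (_ : IsScalarTower L SA C) (_ : Algebra S C) (_ : IsScalarTower S SA C)
      (x' : Ideal C) (_ : x'.IsPrime) (hx : x'.LiesOver q),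
      x'.LiesOver m ∧ Algebra.Etale SA C ∧
      Function.Bijective (Ideal.ResidueField.mapₐ q x' (Algebra.ofId S C) hx.over) ∧
      Module.Free L (RestrictScalars L C (C ⊗[S] N)) := by
  let C := SA ⊗[PA] CP
  haveI : Algebra.IsPushout PA SA CP C := inferInstance
  have hCs : Function.Surjective (algebraMap CP C) := Algebra.TensorProduct.includeRight_surjective _ hs
  obtain ⟨x', hx', hx'Q, hx'x⟩ := exists_prime_of_surjective (B := CP) (B' := C) hs Q x
  haveI := hx'Q
  haveI := hx'x
  haveI : IsScalarTower S SA C := inferInstance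
  haveI : IsScalarTower L SA C := inferInstance
  haveI : IsScalarTower P SA C := inferInstance
  haveI : IsScalarTower P S C := IsScalarTower.of_algebraMap_eq fun w => by
    rw [IsScalarTower.algebraMap_apply P SA C, IsScalarTower.algebraMap_apply P S SA, ← IsScalarTower.algebraMap_apply S SA C]
  haveI : IsScalarTower PA CP C := inferInstance
  haveI : IsScalarTower P CP C := IsScalarTower.of_algebraMap_eq fun w => by
    rw [IsScalarTower.algebraMap_apply P PA CP]
    rw [← IsScalarTower.algebraMap_apply PA CP C, IsScalarTower.algebraMap_apply PA SA C,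
      ← IsScalarTower.algebraMap_apply P PA SA, ← IsScalarTower.algebraMap_apply]
  haveI : IsScalarTower L CP C := IsScalarTower.of_algebraMap_eq fun w => by
    rw [IsScalarTower.algebraMap_apply L PA CP, ← IsScalarTower.algebraMap_apply PA CP C, IsScalarTower.algebraMap_apply PA SA C,
      ← IsScalarTower.algebraMap_apply L PA SA, ← IsScalarTower.algebraMap_apply]
  haveI : Algebra.IsPushout P PA S SA := Algebra.IsPushout.symm inferInstance
  haveI : Algebra.IsPushout PA CP SA C := Algebra.IsPushout.symm inferInstance
  haveI : Algebra.IsPushout P CP S C :=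
    (Algebra.IsPushout.comp_iff (R := P) (S := PA) (R' := S) (S' := SA) (T := CP) (T' := C)).2 inferInstance
  haveI hx'q : x'.LiesOver q := Ideal.LiesOver.trans x' Q q
  haveI hx'm : x'.LiesOver m := Ideal.LiesOver.trans x' Q m
  exact ⟨C, inferInstance, inferInstance, inferInstance, inferInstance, inferInstance, inferInstance, x', hx', hx'q,
    hx'm, inferInstance, bijective_residue_square hπ hCs qP q x x' hbij, free_of_cover (P := P) N hfree⟩

/-- Freeness after étale localization near a flat point. -/
theorem exists_free_point {R S : Type u} [CommRing R] [CommRing S] [Algebra R S] [Algebra.FiniteType R S]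
    (N : Type u) [AddCommGroup N] [Module S N] [Module R N] [IsScalarTower R S N] [Module.Finite S N]
    (p : Ideal R) [p.IsPrime] (q : Ideal S) [q.IsPrime] [q.LiesOver p] (hflat : FlatCA.FlatAt R q N) :
    ∃ (R' : Type u) (_ : CommRing R') (_ : Algebra R R') (p' : Ideal R') (_ : p'.IsPrime), FlatCA.IsEtaleNhd R R' p p' ∧
      ∀ (SA : Type u) [CommRing SA] [Algebra R SA] [Algebra S SA] [Algebra (Localization.AtPrime p') SA]
        [IsScalarTower R S SA] [IsScalarTower R (Localization.AtPrime p') SA]
        [Algebra.IsPushout R S (Localization.AtPrime p') SA],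
        ∃ (C : Type u) (_ : CommRing C) (_ : Algebra SA C) (_ : Algebra (Localization.AtPrime p') C)
          (_ : IsScalarTower (Localization.AtPrime p') SA C) (_ : Algebra S C) (_ : IsScalarTower S SA C)
          (x' : Ideal C) (_ : x'.IsPrime) (hx : x'.LiesOver q),
          x'.LiesOver (maximalIdeal (Localization.AtPrime p')) ∧ Algebra.Etale SA C ∧
          Function.Bijective (Ideal.ResidueField.mapₐ q x' (Algebra.ofId S C) hx.over) ∧
          Module.Free (Localization.AtPrime p') (RestrictScalars (Localization.AtPrime p') C (C ⊗[S] N)) ∧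
          (Algebra.FinitePresentation R S →
            Algebra.FinitePresentation (Localization.AtPrime p') C ∧ Module.FinitePresentation C (C ⊗[S] N)) := by
  by_cases hfp : Algebra.FinitePresentation R S
  · exact exists_free_point_fp N p q hflat
  obtain ⟨k, π, hπ⟩ := Algebra.FiniteType.iff_quotient_mvPolynomial''.1 (inferInstance : Algebra.FiniteType R S)
  let P := MvPolynomial (Fin k) R
  letI : Algebra P S := π.toRingHom.toAlgebra
  haveI : IsScalarTower R P S := IsScalarTower.of_algebraMap_eq fun r => (π.commutes r).symm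
  letI : Module P N := Module.compHom N (algebraMap P S)
  haveI : IsScalarTower P S N := IsScalarTower.of_algebraMap_smul fun _ _ => rfl
  haveI : IsScalarTower R P N := IsScalarTower.of_algebraMap_smul fun r x => by
    rw [← algebraMap_smul S (algebraMap R P r) x, ← IsScalarTower.algebraMap_apply, algebraMap_smul]
  haveI : Module.Finite P S := Module.Finite.of_surjective (Algebra.linearMap P S) hπ
  haveI : Module.Finite P N := Module.Finite.trans S N
  haveI : Algebra.IsIntegral P S := Algebra.IsIntegral.of_finite P S
  let qP : Ideal P := q.comap (algebraMap P S)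
  haveI : q.LiesOver qP := ⟨rfl⟩
  haveI : qP.LiesOver p := ⟨by
    show p = (q.comap (algebraMap P S)).comap (algebraMap R P)
    rw [Ideal.comap_comap, ← IsScalarTower.algebraMap_eq]; exact Ideal.over_def q p⟩
  have hflP : FlatCA.FlatAt R qP N :=
    (RG4.flatAt_iff_of_unique q qP fun Q _ hQ => Ideal.comap_injective_of_surjective _ hπ hQ.over.symm).1 hflat
  obtain ⟨R', _, _, p', _, hR, h⟩ := exists_free_point_fp N p qP hflP
  refine ⟨R', inferInstance, inferInstance, p', inferInstance, hR, ?_⟩
  intro SA _ _ _ _ _ _ _
  obtain ⟨-, hl, hκ'⟩ := id hR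
  haveI := hl
  let L := Localization.AtPrime p'
  obtain ⟨PA, _, _, _, _, _, _, hpo, _, _, _, _, _, hpoS, _, _, _, _, _, -, -⟩ :=
    exists_poly_bc (R := R) (P := P) (L := L) (TensorProduct.mk S SA N 1) (TensorProduct.isBaseChange S N SA)
  haveI := hpo
  obtain ⟨CP, _, _, _, _, _, _, x, _, hxq, hxm, het, hbij, hfree, -⟩ := h PA
  haveI := het
  haveI := hxq
  haveI := hxm
  haveI hmp' : (maximalIdeal L).LiesOver p' := ⟨(Localization.AtPrime.comap_maximalIdeal (I := p')).symm⟩
  haveI hmp : (maximalIdeal L).LiesOver p := Ideal.LiesOver.trans (maximalIdeal L) p' p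
  haveI : Algebra.IsPushout R L S SA := Algebra.IsPushout.symm inferInstance
  obtain ⟨Q, hQ, hQm, hQq⟩ := exists_prime_over (R := R) (R' := L) (B := S) (B' := SA)
    (bijective_residue_comp p p' (maximalIdeal L) hκ' (bijective_residue_atPrime p')) q
  haveI := hQm
  haveI := hQq
  haveI : Q.LiesOver qP := Ideal.LiesOver.trans Q q qP
  let QP := Q.comap (algebraMap PA SA)
  haveI : Q.LiesOver QP := ⟨rfl⟩
  haveI : QP.LiesOver qP := ⟨by
    show qP = (Q.comap (algebraMap PA SA)).comap (algebraMap P PA)
    rw [Ideal.comap_comap, ← IsScalarTower.algebraMap_eq]; exact Ideal.over_def Q qP⟩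
  haveI : QP.LiesOver (maximalIdeal L) := ⟨by
    show _ = (Q.comap (algebraMap PA SA)).comap (algebraMap L PA)
    rw [Ideal.comap_comap, ← IsScalarTower.algebraMap_eq]; exact Ideal.over_def Q (maximalIdeal L)⟩
  let x₀ := x.comap (algebraMap PA CP)
  haveI : x.LiesOver x₀ := ⟨rfl⟩
  haveI : x₀.LiesOver qP := ⟨by
    show qP = (x.comap (algebraMap PA CP)).comap (algebraMap P PA)
    rw [Ideal.comap_comap, ← IsScalarTower.algebraMap_eq]; exact Ideal.over_def x qP⟩
  haveI : x₀.LiesOver (maximalIdeal L) := ⟨by
    show _ = (x.comap (algebraMap PA CP)).comap (algebraMap L PA)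
    rw [Ideal.comap_comap, ← IsScalarTower.algebraMap_eq]; exact Ideal.over_def x (maximalIdeal L)⟩
  haveI : x.LiesOver (Q.comap (algebraMap PA SA)) := by
    show x.LiesOver QP
    rw [← eq_of_liesOver_local p hR qP x₀ QP]; infer_instance
  have hs : Function.Surjective (algebraMap PA SA) := by
    intro z
    induction z using pushout_induction R L S SA with
    | h0 => exact ⟨0, map_zero _⟩
    | hmk l s =>
      obtain ⟨w, rfl⟩ := hπ s
      exact ⟨algebraMap L PA l * algebraMap P PA w, by
        rw [map_mul, ← IsScalarTower.algebraMap_apply, ← IsScalarTower.algebraMap_apply, IsScalarTower.algebraMap_apply P S SA]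
        rfl⟩
    | hadd a b ha hb =>
      obtain ⟨a, rfl⟩ := ha; obtain ⟨b, rfl⟩ := hb
      exact ⟨a + b, map_add _ _ _⟩
  obtain ⟨C, i1, i2, i3, i4, i5, i6, x', i7, i8, j1, j2, j3, j4⟩ :=
    exists_piece_of_cover (P := P) (PA := PA) hπ hs N hfree qP q Q (maximalIdeal L) x hbij
  exact ⟨C, i1, i2, i3, i4, i5, i6, x', i7, i8, j1, j2, j3, j4, fun h => absurd h hfp⟩

end Groth.Agent.Dev4
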