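import Groth.Agent.Lib.Dev4.WeakAssTensorIff
import Groth.Agent.Lib.Dev4.FreePoint

/-!
# Regular elements of the fibre act injectively near flat points
-/

set_option autoImplicit false
set_option maxSynthPendingDepth 3

universe u

open TensorProduct IsLocalRing

set_option backward.isDefEq.respectTransparency.types false

attribute [local instance] Algebra.TensorProduct.rightAlgebra

namespace Groth.Agent.Dev4

/-- Elements which are jointly injective on the fibre are jointly injective on every twist, near a flat point of that fibre. -/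
theorem regular_of_fibre {R S : Type u} [CommRing R] [CommRing S] [Algebra R S] [Algebra.FiniteType R S]
    (N : Type u) [AddCommGroup N] [Module S N] [Module R N] [IsScalarTower R S N] [Module.Finite S N]
    (p : Ideal R) [p.IsPrime] (q : Ideal S) [q.IsPrime] [q.LiesOver p] (hflat : FlatCA.FlatAt R q N)
    {k : ℕ} (c : Fin k → S) (hc : ∀ w : N ⊗[R] p.ResidueField, (∀ i, c i • w = 0) → w = 0)
    (M : Type u) [AddCommGroup M] [Module R M] (v : N ⊗[R] M) (hv : ∀ i, c i • v = 0) :
    ∃ s : S, s ∉ q ∧ s • v = 0 := by
  classical
  have hc' : ∀ x : N, (∀ i, c i • x ∈ p • (⊤ : Submodule R N)) → ∃ d : R, d ∉ p ∧ d • x ∈ p • (⊤ : Submodule R N) :=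
    fun x hx => exists_smul_mem_of_tmul_one_eq_zero p N (hc _ fun i => by
      rw [TensorProduct.smul_tmul']; exact tmul_one_eq_zero_of_mem p N (hx i))
  obtain ⟨R', _, _, p', _, hR, hfree⟩ := exists_free_point N p q hflat
  haveI := hR.1
  obtain ⟨hp', -⟩ := hR.2
  haveI := hp'
  let L := Localization.AtPrime p'
  let SA := S ⊗[R] L
  obtain ⟨C, _, _, _, _, _, _, x', _, hxq, -, het, -, hfr, -⟩ := hfree SA
  haveI := hxq
  haveI := het
  haveI := hfr
  letI : Algebra R C := ((algebraMap S C).comp (algebraMap R S)).toAlgebra
  haveI : IsScalarTower R S C := IsScalarTower.of_algebraMap_eq fun _ => rfl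
  haveI : IsScalarTower R L C := IsScalarTower.of_algebraMap_eq fun c => by
    rw [IsScalarTower.algebraMap_apply L SA C, ← IsScalarTower.algebraMap_apply R L SA,
      IsScalarTower.algebraMap_apply R S SA, ← IsScalarTower.algebraMap_apply S SA C]
    rfl
  haveI : Module.Flat R' L := IsLocalization.flat L p'.primeCompl
  haveI : Module.Flat R L := Module.Flat.trans R R' L
  haveI : Module.Flat S C := Module.Flat.trans S SA C
  let N' := C ⊗[S] N
  haveI : Module.Free L N' := free_of_restrictScalars (L := L) (C := C)
  have hmax : p.map (algebraMap R L) = maximalIdeal L :=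
    letI := Localization.AtPrime.algebraOfLiesOver p p'
    ((Algebra.isUnramifiedAt_iff_map_eq R p p').1 inferInstance).2
  have hunit : ∀ d : R, d ∉ p → IsUnit (algebraMap R C d) := fun d hd => by
    have h1 : IsUnit (algebraMap R L d) := by
      rw [IsScalarTower.algebraMap_apply R R' L]
      exact IsLocalization.map_units L (⟨_, fun h => hd ((Ideal.mem_of_liesOver p' p d).2 h)⟩ : p'.primeCompl)
    rw [IsScalarTower.algebraMap_apply R L C]
    exact h1.map _
  let ML := L ⊗[R] M
  let E : N' ⊗[R] M ≃ₗ[L] N' ⊗[L] ML := (AlgebraTensorModule.cancelBaseChange R L L N' M).symm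
  let jM : N ⊗[R] M →ₗ[S] N' ⊗[R] M := AlgebraTensorModule.rTensor R M (TensorProduct.mk S C N 1)
  have h0 : jM v = 0 := by
    apply E.injective
    rw [map_zero]
    refine eq_zero_of_forall_rTensor_eq_zero
      (fun i => (LinearMap.lsmul C N' (algebraMap S C (c i))).restrictScalars L) (fun y hy => ?_) _ fun i => ?_
    · have hy' : ∀ i, c i • y ∈ p • (⊤ : Submodule R N') := fun i => by
        rw [mem_smul_top_iff (B := L) p, hmax, ← algebraMap_smul C (c i) y]
        exact hy i
      rw [← hmax, ← mem_smul_top_iff (B := L) p]
      let W : Submodule S N := p.map (algebraMap R S) • ⊤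
      let ψ : N →ₗ[S] (Fin k → N ⧸ W) := LinearMap.pi fun i => W.mkQ.comp (c i • LinearMap.id)
      have hK : ∀ n ∈ LinearMap.ker ψ, ∃ d : R, d ∉ p ∧ d • n ∈ p • (⊤ : Submodule R N) := fun n hn =>
        hc' n fun i => (mem_smul_top_iff (B := S) p _).2 ((Submodule.Quotient.mk_eq_zero W).1 (congrFun hn i))
      have hker : LinearMap.lTensor C ψ y = 0 := by
        apply (TensorProduct.piRight S S C (fun _ : Fin k => N ⧸ W)).injective
        rw [map_zero]
        funext i
        have h2 : ∀ w : N', w ∈ p • (⊤ : Submodule R N') → LinearMap.lTensor C W.mkQ w = 0 := by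
          intro w hw
          induction hw using Submodule.smul_induction_on' with
          | smul r hr n _ =>
            rw [← algebraMap_smul S r n, map_smul]
            induction n using TensorProduct.induction_on with
            | zero => rw [map_zero, smul_zero]
            | add u u' hu hu' => rw [map_add, smul_add, hu Submodule.mem_top, hu' Submodule.mem_top, add_zero]
            | tmul b n =>
              rw [LinearMap.lTensor_tmul, ← TensorProduct.tmul_smul, Submodule.mkQ_apply, ← Submodule.Quotient.mk_smul,
                (Submodule.Quotient.mk_eq_zero W).2 (Submodule.smul_mem_smul (Ideal.mem_map_of_mem _ hr) Submodule.mem_top),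
                TensorProduct.tmul_zero]
          | add u _ u' _ hu hu' => rw [map_add, hu, hu', add_zero]
        rw [Pi.zero_apply, ← h2 _ (hy' i)]
        generalize y = w
        induction w using TensorProduct.induction_on with
        | zero => simp
        | add u u' hu hu' => rw [map_add, map_add, Pi.add_apply, hu, hu', smul_add, map_add]
        | tmul b n =>
          rw [LinearMap.lTensor_tmul, TensorProduct.piRight_apply, TensorProduct.piRightHom_tmul, ← TensorProduct.tmul_smul,
            LinearMap.lTensor_tmul]
          rfl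
      obtain ⟨w, rfl⟩ := ((Module.Flat.lTensor_exact C (LinearMap.exact_subtype_ker_map ψ)) y).1 hker
      clear hy hy' hker
      induction w using TensorProduct.induction_on with
      | zero => simp
      | add u u' hu hu' => rw [map_add]; exact add_mem hu hu'
      | tmul b n =>
        obtain ⟨d, hd, hdn⟩ := hK n.1 n.2
        obtain ⟨u, hu⟩ := hunit d hd
        rw [LinearMap.lTensor_tmul, Submodule.subtype_apply]
        have hb : b ⊗ₜ[S] (n : N) = (b * (↑u⁻¹ : C)) ⊗ₜ[S] (d • (n : N)) := by
          rw [← algebraMap_smul S d (n : N), ← TensorProduct.smul_tmul, Algebra.smul_def,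
            ← IsScalarTower.algebraMap_apply R S C, ← hu, mul_left_comm, Units.mul_inv, mul_one]
        rw [hb]
        generalize d • (n : N) = n' at hdn
        generalize b * (↑u⁻¹ : C) = b'
        clear hb
        induction hdn using Submodule.smul_induction_on' with
        | smul r hr n'' _ =>
          rw [← algebraMap_smul S r n'', TensorProduct.tmul_smul, algebraMap_smul]
          exact Submodule.smul_mem_smul hr Submodule.mem_top
        | add u _ u' _ hu hu' => rw [TensorProduct.tmul_add]; exact add_mem hu hu'
    · have key : ∀ v' : N' ⊗[R] M,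
          ((LinearMap.lsmul C N' (algebraMap S C (c i))).restrictScalars L).rTensor ML (E v') = E (c i • v') := fun v' => by
        induction v' using TensorProduct.induction_on with
        | zero => simp
        | add u u' hu hu' => simp only [smul_add, map_add, hu, hu']
        | tmul y m =>
          rw [TensorProduct.smul_tmul']
          simp only [E, AlgebraTensorModule.cancelBaseChange_symm_tmul, LinearMap.rTensor_tmul]
          show (algebraMap S C (c i) • y) ⊗ₜ[L] ((1 : L) ⊗ₜ[R] m) = (c i • y) ⊗ₜ[L] ((1 : L) ⊗ₜ[R] m)
          rw [algebraMap_smul]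
      rw [key, ← map_smul, hv i, map_zero, map_zero]
  obtain ⟨t, ht, htx⟩ := exists_smul_eq_zero_of_lTensor (S' := C) R N (Q := M) (z := TensorProduct.comm R N M v)
    (by
      have : ∀ v, ((TensorProduct.mk S C N 1).restrictScalars R).lTensor M (TensorProduct.comm R N M v) =
          TensorProduct.comm R N' M (jM v) := fun v => by
        induction v using TensorProduct.induction_on with
        | zero => simp
        | add a b ha hb => simp only [map_add, ha, hb]
        | tmul n m => rfl
      rw [this, h0, map_zero]) x'
  refine ⟨t, fun h => htx ((Ideal.mem_of_liesOver x' q t).1 h), ?_⟩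
  have : TensorProduct.comm R M N (TensorProduct.comm R N M v) = v := by
    clear h0 ht hv
    induction v using TensorProduct.induction_on with
    | zero => simp
    | add a b ha hb => simp only [map_add, ha, hb]
    | tmul n m => rfl
  rwa [this] at ht

/-- An element outside the associated points of a fibre is a nonzerodivisor on that fibre. -/
theorem eq_zero_of_smul_eq_zero {R S : Type u} [CommRing R] [CommRing S] [Algebra R S] [Algebra.FiniteType R S]
    (N : Type u) [AddCommGroup N] [Module S N] [Module R N] [IsScalarTower R S N] [Module.Finite S N]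
    (p : Ideal R) [p.IsPrime] {c : S}
    (hc : ∀ r : Ideal S, r.IsPrime → r.LiesOver p → (∃ w : N ⊗[R] p.ResidueField, IsWk r w) → c ∉ r)
    (w : N ⊗[R] p.ResidueField) (hw : c • w = 0) : w = 0 := by
  by_contra h
  obtain ⟨r, hr, hrp, hrass, hann⟩ := exists_assoc_of_ne_zero (R := R) (S := S) N p h
  haveI := hr
  haveI := hrp
  exact hc r hr hrp ((fiberIdeal_mem_associatedPrimes_iff p N r).1 hrass) (hann c hw)

/-- The associated points of a fibre form a finite set; avoid them inside an ideal contained in none of them. -/
theorem exists_mem_notMem_assoc {R S : Type u} [CommRing R] [CommRing S] [Algebra R S] [Algebra.FiniteType R S]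
    (N : Type u) [AddCommGroup N] [Module S N] [Module R N] [IsScalarTower R S N] [Module.Finite S N]
    (p : Ideal R) [p.IsPrime] (I : Ideal S)
    (hI : ∀ r : Ideal S, r.IsPrime → r.LiesOver p → (∃ w : N ⊗[R] p.ResidueField, IsWk r w) → ¬ I ≤ r) :
    ∃ c ∈ I, ∀ r : Ideal S, r.IsPrime → r.LiesOver p → (∃ w : N ⊗[R] p.ResidueField, IsWk r w) → c ∉ r := by
  classical
  haveI : IsNoetherianRing (p.Fiber S) := Algebra.FiniteType.isNoetherianRing p.ResidueField (p.Fiber S)
  haveI : Module.Finite (p.Fiber S) (FlatCA.fiberMod p S N) :=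
    inferInstanceAs (Module.Finite (p.Fiber S) ((p.Fiber S) ⊗[S] N))
  have hfin := associatedPrimes.finite (p.Fiber S) (FlatCA.fiberMod p S N)
  let f : Ideal (p.Fiber S) → Ideal S := fun P => P.comap (CI2.FibAss.inc (S := S) p)
  let T := (hfin.toFinset.image f).filter fun r => ¬ I ≤ r
  have hsub : ¬ ((I : Set S) ⊆ ⋃ r ∈ (T : Set (Ideal S)), (r : Set S)) := by
    intro h
    obtain ⟨r, hr, hIr⟩ := (Ideal.subset_union_prime ⊥ ⊥ fun r hr _ _ => by
      obtain ⟨hr, -⟩ := Finset.mem_filter.1 hr
      obtain ⟨P, hP, rfl⟩ := Finset.mem_image.1 hr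
      haveI := (hfin.mem_toFinset.1 hP).isPrime
      exact inferInstanceAs (P.comap (CI2.FibAss.inc (S := S) p)).IsPrime).1 h
    exact (Finset.mem_filter.1 hr).2 hIr
  obtain ⟨c, hc, hcT⟩ := Set.not_subset.1 hsub
  refine ⟨c, hc, fun r hr hrp hwk hcr => hcT ?_⟩
  haveI := hr
  haveI := hrp
  refine Set.mem_iUnion₂.2 ⟨r, Finset.mem_coe.2 (Finset.mem_filter.2 ⟨Finset.mem_image.2
    ⟨FlatCA.fiberIdeal p r, hfin.mem_toFinset.2 ((fiberIdeal_mem_associatedPrimes_iff p N r).2 hwk), ?_⟩, hI r hr hrp hwk⟩), hcr⟩
  exact comap_fiberIdeal p r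

end Groth.Agent.Dev4
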