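import Groth.Agent.Lib.Dev4.ColimDescent
import Groth.Agent.Lib.Dev4.PureCover
import Groth.Agent.Lib.Dev4.ProjectiveLocal
import Groth.Agent.Lib.Dev4.ProjectivePure
import Groth.Agent.S1255

/-!
# Purity descends to a stage of a directed colimit
-/

set_option autoImplicit false
set_option maxSynthPendingDepth 3

universe u

open TensorProduct IsLocalRing

set_option backward.isDefEq.respectTransparency.types false

attribute [local instance] Algebra.TensorProduct.rightAlgebra

namespace Groth.Agent.Dev4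

/-- A prime of a tensor product over two primes with the same contraction. -/
theorem exists_prime_over_tensor {B SA S : Type u} [CommRing B] [CommRing SA] [CommRing S] [Algebra B SA]
    [Algebra B S] (r : Ideal SA) [r.IsPrime] (x : Ideal S) [x.IsPrime]
    (h : x.comap (algebraMap B S) = r.comap (algebraMap B SA)) :
    ∃ P : Ideal (SA ⊗[B] S), P.IsPrime ∧ P.comap (algebraMap SA (SA ⊗[B] S)) = r := by
  let r₀ := r.comap (algebraMap B SA)
  haveI : r.LiesOver r₀ := ⟨rfl⟩
  haveI : x.LiesOver r₀ := ⟨h.symm⟩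
  letI : Algebra r₀.ResidueField r.ResidueField :=
    (Ideal.ResidueField.mapₐ r₀ r (Algebra.ofId B SA) (Ideal.LiesOver.over (P := r) (p := r₀))).toRingHom.toAlgebra
  letI : Algebra r₀.ResidueField x.ResidueField :=
    (Ideal.ResidueField.mapₐ r₀ x (Algebra.ofId B S) (Ideal.LiesOver.over (P := x) (p := r₀))).toRingHom.toAlgebra
  haveI : IsScalarTower B r₀.ResidueField r.ResidueField := IsScalarTower.of_algebraMap_eq fun b =>
    ((Ideal.ResidueField.mapₐ r₀ r (Algebra.ofId B SA) (Ideal.LiesOver.over (P := r) (p := r₀))).commutes b).symm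
  haveI : IsScalarTower B r₀.ResidueField x.ResidueField := IsScalarTower.of_algebraMap_eq fun b =>
    ((Ideal.ResidueField.mapₐ r₀ x (Algebra.ofId B S) (Ideal.LiesOver.over (P := x) (p := r₀))).commutes b).symm
  let W := r.ResidueField ⊗[r₀.ResidueField] x.ResidueField
  let φ : SA ⊗[B] S →ₐ[B] W := Algebra.TensorProduct.lift
    (((Algebra.TensorProduct.includeLeft : r.ResidueField →ₐ[r₀.ResidueField] W).restrictScalars B).comp
      (IsScalarTower.toAlgHom B SA r.ResidueField))
    (((Algebra.TensorProduct.includeRight : x.ResidueField →ₐ[r₀.ResidueField] W).restrictScalars B).comp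
      (IsScalarTower.toAlgHom B S x.ResidueField)) fun _ _ => Commute.all _ _
  obtain ⟨m, hm⟩ := Ideal.exists_maximal W
  refine ⟨m.comap φ.toRingHom, inferInstance, Ideal.ext fun a => ?_⟩
  have ha : φ (algebraMap SA (SA ⊗[B] S) a) = algebraMap SA r.ResidueField a ⊗ₜ[r₀.ResidueField] (1 : x.ResidueField) := by
    show φ (a ⊗ₜ[B] (1 : S)) = _
    rw [Algebra.TensorProduct.lift_tmul, map_one, mul_one]
    rfl
  show φ (algebraMap SA (SA ⊗[B] S) a) ∈ m ↔ _
  rw [ha]
  refine ⟨fun hmem => ?_, fun har => ?_⟩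
  · by_contra har
    have hu : IsUnit (algebraMap SA r.ResidueField a) :=
      isUnit_iff_ne_zero.2 fun h0 => har (Ideal.algebraMap_residueField_eq_zero.1 h0)
    exact hm.ne_top (Ideal.eq_top_of_isUnit_mem _ hmem
      (hu.map (Algebra.TensorProduct.includeLeftRingHom : r.ResidueField →+* W)))
  · rw [Ideal.algebraMap_residueField_eq_zero.2 har, TensorProduct.zero_tmul]
    exact zero_mem _

section Transfer

variable {R E B : Type u} [CommRing R] [CommRing E] [CommRing B] [Algebra R E] [Algebra R B]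
  (N : Type u) [AddCommGroup N] [Module B N] [Module R N] [IsScalarTower R B N] {n : ℕ} (g : Fin n → B)

/-- Multiplication maps commute with base change. -/
theorem piRight_baseChange_mulMap (x : (E ⊗[R] B) ⊗[B] N) :
    TensorProduct.piRight B (E ⊗[R] B) (E ⊗[R] B) (fun _ : Fin n => N) ((mulMap N g).baseChange (E ⊗[R] B) x) =
      mulMap ((E ⊗[R] B) ⊗[B] N) (fun i => algebraMap B (E ⊗[R] B) (g i)) x := by
  induction x using TensorProduct.induction_on with
  | zero => simp
  | add a b ha hb => rw [map_add, map_add, map_add, ha, hb]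
  | tmul c m =>
    funext i
    rw [LinearMap.baseChange_tmul, TensorProduct.piRight_apply, TensorProduct.piRightHom_tmul]
    simp only [LinearMap.pi_apply, LinearMap.smul_apply, LinearMap.id_apply]
    rw [algebraMap_smul, TensorProduct.smul_tmul', TensorProduct.smul_tmul]

/-- Base change is natural. -/
theorem cancelBaseChange_natural {X Y : Type u} [AddCommGroup X] [Module B X] [Module R X] [IsScalarTower R B X]
    [AddCommGroup Y] [Module B Y] [Module R Y] [IsScalarTower R B Y] (f : X →ₗ[B] Y) (x : (E ⊗[R] B) ⊗[B] X) :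
    Algebra.IsPushout.cancelBaseChange R E B (E ⊗[R] B) Y (f.baseChange (E ⊗[R] B) x) =
      (f.restrictScalars R).lTensor E (Algebra.IsPushout.cancelBaseChange R E B (E ⊗[R] B) X x) := by
  obtain ⟨y, rfl⟩ := (Algebra.IsPushout.cancelBaseChange R E B (E ⊗[R] B) X).symm.surjective x
  rw [LinearEquiv.apply_symm_apply]
  induction y using TensorProduct.induction_on with
  | zero => simp
  | add a b ha hb => simp only [map_add, ha, hb]
  | tmul c m =>
    rw [Algebra.IsPushout.cancelBaseChange_symm_tmul, LinearMap.baseChange_tmul, LinearMap.lTensor_tmul,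
      LinearMap.restrictScalars_apply, ← Algebra.IsPushout.cancelBaseChange_symm_tmul R E B (E ⊗[R] B) Y c (f m),
      LinearEquiv.apply_symm_apply]

/-- Injectivity of the base changed multiplication map. -/
theorem injective_mulMap_baseChange_iff :
    Function.Injective (mulMap ((E ⊗[R] B) ⊗[B] N) (fun i => algebraMap B (E ⊗[R] B) (g i))) ↔
      Function.Injective (((mulMap N g).restrictScalars R).lTensor E) := by
  let Φ := Algebra.IsPushout.cancelBaseChange R E B (E ⊗[R] B) N
  let Ψ := Algebra.IsPushout.cancelBaseChange R E B (E ⊗[R] B) (Fin n → N)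
  let P := TensorProduct.piRight B (E ⊗[R] B) (E ⊗[R] B) (fun _ : Fin n => N)
  refine ⟨fun h a b hab => ?_, fun h a b hab => ?_⟩
  · obtain ⟨a', rfl⟩ := Φ.surjective a
    obtain ⟨b', rfl⟩ := Φ.surjective b
    rw [← cancelBaseChange_natural, ← cancelBaseChange_natural] at hab
    refine congrArg Φ (h ?_)
    rw [← piRight_baseChange_mulMap, ← piRight_baseChange_mulMap, Ψ.injective hab]
  · rw [← piRight_baseChange_mulMap, ← piRight_baseChange_mulMap] at hab
    apply Φ.injective
    apply h
    rw [← cancelBaseChange_natural, ← cancelBaseChange_natural, P.injective hab]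

/-- The cokernel of the base changed multiplication map. -/
theorem flat_coker_mulMap_baseChange_iff :
    Module.Flat E ((Fin n → (E ⊗[R] B) ⊗[B] N) ⧸
        LinearMap.range (mulMap ((E ⊗[R] B) ⊗[B] N) (fun i => algebraMap B (E ⊗[R] B) (g i)))) ↔
      Module.Flat E (E ⊗[R] ((Fin n → N) ⧸ LinearMap.range (mulMap N g))) := by
  let SE := E ⊗[R] B
  let P := TensorProduct.piRight B SE SE (fun _ : Fin n => N)
  let q : (Fin n → SE ⊗[B] N) →ₗ[SE] SE ⊗[B] ((Fin n → N) ⧸ LinearMap.range (mulMap N g)) :=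
    ((LinearMap.range (mulMap N g)).mkQ.baseChange SE).comp P.symm.toLinearMap
  have hq : Function.Surjective q :=
    (LinearMap.lTensor_surjective SE (Submodule.mkQ_surjective _)).comp P.symm.surjective
  have hk : LinearMap.ker q = LinearMap.range (mulMap (SE ⊗[B] N) (fun i => algebraMap B SE (g i))) := by
    have hex : Function.Exact ((mulMap N g).baseChange SE) ((LinearMap.range (mulMap N g)).mkQ.baseChange SE) :=
      lTensor_exact SE (LinearMap.exact_map_mkQ_range (mulMap N g)) (Submodule.mkQ_surjective _)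
    ext z
    refine ⟨fun hz => ?_, ?_⟩
    · obtain ⟨x, hx⟩ := (hex _).1 hz
      exact ⟨x, (piRight_baseChange_mulMap N g x).symm.trans ((congrArg P hx).trans (P.apply_symm_apply z))⟩
    · rintro ⟨x, rfl⟩
      rw [← piRight_baseChange_mulMap, LinearMap.mem_ker]
      show (LinearMap.range (mulMap N g)).mkQ.baseChange SE (P.symm (P _)) = 0
      rw [P.symm_apply_apply]
      exact (hex _).2 ⟨x, rfl⟩
  let e := ((((Submodule.quotEquivOfEq _ _ hk).symm.trans (LinearMap.quotKerEquivOfSurjective q hq)).restrictScalars E).trans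
    (Algebra.IsPushout.cancelBaseChange R E B SE ((Fin n → N) ⧸ LinearMap.range (mulMap N g))))
  exact ⟨fun _ => Module.Flat.of_linearEquiv e.symm, fun _ => Module.Flat.of_linearEquiv e⟩

end Transfer

/-- Purity along the fibre descends to a stage, given flatness at the first one. -/
theorem exists_stage_isPureAlong {A₀ : Type u} [CommRing A₀] {ι : Type u} [Preorder ι] {G : ι → Type u}
    [∀ i, CommRing (G i)] [∀ i, Algebra A₀ (G i)] {g : ∀ i j, i ≤ j → G i →ₐ[A₀] G j}
    {A : Type u} [CommRing A] [Algebra A₀ A] [∀ i, Algebra (G i) A] [∀ i, IsScalarTower A₀ (G i) A]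
    (hcolim : FlatCA.IsDirectedColimitRing G (fun i j h => (g i j h).toRingHom) A)
    {B₀ : Type u} [CommRing B₀] [Algebra A₀ B₀] [Algebra.FinitePresentation A₀ B₀]
    (N₀ : Type u) [AddCommGroup N₀] [Module B₀ N₀] [Module A₀ N₀] [IsScalarTower A₀ B₀ N₀]
    [Module.FinitePresentation B₀ N₀] (p : Ideal A) [p.IsPrime]
    [Module.Flat A₀ (Localization.AtPrime (p.comap (algebraMap A₀ A)) ⊗[A₀] N₀)]
    [Module.Projective (Localization.AtPrime p) (Localization.AtPrime p ⊗[A₀] N₀)] :
    ∃ k, FlatCA.IsPureAlong (G k) (G k ⊗[A₀] B₀) ((G k ⊗[A₀] B₀) ⊗[B₀] N₀) (p.comap (algebraMap (G k) A)) := by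
  classical
  let p₀ := p.comap (algebraMap A₀ A)
  haveI : p.LiesOver p₀ := ⟨rfl⟩
  obtain ⟨R', S', _, _, _, _, _, _, _, _, p', _, hR, hS, hcov, hP⟩ :=
    exists_projective_cover (R := A₀) (S := B₀) N₀ p₀ fun q _ hq =>
      haveI := hq
      flatAt_of_flat_local N₀ p₀ q
  haveI := hR.1
  obtain ⟨hp', hκ⟩ := hR.2
  haveI := hp'
  haveI := hS
  haveI := hP
  let B' := R' ⊗[A₀] B₀
  letI : Algebra B' S' := (Algebra.TensorProduct.lift (IsScalarTower.toAlgHom A₀ R' S') (IsScalarTower.toAlgHom A₀ B₀ S')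
    fun _ _ => Commute.all _ _).toRingHom.toAlgebra
  haveI : IsScalarTower B₀ B' S' := IsScalarTower.of_algebraMap_eq fun s => by
    show _ = Algebra.TensorProduct.lift _ _ _ ((1 : R') ⊗ₜ s)
    simp
  haveI : IsScalarTower R' B' S' := IsScalarTower.of_algebraMap_eq fun r => by
    show _ = Algebra.TensorProduct.lift _ _ _ (r ⊗ₜ (1 : B₀))
    simp
  haveI hpo' : Algebra.IsPushout A₀ B₀ R' B' := Algebra.IsPushout.symm inferInstance
  haveI : Algebra.Etale B₀ B' := Algebra.Etale.of_equiv (Algebra.IsPushout.equiv A₀ B₀ R' B' (h := hpo'))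
  haveI : Algebra.Etale B' S' := Algebra.Etale.of_restrictScalars B₀ B' S'
  haveI : Algebra.FinitePresentation R' B' := inferInstance
  haveI : Algebra.FiniteType R' B' := inferInstance
  let N' := B' ⊗[B₀] N₀
  haveI : Module.Projective R' (S' ⊗[B'] N') :=
    Module.Projective.of_equiv ((AlgebraTensorModule.cancelBaseChange B₀ B' S' S' N₀).restrictScalars R').symm
  let eN : N' ≃ₗ[R'] R' ⊗[A₀] N₀ := Algebra.IsPushout.cancelBaseChange A₀ R' B₀ B' N₀
  -- the open image of the cover
  let V := Set.range (PrimeSpectrum.comap (algebraMap B' S'))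
  have hV : IsOpen V := by
    show IsOpen (Set.range _)
    rw [← Set.image_univ]
    exact PrimeSpectrum.isOpenMap_comap_of_hasGoingDown_of_finitePresentation _ isOpen_univ
  obtain ⟨Gs, hGV⟩ : ∃ Gs : Finset B', ∀ x : PrimeSpectrum B', x ∈ V ↔ ∃ c ∈ Gs, c ∉ x.asIdeal := by
    obtain ⟨Gs, hG⟩ := PrimeSpectrum.isCompact_isOpen_iff.1 ⟨isCompact_range (PrimeSpectrum.continuous_comap _), hV⟩
    refine ⟨Gs, fun x => ?_⟩
    show x ∈ Set.range _ ↔ _
    rw [← hG, Set.mem_compl_iff, PrimeSpectrum.mem_zeroLocus, Set.not_subset]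
    simp
  let gs : Fin Gs.card → B' := fun i => Gs.equivFin.symm i
  have hgs : ∀ x : PrimeSpectrum B', x ∈ V ↔ ∃ i, gs i ∉ x.asIdeal := fun x => by
    rw [hGV]
    exact ⟨fun ⟨c, hc, hcx⟩ => ⟨Gs.equivFin ⟨c, hc⟩, by simpa [gs] using hcx⟩,
      fun ⟨i, hi⟩ => ⟨gs i, (Gs.equivFin.symm i).2, hi⟩⟩
  -- the prime of the base change
  let eκ : p₀.ResidueField ≃ₐ[A₀] p'.ResidueField := AlgEquiv.ofBijective _ hκ
  let θ : R' →ₐ[A₀] p.ResidueField := ((Ideal.ResidueField.mapₐ p₀ p (Algebra.ofId A₀ A) rfl).comp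
    eκ.symm.toAlgHom).comp (IsScalarTower.toAlgHom A₀ R' p'.ResidueField)
  let T := A ⊗[A₀] R'
  let lam : T →ₐ[A₀] p.ResidueField := Algebra.TensorProduct.lift (IsScalarTower.toAlgHom A₀ A p.ResidueField) θ
    fun _ _ => Commute.all _ _
  let P := RingHom.ker lam.toRingHom
  haveI hPprime : P.IsPrime := RingHom.ker_isPrime _
  have hPA : P.comap (algebraMap A T) = p := Ideal.ext fun a => by
    show lam (a ⊗ₜ[A₀] (1 : R')) = 0 ↔ a ∈ p
    rw [Algebra.TensorProduct.lift_tmul, map_one, mul_one]
    exact Ideal.algebraMap_residueField_eq_zero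
  have hPR : P.comap (algebraMap R' T) = p' := Ideal.ext fun r => by
    show lam ((1 : A) ⊗ₜ[A₀] r) = 0 ↔ r ∈ p'
    rw [Algebra.TensorProduct.lift_tmul, map_one, one_mul]
    show Ideal.ResidueField.mapₐ p₀ p (Algebra.ofId A₀ A) rfl (eκ.symm (algebraMap R' p'.ResidueField r)) = 0 ↔ r ∈ p'
    rw [map_eq_zero, map_eq_zero]
    exact Ideal.algebraMap_residueField_eq_zero
  -- the localised systems
  letI : ∀ i, Algebra (G i ⊗[A₀] R') T := fun i =>
    (Algebra.TensorProduct.map (IsScalarTower.toAlgHom A₀ (G i) A) (AlgHom.id A₀ R')).toRingHom.toAlgebra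
  have hT := isDirectedColimitRing_tensor hcolim R' (fun _ _ => rfl)
  let E := Localization.AtPrime P
  let Pi : ∀ i, Ideal (G i ⊗[A₀] R') := fun i => P.comap (algebraMap (G i ⊗[A₀] R') T)
  let L : ι → Type u := fun i => Localization.AtPrime (Pi i)
  letI : ∀ i, Algebra (L i) E := fun i =>
    (Localization.localRingHom (Pi i) P (algebraMap (G i ⊗[A₀] R') T) rfl).toAlgebra
  have hLE : ∀ i x, algebraMap (L i) E (algebraMap (G i ⊗[A₀] R') (L i) x) =
      algebraMap T E (algebraMap (G i ⊗[A₀] R') T x) := fun i x => Localization.localRingHom_to_map _ _ _ rfl x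
  have hPij : ∀ i j (h : i ≤ j), Pi i = (Pi j).comap (Algebra.TensorProduct.map (g i j h) (AlgHom.id A₀ R')).toRingHom :=
    fun i j h => by
      show _ = Ideal.comap _ (Ideal.comap _ P)
      rw [Ideal.comap_comap]
      exact congrArg (fun f => Ideal.comap f P) (hT.2.2.2.2.1 i j h).symm
  let gL : ∀ i j, i ≤ j → L i →+* L j := fun i j h =>
    Localization.localRingHom (Pi i) (Pi j) (Algebra.TensorProduct.map (g i j h) (AlgHom.id A₀ R')).toRingHom (hPij i j h)
  have hgL : ∀ i j h x, gL i j h (algebraMap (G i ⊗[A₀] R') (L i) x) =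
      algebraMap (G j ⊗[A₀] R') (L j) (Algebra.TensorProduct.map (g i j h) (AlgHom.id A₀ R') x) :=
    fun i j h x => Localization.localRingHom_to_map _ _ _ _ x
  have hR'L : ∀ i (r : R'), algebraMap R' (L i) r = algebraMap (G i ⊗[A₀] R') (L i) ((1 : G i) ⊗ₜ[A₀] r) :=
    fun i r => IsScalarTower.algebraMap_apply R' (G i ⊗[A₀] R') (L i) r
  let gl : ∀ i j, i ≤ j → L i →ₐ[R'] L j := fun i j h =>
    { gL i j h with
      commutes' := fun r => by
        show gL i j h (algebraMap R' (L i) r) = _
        rw [hR'L, hgL, hR'L, Algebra.TensorProduct.map_tmul, map_one, AlgHom.id_apply] }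
  haveI : ∀ i, IsScalarTower R' (L i) E := fun i => IsScalarTower.of_algebraMap_eq fun r => by
    rw [hR'L, hLE, IsScalarTower.algebraMap_apply R' T E]
    congr 1
    show (1 : A) ⊗ₜ[A₀] r = Algebra.TensorProduct.map (IsScalarTower.toAlgHom A₀ (G i) A) (AlgHom.id A₀ R') _
    rw [Algebra.TensorProduct.map_tmul, map_one, AlgHom.id_apply]
  have hL : FlatCA.IsDirectedColimitRing L (fun i j h => (gl i j h).toRingHom) E :=
    isDirectedColimitRing_atPrime hT P L E hLE _ hgL
  -- projectivity in the limit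
  letI : Algebra (Localization.AtPrime p) E := (Localization.localRingHom p P (algebraMap A T) hPA.symm).toAlgebra
  haveI : IsScalarTower A₀ (Localization.AtPrime p) E := IsScalarTower.of_algebraMap_eq fun a => by
    rw [RingHom.algebraMap_toAlgebra, IsScalarTower.algebraMap_apply A₀ A (Localization.AtPrime p),
      Localization.localRingHom_to_map, ← IsScalarTower.algebraMap_apply A₀ A T, ← IsScalarTower.algebraMap_apply A₀ T E]
  haveI : Module.Projective E (E ⊗[R'] N') := Module.Projective.of_equiv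
    (((AlgebraTensorModule.congr (LinearEquiv.refl E E) eN).trans
      (AlgebraTensorModule.cancelBaseChange A₀ R' E E N₀)).trans
      (AlgebraTensorModule.cancelBaseChange A₀ (Localization.AtPrime p) E E N₀).symm).symm
  let SE := E ⊗[R'] B'
  let NE := SE ⊗[B'] N'
  haveI : Algebra.IsPushout R' E B' SE := inferInstance
  haveI : Module.Projective E NE :=
    Module.Projective.of_equiv (Algebra.IsPushout.cancelBaseChange R' E B' SE N').symm
  have hmax : (maximalIdeal E).comap (algebraMap R' E) = p' := by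
    rw [IsScalarTower.algebraMap_eq R' T E, ← Ideal.comap_comap, show (maximalIdeal E).comap (algebraMap T E) = P from Localization.AtPrime.comap_maximalIdeal, hPR]
  obtain ⟨hinjE, hflatE⟩ := injective_flat_coker_of_covered (R := E) NE (fun i => algebraMap B' SE (gs i))
    fun t _ r _ _ ⟨w, hw⟩ => by
      obtain ⟨P₁, hP₁, hrP₁, hP₁m⟩ :=
        exists_specialization_of_projective NE t (maximalIdeal E) (le_maximalIdeal (Ideal.IsPrime.ne_top inferInstance)) r hw
      haveI := hP₁
      let Q' := P₁.comap (algebraMap B' SE)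
      haveI : Q'.LiesOver p' := ⟨by
        show p' = (P₁.comap (algebraMap B' SE)).comap (algebraMap R' B')
        rw [Ideal.comap_comap, ← IsScalarTower.algebraMap_eq, IsScalarTower.algebraMap_eq R' E SE, ← Ideal.comap_comap,
          ← hmax]
        exact congrArg (Ideal.comap (algebraMap R' E)) hP₁m.over⟩
      let q := Q'.comap (algebraMap B₀ B')
      haveI : q.LiesOver p₀ := ⟨by
        show p₀ = (Q'.comap (algebraMap B₀ B')).comap (algebraMap A₀ B₀)
        rw [Ideal.comap_comap, ← IsScalarTower.algebraMap_eq, IsScalarTower.algebraMap_eq A₀ R' B', ← Ideal.comap_comap]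
        exact hp'.over.trans (congrArg (Ideal.comap (algebraMap A₀ R')) (Ideal.over_def Q' p'))⟩
      obtain ⟨q', hq', hq'q, hq'p⟩ := hcov q inferInstance
      haveI := hq'
      haveI := hq'p
      haveI : (q'.comap (algebraMap B' S')).LiesOver p' := ⟨by
        show p' = (q'.comap (algebraMap B' S')).comap (algebraMap R' B')
        rw [Ideal.comap_comap, ← IsScalarTower.algebraMap_eq]
        exact hq'p.over⟩
      have hpt : q'.comap (algebraMap B' S') = Q' := prime_ext (R := A₀) (R' := R') (B := B₀) hκ _ _ (by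
        rw [Ideal.comap_comap, ← IsScalarTower.algebraMap_eq]
        exact hq'q)
      obtain ⟨i, hi⟩ := (hgs ⟨Q', inferInstance⟩).1 ⟨⟨q', hq'⟩, PrimeSpectrum.ext hpt⟩
      exact ⟨i, fun hr => hi (hrP₁ hr)⟩
  haveI := (flat_coker_mulMap_baseChange_iff (R := R') (E := E) N' gs).1 hflatE
  haveI : Module.FinitePresentation B' (Fin Gs.card → N') := Module.FinitePresentation.pi _
  obtain ⟨l, hl₁, hl₂, hl₃⟩ := exists_stage_injective_flat_coker hL (mulMap N' gs)
    ((injective_mulMap_baseChange_iff N' gs).1 hinjE)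
  -- at the stage
  haveI := hl₁
  let SA := L l ⊗[R'] B'
  let NA := SA ⊗[B'] N'
  haveI : Algebra.IsPushout R' (L l) B' SA := inferInstance
  haveI : Module.Flat (L l) NA := Module.Flat.of_linearEquiv (Algebra.IsPushout.cancelBaseChange R' (L l) B' SA N')
  haveI := (flat_coker_mulMap_baseChange_iff (R := R') (E := L l) N' gs).2 hl₂
  have hinjl := (injective_mulMap_baseChange_iff (R := R') (E := L l) N' gs).2 hl₃
  haveI : Algebra.FiniteType (L l) SA := inferInstance
  let C := SA ⊗[B'] S'
  haveI : Algebra.Etale SA C := inferInstance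
  let eC : C ⊗[SA] NA ≃ₗ[L l] L l ⊗[R'] (S' ⊗[B'] N') :=
    (((AlgebraTensorModule.cancelBaseChange B' SA C C N').restrictScalars SA).trans
      (AlgebraTensorModule.assoc B' B' SA SA S' N')).restrictScalars (L l) |>.trans
      (Algebra.IsPushout.cancelBaseChange R' (L l) B' SA (S' ⊗[B'] N'))
  haveI : Module.Projective (L l) (C ⊗[SA] NA) := Module.Projective.of_equiv eC.symm
  haveI : Module.Projective (L l) NA := projective_of_covered (L := L l) (SA := SA) (C := C) NA fun t _ r _ _ hass => by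
    obtain ⟨w, hw⟩ := (fiberIdeal_mem_associatedPrimes_iff t NA r).1 hass
    obtain ⟨i, hi⟩ := covered_of_injective_flat_coker NA (fun i => algebraMap B' SA (gs i)) hinjl t r hw
    obtain ⟨x', hx'⟩ := (hgs ⟨r.comap (algebraMap B' SA), inferInstance⟩).2 ⟨i, hi⟩
    exact exists_prime_over_tensor r x'.asIdeal (congrArg PrimeSpectrum.asIdeal hx')
  -- purity at the stage
  refine ⟨l, ?_⟩
  let Bl := G l ⊗[A₀] B₀
  let Nl := Bl ⊗[B₀] N₀
  haveI : Algebra.Etale (G l) (G l ⊗[A₀] R') := inferInstance
  haveI : Module.Flat (G l ⊗[A₀] R') (L l) := IsLocalization.flat (L l) (Pi l).primeCompl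
  haveI : Module.Flat (G l) (L l) := Module.Flat.trans (G l) (G l ⊗[A₀] R') (L l)
  haveI : (maximalIdeal (L l)).LiesOver (p.comap (algebraMap (G l) A)) := ⟨by
    show _ = (maximalIdeal (L l)).comap (algebraMap (G l) (L l))
    rw [IsScalarTower.algebraMap_eq (G l) (G l ⊗[A₀] R') (L l), ← Ideal.comap_comap,
      show (maximalIdeal (L l)).comap (algebraMap (G l ⊗[A₀] R') (L l)) = Pi l from
        Localization.AtPrime.comap_maximalIdeal, ← hPA]
    show _ = (P.comap (algebraMap (G l ⊗[A₀] R') T)).comap (algebraMap (G l) (G l ⊗[A₀] R'))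
    rw [Ideal.comap_comap, Ideal.comap_comap]
    rfl⟩
  let e₁ : L l ⊗[G l] Nl ≃ₗ[L l] L l ⊗[A₀] N₀ :=
    (AlgebraTensorModule.congr (LinearEquiv.refl (L l) (L l)) (Algebra.IsPushout.cancelBaseChange A₀ (G l) B₀ Bl N₀)).trans
      (AlgebraTensorModule.cancelBaseChange A₀ (G l) (L l) (L l) N₀)
  let e₂ : NA ≃ₗ[L l] L l ⊗[A₀] N₀ :=
    (Algebra.IsPushout.cancelBaseChange R' (L l) B' SA N').trans
      ((AlgebraTensorModule.congr (LinearEquiv.refl (L l) (L l)) eN).trans
        (AlgebraTensorModule.cancelBaseChange A₀ R' (L l) (L l) N₀))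
  haveI : Module.Projective (L l) (L l ⊗[G l] Nl) := Module.Projective.of_equiv (e₂.trans e₁.symm)
  exact fun A'' B'' N'' _ _ _ _ _ _ _ _ _ _ _ _ _ _ f'' t'' t _ _ Q _ _ =>
    S1255.isUnivPureAlong_of_projective Nl _ (L l) A'' B'' N'' f'' t'' t Q

end Groth.Agent.Dev4
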