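import Groth.Prelude.Def_FlatCA
import Mathlib.LinearAlgebra.TensorProduct.DirectLimit

/-!
# Tensor products with a directed colimit of rings
-/

set_option autoImplicit false
set_option maxSynthPendingDepth 3

universe u

open TensorProduct

namespace Groth.Agent.Dev4

variable {R : Type u} [CommRing R] {ι : Type u} [Preorder ι] (G : ι → Type u) [∀ i, CommRing (G i)]
  [∀ i, Algebra R (G i)] (g : ∀ i j, i ≤ j → G i →ₐ[R] G j) {A : Type u} [CommRing A] [Algebra R A]
  [∀ i, Algebra (G i) A] [∀ i, IsScalarTower R (G i) A]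
  (hcolim : FlatCA.IsDirectedColimitRing G (fun i j h => (g i j h).toRingHom) A)
  (M : Type u) [AddCommGroup M] [Module R M]

include hcolim

/-- An element of a stage vanishing in the colimit vanishes at a later stage. -/
theorem exists_stage_tensor_zero (i : ι) (x : G i ⊗[R] M)
    (hx : (IsScalarTower.toAlgHom R (G i) A).toLinearMap.rTensor M x = 0) :
    ∃ j, ∃ h : i ≤ j, (g i j h).toLinearMap.rTensor M x = 0 := by
  classical
  obtain ⟨hdir, hne, hid, hcomp, hcompat, hsurj, hzero⟩ := hcolim
  haveI : IsDirectedOrder ι := hdir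
  haveI := hne
  let f : ∀ i j, i ≤ j → G i →ₗ[R] G j := fun i j h => (g i j h).toLinearMap
  haveI : DirectedSystem G (fun i j h => f i j h) :=
    { map_self := fun i x => RingHom.congr_fun (hid i) x
      map_map := fun k j i hij hjk x => RingHom.congr_fun (hcomp i j k hij hjk) x }
  let L : Module.DirectLimit G f →ₗ[R] A :=
    Module.DirectLimit.lift R ι G f (fun i => (IsScalarTower.toAlgHom R (G i) A).toLinearMap)
      fun i j h x => RingHom.congr_fun (hcompat i j h) x
  have hinj : Function.Injective L := by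
    rw [injective_iff_map_eq_zero]
    intro z hz
    obtain ⟨j, y, rfl⟩ := Module.DirectLimit.exists_of z
    rw [Module.DirectLimit.lift_of] at hz
    obtain ⟨k, hjk, hk⟩ := hzero j y hz
    rw [← Module.DirectLimit.of_f (hij := hjk)]
    show Module.DirectLimit.of R ι G f k (g j k hjk y) = 0
    rw [show g j k hjk y = 0 from hk, map_zero]
  have hsur : Function.Surjective L := fun a => by
    obtain ⟨j, y, hy⟩ := hsurj a
    exact ⟨Module.DirectLimit.of R ι G f j y, by rw [Module.DirectLimit.lift_of]; exact hy⟩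
  have h1 : (Module.DirectLimit.of R ι G f i).rTensor M x = 0 := by
    refine (LinearEquiv.rTensor M (LinearEquiv.ofBijective L ⟨hinj, hsur⟩)).injective ?_
    rw [map_zero, ← hx]
    clear hx
    induction x using TensorProduct.induction_on with
    | zero => simp
    | add u v hu hv => simp only [map_add, hu, hv]
    | tmul a m => simp [L]
  have h2 := congrArg (TensorProduct.directLimitLeft f M) h1
  rw [TensorProduct.directLimitLeft_rTensor_of, map_zero] at h2
  exact Module.DirectLimit.of.zero_exact h2

/-- Every element of the colimit tensor product comes from a stage above a given one. -/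
theorem exists_stage_tensor (i₀ : ι) (z : A ⊗[R] M) :
    ∃ j, ∃ _ : i₀ ≤ j, ∃ x : G j ⊗[R] M, (IsScalarTower.toAlgHom R (G j) A).toLinearMap.rTensor M x = z := by
  obtain ⟨hdir, hne, hid, hcomp, hcompat, hsurj, hzero⟩ := hcolim
  haveI : IsDirectedOrder ι := hdir
  induction z using TensorProduct.induction_on with
  | zero => exact ⟨i₀, le_rfl, 0, map_zero _⟩
  | add u v hu hv =>
    obtain ⟨j, hj, x, hx⟩ := hu
    obtain ⟨k, hk, y, hy⟩ := hv
    obtain ⟨l, hjl, hkl⟩ := directed_of (· ≤ ·) j k
    refine ⟨l, hj.trans hjl, (g j l hjl).toLinearMap.rTensor M x + (g k l hkl).toLinearMap.rTensor M y, ?_⟩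
    have hc : ∀ (a b : ι) (h : a ≤ b) (w : G a ⊗[R] M),
        (IsScalarTower.toAlgHom R (G b) A).toLinearMap.rTensor M ((g a b h).toLinearMap.rTensor M w) =
          (IsScalarTower.toAlgHom R (G a) A).toLinearMap.rTensor M w := fun a b h w => by
      rw [← LinearMap.comp_apply, ← LinearMap.rTensor_comp]
      congr 2
      exact LinearMap.ext fun c => RingHom.congr_fun (hcompat a b h) c
    rw [map_add, hc, hc, hx, hy]
  | tmul a m =>
    obtain ⟨j, y, hy⟩ := hsurj a
    obtain ⟨l, hil, hjl⟩ := directed_of (· ≤ ·) i₀ j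
    refine ⟨l, hil, g j l hjl y ⊗ₜ[R] m, ?_⟩
    rw [LinearMap.rTensor_tmul]
    exact congrArg (· ⊗ₜ[R] m) ((RingHom.congr_fun (hcompat j l hjl) y).trans hy)

end Groth.Agent.Dev4
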