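import Groth.Prelude.Def_FlatCA
import Groth.Agent.Lib.Dev4.StageTensor
import Mathlib.RingTheory.FinitePresentation
import Mathlib.RingTheory.Localization.AtPrime.Basic
import Mathlib.RingTheory.TensorProduct.Basic

/-!
# Operations on directed systems of rings
-/

set_option autoImplicit false
set_option maxSynthPendingDepth 3

universe u

open TensorProduct

namespace Groth.Agent.Dev4

section Basic

variable {ι : Type u} [Preorder ι] {G : ι → Type u} [∀ i, CommRing (G i)]
  {g : ∀ i j, i ≤ j → G i →+* G j} {A : Type u} [CommRing A] [∀ i, Algebra (G i) A]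
  (hcolim : FlatCA.IsDirectedColimitRing G g A)

include hcolim

/-- The stages above a given one still have the same colimit. -/
theorem isDirectedColimitRing_tail (i₀ : ι) :
    FlatCA.IsDirectedColimitRing (fun i : {i : ι // i₀ ≤ i} => G i) (fun i j h => g i.1 j.1 h) A := by
  obtain ⟨hdir, hne, hid, hcomp, hcompat, hsurj, hzero⟩ := hcolim
  haveI : IsDirectedOrder ι := hdir
  refine ⟨⟨fun a b => ?_⟩, ⟨⟨i₀, le_rfl⟩⟩, fun i => hid i.1, fun i j k hij hjk => hcomp i.1 j.1 k.1 hij hjk,
    fun i j h => hcompat i.1 j.1 h, fun a => ?_, fun i x hx => ?_⟩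
  · obtain ⟨c, hac, hbc⟩ := directed_of (· ≤ ·) a.1 b.1
    exact ⟨⟨c, a.2.trans hac⟩, hac, hbc⟩
  · obtain ⟨j, x, hx⟩ := hsurj a
    obtain ⟨k, hjk, hik⟩ := directed_of (· ≤ ·) j i₀
    exact ⟨⟨k, hik⟩, g j k hjk x, (RingHom.congr_fun (hcompat j k hjk) x).trans hx⟩
  · obtain ⟨j, hij, hj⟩ := hzero i.1 x hx
    exact ⟨⟨j, i.2.trans hij⟩, hij, hj⟩

/-- The localisations at the contractions of a prime have the localisation as colimit. -/
theorem isDirectedColimitRing_atPrime (P : Ideal A) [P.IsPrime] (L : ι → Type u) [∀ i, CommRing (L i)]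
    [∀ i, Algebra (G i) (L i)] [∀ i, IsLocalization.AtPrime (L i) (P.comap (algebraMap (G i) A))]
    (L' : Type u) [CommRing L'] [Algebra A L'] [IsLocalization.AtPrime L' P] [∀ i, Algebra (L i) L']
    (hL' : ∀ i x, algebraMap (L i) L' (algebraMap (G i) (L i) x) = algebraMap A L' (algebraMap (G i) A x))
    (gl : ∀ i j, i ≤ j → L i →+* L j)
    (hgl : ∀ i j h x, gl i j h (algebraMap (G i) (L i) x) = algebraMap (G j) (L j) (g i j h x)) :
    FlatCA.IsDirectedColimitRing L gl L' := by
  obtain ⟨hdir, hne, hid, hcomp, hcompat, hsurj, hzero⟩ := hcolim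
  haveI : IsDirectedOrder ι := hdir
  have hcompat' : ∀ i j (h : i ≤ j) x, algebraMap (G j) A (g i j h x) = algebraMap (G i) A x :=
    fun i j h x => RingHom.congr_fun (hcompat i j h) x
  refine ⟨hdir, hne, fun i => IsLocalization.ringHom_ext (P.comap (algebraMap (G i) A)).primeCompl
      (RingHom.ext fun x => by simp [hgl, hid i]),
    fun i j k hij hjk => IsLocalization.ringHom_ext (P.comap (algebraMap (G i) A)).primeCompl
      (RingHom.ext fun x => by
        simp only [RingHom.comp_apply, hgl]
        exact congrArg _ (RingHom.congr_fun (hcomp i j k hij hjk) x)),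
    fun i j h => IsLocalization.ringHom_ext (P.comap (algebraMap (G i) A)).primeCompl
      (RingHom.ext fun x => by simp [hgl, hL', hcompat']), fun z => ?_, fun i z hz => ?_⟩
  · obtain ⟨a, ⟨s, hs⟩, rfl⟩ := IsLocalization.exists_mk'_eq P.primeCompl z
    obtain ⟨j, x, hx⟩ := hsurj a
    obtain ⟨k, y, hy⟩ := hsurj s
    obtain ⟨l, hjl, hkl⟩ := directed_of (· ≤ ·) j k
    have hyl : g k l hkl y ∈ (P.comap (algebraMap (G l) A)).primeCompl := fun hm => hs (by
      have h1 : algebraMap (G l) A (g k l hkl y) ∈ P := hm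
      rwa [hcompat', hy] at h1)
    refine ⟨l, IsLocalization.mk' (L l) (g j l hjl x) ⟨_, hyl⟩, ?_⟩
    rw [IsLocalization.eq_mk'_iff_mul_eq]
    have h1 := congrArg (algebraMap (L l) L')
      (IsLocalization.mk'_spec (L l) (g j l hjl x) (⟨g k l hkl y, hyl⟩ : (P.comap (algebraMap (G l) A)).primeCompl))
    rw [map_mul, hL', hL', hcompat', hcompat', hx, hy] at h1
    exact h1
  · obtain ⟨x, ⟨s, hs⟩, rfl⟩ := IsLocalization.exists_mk'_eq (P.comap (algebraMap (G i) A)).primeCompl z
    have h0 : algebraMap A L' (algebraMap (G i) A x) = 0 := by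
      rw [← hL', ← IsLocalization.mk'_spec (L i) x (⟨s, hs⟩ : (P.comap (algebraMap (G i) A)).primeCompl),
        map_mul, hz, zero_mul]
    obtain ⟨⟨c, hc⟩, hcx⟩ := (IsLocalization.map_eq_zero_iff P.primeCompl L' _).1 h0
    obtain ⟨j, y, hy⟩ := hsurj c
    obtain ⟨k, hik, hjk⟩ := directed_of (· ≤ ·) i j
    obtain ⟨l, hkl, hl⟩ := hzero k (g j k hjk y * g i k hik x) (by
      rw [map_mul, hcompat', hcompat', hy]; exact hcx)
    refine ⟨l, hik.trans hkl, ?_⟩
    have hyl : g k l hkl (g j k hjk y) ∈ (P.comap (algebraMap (G l) A)).primeCompl := fun hm => hc (by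
      have h1 : algebraMap (G l) A (g k l hkl (g j k hjk y)) ∈ P := hm
      rwa [hcompat', hcompat', hy] at h1)
    have hx0 : algebraMap (G l) (L l) (g i l (hik.trans hkl) x) = 0 := by
      refine (IsLocalization.map_eq_zero_iff (P.comap (algebraMap (G l) A)).primeCompl (L l) _).2 ⟨⟨_, hyl⟩, ?_⟩
      show g k l hkl (g j k hjk y) * g i l (hik.trans hkl) x = 0
      rw [show g i l (hik.trans hkl) x = g k l hkl (g i k hik x) from
        (RingHom.congr_fun (hcomp i k l hik hkl) x).symm, ← map_mul]
      exact hl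
    have h1 := congrArg (gl i l (hik.trans hkl))
      (IsLocalization.mk'_spec (L i) x (⟨s, hs⟩ : (P.comap (algebraMap (G i) A)).primeCompl))
    rw [map_mul, hgl, hgl, hx0] at h1
    refine ((IsUnit.mul_left_eq_zero ?_).1 h1)
    have hsl : g i l (hik.trans hkl) s ∈ (P.comap (algebraMap (G l) A)).primeCompl := fun hm => hs (by
      have h2 : algebraMap (G l) A (g i l (hik.trans hkl) s) ∈ P := hm
      rwa [hcompat'] at h2)
    exact IsLocalization.map_units (L l) (⟨_, hsl⟩ : (P.comap (algebraMap (G l) A)).primeCompl)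

end Basic

variable {R : Type u} [CommRing R] {ι : Type u} [Preorder ι] {G : ι → Type u} [∀ i, CommRing (G i)]
  [∀ i, Algebra R (G i)] {g : ∀ i j, i ≤ j → G i →ₐ[R] G j} {A : Type u} [CommRing A] [Algebra R A]
  [∀ i, Algebra (G i) A] [∀ i, IsScalarTower R (G i) A]
  (hcolim : FlatCA.IsDirectedColimitRing G (fun i j h => (g i j h).toRingHom) A)

include hcolim

/-- Base change of a directed colimit of rings. -/
theorem isDirectedColimitRing_tensor (R' : Type u) [CommRing R'] [Algebra R R']
    [∀ i, Algebra (G i ⊗[R] R') (A ⊗[R] R')]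
    (h : ∀ i x, algebraMap (G i ⊗[R] R') (A ⊗[R] R') x =
      Algebra.TensorProduct.map (IsScalarTower.toAlgHom R (G i) A) (AlgHom.id R R') x) :
    FlatCA.IsDirectedColimitRing (fun i => G i ⊗[R] R')
      (fun i j hij => (Algebra.TensorProduct.map (g i j hij) (AlgHom.id R R')).toRingHom) (A ⊗[R] R') := by
  obtain ⟨hdir, hne, hid, hcomp, hcompat, hsurj, hzero⟩ := id hcolim
  haveI : IsDirectedOrder ι := hdir
  haveI := hne
  refine ⟨hdir, hne, fun i => RingHom.ext fun x => ?_, fun i j k hij hjk => RingHom.ext fun x => ?_,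
    fun i j hij => RingHom.ext fun x => ?_, fun a => ?_, fun i x hx => ?_⟩
  · induction x using TensorProduct.induction_on with
    | zero => simp
    | add u v hu hv => rw [map_add, map_add, hu, hv]
    | tmul a r => exact congrArg (· ⊗ₜ[R] r) (RingHom.congr_fun (hid i) a)
  · induction x using TensorProduct.induction_on with
    | zero => simp
    | add u v hu hv => rw [map_add, map_add, hu, hv]
    | tmul a r => exact congrArg (· ⊗ₜ[R] r) (RingHom.congr_fun (hcomp i j k hij hjk) a)
  · induction x using TensorProduct.induction_on with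
    | zero => simp
    | add u v hu hv => rw [map_add, map_add, hu, hv]
    | tmul a r =>
      simp only [RingHom.comp_apply]
      rw [h i]
      show algebraMap (G j ⊗[R] R') (A ⊗[R] R') (g i j hij a ⊗ₜ r) = _
      rw [h j, Algebra.TensorProduct.map_tmul, Algebra.TensorProduct.map_tmul]
      exact congrArg (· ⊗ₜ[R] r) (RingHom.congr_fun (hcompat i j hij) a)
  · obtain ⟨j, -, x, hx⟩ := exists_stage_tensor G g hcolim R' (Classical.arbitrary ι) a
    refine ⟨j, x, ?_⟩
    rw [h j, ← hx]
    induction x using TensorProduct.induction_on generalizing a with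
    | zero => simp
    | add u v hu hv =>
      rw [map_add, map_add, hu ((IsScalarTower.toAlgHom R (G j) A).toLinearMap.rTensor R' u) rfl,
        hv ((IsScalarTower.toAlgHom R (G j) A).toLinearMap.rTensor R' v) rfl]
    | tmul b r => rfl
  · have hconv : ∀ y : G i ⊗[R] R', algebraMap (G i ⊗[R] R') (A ⊗[R] R') y =
        (IsScalarTower.toAlgHom R (G i) A).toLinearMap.rTensor R' y := fun y => by
      rw [h i]
      induction y using TensorProduct.induction_on with
      | zero => simp
      | add u v hu hv => rw [map_add, map_add, hu, hv]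
      | tmul b r => rfl
    obtain ⟨j, hij, hj⟩ := exists_stage_tensor_zero G g hcolim R' i x ((hconv x).symm.trans hx)
    refine ⟨j, hij, ?_⟩
    rw [← hj]
    clear hx hj
    induction x using TensorProduct.induction_on with
    | zero => simp
    | add u v hu hv => rw [map_add, map_add, hu, hv]
    | tmul b r => rfl

end Groth.Agent.Dev4
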