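import Groth.Prelude.Def_FlatCA
import Mathlib

/-!
# Building complete dévissages step by step
-/

set_option autoImplicit false

universe u

open TensorProduct

namespace Groth.Agent.Dev4

section Fam

/-- A family with a new head. -/
@[reducible] def consT (X : Type u) (F : ℕ → Type u) : ℕ → Type u
  | 0 => X
  | i + 1 => F i

/-- The instances of a family with a new head. -/
@[reducible] def consI {cl : Type u → Type u} {X : Type u} {F : ℕ → Type u} (hX : cl X) (hF : ∀ i, cl (F i)) :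
    ∀ i, cl (consT X F i)
  | 0 => hX
  | i + 1 => hF i

end Fam

variable {R : Type u} [CommRing R] {p : Ideal R} [p.IsPrime]

/-- The first step of a dévissage. -/
structure Head (R S : Type u) [CommRing R] [CommRing S] [Algebra R S] (N : Type u) [AddCommGroup N] [Module S N]
    (p : Ideal R) [p.IsPrime] : Type (u + 1) where
  /-- the ring carrying the module -/
  C : Type u
  /-- the smooth algebra -/
  D : Type u
  /-- the module -/
  G : Type u
  /-- the rank -/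
  r : ℕ
  [cC : CommRing C] [cD : CommRing D] [aRC : Algebra R C] [aRD : Algebra R D] [aDC : Algebra D C]
  [tRDC : IsScalarTower R D C] [aSC : Algebra S C] [tRSC : IsScalarTower R S C]
  [gG : AddCommGroup G] [mCG : Module C G] [mDG : Module D G] [tDCG : IsScalarTower D C G]
  [mRG : Module R G] [tRDG : IsScalarTower R D G] [mSG : Module S G] [tSCG : IsScalarTower S C G]
  [hp : (p.map (algebraMap R D)).IsPrime]
  /-- the map from the free module -/
  α : (Fin r → D) →ₗ[D] G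
  surjSC : Function.Surjective (algebraMap S C)
  fpSC : Algebra.FinitePresentation S C
  finiteDC : Module.Finite D C
  smooth : Algebra.Smooth R D
  geomIrred : FlatCA.GeomIrredFibres R D
  finiteG : Module.Finite C G
  /-- the identification with the module -/
  isoN : N ≃ₗ[S] G
  fibreIso : Function.Bijective (α.baseChange (p.map (algebraMap R D)).ResidueField)

attribute [instance] Head.cC Head.cD Head.aRC Head.aRD Head.aDC Head.tRDC Head.aSC Head.tRSC Head.gG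
  Head.mCG Head.mDG Head.tDCG Head.mRG Head.tRDG Head.mSG Head.tSCG Head.hp

variable {S : Type u} [CommRing S] [Algebra R S] {N : Type u} [AddCommGroup N] [Module S N]

/-- The pointed data of a first step. -/
structure HeadAt (H : Head R S N p) (q : Ideal S) : Type u where
  /-- the point of the smooth algebra -/
  y : Ideal H.D
  /-- the point of the ring carrying the module -/
  z : Ideal H.C
  [hy : y.IsPrime] [hz : z.IsPrime] [yOver : y.LiesOver p] [zOver : z.LiesOver y]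
  pureTrans : FlatCA.PurelyTranscendental p y
  uniq : ∀ (Q : Ideal H.C) [Q.IsPrime], Q.LiesOver y → Q = z
  q0 : z.comap (algebraMap S H.C) = q
  /-- the relative dimension -/
  d : ℕ
  relDim : FlatCA.SmoothRelDim d R H.D
  locDim : ∃ (x : PrimeSpectrum (p.Fiber H.D)) (hx : x ∈ Module.support (p.Fiber H.D) (FlatCA.fiberMod p H.D H.G)),
    x.asIdeal = FlatCA.fiberIdeal p y ∧
    FlatMor.localDim (Module.support (p.Fiber H.D) (FlatCA.fiberMod p H.D H.G)) ⟨x, hx⟩ = d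

attribute [instance] HeadAt.hy HeadAt.hz HeadAt.yOver HeadAt.zOver

/-- A dévissage in one step. -/
noncomputable def single (H : Head R S N p) (h : Function.Surjective H.α) : FlatCA.CompleteDevissage R S N p where
  n := 1
  pos := Nat.one_pos
  A := fun _ => H.C
  B := fun _ => H.D
  M := fun _ => H.G
  r := fun _ => H.r
  α := fun _ => H.α
  surjSA := H.surjSC
  fpSA := H.fpSC
  surjBA' := fun i hi => absurd hi (Nat.not_lt.2 (Nat.le_add_left 1 i))
  fpBA' := fun i hi => absurd hi (Nat.not_lt.2 (Nat.le_add_left 1 i))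
  finiteBA := fun _ _ => H.finiteDC
  smooth := fun _ _ => H.smooth
  geomIrred := fun _ _ => H.geomIrred
  finiteM := fun _ _ => H.finiteG
  isoN := H.isoN
  isoCoker := fun i hi => absurd hi (Nat.not_lt.2 (Nat.le_add_left 1 i))
  fibreIso := fun _ _ => H.fibreIso
  cokerLast := h

/-- A dévissage in one step at a point. -/
noncomputable def singleAt (H : Head R S N p) (h : Function.Surjective H.α) (q : Ideal S) [q.IsPrime] (A : HeadAt H q) :
    FlatCA.CompleteDevissageAt R S N p q (single H h) where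
  qB := fun _ => A.y
  qA := fun _ => A.z
  hqB := fun _ => A.hy
  hqA := fun _ => A.hz
  overB := fun _ => A.yOver
  overA := fun _ => A.zOver
  pureTrans := fun _ _ => A.pureTrans
  uniq := fun _ _ => A.uniq
  q0 := A.q0
  qStep := fun i hi => absurd hi (Nat.not_lt.2 (Nat.le_add_left 1 i))
  d := fun _ => A.d
  relDim := fun _ _ => A.relDim
  locDim := fun _ _ => A.locDim

/-- A dévissage in one step with prescribed unused ranks. -/
noncomputable def single' (H : Head R S N p) (h : Function.Surjective H.α) (rs : ℕ → ℕ) :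
    FlatCA.CompleteDevissage R S N p where
  n := 1
  pos := Nat.one_pos
  A := fun _ => H.C
  B := fun _ => H.D
  M := fun _ => H.G
  r := fun | 0 => H.r | i + 1 => rs i
  α := fun | 0 => H.α | _ + 1 => 0
  surjSA := H.surjSC
  fpSA := H.fpSC
  surjBA' := fun i hi => absurd hi (Nat.not_lt.2 (Nat.le_add_left 1 i))
  fpBA' := fun i hi => absurd hi (Nat.not_lt.2 (Nat.le_add_left 1 i))
  finiteBA := fun _ _ => H.finiteDC
  smooth := fun _ _ => H.smooth
  geomIrred := fun _ _ => H.geomIrred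
  finiteM := fun _ _ => H.finiteG
  isoN := H.isoN
  isoCoker := fun i hi => absurd hi (Nat.not_lt.2 (Nat.le_add_left 1 i))
  fibreIso := fun | 0, _ => H.fibreIso | i + 1, hi => absurd hi (Nat.not_lt.2 (Nat.le_add_left 1 i))
  cokerLast := h

/-- A pointed dévissage in one step with prescribed unused numbers. -/
noncomputable def singleAt' (H : Head R S N p) (h : Function.Surjective H.α) (rs : ℕ → ℕ) (q : Ideal S) [q.IsPrime]
    (A : HeadAt H q) (ds : ℕ → ℕ) : FlatCA.CompleteDevissageAt R S N p q (single' H h rs) where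
  qB := fun _ => A.y
  qA := fun _ => A.z
  hqB := fun _ => A.hy
  hqA := fun _ => A.hz
  overB := fun _ => A.yOver
  overA := fun _ => A.zOver
  pureTrans := fun _ _ => A.pureTrans
  uniq := fun _ _ => A.uniq
  q0 := A.q0
  qStep := fun i hi => absurd hi (Nat.not_lt.2 (Nat.le_add_left 1 i))
  d := fun | 0 => A.d | i + 1 => ds i
  relDim := fun | 0, _ => A.relDim | i + 1, hi => absurd hi (Nat.not_lt.2 (Nat.le_add_left 1 i))
  locDim := fun | 0, _ => A.locDim | i + 1, hi => absurd hi (Nat.not_lt.2 (Nat.le_add_left 1 i))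

variable (H : Head R S N p) {T : Type u} [AddCommGroup T] [Module H.D T]
  (e : (H.G ⧸ LinearMap.range H.α) ≃ₗ[H.D] T) (𝒟 : FlatCA.CompleteDevissage R H.D T p)

/-- A new first step in front of a dévissage of the cokernel. -/
noncomputable def cons : FlatCA.CompleteDevissage R S N p where
  n := 𝒟.n + 1
  pos := Nat.succ_pos _
  A := consT H.C 𝒟.A
  B := consT H.D 𝒟.B
  M := consT H.G 𝒟.M
  r := fun | 0 => H.r | i + 1 => 𝒟.r i
  cA := fun | 0 => H.cC | i + 1 => 𝒟.cA i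
  cB := fun | 0 => H.cD | i + 1 => 𝒟.cB i
  aRA := fun | 0 => H.aRC | i + 1 => 𝒟.aRA i
  aRB := fun | 0 => H.aRD | i + 1 => 𝒟.aRB i
  aBA := fun | 0 => H.aDC | i + 1 => 𝒟.aBA i
  tRBA := fun | 0 => H.tRDC | i + 1 => 𝒟.tRBA i
  aSA := H.aSC
  tRSA := H.tRSC
  aBA' := fun | 0 => 𝒟.aSA | i + 1 => 𝒟.aBA' i
  tRBA' := fun | 0 => 𝒟.tRSA | i + 1 => 𝒟.tRBA' i
  gM := fun | 0 => H.gG | i + 1 => 𝒟.gM i
  mAM := fun | 0 => H.mCG | i + 1 => 𝒟.mAM i
  mBM := fun | 0 => H.mDG | i + 1 => 𝒟.mBM i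
  tBAM := fun | 0 => H.tDCG | i + 1 => 𝒟.tBAM i
  mRM := fun | 0 => H.mRG | i + 1 => 𝒟.mRM i
  tRBM := fun | 0 => H.tRDG | i + 1 => 𝒟.tRBM i
  mSM := H.mSG
  tSAM := H.tSCG
  mB'M := fun | 0 => 𝒟.mSM | i + 1 => 𝒟.mB'M i
  tB'AM := fun | 0 => 𝒟.tSAM | i + 1 => 𝒟.tB'AM i
  hp := fun | 0 => H.hp | i + 1 => 𝒟.hp i
  α := fun | 0 => H.α | i + 1 => 𝒟.α i
  surjSA := H.surjSC
  fpSA := H.fpSC
  surjBA' := fun | 0, _ => 𝒟.surjSA | i + 1, h => 𝒟.surjBA' i (Nat.succ_lt_succ_iff.1 h)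
  fpBA' := fun | 0, _ => 𝒟.fpSA | i + 1, h => 𝒟.fpBA' i (Nat.succ_lt_succ_iff.1 h)
  finiteBA := fun | 0, _ => H.finiteDC | i + 1, h => 𝒟.finiteBA i (Nat.succ_lt_succ_iff.1 h)
  smooth := fun | 0, _ => H.smooth | i + 1, h => 𝒟.smooth i (Nat.succ_lt_succ_iff.1 h)
  geomIrred := fun | 0, _ => H.geomIrred | i + 1, h => 𝒟.geomIrred i (Nat.succ_lt_succ_iff.1 h)
  finiteM := fun | 0, _ => H.finiteG | i + 1, h => 𝒟.finiteM i (Nat.succ_lt_succ_iff.1 h)
  isoN := H.isoN
  isoCoker := fun | 0, _ => e.trans 𝒟.isoN | i + 1, h => 𝒟.isoCoker i (Nat.succ_lt_succ_iff.1 h)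
  fibreIso := fun | 0, _ => H.fibreIso | i + 1, h => 𝒟.fibreIso i (Nat.succ_lt_succ_iff.1 h)
  cokerLast := by
    show Function.Surjective _
    obtain ⟨k, hk⟩ := Nat.exists_eq_succ_of_ne_zero (Nat.ne_of_gt 𝒟.pos)
    have h := 𝒟.cokerLast
    rw [Nat.add_sub_cancel]
    rw [hk] at h ⊢
    exact h

/-- The pointed version. -/
noncomputable def consAt (q : Ideal S) [q.IsPrime] (A : HeadAt H q)
    (𝒜 : FlatCA.CompleteDevissageAt R H.D T p A.y 𝒟) : FlatCA.CompleteDevissageAt R S N p q (cons H e 𝒟) where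
  qB := fun | 0 => A.y | i + 1 => 𝒜.qB i
  qA := fun | 0 => A.z | i + 1 => 𝒜.qA i
  hqB := fun | 0 => A.hy | i + 1 => 𝒜.hqB i
  hqA := fun | 0 => A.hz | i + 1 => 𝒜.hqA i
  overB := fun | 0 => A.yOver | i + 1 => 𝒜.overB i
  overA := fun | 0 => A.zOver | i + 1 => 𝒜.overA i
  pureTrans := fun | 0, _ => A.pureTrans | i + 1, h => 𝒜.pureTrans i (Nat.succ_lt_succ_iff.1 h)
  uniq := fun | 0, _ => A.uniq | i + 1, h => 𝒜.uniq i (Nat.succ_lt_succ_iff.1 h)
  q0 := A.q0
  qStep := fun | 0, _ => 𝒜.q0 | i + 1, h => 𝒜.qStep i (Nat.succ_lt_succ_iff.1 h)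
  d := fun | 0 => A.d | i + 1 => 𝒜.d i
  relDim := fun | 0, _ => A.relDim | i + 1, h => 𝒜.relDim i (Nat.succ_lt_succ_iff.1 h)
  locDim := fun | 0, _ => A.locDim | i + 1, h => 𝒜.locDim i (Nat.succ_lt_succ_iff.1 h)

section Split

attribute [local instance] FlatCA.CompleteDevissageAt.hqB FlatCA.CompleteDevissageAt.hqA

variable (𝒟 : FlatCA.CompleteDevissage R S N p)

/-- The first step of a dévissage. -/
noncomputable def head : Head R S N p where
  C := 𝒟.A 0
  D := 𝒟.B 0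
  G := 𝒟.M 0
  r := 𝒟.r 0
  α := 𝒟.α 0
  surjSC := 𝒟.surjSA
  fpSC := 𝒟.fpSA
  finiteDC := 𝒟.finiteBA 0 𝒟.pos
  smooth := 𝒟.smooth 0 𝒟.pos
  geomIrred := 𝒟.geomIrred 0 𝒟.pos
  finiteG := 𝒟.finiteM 0 𝒟.pos
  isoN := 𝒟.isoN
  fibreIso := 𝒟.fibreIso 0 𝒟.pos

/-- The steps after the first one. -/
noncomputable def tail (h : 1 < 𝒟.n) : FlatCA.CompleteDevissage R (𝒟.B 0) (𝒟.M 1) p where
  n := 𝒟.n - 1
  pos := Nat.sub_pos_of_lt h
  A := fun i => 𝒟.A (i + 1)
  B := fun i => 𝒟.B (i + 1)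
  M := fun i => 𝒟.M (i + 1)
  r := fun i => 𝒟.r (i + 1)
  aSA := 𝒟.aBA' 0
  tRSA := 𝒟.tRBA' 0
  aBA' := fun i => 𝒟.aBA' (i + 1)
  tRBA' := fun i => 𝒟.tRBA' (i + 1)
  mSM := 𝒟.mB'M 0
  tSAM := 𝒟.tB'AM 0
  mB'M := fun i => 𝒟.mB'M (i + 1)
  tB'AM := fun i => 𝒟.tB'AM (i + 1)
  hp := fun i => 𝒟.hp (i + 1)
  α := fun i => 𝒟.α (i + 1)
  surjSA := 𝒟.surjBA' 0 h
  fpSA := 𝒟.fpBA' 0 h
  surjBA' := fun i hi => 𝒟.surjBA' (i + 1) (by omega)
  fpBA' := fun i hi => 𝒟.fpBA' (i + 1) (by omega)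
  finiteBA := fun i hi => 𝒟.finiteBA (i + 1) (by omega)
  smooth := fun i hi => 𝒟.smooth (i + 1) (by omega)
  geomIrred := fun i hi => 𝒟.geomIrred (i + 1) (by omega)
  finiteM := fun i hi => 𝒟.finiteM (i + 1) (by omega)
  isoN := LinearEquiv.refl _ _
  isoCoker := fun i hi => 𝒟.isoCoker (i + 1) (by omega)
  fibreIso := fun i hi => 𝒟.fibreIso (i + 1) (by omega)
  cokerLast := by
    have h' := 𝒟.cokerLast
    rw [show 𝒟.n - 1 = 𝒟.n - 1 - 1 + 1 by omega] at h'
    exact h'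

variable {q : Ideal S} [q.IsPrime] {𝒟}

/-- The pointed first step. -/
noncomputable def headAt (𝒜 : FlatCA.CompleteDevissageAt R S N p q 𝒟) : HeadAt (head 𝒟) q where
  y := 𝒜.qB 0
  z := 𝒜.qA 0
  hy := 𝒜.hqB 0
  hz := 𝒜.hqA 0
  yOver := 𝒜.overB 0
  zOver := 𝒜.overA 0
  pureTrans := 𝒜.pureTrans 0 𝒟.pos
  uniq := 𝒜.uniq 0 𝒟.pos
  q0 := 𝒜.q0
  d := 𝒜.d 0
  relDim := 𝒜.relDim 0 𝒟.pos
  locDim := 𝒜.locDim 0 𝒟.pos

/-- The pointed later steps. -/
noncomputable def tailAt (𝒜 : FlatCA.CompleteDevissageAt R S N p q 𝒟) (h : 1 < 𝒟.n) :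
    FlatCA.CompleteDevissageAt R (𝒟.B 0) (𝒟.M 1) p (𝒜.qB 0) (tail 𝒟 h) where
  qB := fun i => 𝒜.qB (i + 1)
  qA := fun i => 𝒜.qA (i + 1)
  hqB := fun i => 𝒜.hqB (i + 1)
  hqA := fun i => 𝒜.hqA (i + 1)
  overB := fun i => 𝒜.overB (i + 1)
  overA := fun i => 𝒜.overA (i + 1)
  pureTrans := fun i hi => 𝒜.pureTrans (i + 1) (by simp only [tail] at hi; omega)
  uniq := fun i hi => 𝒜.uniq (i + 1) (by simp only [tail] at hi; omega)
  q0 := 𝒜.qStep 0 h
  qStep := fun i hi => 𝒜.qStep (i + 1) (by simp only [tail] at hi; omega)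
  d := fun i => 𝒜.d (i + 1)
  relDim := fun i hi => 𝒜.relDim (i + 1) (by simp only [tail] at hi; omega)
  locDim := fun i hi => 𝒜.locDim (i + 1) (by simp only [tail] at hi; omega)

end Split

end Groth.Agent.Dev4
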