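import Groth.Agent.Lib.Dev4.GoodOpen

/-!
# Flatness and finite presentation near a point after étale localization
-/

set_option autoImplicit false

universe u

open TensorProduct IsLocalRing

set_option backward.isDefEq.respectTransparency.types false

attribute [local instance] Algebra.TensorProduct.rightAlgebra

namespace Groth.Agent.Dev4

/-- The point over `q` in the base change to the local ring is unique. -/
theorem eq_of_liesOver_local {R S R' SA : Type u} [CommRing R] [CommRing S] [Algebra R S] [CommRing R'] [Algebra R R']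
    [CommRing SA] (p : Ideal R) [p.IsPrime] {p' : Ideal R'} [p'.IsPrime] (hR : FlatCA.IsEtaleNhd R R' p p')
    [Algebra R SA] [Algebra S SA] [Algebra (Localization.AtPrime p') SA]
    [IsScalarTower R S SA] [IsScalarTower R (Localization.AtPrime p') SA]
    [Algebra.IsPushout R S (Localization.AtPrime p') SA] (q : Ideal S) [q.IsPrime] [q.LiesOver p]
    (Q Q' : Ideal SA) [Q.IsPrime] [Q'.IsPrime] [Q.LiesOver q] [Q'.LiesOver q]
    [Q.LiesOver (maximalIdeal (Localization.AtPrime p'))] [Q'.LiesOver (maximalIdeal (Localization.AtPrime p'))] :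
    Q = Q' := by
  obtain ⟨-, hl, hκ⟩ := id hR
  haveI := hl
  let L := Localization.AtPrime p'
  haveI hm : (maximalIdeal L).LiesOver p' := ⟨(Localization.AtPrime.comap_maximalIdeal (I := p')).symm⟩
  haveI hmp : (maximalIdeal L).LiesOver p := Ideal.LiesOver.trans (maximalIdeal L) p' p
  have hκ' : Function.Bijective (Ideal.ResidueField.mapₐ p (maximalIdeal L) (Algebra.ofId R L) hmp.over) :=
    bijective_residue_comp p p' (maximalIdeal L) hκ (bijective_residue_atPrime p')
  haveI : Algebra.IsPushout R L S SA := Algebra.IsPushout.symm inferInstance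
  refine prime_ext (R := R) (R' := L) (B := S) hκ' Q Q' ?_
  rw [show Q.comap (algebraMap S SA) = q from (‹Q.LiesOver q›).over.symm,
    show Q'.comap (algebraMap S SA) = q from (‹Q'.LiesOver q›).over.symm]

/-- Finite presentation and flatness near the point. -/
theorem exists_flat_fp_near {R S : Type u} [CommRing R] [CommRing S] [Algebra R S] [Algebra.FinitePresentation R S]
    (N : Type u) [AddCommGroup N] [Module S N] [Module R N] [IsScalarTower R S N] [Module.Finite S N]
    (p : Ideal R) [p.IsPrime] (q : Ideal S) [q.IsPrime] [q.LiesOver p] (hflat : FlatCA.FlatAt R q N) :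
    ∃ (R' : Type u) (_ : CommRing R') (_ : Algebra R R') (p' : Ideal R') (_ : p'.IsPrime), FlatCA.IsEtaleNhd R R' p p' ∧
      ∀ (SA NA : Type u) [CommRing SA] [Algebra R SA] [Algebra S SA] [Algebra (Localization.AtPrime p') SA]
        [IsScalarTower R S SA] [IsScalarTower R (Localization.AtPrime p') SA]
        [Algebra.IsPushout R S (Localization.AtPrime p') SA]
        [AddCommGroup NA] [Module SA NA] [Module S NA] [IsScalarTower S SA NA]
        [Module (Localization.AtPrime p') NA] [IsScalarTower (Localization.AtPrime p') SA NA]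
        (f : N →ₗ[S] NA), IsBaseChange SA f →
        ∃ g : SA, (∀ (Q : Ideal SA) [Q.IsPrime], Q.LiesOver q → Q.LiesOver (maximalIdeal (Localization.AtPrime p')) → g ∉ Q) ∧
          Module.FinitePresentation (Localization.Away g) (LocalizedModule (Submonoid.powers g) NA) ∧
          Module.Flat (Localization.AtPrime p') (LocalizedModule (Submonoid.powers g) NA) := by
  obtain ⟨R', _, _, p', _, hR, h⟩ := exists_free_local N p q hflat
  refine ⟨R', inferInstance, inferInstance, p', inferInstance, hR, ?_⟩
  intro SA NA _ _ _ _ _ _ _ _ _ _ _ _ _ f hf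
  obtain ⟨C, _, _, _, _, _, _, x', _, hxq, hxm, het, -, -, hfp, hfree⟩ := h SA NA f hf
  haveI := hxq
  haveI := hxm
  haveI := het
  haveI := hfree
  have hfl : Module.Flat (Localization.AtPrime p') (C ⊗[SA] NA) := by
    refine Module.Flat.of_linearEquiv (M := RestrictScalars (Localization.AtPrime p') C (C ⊗[SA] NA))
      ({ RestrictScalars.addEquiv (Localization.AtPrime p') C (C ⊗[SA] NA) with
          map_smul' := fun l x => ?_ } : RestrictScalars (Localization.AtPrime p') C (C ⊗[SA] NA)
            ≃ₗ[Localization.AtPrime p'] C ⊗[SA] NA).symm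
    show RestrictScalars.addEquiv _ C _ (l • x) = l • RestrictScalars.addEquiv _ C _ x
    rw [RestrictScalars.addEquiv_map_smul, algebraMap_smul]
  obtain ⟨g, hg, hflg, hfpg⟩ := exists_good_open NA x' hfl
  refine ⟨g, fun Q _ hQq hQm => ?_, hfpg hfp, hflg⟩
  let Q₀ := x'.comap (algebraMap SA C)
  haveI : x'.LiesOver Q₀ := ⟨rfl⟩
  haveI : Q₀.LiesOver q := ⟨by
    show q = (x'.comap (algebraMap SA C)).comap (algebraMap S SA)
    rw [Ideal.comap_comap, ← IsScalarTower.algebraMap_eq]; exact hxq.over⟩
  haveI : Q₀.LiesOver (maximalIdeal (Localization.AtPrime p')) := ⟨by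
    show _ = (x'.comap (algebraMap SA C)).comap (algebraMap (Localization.AtPrime p') SA)
    rw [Ideal.comap_comap, ← IsScalarTower.algebraMap_eq]; exact hxm.over⟩
  haveI := hQq
  haveI := hQm
  rw [eq_of_liesOver_local p hR q Q Q₀]
  exact hg

/-- Localisations of a module over a quotient. -/
theorem exists_localized_restrict {A B : Type u} [CommRing A] [CommRing B] [Algebra A B] (g : A) (M : Type u)
    [AddCommGroup M] [Module B M] [Module A M] [IsScalarTower A B M] :
    Nonempty (LocalizedModule (Submonoid.powers g) M ≃ₗ[A] LocalizedModule (Submonoid.powers (algebraMap A B g)) M) := by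
  haveI : IsLocalizedModule (Submonoid.powers g)
      ((LocalizedModule.mkLinearMap (Submonoid.powers (algebraMap A B g)) M).restrictScalars A) :=
    IsLocalizedModule.restrictScalars_powers _ _
  exact ⟨IsLocalizedModule.iso (Submonoid.powers g)
    ((LocalizedModule.mkLinearMap (Submonoid.powers (algebraMap A B g)) M).restrictScalars A)⟩

/-- Linearity for a subring acting through the algebra map. -/
theorem exists_equiv_restrict {L A X Y : Type u} [CommRing L] [CommRing A] [Algebra L A] [AddCommGroup X] [AddCommGroup Y]
    [Module A X] [Module A Y] [Module L X] [Module L Y] [IsScalarTower L A X] [IsScalarTower L A Y]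
    (h : Nonempty (X ≃ₗ[A] Y)) : Nonempty (X ≃ₗ[L] Y) :=
  h.map fun e => e.restrictScalars L

/-- A polynomial model of a base change to a local ring. -/
theorem exists_poly_bc {R P S L SA : Type u} [CommRing R] [CommRing P] [CommRing S] [Algebra R P] [Algebra R S] [Algebra P S]
    [IsScalarTower R P S] [CommRing L] [Algebra R L] [CommRing SA] [Algebra R SA] [Algebra S SA] [Algebra L SA]
    [IsScalarTower R S SA] [IsScalarTower R L SA] [Algebra.IsPushout R S L SA]
    {N NA : Type u} [AddCommGroup N] [Module S N] [Module P N] [IsScalarTower P S N]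
    [AddCommGroup NA] [Module SA NA] [Module S NA] [IsScalarTower S SA NA] [Module L NA] [IsScalarTower L SA NA]
    (f : N →ₗ[S] NA) (hf : IsBaseChange SA f) :
    ∃ (PA : Type u) (_ : CommRing PA) (_ : Algebra R PA) (_ : Algebra P PA) (_ : Algebra L PA)
      (_ : IsScalarTower R P PA) (_ : IsScalarTower R L PA) (_ : Algebra.IsPushout R P L PA)
      (_ : Algebra PA SA) (_ : IsScalarTower L PA SA) (_ : Algebra P SA) (_ : IsScalarTower P PA SA)
      (_ : IsScalarTower P S SA) (_ : Algebra.IsPushout P S PA SA)
      (_ : Module PA NA) (_ : IsScalarTower PA SA NA) (_ : Module P NA) (_ : IsScalarTower P PA NA)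
      (_ : IsScalarTower L PA NA) (fP : N →ₗ[P] NA), IsBaseChange PA fP := by
  let PA := P ⊗[R] L
  letI : Algebra P SA := Algebra.compHom SA (algebraMap P S)
  haveI : IsScalarTower P S SA := IsScalarTower.of_algebraMap_eq fun _ => rfl
  haveI : IsScalarTower R P SA := IsScalarTower.of_algebraMap_eq fun r => by
    rw [IsScalarTower.algebraMap_apply P S SA, ← IsScalarTower.algebraMap_apply R P S, ← IsScalarTower.algebraMap_apply]
  let φ : PA →ₐ[R] SA := Algebra.TensorProduct.lift (IsScalarTower.toAlgHom R P SA) (IsScalarTower.toAlgHom R L SA)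
    fun _ _ => mul_comm _ _
  letI : Algebra PA SA := φ.toRingHom.toAlgebra
  haveI : IsScalarTower P PA SA := IsScalarTower.of_algebraMap_eq fun x => by
    show algebraMap P SA x = φ (x ⊗ₜ[R] (1 : L))
    rw [Algebra.TensorProduct.lift_tmul, map_one, mul_one]; rfl
  haveI : IsScalarTower L PA SA := IsScalarTower.of_algebraMap_eq fun x => by
    show algebraMap L SA x = φ ((1 : P) ⊗ₜ[R] x)
    rw [Algebra.TensorProduct.lift_tmul, map_one, one_mul]; rfl
  haveI : IsScalarTower R PA SA := IsScalarTower.of_algebraMap_eq fun r => (φ.commutes r).symm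
  haveI : Algebra.IsPushout R P L PA := inferInstance
  haveI hpo : Algebra.IsPushout P S PA SA :=
    (Algebra.IsPushout.comp_iff (R := R) (S := P) (R' := L) (S' := PA) (T := S) (T' := SA)).1 inferInstance
  letI : Module PA NA := Module.compHom NA (algebraMap PA SA)
  haveI : IsScalarTower PA SA NA := IsScalarTower.of_algebraMap_smul fun _ _ => rfl
  letI : Module P NA := Module.compHom NA (algebraMap P SA)
  haveI : IsScalarTower P SA NA := IsScalarTower.of_algebraMap_smul fun _ _ => rfl
  haveI : IsScalarTower P S NA := IsScalarTower.of_algebraMap_smul fun x m => by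
    rw [← algebraMap_smul SA (algebraMap P S x) m, ← IsScalarTower.algebraMap_apply, algebraMap_smul]
  haveI : IsScalarTower P PA NA := IsScalarTower.of_algebraMap_smul fun x m => by
    rw [← algebraMap_smul SA (algebraMap P PA x) m, ← IsScalarTower.algebraMap_apply, algebraMap_smul]
  haveI : IsScalarTower L PA NA := IsScalarTower.of_algebraMap_smul fun x m => by
    rw [← algebraMap_smul SA (algebraMap L PA x) m, ← IsScalarTower.algebraMap_apply, algebraMap_smul]
  haveI : Algebra.IsPushout P PA S SA := Algebra.IsPushout.symm inferInstance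
  exact ⟨PA, inferInstance, inferInstance, inferInstance, inferInstance, inferInstance, inferInstance, inferInstance,
    inferInstance, inferInstance, inferInstance, inferInstance, inferInstance, hpo, inferInstance, inferInstance,
    inferInstance, inferInstance, inferInstance, f.restrictScalars P,
    isBaseChange_restrict (B' := PA) (A' := SA) f hf⟩

end Groth.Agent.Dev4
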