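import Groth.Agent.Lib.Dev4.CoverPieces
import Groth.Agent.Lib.Dev4.Free
import Groth.Agent.Lib.Dev4.Glue
import Groth.Agent.S1252
import Groth.Prelude.Def_FlatCA

/-!
# Covering a fibre by devissage pieces
-/

set_option autoImplicit false
set_option maxSynthPendingDepth 3

universe u

open TensorProduct AlgebraicGeometry CategoryTheory

set_option backward.isDefEq.respectTransparency.types false

attribute [local instance] Algebra.TensorProduct.rightAlgebra

namespace Groth.Agent.Dev4

theorem completeDevissage_of_subsingleton {R C N : Type u} [CommRing R] [CommRing C] [Algebra R C] [AddCommGroup N]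
    [Module C N] [Subsingleton N] (rr : Ideal R) [rr.IsPrime] : Nonempty (FlatCA.CompleteDevissage R C N rr) := by
  haveI : Subsingleton (C ⧸ (⊤ : Ideal C)) := Ideal.Quotient.subsingleton_iff.2 rfl
  haveI : (rr.map (algebraMap R R)).IsPrime := by rw [show algebraMap R R = RingHom.id R from rfl, Ideal.map_id]; infer_instance
  letI mC : Module (C ⧸ (⊤ : Ideal C)) PUnit.{u + 1} :=
    { smul := fun _ _ => PUnit.unit
      one_smul := fun _ => rfl
      mul_smul := fun _ _ _ => rfl
      smul_zero := fun _ => rfl
      smul_add := fun _ _ _ => rfl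
      add_smul := fun _ _ _ => rfl
      zero_smul := fun _ => rfl }
  letI mR : Module R PUnit.{u + 1} :=
    { smul := fun _ _ => PUnit.unit
      one_smul := fun _ => rfl
      mul_smul := fun _ _ _ => rfl
      smul_zero := fun _ => rfl
      smul_add := fun _ _ _ => rfl
      add_smul := fun _ _ _ => rfl
      zero_smul := fun _ => rfl }
  letI mS : Module C PUnit.{u + 1} :=
    { smul := fun _ _ => PUnit.unit
      one_smul := fun _ => rfl
      mul_smul := fun _ _ _ => rfl
      smul_zero := fun _ => rfl
      smul_add := fun _ _ _ => rfl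
      add_smul := fun _ _ _ => rfl
      zero_smul := fun _ => rfl }
  haveI : IsScalarTower R (C ⧸ (⊤ : Ideal C)) PUnit.{u + 1} := ⟨fun _ _ _ => rfl⟩
  haveI : IsScalarTower C (C ⧸ (⊤ : Ideal C)) PUnit.{u + 1} := ⟨fun _ _ _ => rfl⟩
  haveI : IsScalarTower R R PUnit.{u + 1} := ⟨fun _ _ _ => rfl⟩
  exact ⟨{
    n := 1
    pos := Nat.one_pos
    A := fun _ => C ⧸ (⊤ : Ideal C)
    B := fun _ => R
    M := fun _ => PUnit.{u + 1}
    r := fun _ => 0
    α := fun _ => 0
    surjSA := Ideal.Quotient.mk_surjective
    fpSA := Algebra.FinitePresentation.quotient ⟨{1}, by simp⟩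
    surjBA' := fun i hi => absurd hi (by omega)
    fpBA' := fun i hi => absurd hi (by omega)
    finiteBA := fun _ _ => ⟨⟨∅, Subsingleton.elim _ _⟩⟩
    smooth := fun _ _ => inferInstance
    geomIrred := fun _ _ => by
      show GeometricallyIrreducible (Spec.map (CommRingCat.ofHom (algebraMap R R)))
      rw [show CommRingCat.ofHom (algebraMap R R) = 𝟙 (CommRingCat.of R) from rfl, Spec.map_id]
      refine ⟨fun K _ k Z fst snd hZ => ?_⟩
      haveI : IsIso snd := hZ.isIso_snd_of_isIso
      haveI : PreirreducibleSpace Z := (asIso snd).hom.homeomorph.isOpenEmbedding.preirreducibleSpace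
      haveI : Nonempty Z := ⟨(inv snd) (IsLocalRing.closedPoint K)⟩
      exact ⟨inferInstance⟩
    finiteM := fun _ _ => ⟨⟨∅, Subsingleton.elim _ _⟩⟩
    isoN :=
      { toFun := fun _ => PUnit.unit
        invFun := fun _ => 0
        left_inv := fun _ => Subsingleton.elim _ _
        right_inv := fun _ => rfl
        map_add' := fun _ _ => rfl
        map_smul' := fun _ _ => rfl }
    isoCoker := fun i hi => absurd hi (by omega)
    fibreIso := fun _ _ => by
      haveI : Subsingleton ((rr.map (algebraMap R R)).ResidueField ⊗[R] (Fin 0 → R)) :=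
        subsingleton_of_forall_eq 0 fun z => by
          induction z using TensorProduct.induction_on with
          | zero => rfl
          | add a b ha hb => rw [ha, hb, add_zero]
          | tmul a v => rw [Subsingleton.elim v 0, TensorProduct.tmul_zero]
      haveI : Subsingleton ((rr.map (algebraMap R R)).ResidueField ⊗[R] PUnit.{u + 1}) :=
        subsingleton_of_forall_eq 0 fun z => by
          induction z using TensorProduct.induction_on with
          | zero => rfl
          | add a b ha hb => rw [ha, hb, add_zero]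
          | tmul a v => rw [Subsingleton.elim v 0, TensorProduct.tmul_zero]
      exact ⟨Function.injective_of_subsingleton _, fun y => ⟨0, Subsingleton.elim _ _⟩⟩
    cokerLast := fun x => ⟨0, Subsingleton.elim _ _⟩ }⟩

/-- An étale piece at a point of the fibre on which the module has a devissage. -/
theorem exists_devissage_piece {A B : Type u} [CommRing A] [CommRing B] [Algebra A B] [Algebra.FiniteType A B]
    (N : Type u) [AddCommGroup N] [Module B N] [Module.Finite B N] (p : Ideal A) [p.IsPrime]
    (q : Ideal B) [q.IsPrime] [q.LiesOver p] :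
    ∃ (R' S' : Type u) (_ : CommRing R') (_ : CommRing S') (_ : Algebra A R') (_ : Algebra B S') (_ : Algebra R' S')
      (_ : Algebra A S') (_ : IsScalarTower A R' S') (_ : IsScalarTower A B S')
      (p' : Ideal R') (q' : Ideal S') (_ : p'.IsPrime) (_ : q'.IsPrime),
      FlatCA.IsEtaleNhd A R' p p' ∧ FlatCA.IsEtaleNhd B S' q q' ∧ q'.LiesOver p' ∧
      (Subsingleton (S' ⊗[B] N) ∨ FlatCA.HasCompleteDevissageAt R' S' (S' ⊗[B] N) p' q') := by
  classical
  by_cases hq : (⟨q, ‹_›⟩ : PrimeSpectrum B) ∈ Module.support B N
  · letI : Module A N := Module.compHom N (algebraMap A B)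
    haveI : IsScalarTower A B N := IsScalarTower.of_algebraMap_smul fun _ _ => rfl
    obtain ⟨R', S', i1, i2, i3, i4, i5, i6, i7, i8, p', q', i9, i10, h1, h2, h3, h4⟩ :=
      S1252.result (R := A) (S := B) N p q (exists_fibre_support_point N p q hq)
    exact ⟨R', S', i1, i2, i3, i4, i5, i6, i7, i8, p', q', i9, i10, h1, h2, h3,
      Or.inr (h4 (S' ⊗[B] N) _ (TensorProduct.isBaseChange B N S'))⟩
  · rw [Module.support_eq_zeroLocus, PrimeSpectrum.mem_zeroLocus, Set.not_subset] at hq
    obtain ⟨g, hg, hgq⟩ := hq
    obtain ⟨_, _, p', _, q', _, hqp', _, hR, hS⟩ :=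
      exists_piece p q 1 g (fun h => ‹p.IsPrime›.ne_top ((Ideal.eq_top_iff_one p).2 h)) hgq
        (by rw [map_one]; exact one_dvd g)
    haveI : Subsingleton (Localization.Away g ⊗[B] N) := subsingleton_of_forall_eq 0 fun z => by
      induction z using TensorProduct.induction_on with
      | zero => rfl
      | add a b ha hb => rw [ha, hb, add_zero]
      | tmul c n =>
        obtain ⟨v, hv⟩ := IsLocalization.Away.algebraMap_isUnit (S := Localization.Away g) g
        have : c = g • (c * ((v⁻¹ : (Localization.Away g)ˣ) : Localization.Away g)) := by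
          rw [Algebra.smul_def, ← hv, mul_left_comm, Units.mul_inv, mul_one]
        rw [this, TensorProduct.smul_tmul, Module.mem_annihilator.1 hg n, TensorProduct.tmul_zero]
    exact ⟨Localization.Away (1 : A), Localization.Away g, inferInstance, inferInstance, inferInstance, inferInstance,
      inferInstance, inferInstance, inferInstance, inferInstance, p', q', inferInstance, inferInstance, hR, hS, hqp',
      Or.inl inferInstance⟩

/-- A devissage piece moved to a refinement. -/
theorem exists_devissage_moved {A B R' S' R'' T : Type u} [CommRing A] [CommRing B] [CommRing R'] [CommRing S']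
    [CommRing R''] [CommRing T] [Algebra B S'] [Algebra R' S'] [Algebra R' R''] [Algebra R'' T]
    [Algebra S' T] [Algebra R' T] [Algebra B T] [IsScalarTower R' R'' T] [IsScalarTower R' S' T] [IsScalarTower B S' T]
    [Algebra.IsPushout R' R'' S' T] (N : Type u) [AddCommGroup N] [Module B N]
    (p' : Ideal R') [p'.IsPrime] (q' : Ideal S') [q'.IsPrime] [q'.LiesOver p'] (p'' : Ideal R'') [p''.IsPrime]
    [hp : p''.LiesOver p'] (hκ : Function.Bijective (Ideal.ResidueField.mapₐ p' p'' (Algebra.ofId R' R'') hp.over))
    (h : Subsingleton (S' ⊗[B] N) ∨ FlatCA.HasCompleteDevissageAt R' S' (S' ⊗[B] N) p' q') :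
    Nonempty (FlatCA.CompleteDevissage R'' T (T ⊗[B] N) p'') := by
  let e : T ⊗[S'] (S' ⊗[B] N) ≃ₗ[T] T ⊗[B] N := AlgebraTensorModule.cancelBaseChange B S' T T N
  rcases h with hs | hcd
  · haveI : Subsingleton (T ⊗[B] N) := subsingleton_of_forall_eq 0 fun z => by
      obtain ⟨w, rfl⟩ := e.surjective z
      induction w using TensorProduct.induction_on with
      | zero => rw [map_zero]
      | add a b ha hb => rw [map_add, ha, hb, add_zero]
      | tmul a v => rw [Subsingleton.elim v 0, TensorProduct.tmul_zero, map_zero]
    exact completeDevissage_of_subsingleton p''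
  · obtain ⟨Q, hQ, hQp, hQq⟩ := exists_prime_over (R := R') (R' := R'') (B := S') (B' := T) hκ q'
    obtain ⟨D, -⟩ := hasCDA_congr (hasCDA_tensor hcd R'' p'' hκ T Q) e.symm
    exact ⟨D⟩

end Groth.Agent.Dev4
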