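import Groth.Agent.S1208
import Groth.Agent.Lib.FlatH4.FlatLocusFP
import Groth.Agent.Lib.RG4.LocFlat
import Groth.Agent.Lib.Dev4.FlatAtTransfer
import Mathlib.Algebra.Module.LocalizedModule.Exact
import Mathlib.RingTheory.Finiteness.Finsupp

/-!
# Flat modules which are finitely presented over a dense open of the base
-/

set_option autoImplicit false
set_option maxSynthPendingDepth 3

universe u

open TensorProduct

namespace Groth.Agent.Dev4

/-- The kernel is finitely generated up to a localisation. -/
theorem exists_fg_ker_loc {S : Type u} [CommRing S] {P N : Type u} [AddCommGroup P] [Module S P] [Module.Finite S P]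
    [AddCommGroup N] [Module S N] (π : P →ₗ[S] N) (hπ : Function.Surjective π) (T : Submonoid S)
    (h : Module.FinitePresentation (Localization T) (LocalizedModule T N)) :
    ∃ K₀ : Submodule S P, K₀.FG ∧ K₀ ≤ LinearMap.ker π ∧ ∀ x, π x = 0 → ∃ s ∈ T, s • x ∈ K₀ := by
  classical
  haveI := h
  haveI : Module.Finite (Localization T) (LocalizedModule T P) :=
    Module.Finite.of_isLocalizedModule T (LocalizedModule.mkLinearMap T P)
  let πT := LocalizedModule.map T π
  obtain ⟨G, hG⟩ := Module.FinitePresentation.fg_ker πT (LocalizedModule.map_surjective T π hπ)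
  have hrep : ∀ z : G, ∃ (x : P) (t : T), π x = 0 ∧ z.1 = LocalizedModule.mk x t := by
    rintro ⟨z, hz⟩
    induction z using LocalizedModule.induction_on with
    | h x t =>
      have hk : LocalizedModule.mk x t ∈ LinearMap.ker πT := hG.le (Submodule.subset_span hz)
      rw [LinearMap.mem_ker, LocalizedModule.map_mk, ← LocalizedModule.zero_mk t, LocalizedModule.mk_eq] at hk
      obtain ⟨u, hu⟩ := hk
      simp only [Submonoid.smul_def, smul_zero, smul_smul] at hu
      refine ⟨((u : S) * (t : S)) • x, u * t * t, by rw [map_smul]; exact hu, ?_⟩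
      rw [LocalizedModule.mk_eq]
      refine ⟨1, ?_⟩
      simp only [one_smul, Submonoid.smul_def, Submonoid.coe_mul, smul_smul]
      ring_nf
  choose x t hx hxt using hrep
  let K₀ := Submodule.span S (Set.range x)
  refine ⟨K₀, Submodule.fg_span (Set.finite_range x), Submodule.span_le.2 (by rintro _ ⟨z, rfl⟩; exact hx z),
    fun v hv => ?_⟩
  let loc := Submodule.localized' (Localization T) T (LocalizedModule.mkLinearMap T P) K₀
  have hle : LinearMap.ker πT ≤ loc := by
    rw [← hG, Submodule.span_le]
    intro z hz
    rw [show z = LocalizedModule.mk (x ⟨z, hz⟩) (t ⟨z, hz⟩) from hxt ⟨z, hz⟩]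
    exact ⟨x ⟨z, hz⟩, Submodule.subset_span ⟨_, rfl⟩, t ⟨z, hz⟩, (IsLocalizedModule.mk_eq_mk' _ _).symm⟩
  obtain ⟨m, hm, s, hs⟩ := hle (show LocalizedModule.mk v (1 : T) ∈ LinearMap.ker πT by
    rw [LinearMap.mem_ker, LocalizedModule.map_mk, hv, LocalizedModule.zero_mk])
  rw [← IsLocalizedModule.mk_eq_mk', LocalizedModule.mk_eq] at hs
  obtain ⟨w, hw⟩ := hs
  simp only [Submonoid.smul_def, OneMemClass.coe_one, one_smul, smul_smul] at hw
  exact ⟨(w : S) * (s : S), T.mul_mem w.2 s.2, hw ▸ K₀.smul_mem _ hm⟩

/-- On a flat module only zero is killed by powers of all members of a jointly faithful family. -/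
theorem eq_zero_of_forall_pow_smul {A X : Type u} [CommRing A] [AddCommGroup X] [Module A X] [Module.Flat A X]
    {n : ℕ} (f : Fin n → A) (hf : ∀ a : A, (∀ i, ∃ k : ℕ, f i ^ k * a = 0) → a = 0) (z : X)
    (hz : ∀ i, ∃ k : ℕ, f i ^ k • z = 0) : z = 0 := by
  classical
  choose k hk using hz
  let φ : A →ₗ[A] (Fin n → A) := LinearMap.pi fun i => f i ^ k i • LinearMap.id
  have hφ : Function.Injective φ := (injective_iff_map_eq_zero _).2 fun a ha =>
    hf a fun i => ⟨k i, congrFun ha i⟩
  have h1 : φ.lTensor X (z ⊗ₜ[A] (1 : A)) = 0 := by
    apply (TensorProduct.piScalarRight A A X (Fin n)).injective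
    ext i
    simp [φ, hk]
  have := congrArg (TensorProduct.rid A X)
    (Module.Flat.lTensor_preserves_injective_linearMap φ hφ (h1.trans (map_zero _).symm))
  simpa using this

/-- Injectivity into the product of the localisations. -/
theorem eq_zero_of_dense {A : Type u} [CommRing A] {n : ℕ} (f : Fin n → A)
    (hdense : Function.Injective (RingHom.pi (fun i => algebraMap A (Localization.Away (f i))))) (a : A)
    (ha : ∀ i, ∃ k : ℕ, f i ^ k * a = 0) : a = 0 := by
  apply hdense
  rw [map_zero]
  funext i
  obtain ⟨k, hk⟩ := ha i
  exact (IsLocalization.map_eq_zero_iff (Submonoid.powers (f i)) _ a).2 ⟨⟨_, k, rfl⟩, hk⟩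

/-- A flat finite module finitely presented over a dense open of the base is finitely presented. -/
theorem finitePresentation_of_flat_of_dense {A B : Type u} [CommRing A] [CommRing B] [Algebra A B]
    [Algebra.FinitePresentation A B] (N : Type u) [AddCommGroup N] [Module B N] [Module A N] [IsScalarTower A B N]
    [Module.Finite B N] [Module.Flat A N] {n : ℕ} (f : Fin n → A)
    (hf : ∀ a : A, (∀ i, ∃ k : ℕ, f i ^ k * a = 0) → a = 0)
    (hfp : ∀ i, Module.FinitePresentation (Localization.Away (algebraMap A B (f i)))
      (LocalizedModule (Submonoid.powers (algebraMap A B (f i))) N)) :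
    Module.FinitePresentation B N := by
  classical
  obtain ⟨m, π, hπ⟩ := Module.Finite.exists_fin' B N
  choose K hKfg hKle hK using fun i => exists_fg_ker_loc π hπ (Submonoid.powers (algebraMap A B (f i))) (hfp i)
  have key : ∀ q : PrimeSpectrum B, ∃ h : B, h ∉ q.asIdeal ∧
      Module.FinitePresentation (Localization.Away h) (LocalizedModule (Submonoid.powers h) N) := by
    intro q
    have hflat : FlatCA.FlatAt A q.asIdeal N :=
      RG4.flat_of_isLocalizedModule q.asIdeal.primeCompl (LocalizedModule.mkLinearMap q.asIdeal.primeCompl N)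
    obtain ⟨Kq, hKqfg, hKqle, hKq⟩ := exists_fg_ker_loc π hπ q.asIdeal.primeCompl (S1208.result N q.asIdeal hflat)
    let K₀ : Submodule B (Fin m → B) := Kq ⊔ ⨆ i, K i
    have hK₀le : K₀ ≤ LinearMap.ker π := sup_le hKqle (iSup_le hKle)
    have hK₀fg : K₀.FG := hKqfg.sup (Submodule.fg_iSup _ hKfg)
    let P := (Fin m → B) ⧸ K₀
    haveI : Module.FinitePresentation B P :=
      Module.finitePresentation_of_surjective K₀.mkQ K₀.mkQ_surjective (by rw [Submodule.ker_mkQ]; exact hK₀fg)
    let ψ : P →ₗ[B] N := K₀.liftQ π hK₀le
    have hψ : Function.Surjective ψ := fun y => by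
      obtain ⟨v, rfl⟩ := hπ y
      exact ⟨Submodule.Quotient.mk v, Submodule.liftQ_apply _ _ _⟩
    have hkill : ∀ (T : Submonoid B) (L : Submodule B (Fin m → B)), L ≤ K₀ →
        (∀ x, π x = 0 → ∃ s ∈ T, s • x ∈ L) → ∀ y, ψ y = 0 → ∃ s ∈ T, s • y = 0 := by
      intro T L hL hT y hy
      obtain ⟨v, rfl⟩ := Submodule.Quotient.mk_surjective K₀ y
      rw [Submodule.liftQ_apply] at hy
      obtain ⟨s, hs, hsv⟩ := hT v hy
      exact ⟨s, hs, by rw [← Submodule.Quotient.mk_smul, Submodule.Quotient.mk_eq_zero]; exact hL hsv⟩
    have hψq : Function.Bijective (LocalizedModule.map q.asIdeal.primeCompl ψ) := by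
      refine ⟨?_, LocalizedModule.map_surjective _ ψ hψ⟩
      rw [injective_iff_map_eq_zero]
      intro z hz
      induction z using LocalizedModule.induction_on with
      | h x t =>
        rw [LocalizedModule.map_mk, ← LocalizedModule.zero_mk t, LocalizedModule.mk_eq] at hz
        obtain ⟨u, hu⟩ := hz
        simp only [Submonoid.smul_def, smul_zero, smul_smul] at hu
        rw [← map_smul] at hu
        obtain ⟨s, hs, hsx⟩ := hkill q.asIdeal.primeCompl Kq le_sup_left hKq _ hu
        rw [← LocalizedModule.zero_mk t, LocalizedModule.mk_eq]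
        refine ⟨⟨s, hs⟩ * u, ?_⟩
        simp only [Submonoid.smul_def, Submonoid.coe_mul, smul_zero, mul_smul] at hsx ⊢
        exact hsx
    have hPflat : FlatCA.FlatAt A q.asIdeal P := by
      haveI : Module.Flat A (LocalizedModule q.asIdeal.primeCompl N) := hflat
      exact Module.Flat.of_linearEquiv (M := LocalizedModule q.asIdeal.primeCompl N)
        ((LinearEquiv.ofBijective _ hψq).restrictScalars A)
    obtain ⟨_, ⟨h, rfl⟩, hhq, hhsub⟩ := PrimeSpectrum.isTopologicalBasis_basic_opens.exists_subset_of_mem_open
      (show q ∈ {x : PrimeSpectrum B | Module.Flat A (LocalizedModule x.asIdeal.primeCompl P)} from hPflat)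
      FlatH4.isOpen_flat_localized
    refine ⟨h, hhq, ?_⟩
    let T := Submonoid.powers h
    haveI : Module.Flat B (Localization T) := IsLocalization.flat (Localization T) T
    obtain ⟨eP⟩ := exists_localizedEquiv T (Localization T) P
    haveI : Module.Flat A (Localization T ⊗[B] P) := Module.flat_of_isLocalized_maximal (R := A)
      (M := Localization T ⊗[B] P) (Localization T) (fun M => LocalizedModule M.primeCompl (Localization T ⊗[B] P))
      (fun M _ => LocalizedModule.mkLinearMap M.primeCompl _) fun M _ => by
        let Q : PrimeSpectrum B := PrimeSpectrum.comap (algebraMap B (Localization T)) ⟨M, inferInstance⟩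
        haveI : M.LiesOver Q.asIdeal := ⟨rfl⟩
        refine flatAt_of_flat_map (R := A) (C := Localization T) P Q.asIdeal M (hhsub fun hh => ?_)
        refine (inferInstance : M.IsPrime).ne_top (Ideal.eq_top_of_isUnit_mem _ hh ?_)
        exact IsLocalization.map_units (Localization T) (⟨h, Submonoid.mem_powers h⟩ : T)
    haveI : Module.Flat A (LocalizedModule T P) := Module.Flat.of_linearEquiv (eP.restrictScalars A)
    have hinj : Function.Injective (LocalizedModule.map T ψ) := by
      rw [injective_iff_map_eq_zero]
      intro z hz
      refine eq_zero_of_forall_pow_smul (A := A) f hf z fun i => ?_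
      induction z using LocalizedModule.induction_on with
      | h x t =>
        rw [LocalizedModule.map_mk, ← LocalizedModule.zero_mk t, LocalizedModule.mk_eq] at hz
        obtain ⟨u, hu⟩ := hz
        simp only [Submonoid.smul_def, smul_zero, smul_smul] at hu
        rw [← map_smul] at hu
        obtain ⟨_, ⟨k, rfl⟩, hk⟩ := hkill _ (K i) ((le_iSup K i).trans le_sup_right) (hK i) _ hu
        refine ⟨k, ?_⟩
        rw [← algebraMap_smul B (f i ^ k), map_pow, LocalizedModule.smul'_mk, ← LocalizedModule.zero_mk t,
          LocalizedModule.mk_eq]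
        refine ⟨u, ?_⟩
        simp only [Submonoid.smul_def, smul_zero, smul_smul] at hk ⊢
        rw [← hk]; congr 1; ring
    haveI : Module.FinitePresentation (Localization T) (LocalizedModule T P) := inferInstance
    exact Module.FinitePresentation.of_equiv
      (LinearEquiv.ofBijective (LocalizedModule.map T ψ) ⟨hinj, LocalizedModule.map_surjective T ψ hψ⟩)
  choose h hhq hh using key
  have hspan : Ideal.span (Set.range h) = ⊤ := by
    by_contra hne
    obtain ⟨M, hM, hle⟩ := Ideal.exists_le_maximal _ hne
    exact hhq ⟨M, hM.isPrime⟩ (hle (Ideal.subset_span ⟨_, rfl⟩))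
  refine Module.FinitePresentation.of_localizationSpan' (Rₚ := fun r : Set.range h => Localization.Away (r : B))
    (Set.range h) hspan (fun r => LocalizedModule.mkLinearMap (Submonoid.powers (r : B)) N) ?_
  rintro ⟨_, q, rfl⟩
  exact hh q

end Groth.Agent.Dev4

namespace Groth.Agent.Dev4

/-- A flat finite type algebra finitely presented over a dense open of the base is finitely presented. -/
theorem algebra_finitePresentation_of_flat_of_dense {A B : Type u} [CommRing A] [CommRing B] [Algebra A B]
    [Algebra.FiniteType A B] [Module.Flat A B] {n : ℕ} (f : Fin n → A)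
    (hf : ∀ a : A, (∀ i, ∃ k : ℕ, f i ^ k * a = 0) → a = 0)
    (hfp : ∀ i, Algebra.FinitePresentation A (Localization.Away (algebraMap A B (f i)))) :
    Algebra.FinitePresentation A B := by
  obtain ⟨m, φ, hφ⟩ := Algebra.FiniteType.iff_quotient_mvPolynomial''.1 ‹Algebra.FiniteType A B›
  let P := MvPolynomial (Fin m) A
  letI : Algebra P B := φ.toRingHom.toAlgebra
  haveI : IsScalarTower A P B := IsScalarTower.of_algHom φ
  haveI : Module.Finite P B := Module.Finite.of_surjective (Algebra.linearMap P B) hφ
  have hfp' : ∀ i, Module.FinitePresentation (Localization.Away (algebraMap A P (f i)))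
      (LocalizedModule (Submonoid.powers (algebraMap A P (f i))) B) := fun i => by
    let g : P := algebraMap A P (f i)
    have hg : algebraMap P B g = algebraMap A B (f i) := (IsScalarTower.algebraMap_apply A P B (f i)).symm
    let Bg := Localization.Away (algebraMap A B (f i))
    haveI : IsLocalization.Away (algebraMap P B g) Bg := by rw [hg]; infer_instance
    let α : Localization.Away g →ₐ[A] Bg :=
      { IsLocalization.Away.map (Localization.Away g) Bg (algebraMap P B) g with
        commutes' := fun r => by
          show IsLocalization.map _ _ _ (algebraMap A _ r) = _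
          rw [IsScalarTower.algebraMap_apply A P (Localization.Away g), IsLocalization.map_eq,
            ← IsScalarTower.algebraMap_apply A P B, ← IsScalarTower.algebraMap_apply] }
    have hα : Function.Surjective α :=
      haveI : IsLocalization ((Submonoid.powers g).map (algebraMap P B)) Bg := by
        rw [Submonoid.map_powers]; exact inferInstanceAs (IsLocalization.Away (algebraMap P B g) Bg)
      IsLocalization.map_surjective_of_surjective (M := Submonoid.powers g) (S := Localization.Away g)
        (Q := Bg) (g := algebraMap P B) hφ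
    haveI : Algebra.FinitePresentation P (Localization.Away g) := IsLocalization.Away.finitePresentation g
    haveI : Algebra.FinitePresentation A (Localization.Away g) := Algebra.FinitePresentation.trans A P _
    haveI := hfp i
    letI : Algebra (Localization.Away g) Bg := α.toRingHom.toAlgebra
    haveI : IsScalarTower P (Localization.Away g) Bg := IsScalarTower.of_algebraMap_eq fun x => by
      rw [IsScalarTower.algebraMap_apply P B Bg]
      show algebraMap B _ (algebraMap P B x) = IsLocalization.Away.map (Localization.Away g) Bg
        (algebraMap P B) g (algebraMap _ _ x)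
      rw [IsLocalization.Away.map, IsLocalization.map_eq]
    haveI : Module.FinitePresentation (Localization.Away g) Bg :=
      Module.finitePresentation_of_surjective (Algebra.linearMap (Localization.Away g) Bg) hα
        (Algebra.FinitePresentation.ker_fG_of_surjective α hα)
    haveI : IsLocalizedModule (Submonoid.powers g) ((Algebra.linearMap B Bg).restrictScalars P) := by
      haveI : IsLocalizedModule (Submonoid.powers (algebraMap P B g)) (Algebra.linearMap B Bg) :=
        inferInstance
      exact IsLocalizedModule.restrictScalars_powers _ _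
    exact Module.FinitePresentation.of_equiv
      (LinearEquiv.extendScalarsOfIsLocalization (Submonoid.powers g) (Localization.Away g)
        (IsLocalizedModule.iso (Submonoid.powers g) ((Algebra.linearMap B Bg).restrictScalars P)).symm)
  haveI := finitePresentation_of_flat_of_dense (A := A) (B := P) B f hf hfp'
  exact Algebra.FinitePresentation.of_surjective hφ
    (Module.FinitePresentation.fg_ker (Algebra.linearMap P B) hφ)

end Groth.Agent.Dev4
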