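import Groth.Agent.Lib.PushUnit3.Basic
import Groth.Agent.Lib.ModLimH13.Sections

/-!
# Descent of homomorphisms of locally free modules along an equalizer of structure sheaves
-/

set_option autoImplicit false
set_option linter.style.haveILetI false
set_option backward.isDefEq.respectTransparency false

universe u

open CategoryTheory Limits AlgebraicGeometry TopologicalSpace Opposite

namespace Groth.Agent.Dev4

open Groth.Agent.M1 Groth.Agent.M2 Groth.Agent.P1Split Groth.Agent.ModLimH13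

variable {X Y : Scheme.{u}} (f : X ⟶ Y)

theorem pullSec_res (M : Y.Modules) {U V : Y.Opens} (h : V ≤ U) (s : Γ(M, U)) :
    pullSec f M (M1.mres M h s) = M1.mres _ (f.preimage_mono h) (pullSec f M s) :=
  app_mres _ h s

theorem app_pullSec (M : Y.Modules) {U : Y.Opens} {n : ℕ} (c : Fin n → Γ(Y, U)) (m : Fin n → Γ(M, U)) :
    pullSec f M (∑ i, c i • m i) = ∑ i, f.app U (c i) • pullSec f M (m i) :=
  app_sum_smul _ c m

/-- The pullback of sections of a locally free module is injective. -/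
theorem pullSec_injective_of_app (hinj : ∀ U : Y.Opens, Function.Injective (f.app U)) {M : Y.Modules}
    (hM : FlatMod.IsFinLocFree M) (V : Y.Opens) : Function.Injective (pullSec f M : Γ(M, V) → _) := by
  intro a b hab
  choose n D e hD he using fun y => PushUnit3.exists_isBas_nhd' hM y
  refine modules_eq_of_locally_eq M V (fun y => V ⊓ D y) (fun y => inf_le_left)
    (fun y hy => Opens.mem_iSup.2 ⟨y, hy, hD y⟩) _ _ fun y => ?_
  have hb := AmpleFin18.isBas_pullback f (he y) (f ⁻¹ᵁ (V ⊓ D y)) (f.preimage_mono inf_le_right)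
  obtain ⟨c, hc⟩ := (he y (V ⊓ D y) inf_le_right).2 (M1.mres M inf_le_left a)
  obtain ⟨d, hd⟩ := (he y (V ⊓ D y) inf_le_right).2 (M1.mres M inf_le_left b)
  simp only at hc hd
  change M1.mres M inf_le_left a = M1.mres M inf_le_left b
  rw [← hc, ← hd]
  have key : ∀ (s : Γ(M, V)) (c : Fin (n y) → Γ(Y, V ⊓ D y)),
      ∑ i, c i • M1.mres M inf_le_right (e y i) = M1.mres M inf_le_left s →
      ∑ i, f.app (V ⊓ D y) (c i) • M1.mres _ (f.preimage_mono inf_le_right) (pullSec f M (e y i)) =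
        M1.mres _ (f.preimage_mono inf_le_left) (pullSec f M s) := fun s c h => by
    rw [← pullSec_res f M inf_le_left, ← h, app_pullSec]
    exact Finset.sum_congr rfl fun i _ => by rw [pullSec_res]
  have := hb.1 ((key a c hc).trans ((congrArg _ hab).trans (key b d hd).symm))
  have hcd : c = d := funext fun i => hinj _ (congrFun this i)
  rw [hcd]

theorem pullbackCongr_symm {A B : Scheme.{u}} {g h : A ⟶ B} (e : g = h) (M : B.Modules) :
    ((Scheme.Modules.pullbackCongr e).app M).inv = ((Scheme.Modules.pullbackCongr e.symm).app M).hom := by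
  subst e
  simp [Scheme.Modules.pullbackCongr]

variable (hU : ∀ U : Y.Opens, (pullback.fst f f) ⁻¹ᵁ (f ⁻¹ᵁ U) = (pullback.snd f f) ⁻¹ᵁ (f ⁻¹ᵁ U))
    (hinj : ∀ U : Y.Opens, Function.Injective (f.app U))
    (hex : ∀ (U : Y.Opens) (a : Γ(X, f ⁻¹ᵁ U)),
      (pullback.fst f f).app (f ⁻¹ᵁ U) a =
        ((pullback f f).presheaf.map (eqToHom (hU U)).op) ((pullback.snd f f).app (f ⁻¹ᵁ U) a) →
      a ∈ Set.range (f.app U))
    {L M : Y.Modules} (hM : FlatMod.IsFinLocFree M)
    (φ : (Scheme.Modules.pullback f).obj L ⟶ (Scheme.Modules.pullback f).obj M)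
    (Ψ : (Scheme.Modules.pullback (pullback.fst f f ≫ f)).obj L ⟶ (Scheme.Modules.pullback (pullback.fst f f ≫ f)).obj M)
    (h₁ : (Scheme.Modules.pullback (pullback.fst f f)).map φ ≫ ((cmp (pullback.fst f f) f rfl).hom.app M) =
      (cmp (pullback.fst f f) f rfl).hom.app L ≫ Ψ)
    (h₂ : (Scheme.Modules.pullback (pullback.snd f f)).map φ ≫
        ((cmp (pullback.snd f f) f (pullback.condition (f := f) (g := f)).symm).hom.app M) =
      (cmp (pullback.snd f f) f (pullback.condition (f := f) (g := f)).symm).hom.app L ≫ Ψ)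

/-- The image of a pulled back section under a map with descent datum. -/
theorem trans_image (p : pullback f f ⟶ X) (w : p ≫ f = pullback.fst f f ≫ f)
    (h : (Scheme.Modules.pullback p).map φ ≫ ((cmp p f w).hom.app M) = (cmp p f w).hom.app L ≫ Ψ)
    {V : Y.Opens} {W : (pullback f f).Opens} (e : W ≤ p ⁻¹ᵁ (f ⁻¹ᵁ V)) (l : Γ(L, V)) :
    trans p f M w e (φ.app _ (pullSec f L l)) =
      Ψ.app W (res' (pullback.fst f f ≫ f) L (W := V) (e.trans (by rw [← w]; exact le_rfl)) l) := by
  have h' := congrArg (fun m => m.app W (res' p ((Scheme.Modules.pullback f).obj L) e (pullSec f L l))) h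
  simp only at h'
  have e1 : ((Scheme.Modules.pullback p).map φ).app W (res' p ((Scheme.Modules.pullback f).obj L) e (pullSec f L l)) =
      res' p ((Scheme.Modules.pullback f).obj M) e (φ.app _ (pullSec f L l)) := map_res' p _ e φ _
  rw [show trans p f M w e (φ.app _ (pullSec f L l)) = ((cmp p f w).hom.app M).app W
    (res' p ((Scheme.Modules.pullback f).obj M) e (φ.app _ (pullSec f L l))) from rfl, ← e1]
  refine h'.trans (congrArg (Ψ.app W) ?_)
  rw [← trans_res' p f L w e le_rfl l]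
  show _ = ((cmp p f w).hom.app L).app W (res' p _ e (M1.mres _ le_rfl (pullSec f L l)))
  rw [M1.mres_id]
  rfl

include hU hinj hex hM h₁ h₂ in
/-- Locally on the base the image of a pulled back section descends. -/
theorem exists_descend_sec {V : Y.Opens} (l : Γ(L, V)) :
    ∃ s : Γ(M, V), pullSec f M s = φ.app _ (pullSec f L l) := by
  choose n D e hD he using fun y => PushUnit3.exists_isBas_nhd' hM y
  have hcov : V ≤ ⨆ y, V ⊓ D y := fun y hy => Opens.mem_iSup.2 ⟨y, hy, hD y⟩
  let t := φ.app _ (pullSec f L l)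
  have key : ∀ y, ∃ s : Γ(M, V ⊓ D y), pullSec f M s = M1.mres _ (f.preimage_mono inf_le_left) t := fun y => by
    let W := V ⊓ D y
    have hb := he y W inf_le_right
    have hbX := AmpleFin18.isBas_pullback f (he y) (f ⁻¹ᵁ W) (f.preimage_mono inf_le_right)
    obtain ⟨a, ha⟩ := hbX.2 (M1.mres _ (f.preimage_mono inf_le_left) t)
    simp only at ha
    let p₁ := pullback.fst f f
    let p₂ := pullback.snd f f
    let W' := p₁ ⁻¹ᵁ (f ⁻¹ᵁ W)
    have e₂ : W' ≤ p₂ ⁻¹ᵁ (f ⁻¹ᵁ W) := (hU W).le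
    have eV₁ : W' ≤ p₁ ⁻¹ᵁ (f ⁻¹ᵁ V) := p₁.preimage_mono (f.preimage_mono inf_le_left)
    have eV₂ : W' ≤ p₂ ⁻¹ᵁ (f ⁻¹ᵁ V) := e₂.trans (p₂.preimage_mono (f.preimage_mono inf_le_left))
    have hT : ∀ (p : pullback f f ⟶ X) (w : p ≫ f = p₁ ≫ f) (e' : W' ≤ p ⁻¹ᵁ (f ⁻¹ᵁ W)),
        trans p f M w (e'.trans (p.preimage_mono (f.preimage_mono inf_le_left))) t =
          ∑ i, p.appLE (f ⁻¹ᵁ W) W' e' (a i) •
            M1.mres _ (show W' ≤ (p₁ ≫ f) ⁻¹ᵁ D y from (p₁ ≫ f).preimage_mono (inf_le_right : W ≤ D y)) (pullSec (p₁ ≫ f) M (e y i)) := fun p w e' => by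
      rw [← trans_mres p f M w (f.preimage_mono inf_le_left) e', ← ha, trans_sum]
      refine Finset.sum_congr rfl fun i _ => ?_
      rw [trans_smul]
      congr 1
      exact trans_res' p f M w e' (f.preimage_mono inf_le_right) (e y i)
    have h12 := (hT p₁ rfl le_rfl).symm.trans ((trans_image f φ Ψ p₁ rfl h₁ eV₁ l).trans
      ((trans_image f φ Ψ p₂ pullback.condition.symm h₂ eV₂ l).symm.trans (hT p₂ pullback.condition.symm e₂)))
    have hbP := AmpleFin18.isBas_pullback (p₁ ≫ f) (he y) W' ((p₁ ≫ f).preimage_mono inf_le_right)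
    have hco := hbP.1 h12
    have hc : ∀ i, a i ∈ Set.range (f.app W) := fun i => by
      refine hex W (a i) ?_
      have := congrFun hco i
      rw [Scheme.Hom.app_eq_appLE, this, Scheme.Hom.app_eq_appLE]
      rw [← CommRingCat.comp_apply, Scheme.Hom.appLE_map]
    choose c hc using hc
    refine ⟨∑ i, c i • M1.mres M inf_le_right (e y i), ?_⟩
    rw [← ha, app_pullSec]
    refine Finset.sum_congr rfl fun i _ => ?_
    rw [← hc i, pullSec_res]
  choose s hs using key
  obtain ⟨g, hg, -⟩ := TopCat.Sheaf.existsUnique_gluing' ⟨_, M.isSheaf⟩ (fun y => V ⊓ D y) V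
    (fun y => homOfLE inf_le_left) hcov s fun i j => by
      show M1.mres M (inf_le_left : (V ⊓ D i) ⊓ (V ⊓ D j) ≤ V ⊓ D i) (s i) =
        M1.mres M (inf_le_right : (V ⊓ D i) ⊓ (V ⊓ D j) ≤ V ⊓ D j) (s j)
      refine pullSec_injective_of_app f hinj hM _ ?_
      rw [pullSec_res, pullSec_res, hs, hs, mres_mres, mres_mres]
  refine ⟨g, modules_eq_of_locally_eq _ (f ⁻¹ᵁ V) (fun y => f ⁻¹ᵁ (V ⊓ D y))
    (fun y => f.preimage_mono inf_le_left) (fun x hx => Opens.mem_iSup.2 ⟨f x, hx, hD (f x)⟩) _ _ fun y => ?_⟩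
  show M1.mres _ (f.preimage_mono inf_le_left) (pullSec f M g) = M1.mres _ (f.preimage_mono inf_le_left) t
  rw [← pullSec_res f M inf_le_left, show M1.mres M (inf_le_left : V ⊓ D y ≤ V) g = s y from hg y]
  exact hs y

include hU hinj hex hM h₁ h₂ in
/-- Descent of homomorphisms. -/
theorem existsUnique_descend : ∃! ψ : L ⟶ M, (Scheme.Modules.pullback f).map ψ = φ := by
  let F : ∀ V : Y.Opens, Γ(L, V) → Γ(M, V) := fun V l => (exists_descend_sec f hU hinj hex hM φ Ψ h₁ h₂ l).choose
  have hF : ∀ (V : Y.Opens) (l : Γ(L, V)), pullSec f M (F V l) = φ.app _ (pullSec f L l) := fun V l =>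
    (exists_descend_sec f hU hinj hex hM φ Ψ h₁ h₂ l).choose_spec
  have hi := pullSec_injective_of_app f hinj hM
  have hadd : ∀ V (a b : Γ(L, V)), F V (a + b) = F V a + F V b := fun V a b => hi V (by
    rw [hF, pullSec_add, pullSec_add, hF, hF, map_add])
  have hsmul : ∀ V (r : Γ(Y, V)) (a : Γ(L, V)), F V (r • a) = r • F V a := fun V r a => hi V (by
    rw [hF, pullSec_smul, pullSec_smul, hF, Scheme.Modules.Hom.app_smul])
  have hres : ∀ {V V' : Y.Opens} (h : V' ≤ V) (a : Γ(L, V)), F V' (M1.mres L h a) = M1.mres M h (F V a) :=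
    fun {V V'} h a => hi V' (by
      rw [hF, pullSec_res, pullSec_res, hF, app_mres])
  let ψ : L ⟶ M := ⟨PresheafOfModules.homMk
    { app := fun V => AddCommGrpCat.ofHom (AddMonoidHom.mk' (F V.unop) (hadd V.unop))
      naturality := fun V V' i => by
        ext σ
        exact hres (leOfHom i.unop) σ }
    (fun V r σ => hsmul V.unop r σ)⟩
  refine ⟨ψ, ?_, fun ψ' hψ' => ?_⟩
  · refine ((Scheme.Modules.pullbackPushforwardAdjunction f).homEquiv _ _).injective ?_
    simp only [Adjunction.homEquiv_unit]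
    ext V l
    exact (Amp.map_pullSec f ψ l).trans (hF V l)
  · ext V l
    refine hi V ?_
    refine Eq.trans ?_ (hF V l).symm
    rw [← hψ']
    exact (Amp.map_pullSec f ψ' l).symm

end Groth.Agent.Dev4
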