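import Groth.Agent.Lib.Dev4.SmoothCover
import Groth.Agent.Lib.PureSmooth29.Zero
import Groth.Agent.Lib.RG4.Proj
import Groth.Agent.Lib.CAlgLow.CountableML
import Groth.Agent.Lib.CAlgLow.UI
import Groth.Agent.S6347
import Groth.Agent.S6338
import Groth.Agent.S0586
import Mathlib.Algebra.TrivSqZeroExt.Basic

/-!
# Smooth algebras with geometrically irreducible fibres are projective modules
-/

set_option autoImplicit false
set_option maxSynthPendingDepth 3

universe u

open TensorProduct AlgebraicGeometry CategoryTheory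

set_option backward.isDefEq.respectTransparency.types false

namespace Groth.Agent.Dev4

/-- The map to the product of the infinitesimal neighbourhoods of a section. -/
noncomputable def toNbhds {R S : Type u} [CommRing R] [CommRing S] [Algebra R S] (ε : S →ₐ[R] R) :
    S →ₗ[R] (∀ n : ℕ, S ⧸ RingHom.ker ε ^ n) :=
  LinearMap.pi fun n => (Ideal.Quotient.mkₐ R (RingHom.ker ε ^ n)).toLinearMap

theorem preirreducible_fibre {R S : Type u} [CommRing R] [CommRing S] [Algebra R S]
    (hS : FlatCA.GeomIrredFibres R S) (K : Type u) [Field K] [Algebra R K] :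
    PreirreducibleSpace (PrimeSpectrum (K ⊗[R] S)) := by
  haveI hg : GeometricallyIrreducible (Spec.map (CommRingCat.ofHom (algebraMap K (K ⊗[R] S)))) :=
    RG4.geomIrredFibres_baseChange K hS
  have : IrreducibleSpace (PrimeSpectrum (K ⊗[R] S)) :=
    GeometricallyIrreducible.irreducibleSpace_of_subsingleton
      (Spec.map (CommRingCat.ofHom (algebraMap K (K ⊗[R] S))))
  exact this.toPreirreducibleSpace

theorem comap_surjective_of_geomIrred {R S : Type u} [CommRing R] [CommRing S] [Algebra R S]
    (hS : FlatCA.GeomIrredFibres R S) : Function.Surjective (PrimeSpectrum.comap (algebraMap R S)) := fun p => by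
  haveI hg : GeometricallyIrreducible
      (Spec.map (CommRingCat.ofHom (algebraMap p.asIdeal.ResidueField (p.asIdeal.ResidueField ⊗[R] S)))) :=
    RG4.geomIrredFibres_baseChange p.asIdeal.ResidueField hS
  haveI : IrreducibleSpace (PrimeSpectrum (p.asIdeal.Fiber S)) :=
    GeometricallyIrreducible.irreducibleSpace_of_subsingleton
      (Spec.map (CommRingCat.ofHom (algebraMap p.asIdeal.ResidueField (p.asIdeal.ResidueField ⊗[R] S))))
  obtain ⟨x⟩ := IrreducibleSpace.toNonempty (X := PrimeSpectrum (p.asIdeal.Fiber S))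
  exact ⟨((PrimeSpectrum.preimageEquivFiber R S p).symm x).1, ((PrimeSpectrum.preimageEquivFiber R S p).symm x).2⟩

/-- A smooth algebra with irreducible fibres embeds universally injectively in the neighbourhoods of a section. -/
theorem univInj_toNbhds {R S : Type u} [CommRing R] [CommRing S] [Algebra R S] [Algebra.Smooth R S]
    (hS : FlatCA.GeomIrredFibres R S) (ε : S →ₐ[R] R) : FlatCA.UnivInj R (toNbhds ε) := by
  intro Q _ _
  letI : Module Rᵐᵒᵖ Q := Module.compHom _ ((RingHom.id R).fromOpposite mul_comm)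
  haveI : IsCentralScalar R Q := ⟨fun _ _ => rfl⟩
  rw [injective_iff_map_eq_zero]
  intro x hx
  let T := TrivSqZeroExt R Q
  let j : Q ⊗[R] S →ₗ[R] T ⊗[R] S := (TrivSqZeroExt.inrHom R Q).rTensor S
  have hj : Function.Injective j := by
    refine Function.LeftInverse.injective (g := (TrivSqZeroExt.sndHom R Q).rTensor S) fun y => ?_
    rw [← LinearMap.rTensor_comp_apply,
      show TrivSqZeroExt.sndHom R Q ∘ₗ TrivSqZeroExt.inrHom R Q = LinearMap.id from LinearMap.ext fun q => rfl,
      LinearMap.rTensor_id, LinearMap.id_apply]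
  let εT : T ⊗[R] S →ₐ[T] T :=
    Algebra.TensorProduct.lift (AlgHom.id T T) ((Algebra.ofId R T).comp ε) fun _ _ => Commute.all _ _
  have hn : ∀ n : ℕ, j x ∈ RingHom.ker εT ^ n := fun n => by
    have h1 : (Ideal.Quotient.mkₐ R (RingHom.ker ε ^ n)).toLinearMap.lTensor Q x = 0 := by
      have h2 := congrArg ((LinearMap.proj (R := R) (φ := fun m : ℕ => S ⧸ RingHom.ker ε ^ m) n).lTensor Q) hx
      rw [← LinearMap.lTensor_comp_apply, map_zero] at h2
      exact h2
    have h3 : Algebra.TensorProduct.map (AlgHom.id R T) (Ideal.Quotient.mkₐ R (RingHom.ker ε ^ n)) (j x) = 0 := by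
      show (Ideal.Quotient.mkₐ R (RingHom.ker ε ^ n)).toLinearMap.lTensor T (j x) = 0
      rw [← LinearMap.comp_apply, LinearMap.lTensor_comp_rTensor, ← LinearMap.rTensor_comp_lTensor,
        LinearMap.comp_apply, h1, map_zero]
    rw [← RingHom.mem_ker] at h3
    have h4 := (Algebra.TensorProduct.lTensor_ker (Ideal.Quotient.mkₐ R (RingHom.ker ε ^ n))
      (Ideal.Quotient.mkₐ_surjective R (RingHom.ker ε ^ n))).le h3
    rw [show RingHom.ker (Ideal.Quotient.mkₐ R (RingHom.ker ε ^ n)) = RingHom.ker ε ^ n from Ideal.mk_ker,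
      Ideal.map_pow] at h4
    refine Ideal.pow_right_mono ?_ n h4
    rw [Ideal.map_le_iff_le_comap]
    intro s hs
    show εT (1 ⊗ₜ s) = 0
    simp only [εT, Algebra.TensorProduct.lift_tmul, AlgHom.comp_apply, show ε s = 0 from hs, map_zero, mul_zero]
  have := PureSmooth29.eq_zero_of_mem_pow (fun q hq =>
    preirreducible_fibre (RG4.geomIrredFibres_baseChange T hS) q.ResidueField) εT (j x) hn
  exact hj (this.trans (map_zero j).symm)

/-- The neighbourhoods of a section are finite modules. -/
theorem finite_quotient_pow {R S : Type u} [CommRing R] [CommRing S] [Algebra R S] [Algebra.Smooth R S]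
    (ε : S →ₐ[R] R) (n : ℕ) : Module.Finite R (S ⧸ RingHom.ker ε ^ n) := by
  obtain rfl | hn := Nat.eq_zero_or_pos n
  · haveI : Subsingleton (S ⧸ RingHom.ker ε ^ 0) := by
      rw [pow_zero]; exact Ideal.Quotient.subsingleton_iff.2 Ideal.one_eq_top
    infer_instance
  set I := RingHom.ker ε
  have hIfg : I.FG :=
    Algebra.FinitePresentation.ker_fG_of_surjective ε fun r => ⟨algebraMap R S r, ε.commutes r⟩
  let f : (S ⧸ I ^ n) →ₐ[R] R := Ideal.Quotient.liftₐ (I ^ n) ε fun a ha => Ideal.pow_le_self (by omega) ha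
  have hker : RingHom.ker f = I.map (Ideal.Quotient.mk (I ^ n)) := by
    refine le_antisymm (fun z hz => ?_) (Ideal.map_le_iff_le_comap.2 fun s hs => ?_)
    · obtain ⟨s, rfl⟩ := Ideal.Quotient.mk_surjective z
      exact Ideal.mem_map_of_mem _ (show ε s = 0 from hz)
    · show ε s = 0
      exact hs
  refine Module.finite_of_surjective_of_ker_le_nilradical f (fun r => ⟨algebraMap R _ r, f.commutes r⟩) ?_
    (hker ▸ hIfg.map _)
  intro z hz
  refine ⟨n, ?_⟩
  have h := Ideal.pow_mem_pow hz n
  rwa [hker, ← Ideal.map_pow, Ideal.map_quotient_self, Ideal.mem_bot] at h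

/-- Over a noetherian ring a smooth algebra with a section and irreducible fibres is Mittag-Leffler. -/
theorem isMittagLeffler_of_section {R S : Type u} [CommRing R] [IsNoetherianRing R] [CommRing S] [Algebra R S]
    [Algebra.Smooth R S] (hS : FlatCA.GeomIrredFibres R S) (ε : S →ₐ[R] R) : CAlg.IsMittagLeffler R S := by
  classical
  haveI : ∀ n, Module.Finite R (S ⧸ RingHom.ker ε ^ n) := finite_quotient_pow ε
  haveI : ∀ n, Module.Projective R (S ⧸ RingHom.ker ε ^ n) := PureSmooth29.projective_quotient_pow ε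
  have h0 : ∀ n : ℕ, ∃ (k : ℕ) (σ : (S ⧸ RingHom.ker ε ^ n) →ₗ[R] (Fin k → R))
      (π : (Fin k → R) →ₗ[R] (S ⧸ RingHom.ker ε ^ n)), π ∘ₗ σ = LinearMap.id := fun n => by
    obtain ⟨k, π, hπ⟩ := Module.Finite.exists_fin' R (S ⧸ RingHom.ker ε ^ n)
    obtain ⟨σ, hσ⟩ := Module.projective_lifting_property π LinearMap.id hπ
    exact ⟨k, σ, π, hσ⟩
  choose k σ π hπσ using h0
  let A := ULift.{u} ((n : ℕ) × Fin (k n))
  let ι : (∀ n, S ⧸ RingHom.ker ε ^ n) →ₗ[R] (A → R) :=
    LinearMap.pi fun a => LinearMap.proj a.down.2 ∘ₗ σ a.down.1 ∘ₗ LinearMap.proj a.down.1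
  let ρ : (A → R) →ₗ[R] (∀ n, S ⧸ RingHom.ker ε ^ n) :=
    LinearMap.pi fun n => π n ∘ₗ LinearMap.pi fun i => LinearMap.proj (⟨⟨n, i⟩⟩ : A)
  have hρ : ρ ∘ₗ ι = LinearMap.id := LinearMap.ext fun v => funext fun n => LinearMap.congr_fun (hπσ n) (v n)
  obtain ⟨hF, hML⟩ := S6347.result R A
  haveI := hF
  refine CAlgLow.isMittagLeffler_of_ui (f := ι ∘ₗ toNbhds ε) ?_ hML
  refine RG4.universallyInjective_of_univInj fun Q _ _ => ?_
  rw [LinearMap.lTensor_comp, LinearMap.coe_comp]
  refine Function.Injective.comp ?_ (univInj_toNbhds hS ε Q)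
  refine Function.LeftInverse.injective (g := ρ.lTensor Q) fun y => ?_
  rw [← LinearMap.lTensor_comp_apply, hρ, LinearMap.lTensor_id, LinearMap.id_apply]

/-- Over a noetherian ring a smooth algebra with geometrically irreducible fibres is Mittag-Leffler. -/
theorem isMittagLeffler_of_smooth {R S : Type u} [CommRing R] [IsNoetherianRing R] [CommRing S] [Algebra R S]
    [Algebra.Smooth R S] (hS : FlatCA.GeomIrredFibres R S) : CAlg.IsMittagLeffler R S := by
  obtain ⟨A, _, _, _, _, ⟨χ⟩⟩ := exists_etale_faithfullyFlat_section (comap_surjective_of_geomIrred hS)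
  haveI : IsNoetherianRing A := Algebra.FiniteType.isNoetherianRing R A
  have h : CAlg.IsMittagLeffler A (A ⊗[R] S) :=
    isMittagLeffler_of_section (RG4.geomIrredFibres_baseChange A hS)
      (Algebra.TensorProduct.lift (AlgHom.id A A) χ fun _ _ => Commute.all _ _)
  exact S0586.result R A S h

/-- Noetherian approximation keeping geometrically irreducible fibres, over any base ring. -/
theorem exists_noetherian_model_global {R S : Type u} [CommRing R] [CommRing S] [Algebra R S]
    [Algebra.Smooth R S] (hS : FlatCA.GeomIrredFibres R S) :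
    ∃ (R₁ S₁ : Type u) (_ : CommRing R₁) (_ : CommRing S₁) (_ : Algebra R₁ S₁) (_ : Algebra R₁ R),
      IsNoetherianRing R₁ ∧ Algebra.Smooth R₁ S₁ ∧ FlatCA.GeomIrredFibres R₁ S₁ ∧
      Nonempty (R ⊗[R₁] S₁ ≃ₗ[R] S) := by
  obtain ⟨A₀, B₀, _, _, hA₀, hB₀, ⟨e⟩⟩ := Algebra.Smooth.exists_subalgebra_fg ℤ R S
  let f₁ := Spec.map (CommRingCat.ofHom (algebraMap A₀ B₀))
  haveI : LocallyOfFinitePresentation f₁ :=
    (HasRingHomProperty.Spec_iff (P := @LocallyOfFinitePresentation)).mpr
      (RingHom.finitePresentation_algebraMap.mpr inferInstance)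
  haveI hS' : GeometricallyIrreducible (Spec.map (CommRingCat.ofHom (algebraMap R (R ⊗[A₀] B₀)))) := by
    rw [show algebraMap R (R ⊗[A₀] B₀) = e.toRingEquiv.toRingHom.comp (algebraMap R S) from
      RingHom.ext fun x => (e.commutes x).symm, CommRingCat.ofHom_comp, Spec.map_comp]
    haveI : IsIso (CommRingCat.ofHom e.toRingEquiv.toRingHom) :=
      inferInstanceAs (IsIso e.toRingEquiv.toCommRingCatIso.hom)
    exact (MorphismProperty.cancel_left_of_respectsIso @GeometricallyIrreducible _ _).2 hS
  have hpb := isPullback_SpecMap_of_isPushout _ _ _ _ (CommRingCat.isPushout_tensorProduct A₀ R B₀).flip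
  have hA₀' : Algebra.FiniteType ℤ A₀ := (Subalgebra.fg_iff_finiteType _).1 hA₀
  let E : Set (Spec (CommRingCat.of A₀)) := {p | MoreMor.nGeomIrredComp f₁ p = 1}
  have hE : Topology.IsConstructible E :=
    (GeomSpread4.isLocallyConstructible_count (fun {X Y} f y => MoreMor.nGeomIrredComp f y)
      (fun h y' => (GeomSpread4.count_baseChange h y').1)
      (fun f _ _ y => (GeomSpread4.exists_count_const f y).imp fun U h => ⟨h.1, fun y' hy' => (h.2 y' hy').1⟩) f₁ 1).isConstructible
  obtain ⟨R', ψ, hR', hψ, hq⟩ := Stein6.exists_stage_avoid (algebraMap A₀ R) hA₀' (E := E) hE (fun p => by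
    show MoreMor.nGeomIrredComp f₁ (Spec.map (CommRingCat.ofHom (algebraMap A₀ R)) p) = 1
    rw [← (GeomSpread4.count_baseChange hpb p).1]
    exact (Stein6.geometricallyIrreducible_fibre_iff_count _ _).1 (MorphismProperty.pullback_snd _ _ hS'))
  haveI : Algebra.FiniteType ℤ R' := (Subalgebra.fg_iff_finiteType _).1 hR'
  haveI : IsNoetherianRing R' := Algebra.FiniteType.isNoetherianRing ℤ R'
  letI iA : Algebra A₀ R' := ψ.toAlgebra
  haveI : IsScalarTower A₀ R' R := IsScalarTower.of_algebraMap_eq fun x => (RingHom.congr_fun hψ x).symm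
  refine ⟨R', R' ⊗[A₀] B₀, inferInstance, inferInstance, inferInstance, inferInstance, inferInstance,
    inferInstance, ?_, ?_⟩
  · have hpb₁ := isPullback_SpecMap_of_isPushout _ _ _ _ (CommRingCat.isPushout_tensorProduct A₀ R' B₀).flip
    refine Stein6.geometricallyIrreducible_of_fibres _ fun q => (Stein6.geometricallyIrreducible_fibre_iff_count _ q).2 ?_
    rw [(GeomSpread4.count_baseChange hpb₁ q).1]
    exact hq q
  · exact ⟨(AlgebraTensorModule.cancelBaseChange A₀ R' R R B₀).trans e.symm.toLinearEquiv⟩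

/-- Smooth algebras with geometrically irreducible fibres are projective modules. -/
theorem projective_of_smooth {R S : Type u} [CommRing R] [CommRing S] [Algebra R S]
    [Algebra.Smooth R S] (hS : FlatCA.GeomIrredFibres R S) : Module.Projective R S := by
  obtain ⟨R₁, S₁, _, _, _, _, _, _, hS₁, ⟨e⟩⟩ := exists_noetherian_model_global hS
  have hcg : CAlg.IsCountablyGenerated R₁ S₁ := by
    obtain ⟨n, f, hf⟩ := Algebra.FiniteType.iff_quotient_mvPolynomial''.1 (inferInstance : Algebra.FiniteType R₁ S₁)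
    refine ⟨f '' Set.range (MvPolynomial.basisMonomials (Fin n) R₁), (Set.countable_range _).image _, ?_⟩
    change Submodule.span R₁ (f.toLinearMap '' _) = ⊤
    rw [Submodule.span_image, (MvPolynomial.basisMonomials (Fin n) R₁).span_eq, Submodule.map_top]
    exact LinearMap.range_eq_top.2 hf
  haveI : Module.Projective R₁ S₁ :=
    CAlgLow.projective_of_flat_mittagLeffler_countablyGenerated (isMittagLeffler_of_smooth hS₁) hcg
  exact Module.Projective.of_equiv e

end Groth.Agent.Dev4
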