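import Groth.Agent.Lib.Dev4.StepLemma
import Groth.Agent.Lib.Dev4.SmoothProjective
import Groth.Agent.Lib.Dev4.Conseq
import Groth.Agent.Lib.RG4.Step
import Groth.Prelude.Def_FlatCA

/-!
# Splitting along a complete devissage
-/

set_option autoImplicit false
set_option maxSynthPendingDepth 3

universe u

open TensorProduct

set_option backward.isDefEq.respectTransparency.types false

namespace Groth.Agent.Dev4

/-- A universally injective localised map stays injective over algebras inverting the element. -/
theorem injective_lTensor_of_isUnit {R B X Y : Type u} [CommRing R] [CommRing B] [Algebra R B]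
    [AddCommGroup X] [Module B X] [Module R X] [IsScalarTower R B X] [AddCommGroup Y] [Module B Y] [Module R Y]
    [IsScalarTower R B Y] (h : R) (u : X →ₗ[B] Y)
    (hu : FlatCA.UnivInj R ((LocalizedModule.map (Submonoid.powers (algebraMap R B h)) u).restrictScalars R))
    (L : Type u) [CommRing L] [Algebra R L] (hL : IsUnit (algebraMap R L h)) :
    Function.Injective ((u.restrictScalars R).lTensor L) := by
  let T := Submonoid.powers (algebraMap R B h)
  let ιX := (LocalizedModule.mkLinearMap T X).restrictScalars R
  let ιY := (LocalizedModule.mkLinearMap T Y).restrictScalars R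
  haveI : IsLocalizedModule (Submonoid.powers h) ιX := IsLocalizedModule.restrictScalars_powers _ _
  have hunit : ∀ s : Submonoid.powers h, IsUnit (algebraMap R (Module.End R (L ⊗[R] X)) s) := fun s => by
    obtain ⟨_, i, rfl⟩ := s
    have h1 : IsUnit (algebraMap L (Module.End L (L ⊗[R] X)) (algebraMap R L (h ^ i))) :=
      (by rw [map_pow]; exact hL.pow i : IsUnit (algebraMap R L (h ^ i))).map _
    rw [Module.End.isUnit_iff] at h1 ⊢
    rw [show ⇑(algebraMap R (Module.End R (L ⊗[R] X)) (h ^ i)) =
      ⇑(algebraMap L (Module.End L (L ⊗[R] X)) (algebraMap R L (h ^ i))) from funext fun z => by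
        rw [Module.algebraMap_end_apply, Module.algebraMap_end_apply, algebraMap_smul]]
    exact h1
  let μ : LocalizedModule T X →ₗ[R] L ⊗[R] X :=
    IsLocalizedModule.lift (Submonoid.powers h) ιX (TensorProduct.mk R L X 1) hunit
  have hμ : ∀ x, μ (ιX x) = 1 ⊗ₜ x := fun x => IsLocalizedModule.lift_apply _ _ _ hunit x
  have hι : Function.Injective (ιX.lTensor L) := by
    refine Function.LeftInverse.injective (g := μ.liftBaseChange L) fun z => ?_
    induction z using TensorProduct.induction_on with
    | zero => simp
    | add a b ha hb => simp only [map_add, ha, hb]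
    | tmul a x => rw [LinearMap.lTensor_tmul, LinearMap.liftBaseChange_tmul, hμ, TensorProduct.smul_tmul', smul_eq_mul, mul_one]
  have key : ∀ z, ((LocalizedModule.map T u).restrictScalars R).lTensor L (ιX.lTensor L z) =
      ιY.lTensor L ((u.restrictScalars R).lTensor L z) := fun z => by
    induction z using TensorProduct.induction_on with
    | zero => simp
    | add a b ha hb => simp only [map_add, ha, hb]
    | tmul a x =>
      simp only [LinearMap.lTensor_tmul, ιX, ιY, LinearMap.restrictScalars_apply, LocalizedModule.mkLinearMap_apply,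
        LocalizedModule.map_mk]
  intro x y hxy
  exact hι (hu L (by rw [key, key, hxy]))

/-- A short exact sequence with projective quotient splits. -/
theorem exists_equiv_prod_of_exact {L A M X : Type u} [CommRing L] [AddCommGroup A] [Module L A] [AddCommGroup M]
    [Module L M] [AddCommGroup X] [Module L X] [Module.Projective L X] (a : A →ₗ[L] M) (π : M →ₗ[L] X)
    (ha : Function.Injective a) (hπ : Function.Surjective π) (hex : Function.Exact a π) :
    Nonempty (M ≃ₗ[L] A × X) := by
  obtain ⟨σ, hσ⟩ := Module.projective_lifting_property π LinearMap.id hπ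
  refine ⟨(LinearEquiv.ofBijective (a.coprod σ) ⟨fun v w hvw => ?_, fun m => ?_⟩).symm⟩
  · have h := congrArg π hvw
    simp only [LinearMap.coprod_apply, map_add, hex.apply_apply_eq_zero, zero_add] at h
    have hσ' : ∀ x, π (σ x) = x := fun x => LinearMap.congr_fun hσ x
    rw [hσ', hσ'] at h
    simp only [LinearMap.coprod_apply, h, add_left_inj] at hvw
    exact Prod.ext (ha hvw) h
  · obtain ⟨v, hv⟩ := (hex (m - σ (π m))).1 (by
      rw [map_sub, show π (σ (π m)) = π m from LinearMap.congr_fun hσ _, sub_self])
    exact ⟨(v, π m), by simp [hv]⟩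

theorem flat_restrict_iff {R B X : Type u} [CommRing R] [CommRing B] [Algebra R B] [AddCommGroup X] [Module B X]
    [Module R X] [IsScalarTower R B X] (f : R) :
    Module.Flat R (LocalizedModule (Submonoid.powers (algebraMap R B f)) X) ↔
      Module.Flat R (LocalizedModule (Submonoid.powers f) X) := by
  obtain ⟨e⟩ := exists_localized_restrict (B := B) f X
  exact ⟨fun h => haveI := h; Module.Flat.of_linearEquiv e, fun h => haveI := h; Module.Flat.of_linearEquiv e.symm⟩

theorem exists_equiv_pi_succ {L : Type u} [CommRing L] {k : ℕ} (Y : Fin (k + 1) → Type u)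
    [∀ j, AddCommGroup (Y j)] [∀ j, Module L (Y j)] :
    Nonempty ((∀ j, Y j) ≃ₗ[L] Y 0 × (∀ j : Fin k, Y j.succ)) :=
  ⟨{ toFun := fun g => (g 0, fun j => g j.succ)
     invFun := fun v => Fin.cases v.1 v.2
     left_inv := fun g => by funext j; refine Fin.cases ?_ (fun i => ?_) j <;> simp
     right_inv := fun v => by simp
     map_add' := fun _ _ => rfl
     map_smul' := fun _ _ => rfl }⟩

variable {R S : Type u} [CommRing R] [CommRing S] [Algebra R S] {N : Type u} [AddCommGroup N] [Module S N]
  {rr : Ideal R} [rr.IsPrime] (D : FlatCA.CompleteDevissage R S N rr)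

theorem tower_A (i : ℕ) : IsScalarTower R (D.A i) (D.M i) :=
  IsScalarTower.of_algebraMap_smul fun x y => by
    rw [IsScalarTower.algebraMap_apply R (D.B i) (D.A i), algebraMap_smul, algebraMap_smul]

theorem tower_step (i : ℕ) : IsScalarTower R (D.B i) (D.M (i + 1)) :=
  haveI := tower_A D (i + 1)
  IsScalarTower.of_algebraMap_smul fun x y => by
    rw [← algebraMap_smul (D.A (i + 1)) (algebraMap R (D.B i) x) y, ← IsScalarTower.algebraMap_apply,
      algebraMap_smul]

/-- The main induction. -/
theorem exists_split :
    ∀ (k i : ℕ), i + k + 1 = D.n → ∀ f : R, f ∉ rr →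
      Module.Flat R (LocalizedModule (Submonoid.powers f) (D.M i)) →
      Algebra.FinitePresentation R (D.A i) → Module.FinitePresentation (D.A i) (D.M i) →
      ∃ h : R, h ∉ rr ∧ f ∣ h ∧ ∀ (L : Type u) [CommRing L] [Algebra R L], IsUnit (algebraMap R L h) →
        Nonempty (L ⊗[R] D.M i ≃ₗ[L] (∀ j : Fin (k + 1), Fin (D.r (i + j)) → L ⊗[R] D.B (i + j))) := by
  intro k
  induction k with
  | zero =>
    intro i hi f hf hflat hA hM
    have hlt : i < D.n := by omega
    haveI := D.smooth i hlt
    haveI := D.finiteBA i hlt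
    haveI := hA
    haveI := hM
    haveI : Algebra.FinitePresentation (D.B i) (D.A i) :=
      Algebra.FinitePresentation.of_restrict_scalars_finitePresentation R (D.B i) (D.A i)
    haveI : Module.FinitePresentation (D.B i) (D.A i) :=
      Module.FinitePresentation.of_finite_of_finitePresentation (D.B i) (D.A i)
    haveI : Module.FinitePresentation (D.B i) (D.M i) := Module.FinitePresentation.trans (D.B i) (D.M i) (D.A i)
    obtain ⟨h, hh, hfh, hui, -⟩ := exists_step (D.geomIrred i hlt) rr hf ((flat_restrict_iff f).2 hflat) (D.α i)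
      (D.fibreIso i hlt)
    refine ⟨h, hh, hfh, fun L _ _ hL => ?_⟩
    have hn : i = D.n - 1 := by omega
    have hsurj : Function.Surjective (D.α i) := by rw [hn]; exact D.cokerLast
    have hbij : Function.Bijective (((D.α i).restrictScalars R).baseChange L) := by
      rw [LinearMap.baseChange_eq_ltensor]
      exact ⟨injective_lTensor_of_isUnit h (D.α i) hui L hL, LinearMap.lTensor_surjective L hsurj⟩
    let e := (LinearEquiv.ofBijective _ hbij).symm.trans (TensorProduct.piRight R L L fun _ : Fin (D.r i) => D.B i)
    obtain ⟨e'⟩ := exists_equiv_pi_succ (L := L) (fun j : Fin (0 + 1) => Fin (D.r (i + j)) → L ⊗[R] D.B (i + j))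
    exact ⟨e.trans ((LinearEquiv.prodUnique (R := L) (M := Fin (D.r i) → L ⊗[R] D.B i)
      (M₂ := ∀ j : Fin 0, Fin (D.r (i + j.succ)) → L ⊗[R] D.B (i + j.succ))).symm.trans e'.symm)⟩
  | succ k ih =>
    intro i hi f hf hflat hA hM
    have hlt : i < D.n := by omega
    have hlt' : i + 1 < D.n := by omega
    haveI := D.smooth i hlt
    haveI := D.finiteBA i hlt
    haveI := hA
    haveI := hM
    haveI : Algebra.FinitePresentation (D.B i) (D.A i) :=
      Algebra.FinitePresentation.of_restrict_scalars_finitePresentation R (D.B i) (D.A i)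
    haveI : Module.FinitePresentation (D.B i) (D.A i) :=
      Module.FinitePresentation.of_finite_of_finitePresentation (D.B i) (D.A i)
    haveI : Module.FinitePresentation (D.B i) (D.M i) := Module.FinitePresentation.trans (D.B i) (D.M i) (D.A i)
    obtain ⟨h₁, hh₁, hfh₁, hui, hTflat⟩ := exists_step (D.geomIrred i hlt) rr hf ((flat_restrict_iff f).2 hflat)
      (D.α i) (D.fibreIso i hlt)
    haveI := tower_step D i
    haveI := tower_A D (i + 1)
    have hTflat' : Module.Flat R (LocalizedModule (Submonoid.powers h₁) (D.M (i + 1))) := by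
      haveI := (flat_restrict_iff h₁).1 hTflat
      exact Module.Flat.of_linearEquiv ((IsLocalizedModule.mapEquiv (Submonoid.powers h₁)
        (LocalizedModule.mkLinearMap (Submonoid.powers h₁) (D.M i ⧸ LinearMap.range (D.α i)))
        (LocalizedModule.mkLinearMap (Submonoid.powers h₁) (D.M (i + 1)))
        (Localization (Submonoid.powers h₁)) ((D.isoCoker i hlt').restrictScalars R)).restrictScalars R).symm
    haveI := D.fpBA' i hlt'
    have hA' : Algebra.FinitePresentation R (D.A (i + 1)) :=
      Algebra.FinitePresentation.trans R (D.B i) (D.A (i + 1))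
    have hM' : Module.FinitePresentation (D.A (i + 1)) (D.M (i + 1)) := by
      haveI : Module.Finite (D.B i) (D.A (i + 1)) :=
        Module.Finite.of_surjective (Algebra.linearMap (D.B i) (D.A (i + 1))) (D.surjBA' i hlt')
      haveI : Module.FinitePresentation (D.B i) (D.M i ⧸ LinearMap.range (D.α i)) :=
        Module.finitePresentation_of_surjective (LinearMap.range (D.α i)).mkQ (Submodule.mkQ_surjective _) (by
          rw [Submodule.ker_mkQ]; exact LinearMap.range_eq_map (D.α i) ▸ (Module.Finite.fg_top).map _)
      haveI : Module.FinitePresentation (D.B i) (D.M (i + 1)) := Module.FinitePresentation.of_equiv (D.isoCoker i hlt')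
      exact RG4.finitePresentation_of_finite (B := D.B i)
    obtain ⟨h, hh, hh₁h, hsplit⟩ := ih (i + 1) (by omega) h₁ hh₁ hTflat' hA' hM'
    refine ⟨h, hh, hfh₁.trans hh₁h, fun L _ _ hL => ?_⟩
    obtain ⟨eT⟩ := hsplit L hL
    have hunit : IsUnit (algebraMap R L h₁) := isUnit_of_dvd_unit (map_dvd _ hh₁h) hL
    haveI hproj : ∀ j : Fin (k + 1), Module.Projective L (L ⊗[R] D.B (i + 1 + j)) := fun j => by
      haveI := D.smooth (i + 1 + j) (by omega)
      exact projective_of_smooth (RG4.geomIrredFibres_baseChange L (D.geomIrred (i + 1 + j) (by omega)))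
    haveI : ∀ j : Fin (k + 1), Module.Projective L (Fin (D.r (i + 1 + j)) → L ⊗[R] D.B (i + 1 + j)) := fun j =>
      Module.Projective.of_equiv (DirectSum.linearEquivFunOnFintype L (Fin (D.r (i + 1 + j)))
        fun _ => L ⊗[R] D.B (i + 1 + j))
    haveI : Module.Projective L (∀ j : Fin (k + 1), Fin (D.r (i + 1 + j)) → L ⊗[R] D.B (i + 1 + j)) :=
      Module.Projective.of_equiv (DirectSum.linearEquivFunOnFintype L (Fin (k + 1))
        fun j : Fin (k + 1) => Fin (D.r (i + 1 + j)) → L ⊗[R] D.B (i + 1 + j))
    let πR : D.M i →ₗ[R] D.M (i + 1) :=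
      (D.isoCoker i hlt').toLinearMap.restrictScalars R ∘ₗ (LinearMap.range (D.α i)).mkQ.restrictScalars R
    have hπR : Function.Surjective πR := (D.isoCoker i hlt').surjective.comp (Submodule.mkQ_surjective _)
    have hexR : Function.Exact ((D.α i).restrictScalars R) πR := fun x => by
      show D.isoCoker i hlt' (Submodule.Quotient.mk x) = 0 ↔ _
      rw [LinearEquiv.map_eq_zero_iff, Submodule.Quotient.mk_eq_zero]
      rfl
    have ha : Function.Injective (((D.α i).restrictScalars R).baseChange L) := by
      rw [LinearMap.baseChange_eq_ltensor]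
      exact injective_lTensor_of_isUnit h₁ (D.α i) hui L hunit
    have hπ : Function.Surjective (eT.toLinearMap ∘ₗ πR.baseChange L) := by
      refine eT.surjective.comp ?_
      rw [LinearMap.baseChange_eq_ltensor]
      exact LinearMap.lTensor_surjective L hπR
    have hex : Function.Exact (((D.α i).restrictScalars R).baseChange L) (eT.toLinearMap ∘ₗ πR.baseChange L) := fun x => by
      show eT (πR.baseChange L x) = 0 ↔ _
      rw [LinearEquiv.map_eq_zero_iff, LinearMap.baseChange_eq_ltensor, LinearMap.baseChange_eq_ltensor]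
      exact lTensor_exact L hexR hπR x
    obtain ⟨e⟩ := exists_equiv_prod_of_exact _ _ ha hπ hex
    obtain ⟨e'⟩ := exists_equiv_pi_succ (L := L) (fun j : Fin (k + 1 + 1) => Fin (D.r (i + j)) → L ⊗[R] D.B (i + j))
    have hidx : ∀ j : Fin (k + 1), i + 1 + (j : ℕ) = i + (j.succ : ℕ) := fun j => by simp [Fin.val_succ]; omega
    have hc : ∀ j : Fin (k + 1), Nonempty ((Fin (D.r (i + 1 + j)) → L ⊗[R] D.B (i + 1 + j)) ≃ₗ[L]
        (Fin (D.r (i + j.succ)) → L ⊗[R] D.B (i + j.succ))) := fun j => by rw [hidx j]; exact ⟨LinearEquiv.refl _ _⟩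
    exact ⟨e.trans (((TensorProduct.piRight R L L fun _ : Fin (D.r i) => D.B i).prodCongr
      (LinearEquiv.piCongrRight fun j => (hc j).some)).trans e'.symm)⟩

end Groth.Agent.Dev4
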