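import Groth.Agent.Lib.Dev4.UnivInjMod

/-!
# Divisibility modulo an ideal in a flat finite module
-/

set_option autoImplicit false
set_option maxSynthPendingDepth 3

universe u

open TensorProduct IsLocalRing
open scoped Pointwise

set_option backward.isDefEq.respectTransparency.types false

attribute [local instance] Algebra.TensorProduct.rightAlgebra

namespace Groth.Agent.Dev4

/-- If the quotient by `I` has no socle, an element divisible modulo `I` by everything outside `I` is a
multiple of `I`. -/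
theorem mem_smul_top_of_divisible {A B N : Type u} [CommRing A] [CommRing B] [IsLocalRing A] [IsLocalRing B]
    [Algebra A B] [IsLocalHom (algebraMap A B)] [Algebra.EssFiniteType A B]
    [AddCommGroup N] [Module A N] [Module B N] [IsScalarTower A B N] [Module.Finite B N] [Module.Flat A N]
    (I : Ideal A) (hIm : I ≤ maximalIdeal A)
    (hsocA : ∀ w : A, (∀ q ∈ maximalIdeal A, q * w ∈ I) → w ∈ I)
    (x : N) (hx : ∀ w : A, w ∉ I → x ∈ (I ⊔ Ideal.span {w}) • (⊤ : Submodule A N)) :
    x ∈ I • (⊤ : Submodule A N) := by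
  classical
  let R := A ⧸ I
  haveI : Nontrivial R := Ideal.Quotient.nontrivial_iff.2 (ne_top_of_le_ne_top (maximalIdeal.isMaximal A).ne_top hIm)
  haveI : IsLocalRing R := IsLocalRing.of_surjective' (Ideal.Quotient.mk I) Ideal.Quotient.mk_surjective
  haveI : IsLocalHom (algebraMap A R) := (Ideal.Quotient.mk_surjective (I := I)).isLocalHom _
  let Bb := R ⊗[A] B
  have hsB : Function.Surjective (algebraMap B Bb) := fun z => by
    induction z using TensorProduct.induction_on with
    | zero => exact ⟨0, map_zero _⟩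
    | add p q hp hq =>
      obtain ⟨a, ha⟩ := hp
      obtain ⟨b, hb⟩ := hq
      exact ⟨a + b, by rw [map_add, ha, hb]⟩
    | tmul c b =>
      obtain ⟨a, rfl⟩ := Ideal.Quotient.mk_surjective c
      exact ⟨a • b, by
        show (1 : R) ⊗ₜ[A] (a • b) = algebraMap A R a ⊗ₜ[A] b
        rw [TensorProduct.tmul_smul, TensorProduct.smul_tmul', Algebra.smul_def, mul_one]⟩
  obtain ⟨P, hP, hPA, hPC⟩ := exists_prime_over_both (B := A) (SA := R) (S := B) (maximalIdeal R) (maximalIdeal B) (by
    rw [IsLocalRing.maximalIdeal_comap, IsLocalRing.maximalIdeal_comap])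
  haveI := hP
  haveI : Nontrivial Bb := by
    by_contra hn
    rw [not_nontrivial_iff_subsingleton] at hn
    exact hP.ne_top (Subsingleton.elim _ _)
  haveI : IsLocalRing Bb := IsLocalRing.of_surjective' _ hsB
  haveI : IsLocalHom (algebraMap R Bb) := ⟨fun r hr => by
    by_contra hnr
    exact hP.ne_top (Ideal.eq_top_of_isUnit_mem P (hPA.ge ((IsLocalRing.mem_maximalIdeal r).2 hnr) :) hr)⟩
  let Nb := Bb ⊗[B] N
  have hbc := isBaseChange_tensor (A := A) R (B := B) N
  haveI : Module.Flat R Nb := Module.Flat.of_linearEquiv (M := R ⊗[A] N) hbc.equiv.symm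
  have hker : ∀ (X : Type u) [AddCommGroup X] [Module A X] (z : X), (1 : R) ⊗ₜ[A] z = 0 ↔ z ∈ I • (⊤ : Submodule A X) :=
    fun X _ _ z => by
      rw [← tmul_one_quotient_eq_zero_iff, ← LinearEquiv.map_eq_zero_iff (TensorProduct.comm A R X), TensorProduct.comm_tmul]
  have hsoc : ∀ ω : R, (∀ q ∈ maximalIdeal R, q * ω = 0) → ω = 0 := by
    intro ω hω
    obtain ⟨w, rfl⟩ := Ideal.Quotient.mk_surjective ω
    refine Ideal.Quotient.eq_zero_iff_mem.2 (hsocA w fun q hq => ?_)
    rw [← Ideal.Quotient.eq_zero_iff_mem, map_mul]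
    exact hω _ ((IsLocalRing.mem_maximalIdeal _).2 fun hu =>
      (IsLocalRing.mem_maximalIdeal q).1 hq (isUnit_of_map_unit (algebraMap A R) q hu))
  have hdiv : ∀ r : R, r ≠ 0 → ∃ t : Nb, ((1 : Bb) ⊗ₜ[B] x) = r • t := by
    intro r hr
    obtain ⟨w, rfl⟩ := Ideal.Quotient.mk_surjective r
    have hwI : w ∉ I := fun hw => hr (Ideal.Quotient.eq_zero_iff_mem.2 hw)
    have hxw := hx w hwI
    rw [Submodule.sup_smul, Submodule.mem_sup, Submodule.ideal_span_singleton_smul] at hxw
    obtain ⟨y, hy, z, hz, hyz⟩ := hxw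
    obtain ⟨n, -, hn⟩ := hz
    replace hn : w • n = z := hn
    subst hn
    refine ⟨(1 : Bb) ⊗ₜ[B] n, ?_⟩
    have hy0 : (1 : R) ⊗ₜ[A] y = 0 := (hker N y).2 hy
    have := congrArg hbc.equiv hy0
    rw [IsBaseChange.equiv_tmul, one_smul, map_zero] at this
    rw [← hyz, TensorProduct.tmul_add, show (1 : Bb) ⊗ₜ[B] y = 0 from this, zero_add]
    show (TensorProduct.mk B Bb N 1).restrictScalars A (w • n) = _
    rw [map_smul, ← algebraMap_smul R w]
    rfl
  have hzero := eq_zero_of_divisible (R := R) (B := Bb) hsoc _ hdiv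
  refine (hker N x).1 (hbc.equiv.injective ?_)
  rw [IsBaseChange.equiv_tmul, one_smul, map_zero]
  exact hzero

end Groth.Agent.Dev4
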