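import Groth.Agent.Lib.Hens.EtaleLift
import Groth.Agent.Lib.Dev4.GeomBasic

/-!
# Lifting étale neighbourhoods of closed subschemes
-/

set_option autoImplicit false

universe u

open TensorProduct

set_option backward.isDefEq.respectTransparency.types false

attribute [local instance] Algebra.TensorProduct.rightAlgebra

namespace Groth.Agent.Dev4

/-- Residue fields along a base change over a point with the same residue field. -/
theorem bijective_residue_bc {R R' B B' : Type u} [CommRing R] [CommRing R'] [Algebra R R'] {p : Ideal R} [p.IsPrime]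
    {p' : Ideal R'} [p'.IsPrime] [hp' : p'.LiesOver p] [CommRing B] [CommRing B'] [Algebra R B] [Algebra R' B']
    [Algebra R B'] [Algebra B B'] [IsScalarTower R R' B'] [IsScalarTower R B B'] [Algebra.IsPushout R R' B B']
    (hκ : Function.Bijective (Ideal.ResidueField.mapₐ p p' (Algebra.ofId R R') hp'.over))
    (y : Ideal B) [y.IsPrime] (y' : Ideal B') [y'.IsPrime] [y'.LiesOver p'] [hy : y'.LiesOver y] :
    Function.Bijective (Ideal.ResidueField.map y y' (algebraMap B B') hy.over) := by
  refine ⟨RingHom.injective _, fun z => ?_⟩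
  suffices hs : ∀ w : B', algebraMap B' y'.ResidueField w ∈ (Ideal.ResidueField.map y y' (algebraMap B B') hy.over).fieldRange by
    obtain ⟨a, b, hb, rfl⟩ := IsFractionRing.div_surjective (A := B' ⧸ y') z
    obtain ⟨a, rfl⟩ := Ideal.Quotient.mk_surjective a
    obtain ⟨b, rfl⟩ := Ideal.Quotient.mk_surjective b
    exact RingHom.mem_fieldRange.1 (Subfield.div_mem _ (hs a) (hs b))
  intro w
  obtain ⟨t, ht, b, hb⟩ := exists_congr_elem (B := B) p p' hκ w
  have h0 : algebraMap B' y'.ResidueField (algebraMap R B' t) ≠ 0 := by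
    rw [Ne, Ideal.algebraMap_residueField_eq_zero]; exact algebraMap_notMem (p' := p') ht
  have he : algebraMap B' y'.ResidueField w =
      Ideal.ResidueField.map y y' (algebraMap B B') hy.over (algebraMap B y.ResidueField b) /
        Ideal.ResidueField.map y y' (algebraMap B B') hy.over (algebraMap B y.ResidueField (algebraMap R B t)) := by
    rw [Ideal.ResidueField.map_algebraMap, Ideal.ResidueField.map_algebraMap, ← IsScalarTower.algebraMap_apply R B B',
      eq_div_iff h0, ← map_mul, ← sub_eq_zero, ← map_sub, Ideal.algebraMap_residueField_eq_zero, mul_comm]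
    exact map_le_of_liesOver hb
  rw [he, ← map_div₀]
  exact ⟨_, rfl⟩

/-- Base change of elementary étale neighbourhoods. -/
theorem isEtaleNhd_bc {R R' B B' : Type u} [CommRing R] [CommRing R'] [Algebra R R'] {p : Ideal R} [p.IsPrime]
    {p' : Ideal R'} [p'.IsPrime] [CommRing B] [CommRing B'] [Algebra R B] [Algebra R' B']
    [Algebra R B'] [Algebra B B'] [IsScalarTower R R' B'] [IsScalarTower R B B'] [Algebra.IsPushout R R' B B']
    (h : FlatCA.IsEtaleNhd R R' p p')
    (y : Ideal B) [y.IsPrime] (y' : Ideal B') [y'.IsPrime] [y'.LiesOver p'] [hy : y'.LiesOver y] :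
    FlatCA.IsEtaleNhd B B' y y' := by
  obtain ⟨he, hl, hκ⟩ := h
  haveI := hl
  haveI := he
  exact ⟨Algebra.Etale.of_equiv ((Algebra.IsPushout.equiv R B R' B' (h := .symm inferInstance))), hy,
    bijective_residue_bc hκ y y'⟩

/-- Shrinking to a standard open is an elementary étale neighbourhood. -/
theorem isEtaleNhd_away {B B' : Type u} [CommRing B] [CommRing B'] [Algebra B B'] (b : B) [IsLocalization.Away b B']
    (y : Ideal B) [y.IsPrime] (y' : Ideal B') [y'.IsPrime] [hy : y'.LiesOver y] : FlatCA.IsEtaleNhd B B' y y' :=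
  ⟨Algebra.Etale.of_isLocalizationAway b, hy, GeomNbhd4.surjective_localization_residue b y y' hy.over⟩

/-- Surjections lifted along a map form a pushout. -/
theorem isPushout_of_surjective {S E C C' : Type u} [CommRing S] [CommRing E] [CommRing C] [CommRing C'] [Algebra S E]
    [Algebra S C] [Algebra E C'] [Algebra C C'] [Algebra S C'] [IsScalarTower S E C'] [IsScalarTower S C C']
    (hS : Function.Surjective (algebraMap S C)) (hE : Function.Surjective (algebraMap E C'))
    (hker : RingHom.ker (algebraMap E C') ≤ (RingHom.ker (algebraMap S C)).map (algebraMap S E)) :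
    Algebra.IsPushout S E C C' := by
  let ψ : E ⊗[S] C →ₐ[E] C' := Algebra.TensorProduct.lift (Algebra.ofId E C') (IsScalarTower.toAlgHom S C C')
    fun _ _ => mul_comm _ _
  have hψ : ∀ (e : E) (s : S), ψ (e ⊗ₜ algebraMap S C s) = algebraMap E C' (e * algebraMap S E s) := fun e s => by
    rw [map_mul, ← IsScalarTower.algebraMap_apply S E C', IsScalarTower.algebraMap_apply S C C']
    rfl
  have hrep : ∀ t : E ⊗[S] C, ∃ e : E, t = e ⊗ₜ (1 : C) := fun t => by
    induction t using TensorProduct.induction_on with
    | zero => exact ⟨0, (TensorProduct.zero_tmul _ _).symm⟩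
    | tmul e c =>
      obtain ⟨s, rfl⟩ := hS c
      exact ⟨s • e, by rw [Algebra.algebraMap_eq_smul_one, TensorProduct.tmul_smul, TensorProduct.smul_tmul']⟩
    | add a b ha hb =>
      obtain ⟨a, rfl⟩ := ha; obtain ⟨b, rfl⟩ := hb
      exact ⟨a + b, (TensorProduct.add_tmul _ _ _).symm⟩
  have hbij : Function.Bijective ψ := by
    refine ⟨(injective_iff_map_eq_zero _).2 fun t ht => ?_, fun x => ?_⟩
    · obtain ⟨e, rfl⟩ := hrep t
      have he : e ∈ (RingHom.ker (algebraMap S C)).map (algebraMap S E) := hker <| by
        have := hψ e 1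
        rw [map_one, map_one, mul_one, ht] at this
        exact this.symm
      suffices h : ∀ x ∈ (RingHom.ker (algebraMap S C)).map (algebraMap S E), x ⊗ₜ[S] (1 : C) = 0 from h e he
      intro x hx
      induction hx using Submodule.span_induction with
      | mem x hx =>
        obtain ⟨s, hs, rfl⟩ := hx
        rw [Algebra.algebraMap_eq_smul_one, TensorProduct.smul_tmul, ← Algebra.algebraMap_eq_smul_one,
          show algebraMap S C s = 0 from hs, TensorProduct.tmul_zero]
      | zero => exact TensorProduct.zero_tmul _ _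
      | add a b _ _ ha hb => rw [TensorProduct.add_tmul, ha, hb, add_zero]
      | smul a x _ hx => rw [← TensorProduct.smul_tmul', hx, smul_zero]
    · obtain ⟨e, rfl⟩ := hE x
      exact ⟨e ⊗ₜ 1, by simpa using hψ e 1⟩
  haveI h0 : Algebra.IsPushout S E C (E ⊗[S] C) := inferInstance
  refine Algebra.IsPushout.of_equiv (h := h0) (AlgEquiv.ofBijective ψ hbij) (RingHom.ext fun c => ?_)
  show ψ ((1 : E) ⊗ₜ[S] c) = algebraMap C C' c
  rw [Algebra.TensorProduct.lift_tmul, map_one, one_mul]
  rfl

/-- Étale algebras over a closed subscheme lift compatibly with an étale algebra over the base. -/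
theorem exists_etale_lift_over {R S C R'' C'' : Type u} [CommRing R] [CommRing S] [CommRing C] [CommRing R'']
    [CommRing C''] [Algebra R S] [Algebra R C] [Algebra S C] [IsScalarTower R S C] [Algebra R R'']
    [Algebra.Etale R R''] [Algebra R'' C''] [Algebra R C''] [IsScalarTower R R'' C''] [Algebra C C''] [IsScalarTower R C C'']
    [Algebra.Etale C C''] (hsurj : Function.Surjective (algebraMap S C)) :
    ∃ (E : Type u) (_ : CommRing E) (φS : S →+* E) (φR : R'' →+* E) (θ : E →+* C''),
      φS.Etale ∧ φS.comp (algebraMap R S) = φR.comp (algebraMap R R'') ∧ Function.Surjective θ ∧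
      RingHom.ker θ ≤ (RingHom.ker (algebraMap S C)).map φS ∧
      θ.comp φS = (algebraMap C C'').comp (algebraMap S C) ∧ θ.comp φR = algebraMap R'' C'' := by
  let T := S ⊗[R] R''
  let Tb := C ⊗[R] R''
  let π : T →ₐ[R] Tb := Algebra.TensorProduct.map (IsScalarTower.toAlgHom R S C) (AlgHom.id R R'')
  have hπ : Function.Surjective π :=
    Algebra.TensorProduct.map_surjective _ _ (show Function.Surjective (IsScalarTower.toAlgHom R S C) from hsurj)
      Function.surjective_id
  have hkπ : RingHom.ker π.toRingHom = (RingHom.ker (algebraMap S C)).map (algebraMap S T) :=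
    (Algebra.TensorProduct.rTensor_ker _ (show Function.Surjective (IsScalarTower.toAlgHom R S C) from hsurj)).trans rfl
  let χ : Tb →ₐ[R] C'' := Algebra.TensorProduct.lift (IsScalarTower.toAlgHom R C C'')
    (IsScalarTower.toAlgHom R R'' C'') fun _ _ => .all _ _
  letI : Algebra Tb C'' := χ.toRingHom.toAlgebra
  haveI : IsScalarTower C Tb C'' := IsScalarTower.of_algebraMap_eq fun b => by
    show algebraMap C C'' b = χ (b ⊗ₜ[R] 1)
    refine ((Algebra.TensorProduct.lift_tmul _ _ _ b 1).trans ?_).symm
    rw [map_one, mul_one]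
    rfl
  haveI : Algebra.FormallyEtale Tb C'' := Algebra.FormallyEtale.of_restrictScalars (R := C)
  haveI : Algebra.FinitePresentation Tb C'' :=
    Algebra.FinitePresentation.of_restrict_scalars_finitePresentation C Tb C''
  haveI : Algebra.Etale Tb C'' := {}
  let I := RingHom.ker π.toRingHom
  let ε : (T ⧸ I) ≃+* Tb := RingHom.quotientKerEquivOfSurjective (f := π.toRingHom) hπ
  letI : Algebra (T ⧸ I) C'' := ((algebraMap Tb C'').comp ε.toRingHom).toAlgebra
  letI : Algebra T C'' := ((algebraMap Tb C'').comp π.toRingHom).toAlgebra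
  haveI : IsScalarTower T (T ⧸ I) C'' := IsScalarTower.of_algebraMap_eq (R := T) (S := T ⧸ I) (A := C'') fun t => rfl
  haveI : Algebra.Etale (T ⧸ I) C'' := RingHom.etale_algebraMap.1 (by
    show ((algebraMap Tb C'').comp ε.toRingHom).Etale
    exact RingHom.Etale.respectsIso.2 (algebraMap Tb C'') ε (RingHom.etale_algebraMap.2 inferInstance))
  obtain ⟨E, _, _, _, φ, hφ, hker⟩ := Hens.exists_etale_lift T I C''
  letI : Algebra S E := Algebra.compHom E (algebraMap S T)
  haveI : IsScalarTower S T E := IsScalarTower.of_algebraMap_eq fun _ => rfl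
  haveI : Algebra.Etale S E := Algebra.Etale.comp S T E
  refine ⟨E, inferInstance, algebraMap S E, (algebraMap T E).comp (Algebra.TensorProduct.includeRight : R'' →ₐ[R] T).toRingHom,
    φ.toRingHom, RingHom.etale_algebraMap.2 inferInstance, ?_, hφ, ?_, ?_, ?_⟩
  · refine RingHom.ext fun a => ?_
    show algebraMap T E (algebraMap S T (algebraMap R S a)) =
      algebraMap T E (Algebra.TensorProduct.includeRight (algebraMap R R'' a))
    rw [AlgHom.commutes, ← IsScalarTower.algebraMap_apply R S T]
  · refine hker.le.trans ?_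
    show I.map (algebraMap T E) ≤ _
    rw [show I = _ from hkπ, Ideal.map_map]
    exact le_rfl
  · refine RingHom.ext fun a => ?_
    show φ (algebraMap T E (algebraMap S T a)) = _
    rw [φ.commutes]
    show χ (π (a ⊗ₜ[R] 1)) = _
    rw [show π (a ⊗ₜ[R] 1) = algebraMap S C a ⊗ₜ[R] (1 : R'') from rfl]
    refine (Algebra.TensorProduct.lift_tmul _ _ _ _ _).trans ?_
    rw [map_one, mul_one]
    rfl
  · refine RingHom.ext fun a => ?_
    show φ (algebraMap T E (Algebra.TensorProduct.includeRight a)) = _
    rw [φ.commutes]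
    show χ (π ((1 : S) ⊗ₜ[R] a)) = _
    rw [show π ((1 : S) ⊗ₜ[R] a) = (1 : C) ⊗ₜ[R] a from (Algebra.TensorProduct.map_tmul _ _ _ _).trans (by rw [map_one]; rfl)]
    refine (Algebra.TensorProduct.lift_tmul _ _ _ _ _).trans ?_
    rw [map_one, one_mul]
    rfl

end Groth.Agent.Dev4
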