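import Groth.Agent.Lib.Dev4.OpenPoint
import Groth.Agent.Lib.FibDim14.Comp
import Groth.Agent.Lib.Dev4.Lift

/-!
# Fibre support dimensions along étale maps
-/

set_option autoImplicit false

universe u

open TensorProduct AlgebraicGeometry CategoryTheory Topology

set_option backward.isDefEq.respectTransparency.types false

attribute [local instance] Algebra.TensorProduct.rightAlgebra

namespace Groth.Agent.Dev4

/-- Fibre support dimensions as fibre dimensions of closed subschemes. -/
theorem localDim_fibreSupp_eq {R B : Type u} [CommRing R] [CommRing B] [Algebra R B] (p : Ideal R) [p.IsPrime]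
    (M : Type u) [AddCommGroup M] [Module B M] (J : Ideal B)
    (hJ : Module.support B M = PrimeSpectrum.zeroLocus (J : Set B)) (y : Ideal B) [y.IsPrime]
    (hy : (⟨y, ‹_›⟩ : PrimeSpectrum B) ∈ fibreSupp p M) (yb : PrimeSpectrum (B ⧸ J))
    (hyb : yb.asIdeal.comap (Ideal.Quotient.mk J) = y) :
    FlatMor.localDim (fibreSupp p M) ⟨⟨y, ‹_›⟩, hy⟩ =
      FlatMor.fibreDimAt (Spec.map (CommRingCat.ofHom (algebraMap R (B ⧸ J)))) yb := by
  rw [FibDim14.fibreDimAt_eq_localDim_preimage]
  let c := PrimeSpectrum.comap (Ideal.Quotient.mk J)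
  have hc : IsEmbedding c :=
    (PrimeSpectrum.isClosedEmbedding_comap_of_surjective _ (Ideal.Quotient.mk J) Ideal.Quotient.mk_surjective).isEmbedding
  let e : ((Spec.map (CommRingCat.ofHom (algebraMap R (B ⧸ J)))) ⁻¹'
      {Spec.map (CommRingCat.ofHom (algebraMap R (B ⧸ J))) yb} : Set (PrimeSpectrum (B ⧸ J))) → PrimeSpectrum B :=
    fun w => c w.1
  have he : IsEmbedding e := hc.comp IsEmbedding.subtypeVal
  have hp : ∀ w : PrimeSpectrum (B ⧸ J),
      (c w).asIdeal.comap (algebraMap R B) = w.asIdeal.comap (algebraMap R (B ⧸ J)) := fun w => rfl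
  have hpy : yb.asIdeal.comap (algebraMap R (B ⧸ J)) = p := by
    rw [← hp]; show (yb.asIdeal.comap (Ideal.Quotient.mk J)).comap _ = p; rw [hyb]; exact hy.1
  have her : Set.range e = fibreSupp p M := by
    ext x
    constructor
    · rintro ⟨w, rfl⟩
      refine ⟨(hp w.1).trans ?_, ?_⟩
      · exact (congrArg PrimeSpectrum.asIdeal w.2 : w.1.asIdeal.comap (algebraMap R (B ⧸ J)) = _).trans hpy
      · rw [hJ, PrimeSpectrum.mem_zeroLocus]
        intro a ha
        show Ideal.Quotient.mk J a ∈ w.1.asIdeal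
        rw [Ideal.Quotient.eq_zero_iff_mem.2 ha]; exact zero_mem _
    · rintro ⟨hx1, hx2⟩
      rw [hJ, PrimeSpectrum.mem_zeroLocus] at hx2
      obtain ⟨w, rfl⟩ : x ∈ Set.range c := by
        rw [range_comap_of_surjective _ _ Ideal.Quotient.mk_surjective, Ideal.mk_ker, PrimeSpectrum.mem_zeroLocus]
        exact hx2
      refine ⟨⟨w, PrimeSpectrum.ext ?_⟩, rfl⟩
      exact ((hp w).symm.trans hx1).trans hpy.symm
  exact (FibDim14.localDim_of_range (b := (⟨y, ‹_›⟩ : PrimeSpectrum B)) he her ⟨yb, rfl⟩ (PrimeSpectrum.ext hyb) hy).symm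

/-- The local dimension of a fibre support does not change along étale maps over a point with étale base. -/
theorem locDim_etale {R R' S S' N N' : Type u} [CommRing R] [CommRing R'] [CommRing S] [CommRing S'] [Algebra R R']
    [Algebra.Etale R R'] [Algebra R S] [Algebra.FiniteType R S] [Algebra S S'] [Algebra.Etale S S'] [Algebra R' S']
    [Algebra R S'] [IsScalarTower R R' S'] [IsScalarTower R S S']
    [AddCommGroup N] [Module S N] [Module R N] [IsScalarTower R S N] [Module.Finite S N]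
    [AddCommGroup N'] [Module S' N'] [Module R' N'] [IsScalarTower R' S' N'] [Module S N'] [IsScalarTower S S' N']
    (f : N →ₗ[S] N') (hf : IsBaseChange S' f) (p : Ideal R) [p.IsPrime] (p' : Ideal R') [p'.IsPrime] [p'.LiesOver p]
    (q : Ideal S) [q.IsPrime] [q.LiesOver p] (q' : Ideal S') [q'.IsPrime] [q'.LiesOver q] [q'.LiesOver p'] (d : ℕ)
    (h : ∃ (x : PrimeSpectrum (p.Fiber S)) (hx : x ∈ Module.support (p.Fiber S) (FlatCA.fiberMod p S N)),
      x.asIdeal = FlatCA.fiberIdeal p q ∧
      FlatMor.localDim (Module.support (p.Fiber S) (FlatCA.fiberMod p S N)) ⟨x, hx⟩ = d) :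
    ∃ (x : PrimeSpectrum (p'.Fiber S')) (hx : x ∈ Module.support (p'.Fiber S') (FlatCA.fiberMod p' S' N')),
      x.asIdeal = FlatCA.fiberIdeal p' q' ∧
      FlatMor.localDim (Module.support (p'.Fiber S') (FlatCA.fiberMod p' S' N')) ⟨x, hx⟩ = d := by
  haveI : Module.Finite S' N' := Module.Finite.equiv hf.equiv
  obtain ⟨hq, hd⟩ := (locDim_iff p N q d).1 h
  refine (locDim_iff p' N' q' d).2 ?_
  let I := Module.annihilator S N
  let J := I.map (algebraMap S S')
  have hS : ∀ x : PrimeSpectrum S', x ∈ Module.support S' N' ↔ J ≤ x.asIdeal := fun x => by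
    rw [← hf.equiv.support_eq]
    refine (FlatPur25.mem_support_baseChange_iff (B := S) (C := S') (M := N) x).trans ?_
    rw [Module.mem_support_iff_of_finite, Ideal.map_le_iff_le_comap]
    rfl
  have hJ : Module.support S' N' = PrimeSpectrum.zeroLocus (J : Set S') := Set.ext fun x => hS x
  have hI : Module.support S N = PrimeSpectrum.zeroLocus (I : Set S) := Set.ext fun x => Module.mem_support_iff_of_finite
  have hIq : I ≤ q := (hI ▸ hq.2 : (⟨q, ‹_›⟩ : PrimeSpectrum S) ∈ PrimeSpectrum.zeroLocus (I : Set S))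
  have hJq : J ≤ q' := Ideal.map_le_iff_le_comap.2 fun a ha => (Ideal.mem_of_liesOver q' q a).1 (hIq ha)
  have hmem : (⟨q', ‹_›⟩ : PrimeSpectrum S') ∈ fibreSupp p' N' :=
    ⟨(‹q'.LiesOver p'›).over.symm, (hS _).2 hJq⟩
  refine ⟨hmem, ?_⟩
  let qb : PrimeSpectrum (S ⧸ I) := ⟨q.map (Ideal.Quotient.mk I),
    Ideal.map_isPrime_of_surjective Ideal.Quotient.mk_surjective (by rwa [Ideal.mk_ker])⟩
  let qb' : PrimeSpectrum (S' ⧸ J) := ⟨q'.map (Ideal.Quotient.mk J),
    Ideal.map_isPrime_of_surjective Ideal.Quotient.mk_surjective (by rwa [Ideal.mk_ker])⟩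
  have hqb : qb.asIdeal.comap (Ideal.Quotient.mk I) = q := Ideal.comap_map_mk hIq
  have hqb' : qb'.asIdeal.comap (Ideal.Quotient.mk J) = q' := Ideal.comap_map_mk hJq
  rw [localDim_fibreSupp_eq p' N' J hJ q' hmem qb' hqb']
  rw [localDim_fibreSupp_eq p N I hI q hq qb hqb] at hd
  let φ : S ⧸ I →+* S' ⧸ J := Ideal.quotientMap J (algebraMap S S') Ideal.le_comap_map
  have hφet : φ.Etale := by
    letI : Algebra (S ⧸ I) (S' ⧸ J) := φ.toAlgebra
    haveI : IsScalarTower S (S ⧸ I) (S' ⧸ J) := IsScalarTower.of_algebraMap_eq (R := S) (S := S ⧸ I) (A := S' ⧸ J) fun _ => rfl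
    haveI : Algebra.IsPushout S S' (S ⧸ I) (S' ⧸ J) :=
      isPushout_of_surjective Ideal.Quotient.mk_surjective Ideal.Quotient.mk_surjective
        (by
          rw [Ideal.Quotient.algebraMap_eq, Ideal.Quotient.algebraMap_eq, Ideal.mk_ker, Ideal.mk_ker])
    exact RingHom.etale_algebraMap.2 (Algebra.Etale.of_equiv
      ((Algebra.IsPushout.equiv S (S ⧸ I) S' (S' ⧸ J) (h := .symm inferInstance))))
  let e := Spec.map (CommRingCat.ofHom φ)
  let g := Spec.map (CommRingCat.ofHom (algebraMap R (S ⧸ I)))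
  let f' := Spec.map (CommRingCat.ofHom (algebraMap R' (S' ⧸ J)))
  let j := Spec.map (CommRingCat.ofHom (algebraMap R R'))
  haveI : Etale e := (HasRingHomProperty.Spec_iff (P := @Etale)).2 hφet
  haveI : Etale j := (HasRingHomProperty.Spec_iff (P := @Etale)).2 (RingHom.etale_algebraMap.2 inferInstance)
  haveI : LocallyQuasiFinite j := AlgSpDecent.locallyQuasiFinite_of_etale j
  haveI : LocallyOfFiniteType g :=
    (HasRingHomProperty.Spec_iff (P := @LocallyOfFiniteType)).2 (RingHom.finiteType_algebraMap.2 inferInstance)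
  have w : e ≫ g = f' ≫ j := by
    rw [← Spec.map_comp, ← Spec.map_comp]
    congr 1
    refine CommRingCat.hom_ext (RingHom.ext fun r => ?_)
    show φ (Ideal.Quotient.mk I (algebraMap R S r)) = Ideal.Quotient.mk J (algebraMap R' S' (algebraMap R R' r))
    rw [Ideal.quotientMap_mk, ← IsScalarTower.algebraMap_apply, ← IsScalarTower.algebraMap_apply]
  haveI : LocallyOfFiniteType f' := by
    haveI : LocallyOfFiniteType (f' ≫ j) := w ▸ inferInstance
    exact locallyOfFiniteType_of_comp f' j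
  have hqq : e qb' = qb := by
    refine PrimeSpectrum.ext ((Ideal.comap_injective_of_surjective _ Ideal.Quotient.mk_surjective : Function.Injective
      (Ideal.comap (Ideal.Quotient.mk I))) ?_)
    show (qb'.asIdeal.comap φ).comap (Ideal.Quotient.mk I) = qb.asIdeal.comap (Ideal.Quotient.mk I)
    rw [hqb, Ideal.comap_comap, show φ.comp (Ideal.Quotient.mk I) = (Ideal.Quotient.mk J).comp (algebraMap S S') from
      RingHom.ext fun _ => rfl, ← Ideal.comap_comap, hqb']
    exact (‹q'.LiesOver q›).over.symm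
  have h1 := FibDim14.fibreDimAt_etale_comp e g qb'
  have h2 := FibDim14.fibreDimAt_comp_lqf f' j qb'
  rw [w] at h1
  rw [← h2, h1, hqq]
  exact hd

end Groth.Agent.Dev4
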