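import Groth.Agent.Lib.Dev4.FlatOver
import Groth.Agent.Lib.Dev4.SmoothProjective
import Groth.Agent.Lib.RG4.Step
import Groth.Agent.Lib.FlatH4.FlatLocusFP
import Groth.Agent.Lib.FlatSyz.Kernel

/-!
# The flat locus through one step of a dévissage
-/

set_option autoImplicit false
set_option maxSynthPendingDepth 3

universe u

open TensorProduct IsLocalRing

set_option backward.isDefEq.respectTransparency.types false

attribute [local instance] Algebra.TensorProduct.rightAlgebra

namespace Groth.Agent.Dev4

/-- The content of an element of a projective module. -/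
theorem exists_content {R X : Type u} [CommRing R] [AddCommGroup X] [Module R X] [Module.Projective R X] (x : X) :
    ∃ J : Ideal R, J.FG ∧ ∀ (R' : Type u) [CommRing R'] [Algebra R R'],
      (1 : R') ⊗ₜ[R] x = 0 ↔ J.map (algebraMap R R') = ⊥ := by
  classical
  obtain ⟨σ, hσ⟩ := Module.projective_def.1 ‹Module.Projective R X›
  refine ⟨Ideal.span ((σ x).support.image fun p => σ x p : Finset R), ⟨_, rfl⟩, fun R' _ _ => ?_⟩
  rw [Ideal.map_span, Ideal.span_eq_bot]
  constructor
  · intro h c hc
    obtain ⟨a, ha, rfl⟩ := hc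
    obtain ⟨p, -, rfl⟩ := Finset.mem_image.1 (Finset.mem_coe.1 ha)
    have h1 := congrArg (fun v => TensorProduct.finsuppScalarRight R R' R' X (σ.lTensor R' v) p) h
    simpa [Algebra.smul_def] using h1
  · intro h
    rw [← hσ x, Finsupp.linearCombination_apply, Finsupp.sum, TensorProduct.tmul_sum]
    refine Finset.sum_eq_zero fun p hp => ?_
    rw [← TensorProduct.smul_tmul, Algebra.smul_def, mul_one,
      h _ ⟨σ x p, Finset.mem_coe.2 (Finset.mem_image.2 ⟨p, hp, rfl⟩), rfl⟩, TensorProduct.zero_tmul]

/-- The kernel over a further base change when the localised cokernel is flat modulo `I`. -/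
theorem exists_smul_eq_zero_of_flat_coker {R B X Y : Type u} [CommRing R] [CommRing B] [Algebra R B]
    [AddCommGroup X] [Module B X] [Module R X] [IsScalarTower R B X]
    [AddCommGroup Y] [Module B Y] [Module R Y] [IsScalarTower R B Y]
    (f : X →ₗ[B] Y) (S : Submonoid B) (I : Ideal R) (R' : Type u) [CommRing R'] [Algebra R R']
    (hI : I ≤ RingHom.ker (algebraMap R R'))
    [Module.Flat (R ⧸ I) ((R ⧸ I) ⊗[R] LocalizedModule S (Y ⧸ LinearMap.range f))]
    (hK : ∀ x : X, (∃ s ∈ S, s • f x ∈ I • (⊤ : Submodule R Y)) → x ⊗ₜ[R] (1 : R') = 0)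
    (z : X ⊗[R] R') (hz : AlgebraTensorModule.rTensor R R' f z = 0) : ∃ s ∈ S, s • z = 0 := by
  classical
  letI : Algebra (R ⧸ I) R' := (Ideal.Quotient.lift I (algebraMap R R') fun a ha => hI ha).toAlgebra
  haveI : IsScalarTower R (R ⧸ I) R' := IsScalarTower.of_algebraMap_eq fun _ => rfl
  let fS : LocalizedModule S X →ₗ[R] LocalizedModule S Y := (LocalizedModule.map S f).restrictScalars R
  let qS : LocalizedModule S Y →ₗ[R] LocalizedModule S (Y ⧸ LinearMap.range f) :=
    (LocalizedModule.map S (LinearMap.range f).mkQ).restrictScalars R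
  have hqS : Function.Surjective qS := LocalizedModule.map_surjective S _ (Submodule.mkQ_surjective _)
  let β := fS.baseChange (R ⧸ I)
  let γ := qS.baseChange (R ⧸ I)
  have hex : Function.Exact β γ :=
    lTensor_exact (R ⧸ I) (LocalizedModule.map_exact S f _ (LinearMap.exact_map_mkQ_range f)) hqS
  let inc := (LinearMap.range β).subtype
  have hι : Function.Injective (inc.lTensor R') :=
    LinearMap.lTensor_injective_of_exact_of_flat γ (LinearMap.lTensor_surjective (R ⧸ I) hqS) inc
      (Submodule.injective_subtype _) (by rw [LinearMap.exact_iff, Submodule.range_subtype]; exact LinearMap.exact_iff.1 hex) R'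
  -- elements of the kernel modulo `I` come from numerators with vanishing image
  have hker : ∀ u ∈ LinearMap.ker β, AlgebraTensorModule.cancelBaseChange R (R ⧸ I) R' R' (LocalizedModule S X)
      ((1 : R') ⊗ₜ[R ⧸ I] u) = 0 := by
    intro u hu
    obtain ⟨v, rfl⟩ : ∃ v : LocalizedModule S X, (1 : R ⧸ I) ⊗ₜ[R] v = u := by
      induction u using TensorProduct.induction_on with
      | zero => exact ⟨0, TensorProduct.tmul_zero _ _⟩
      | add a b ha hb =>
        clear hu
        obtain ⟨va, hva⟩ : ∃ v : LocalizedModule S X, (1 : R ⧸ I) ⊗ₜ[R] v = a := by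
          clear ha hb
          induction a using TensorProduct.induction_on with
          | zero => exact ⟨0, TensorProduct.tmul_zero _ _⟩
          | add p q hp hq =>
            obtain ⟨x, hx⟩ := hp
            obtain ⟨y, hy⟩ := hq
            exact ⟨x + y, by rw [TensorProduct.tmul_add, hx, hy]⟩
          | tmul c v =>
            obtain ⟨c, rfl⟩ := Ideal.Quotient.mk_surjective c
            exact ⟨c • v, by rw [← TensorProduct.smul_tmul, Algebra.smul_def, mul_one]; rfl⟩
        obtain ⟨vb, hvb⟩ : ∃ v : LocalizedModule S X, (1 : R ⧸ I) ⊗ₜ[R] v = b := by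
          clear ha hb
          induction b using TensorProduct.induction_on with
          | zero => exact ⟨0, TensorProduct.tmul_zero _ _⟩
          | add p q hp hq =>
            obtain ⟨x, hx⟩ := hp
            obtain ⟨y, hy⟩ := hq
            exact ⟨x + y, by rw [TensorProduct.tmul_add, hx, hy]⟩
          | tmul c v =>
            obtain ⟨c, rfl⟩ := Ideal.Quotient.mk_surjective c
            exact ⟨c • v, by rw [← TensorProduct.smul_tmul, Algebra.smul_def, mul_one]; rfl⟩
        exact ⟨va + vb, by rw [TensorProduct.tmul_add, hva, hvb]⟩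
      | tmul c v =>
        obtain ⟨c, rfl⟩ := Ideal.Quotient.mk_surjective c
        exact ⟨c • v, by rw [← TensorProduct.smul_tmul, Algebra.smul_def, mul_one]; rfl⟩
    rw [AlgebraTensorModule.cancelBaseChange_tmul, one_smul]
    have h1 := congrArg (TensorProduct.quotTensorEquivQuotSMul (LocalizedModule S Y) I) (LinearMap.mem_ker.1 hu)
    rw [map_zero, LinearMap.baseChange_tmul, ← map_one (Ideal.Quotient.mk I), TensorProduct.quotTensorEquivQuotSMul_mk_tmul, one_smul,
      Submodule.Quotient.mk_eq_zero] at h1
    induction v using LocalizedModule.induction_on with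
    | h x s =>
      have h2 : ∀ w : LocalizedModule S Y, w ∈ I • (⊤ : Submodule R (LocalizedModule S Y)) →
          ∃ (t : S) (m : Y), m ∈ I • (⊤ : Submodule R Y) ∧ (t : B) • w = LocalizedModule.mk m 1 := by
        intro w hw
        induction hw using Submodule.smul_induction_on' with
        | smul r hr n _ =>
          induction n using LocalizedModule.induction_on with
          | h m t =>
            refine ⟨t, r • m, Submodule.smul_mem_smul hr Submodule.mem_top, ?_⟩
            rw [smul_comm, LocalizedModule.smul'_mk (t : B), LocalizedModule.smul'_mk r, LocalizedModule.mk_eq]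
            exact ⟨1, by simp only [Submonoid.smul_def, OneMemClass.coe_one, one_smul]; rw [smul_comm]⟩
        | add a _ b _ ha hb =>
          obtain ⟨t₁, m₁, hm₁, h₁⟩ := ha
          obtain ⟨t₂, m₂, hm₂, h₂⟩ := hb
          refine ⟨t₁ * t₂, (t₂ : B) • m₁ + (t₁ : B) • m₂, add_mem
            (smul_mem_smul_top (B := B) _ _ hm₁) (smul_mem_smul_top (B := B) _ _ hm₂), ?_⟩
          show _ = LocalizedModule.mkLinearMap S Y _
          rw [map_add, map_smul, map_smul, LocalizedModule.mkLinearMap_apply, LocalizedModule.mkLinearMap_apply, ← h₁, ← h₂,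
            smul_add, Submonoid.coe_mul, mul_smul, mul_smul, smul_comm (t₁ : B) (t₂ : B)]
      obtain ⟨t, m, hm, htm⟩ := h2 _ h1
      replace htm : (t : B) • LocalizedModule.mk (f x) s = LocalizedModule.mk m 1 := by
        rw [← htm, ← LocalizedModule.map_mk]; rfl
      rw [LocalizedModule.smul'_mk, LocalizedModule.mk_eq] at htm
      obtain ⟨c, hc⟩ := htm
      simp only [Submonoid.smul_def, OneMemClass.coe_one, one_smul] at hc
      have h0 := hK x ⟨(c : B) * t, S.mul_mem c.2 t.2, by
        rw [mul_smul, hc]
        exact smul_mem_smul_top (B := B) _ _ (smul_mem_smul_top (B := B) _ _ hm)⟩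
      have h3 : LocalizedModule.mk x s = Localization.mk 1 s • LocalizedModule.mkLinearMap S X x := by
        rw [LocalizedModule.mkLinearMap_apply, LocalizedModule.mk_smul_mk, one_smul, mul_one]
      apply (TensorProduct.comm R R' (LocalizedModule S X)).injective
      rw [map_zero, TensorProduct.comm_tmul, h3,
        show (Localization.mk 1 s • LocalizedModule.mkLinearMap S X x) ⊗ₜ[R] (1 : R') =
          Localization.mk 1 s • (AlgebraTensorModule.rTensor R R' (LocalizedModule.mkLinearMap S X) (x ⊗ₜ[R] (1 : R'))) by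
        rw [AlgebraTensorModule.rTensor_tmul, TensorProduct.smul_tmul'],
        h0, map_zero, smul_zero]
  let gX : X ⊗[R] R' →ₗ[B] LocalizedModule S X ⊗[R] R' :=
    AlgebraTensorModule.rTensor R R' (LocalizedModule.mkLinearMap S X)
  let gY : Y ⊗[R] R' →ₗ[B] LocalizedModule S Y ⊗[R] R' :=
    AlgebraTensorModule.rTensor R R' (LocalizedModule.mkLinearMap S Y)
  suffices h : gX z = 0 by
    obtain ⟨s, hs⟩ := (IsLocalizedModule.eq_zero_iff S gX).1 h
    exact ⟨s, s.2, hs⟩
  let EX := AlgebraTensorModule.cancelBaseChange R (R ⧸ I) R' R' (LocalizedModule S X)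
  let EY := AlgebraTensorModule.cancelBaseChange R (R ⧸ I) R' R' (LocalizedModule S Y)
  have hnat : ∀ w, EY (β.lTensor R' w) = fS.lTensor R' (EX w) := fun w => by
    induction w using TensorProduct.induction_on with
    | zero => simp
    | add a b ha hb => simp only [map_add, ha, hb]
    | tmul a u =>
      induction u using TensorProduct.induction_on with
      | zero => simp
      | add p q hp hq => simp only [TensorProduct.tmul_add, map_add, hp, hq]
      | tmul p q => simp [EX, EY, β]
  have hsq : ∀ w, fS.lTensor R' (TensorProduct.comm R _ R' (gX w)) =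
      TensorProduct.comm R _ R' (gY (AlgebraTensorModule.rTensor R R' f w)) := fun w => by
    induction w using TensorProduct.induction_on with
    | zero => simp
    | add a b ha hb => simp only [map_add, ha, hb]
    | tmul a u => simp [gX, gY, fS, LocalizedModule.map_mk]
  have h1 : fS.lTensor R' (TensorProduct.comm R _ R' (gX z)) = 0 := by rw [hsq, hz, map_zero, map_zero]
  obtain ⟨w, hw⟩ := EX.surjective (TensorProduct.comm R _ R' (gX z))
  rw [← hw, ← hnat, LinearEquiv.map_eq_zero_iff] at h1
  have hβ : β = inc.comp β.rangeRestrict := rfl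
  rw [hβ, LinearMap.lTensor_comp, LinearMap.comp_apply] at h1
  have h2 := (injective_iff_map_eq_zero _).1 hι _ h1
  obtain ⟨w', rfl⟩ := (lTensor_exact R' (show Function.Exact (LinearMap.ker β.rangeRestrict).subtype β.rangeRestrict from
    LinearMap.exact_subtype_ker_map _) (LinearMap.surjective_rangeRestrict _) w).1 h2
  apply (TensorProduct.comm R _ R').injective
  rw [map_zero, ← hw]
  clear h1 h2 hw
  induction w' using TensorProduct.induction_on with
  | zero => simp
  | add a b ha hb => rw [map_add, map_add, ha, hb, add_zero]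
  | tmul a u =>
    obtain ⟨u, hu⟩ := u
    rw [LinearMap.ker_rangeRestrict] at hu
    rw [LinearMap.lTensor_tmul, Submodule.subtype_apply,
      show a ⊗ₜ[R ⧸ I] u = a • ((1 : R') ⊗ₜ[R ⧸ I] u) by rw [TensorProduct.smul_tmul', smul_eq_mul, mul_one], map_smul]
    rw [show EX ((1 : R') ⊗ₜ[R ⧸ I] u) = 0 from hker u hu, smul_zero]

/-- One step: flatness of the base change is flatness of the cokernel and injectivity of the map. -/
theorem flatOver_step {R B : Type u} [CommRing R] [IsLocalRing R] [CommRing B] [Algebra R B] [Algebra.Smooth R B]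
    (hB : FlatCA.GeomIrredFibres R B) (y : Ideal B) [y.IsPrime] [y.LiesOver (maximalIdeal R)]
    (M : Type u) [AddCommGroup M] [Module B M] [Module R M] [IsScalarTower R B M] [Module.Finite B M] {r : ℕ} (α : (Fin r → B) →ₗ[B] M)
    [((maximalIdeal R).map (algebraMap R B)).IsPrime]
    (hα : Function.Bijective (α.baseChange ((maximalIdeal R).map (algebraMap R B)).ResidueField))
    (R' : Type u) [CommRing R'] [IsLocalRing R'] [Algebra R R'] [IsLocalHom (algebraMap R R')] :
    (FlatOver R y M R' → FlatOver R y (M ⧸ LinearMap.range α) R' ∧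
      Function.Injective (AlgebraTensorModule.rTensor R R' α)) ∧
    (FlatOver R y (M ⧸ LinearMap.range α) R' →
      (∀ z, AlgebraTensorModule.rTensor R R' α z = 0 → ∃ s ∈ y.primeCompl, s • z = 0) → FlatOver R y M R') ∧
    (∀ (z : (Fin r → B) ⊗[R] R') (s : B), s ∉ y → s • z = 0 → z = 0) := by
  let B' := R' ⊗[R] B
  let m' := maximalIdeal R'
  haveI hm' : m'.LiesOver (maximalIdeal R) := ⟨(IsLocalRing.maximalIdeal_comap (algebraMap R R')).symm⟩
  have hB' : FlatCA.GeomIrredFibres R' B' := RG4.geomIrredFibres_baseChange R' hB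
  haveI : Algebra.Smooth R' B' := inferInstance
  haveI hP' : (m'.map (algebraMap R' B')).IsPrime := isPrime_map hB' m'
  let P := (maximalIdeal R).map (algebraMap R B)
  let P' := m'.map (algebraMap R' B')
  have hPP : P = P'.comap (algebraMap B B') := map_comap_baseChange (D := B) (maximalIdeal R) R' m'
  letI : Algebra P.ResidueField P'.ResidueField := (Ideal.ResidueField.map P P' (algebraMap B B') hPP).toAlgebra
  haveI : IsScalarTower B P.ResidueField P'.ResidueField := IsScalarTower.of_algebraMap_eq fun d => by
    rw [RingHom.algebraMap_toAlgebra, Ideal.ResidueField.map_algebraMap, ← IsScalarTower.algebraMap_apply]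
  let Ψ := TensorProduct.piScalarRight B B' B' (Fin r)
  let αB : (Fin r → B') →ₗ[B'] B' ⊗[B] M := (α.baseChange B').comp Ψ.symm.toLinearMap
  have hαB : Function.Bijective (αB.baseChange P'.ResidueField) := by
    refine bijective_baseChange_of_square _ (isBaseChange_pi B B' r) (TensorProduct.mk B B' M 1)
      (TensorProduct.isBaseChange B M B') α αB (fun v => ?_) (bijective_baseChange_trans α hα)
    show α.baseChange B' (Ψ.symm ((Algebra.linearMap B B').compLeft (Fin r) v)) = _
    have h1 : Ψ ((1 : B') ⊗ₜ[B] v) = (Algebra.linearMap B B').compLeft (Fin r) v := by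
      funext a
      simp [Ψ, Algebra.smul_def]
    rw [← h1, LinearEquiv.symm_apply_apply, LinearMap.baseChange_tmul]
    rfl
  let Φ : ∀ (X : Type u) [AddCommGroup X] [Module B X] [Module R X] [IsScalarTower R B X], B' ⊗[B] X ≃ₗ[R] X ⊗[R] R' :=
    fun X _ _ _ _ => ((Algebra.IsPushout.cancelBaseChange R R' B B' X).restrictScalars R).trans (TensorProduct.comm R R' X)
  have hΦ : ∀ (z : B' ⊗[B] (Fin r → B)),
      Φ M (α.baseChange B' z) = AlgebraTensorModule.rTensor R R' α (Φ (Fin r → B) z) := fun z => by
    simp only [Φ, LinearEquiv.trans_apply, LinearEquiv.restrictScalars_apply]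
    rw [show Algebra.IsPushout.cancelBaseChange R R' B B' M (α.baseChange B' z) = _ from cancelBaseChange_natural α z]
    generalize Algebra.IsPushout.cancelBaseChange R R' B B' (Fin r → B) z = w
    induction w using TensorProduct.induction_on with
    | zero => simp
    | add a b ha hb => simp only [map_add, ha, hb]
    | tmul a b => simp
  have hΦb : ∀ (b : B) (z : B' ⊗[B] (Fin r → B)), Φ (Fin r → B) (algebraMap B B' b • z) = b • Φ (Fin r → B) z := by
    intro b z
    obtain ⟨w, rfl⟩ := (Algebra.IsPushout.cancelBaseChange R R' B B' (Fin r → B)).symm.surjective z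
    induction w using TensorProduct.induction_on with
    | zero => simp
    | add p q hp hq => simp only [map_add, smul_add, hp, hq]
    | tmul p q =>
      rw [Algebra.IsPushout.cancelBaseChange_symm_tmul, algebraMap_smul, TensorProduct.smul_tmul',
        TensorProduct.smul_tmul, ← Algebra.IsPushout.cancelBaseChange_symm_tmul R R' B B' (Fin r → B) p (b • q),
        ← Algebra.IsPushout.cancelBaseChange_symm_tmul R R' B B' (Fin r → B) p q]
      simp only [Φ, LinearEquiv.trans_apply, LinearEquiv.restrictScalars_apply, LinearEquiv.apply_symm_apply,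
        TensorProduct.comm_tmul, TensorProduct.smul_tmul']
  -- no torsion off the generic point of the fibre
  have htf : ∀ (z : (Fin r → B) ⊗[R] R') (s : B), s ∉ y → s • z = 0 → z = 0 := by
    intro z s hs hsz
    obtain ⟨w, rfl⟩ := (Φ (Fin r → B)).surjective z
    rw [← hΦb, LinearEquiv.map_eq_zero_iff] at hsz
    rw [LinearEquiv.map_eq_zero_iff]
    have hsP : algebraMap B B' s ∉ P' := fun h => hs (Ideal.map_le_iff_le_comap.2 (Ideal.over_def y (maximalIdeal R)).le
      (show s ∈ P from hPP.symm ▸ h))
    apply Ψ.injective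
    rw [map_zero]
    funext a
    have h1 : algebraMap B B' s * Ψ w a = 0 := by
      rw [← smul_eq_mul, ← Pi.smul_apply, ← map_smul, hsz, map_zero, Pi.zero_apply]
    have hflB : FlatCA.FlatAt R' P' B' :=
      RG4.flat_of_isLocalizedModule (R := R') P'.primeCompl (LocalizedModule.mkLinearMap P'.primeCompl B')
    let u : (Fin 1 → B') ≃ₗ[B'] B' := LinearEquiv.funUnique (Fin 1) B' B'
    have hu := RG4.univInj_localized (N := B') hB' hflB (α := u.toLinearMap)
      (u.baseChange B' P'.ResidueField).bijective
    have h2 : LocalizedModule.mkLinearMap P'.primeCompl B' (Ψ w a) = 0 := by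
      rw [LocalizedModule.mkLinearMap_apply, ← LocalizedModule.zero_mk 1, LocalizedModule.mk_eq]
      exact ⟨⟨_, hsP⟩, by simp only [Submonoid.smul_def, OneMemClass.coe_one, one_smul, smul_zero]; exact h1⟩
    have h3 := hu R' (a₁ := (1 : R') ⊗ₜ[R'] (fun _ : Fin 1 => Ψ w a)) (a₂ := 0) (by
      rw [LinearMap.lTensor_tmul, map_zero]
      exact (congrArg ((1 : R') ⊗ₜ[R'] ·) h2).trans (TensorProduct.tmul_zero _ _))
    have h4 := congrArg (TensorProduct.lid R' (Fin 1 → B')) h3
    rw [TensorProduct.lid_tmul, one_smul, map_zero] at h4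
    exact congrFun h4 0
  let q : B' ⊗[B] M →ₗ[B'] B' ⊗[B] (M ⧸ LinearMap.range α) := (LinearMap.range α).mkQ.baseChange B'
  have hex : Function.Exact (α.baseChange B') q :=
    lTensor_exact B' (LinearMap.exact_map_mkQ_range α) (Submodule.mkQ_surjective _)
  have hrange : LinearMap.range αB = LinearMap.range (α.baseChange B') :=
    LinearMap.range_comp_of_range_eq_top _ (LinearMap.range_eq_top.2 Ψ.symm.surjective)
  let eT : ((B' ⊗[B] M) ⧸ LinearMap.range αB) ≃ₗ[B'] B' ⊗[B] (M ⧸ LinearMap.range α) :=
    (Submodule.quotEquivOfEq _ _ (hrange.trans (LinearMap.exact_iff.1 hex).symm)).trans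
      (LinearMap.quotKerEquivOfSurjective q (LinearMap.lTensor_surjective B' (Submodule.mkQ_surjective _)))
  refine ⟨fun h => ?_, fun hT hinj Q _ hQm hQy => ?_, htf⟩
  · obtain ⟨Q, hQ, hQR, hQB⟩ := exists_prime_over_both (B := R) (SA := R') (S := B) m' y
      ((Ideal.over_def y (maximalIdeal R)).symm.trans (Ideal.over_def m' (maximalIdeal R)))
    haveI := hQ
    haveI : Q.LiesOver m' := ⟨hQR.symm⟩
    have hinj := (RG4.univInj_and_flatAt_coker hB' Q (h Q inferInstance hQB) αB hαB).1
    refine ⟨fun Q' _ hQ'm hQ'y => ?_, fun a b hab => ?_⟩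
    · haveI := hQ'm
      exact RG4.flatAt_congr Q' eT (RG4.univInj_and_flatAt_coker hB' Q' (h Q' hQ'm hQ'y) αB hαB).2
    · obtain ⟨a, rfl⟩ := (Φ (Fin r → B)).surjective a
      obtain ⟨b, rfl⟩ := (Φ (Fin r → B)).surjective b
      rw [← hΦ, ← hΦ] at hab
      refine congrArg _ (Ψ.injective ?_)
      apply (TensorProduct.lid R' (Fin r → B')).symm.injective
      refine hinj R' ?_
      show (1 : R') ⊗ₜ[R'] αB (Ψ a) = (1 : R') ⊗ₜ[R'] αB (Ψ b)
      simp only [αB, LinearMap.comp_apply, LinearEquiv.coe_coe, LinearEquiv.symm_apply_apply, (Φ M).injective hab]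
  · haveI := hQm
    haveI : Module.Flat R' (Fin r → B') :=
      Module.Flat.of_linearEquiv (DirectSum.linearEquivFunOnFintype R' (Fin r) (fun _ => B')).symm
    haveI : Module.Flat R' (LocalizedModule Q.primeCompl (Fin r → B')) :=
      RG4.flat_of_isLocalizedModule Q.primeCompl (LocalizedModule.mkLinearMap Q.primeCompl (Fin r → B'))
    haveI : Module.Flat R' (LocalizedModule Q.primeCompl ((B' ⊗[B] M) ⧸ LinearMap.range αB)) :=
      RG4.flatAt_congr Q eT.symm (hT Q hQm hQy)
    refine RG4.flat_of_exact
      (g := (LocalizedModule.map Q.primeCompl (LinearMap.range αB).mkQ).restrictScalars R')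
      (LocalizedModule.map_surjective Q.primeCompl _ (Submodule.mkQ_surjective _))
      (f := (LocalizedModule.map Q.primeCompl αB).restrictScalars R')
      (LocalizedModule.map_exact Q.primeCompl αB _ (LinearMap.exact_map_mkQ_range αB)) ?_
    show Function.Injective (LocalizedModule.map Q.primeCompl αB)
    refine (injective_iff_map_eq_zero _).2 fun x hx => ?_
    induction x using LocalizedModule.induction_on with
    | h z t =>
      rw [LocalizedModule.map_mk, ← LocalizedModule.zero_mk t, LocalizedModule.mk_eq] at hx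
      obtain ⟨c, hc⟩ := hx
      simp only [Submonoid.smul_def, smul_zero, smul_smul] at hc
      rw [← map_smul] at hc
      let w := Ψ.symm (((c : B') * (t : B')) • z)
      have h1 : AlgebraTensorModule.rTensor R R' α (Φ (Fin r → B) w) = 0 := by
        rw [← hΦ, show α.baseChange B' w = 0 from hc, map_zero]
      obtain ⟨s, hs, hsw⟩ := hinj _ h1
      rw [← hΦb, LinearEquiv.map_eq_zero_iff, ← map_smul, LinearEquiv.map_eq_zero_iff] at hsw
      rw [← LocalizedModule.zero_mk t, LocalizedModule.mk_eq]
      refine ⟨⟨algebraMap B B' s * (c : B'), Q.primeCompl.mul_mem (fun h => hs (hQy ▸ h)) c.2⟩, ?_⟩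
      simp only [Submonoid.smul_def, smul_zero, smul_smul]
      rw [← hsw, smul_smul, mul_assoc]

end Groth.Agent.Dev4
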