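import Groth.Agent.Lib.Dev4.Free
import Groth.Agent.Lib.Dev4.Construct
import Groth.Agent.Lib.Dev4.FlatOverStep
import Groth.Agent.Lib.Hens.Local
import Groth.Agent.S1252
import Mathlib.RingTheory.Flat.FaithfullyFlat.Algebra

/-!
# Local algebras over a henselian local ring: models with a complete dévissage
-/

set_option autoImplicit false
set_option maxSynthPendingDepth 3

universe u

open TensorProduct IsLocalRing

set_option backward.isDefEq.respectTransparency.types false

attribute [local instance] Algebra.TensorProduct.rightAlgebra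

namespace Groth.Agent.Dev4

/-- An etale algebra over a finite type algebra over a henselian local ring with a complete dévissage at a point. -/
theorem exists_cda_henselian {A S : Type u} [CommRing A] [HenselianLocalRing A] [CommRing S] [Algebra A S]
    [Algebra.FiniteType A S] (N : Type u) [AddCommGroup N] [Module S N] [Module.Finite S N] (q : Ideal S) [q.IsPrime]
    [q.LiesOver (maximalIdeal A)] (hq : (⟨q, ‹_›⟩ : PrimeSpectrum S) ∈ Module.support S N) :
    ∃ (S₂ : Type u) (_ : CommRing S₂) (_ : Algebra A S₂) (_ : Algebra S S₂) (_ : IsScalarTower A S S₂)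
      (_ : Algebra.Etale S S₂) (q₂ : Ideal S₂) (_ : q₂.IsPrime) (_ : q₂.LiesOver q) (_ : q₂.LiesOver (maximalIdeal A)),
      FlatCA.HasCompleteDevissageAt A S₂ (S₂ ⊗[S] N) (maximalIdeal A) q₂ ∧
      (Algebra.FinitePresentation A S → Algebra.FinitePresentation A S₂) := by
  classical
  letI : Module A N := Module.compHom N (algebraMap A S)
  haveI : IsScalarTower A S N := IsScalarTower.of_algebraMap_smul fun _ _ => rfl
  set m := maximalIdeal A
  obtain ⟨R₁, S₁, _, _, _, _, _, _, _, _, p', q', _, _, hR, hS, hqp, hcd⟩ :=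
    Groth.Agent.S1252.result (R := A) (S := S) N m q (exists_fibre_support_point N m q hq)
  haveI := hqp
  haveI := hR.1
  haveI := hS.1
  haveI : q'.LiesOver q := hS.2.choose
  obtain ⟨hp', hκ⟩ := hR.2
  haveI := hp'
  -- a section of the étale neighbourhood
  let eκ : m.ResidueField ≃ₐ[A] p'.ResidueField := AlgEquiv.ofBijective _ hκ
  let eq : (A ⧸ m) ≃ₐ[A] m.ResidueField :=
    AlgEquiv.ofBijective (IsScalarTower.toAlgHom A (A ⧸ m) m.ResidueField) (Ideal.bijective_algebraMap_quotient_residueField m)
  let σ : R₁ →ₐ[A] A ⧸ m := eq.symm.toAlgHom.comp (eκ.symm.toAlgHom.comp (IsScalarTower.toAlgHom A R₁ p'.ResidueField))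
  obtain ⟨τ, hτ, -⟩ := Groth.Agent.Hens.existsUnique_algHom_lift (Groth.Agent.Hens.henselianRing_maximalIdeal A) σ
  letI : Algebra R₁ A := τ.toRingHom.toAlgebra
  haveI : IsScalarTower A R₁ A := IsScalarTower.of_algebraMap_eq fun a => (τ.commutes a).symm
  haveI hmp : m.LiesOver p' := ⟨Ideal.ext fun r => by
    show r ∈ p' ↔ τ r ∈ m
    rw [← Ideal.Quotient.eq_zero_iff_mem (I := m), show Ideal.Quotient.mk m (τ r) = σ r from AlgHom.congr_fun hτ r]
    show r ∈ p' ↔ eq.symm (eκ.symm (algebraMap R₁ p'.ResidueField r)) = 0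
    rw [map_eq_zero_iff _ eq.symm.injective, map_eq_zero_iff _ eκ.symm.injective, Ideal.algebraMap_residueField_eq_zero]⟩
  have hκ' : Function.Bijective (Ideal.ResidueField.mapₐ p' m (Algebra.ofId R₁ A) hmp.over) := by
    refine ⟨(Ideal.ResidueField.mapₐ p' m (Algebra.ofId R₁ A) hmp.over).toRingHom.injective, fun z => ?_⟩
    obtain ⟨c, rfl⟩ := eq.surjective z
    obtain ⟨a, rfl⟩ := Ideal.Quotient.mk_surjective c
    refine ⟨algebraMap R₁ p'.ResidueField (algebraMap A R₁ a), ?_⟩
    rw [AlgHom.commutes, IsScalarTower.algebraMap_apply R₁ A m.ResidueField, ← IsScalarTower.algebraMap_apply A R₁ A]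
    exact (eq.commutes a).symm
  let S₂ := A ⊗[R₁] S₁
  obtain ⟨q₂, hq₂, hq₂A, hq₂S⟩ := exists_prime_over_both (B := R₁) (SA := A) (S := S₁) m q'
    ((Ideal.over_def q' p').symm.trans (Ideal.over_def m p'))
  haveI := hq₂
  haveI : q₂.LiesOver q' := ⟨hq₂S.symm⟩
  haveI : q₂.LiesOver m := ⟨hq₂A.symm⟩
  letI : Algebra S S₂ := Algebra.compHom S₂ (algebraMap S S₁)
  haveI : IsScalarTower S S₁ S₂ := IsScalarTower.of_algebraMap_eq fun _ => rfl
  haveI : IsScalarTower A S S₂ := IsScalarTower.of_algebraMap_eq fun a => by
    rw [IsScalarTower.algebraMap_apply S S₁ S₂, ← IsScalarTower.algebraMap_apply A S S₁,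
      IsScalarTower.algebraMap_apply A R₁ S₁, ← IsScalarTower.algebraMap_apply R₁ S₁ S₂,
      IsScalarTower.algebraMap_apply R₁ A S₂, ← IsScalarTower.algebraMap_apply A R₁ A]
    rfl
  haveI : q₂.LiesOver q := Ideal.LiesOver.trans q₂ q' q
  haveI : Algebra.Etale R₁ A := Algebra.Etale.of_restrictScalars A R₁ A
  haveI hpo : Algebra.IsPushout R₁ S₁ A S₂ := Algebra.IsPushout.symm inferInstance
  haveI : Algebra.Etale S₁ S₂ := Algebra.Etale.of_equiv (Algebra.IsPushout.equiv R₁ S₁ A S₂ (h := hpo))
  haveI : Algebra.Etale S S₂ := Algebra.Etale.comp S S₁ S₂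
  haveI : IsScalarTower A R₁ S₁ := inferInstance
  haveI : Algebra.FiniteType R₁ S₁ :=
    haveI : Algebra.FiniteType A S₁ := Algebra.FiniteType.trans (S := S) inferInstance inferInstance
    Algebra.FiniteType.of_restrictScalars_finiteType A R₁ S₁
  haveI : Algebra.FiniteType A S₂ := inferInstance
  have hcd₂ : FlatCA.HasCompleteDevissageAt A S₂ (S₂ ⊗[S] N) m q₂ :=
    hasCDA_congr (hasCDA_tensor (hcd (S₁ ⊗[S] N) (TensorProduct.mk S S₁ N 1) (TensorProduct.isBaseChange S N S₁))
      A m hκ' S₂ q₂) (AlgebraTensorModule.cancelBaseChange S S₁ S₂ S₂ N).symm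
  exact ⟨S₂, inferInstance, inferInstance, inferInstance, inferInstance, inferInstance, q₂, hq₂, inferInstance, inferInstance, hcd₂,
    fun hfp => haveI := hfp; haveI : Algebra.FinitePresentation A S₁ := Algebra.FinitePresentation.trans A S S₁
      haveI : Algebra.FinitePresentation R₁ S₁ := Algebra.FinitePresentation.of_restrict_scalars_finitePresentation A R₁ S₁
      inferInstance⟩

/-- Changing the submonoid to the complement of the closed point. -/
theorem isLocalization_atMaximal {S B : Type u} [CommRing S] [CommRing B] [IsLocalRing B] [Algebra S B] (W : Submonoid S)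
    [IsLocalization W B] : IsLocalization ((maximalIdeal B).comap (algebraMap S B)).primeCompl B := by
  refine ⟨⟨fun s => ?_, fun z => ?_, fun {x y} h => ?_⟩⟩
  · by_contra hs
    exact s.2 (show algebraMap S B s ∈ maximalIdeal B from (IsLocalRing.mem_maximalIdeal _).2 hs)
  · obtain ⟨⟨a, w, hw⟩, h⟩ := IsLocalization.surj W z
    exact ⟨⟨a, w, fun hm => (IsLocalRing.mem_maximalIdeal _).1 hm (IsLocalization.map_units B (⟨w, hw⟩ : W))⟩, h⟩
  · obtain ⟨⟨w, hw⟩, h'⟩ := IsLocalization.exists_of_eq (M := W) h
    exact ⟨⟨w, fun hm => (IsLocalRing.mem_maximalIdeal _).1 hm (IsLocalization.map_units B (⟨w, hw⟩ : W))⟩, h'⟩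


/-- A finite module over a localisation comes from a finite module. -/
theorem exists_finite_model {S B : Type u} [CommRing S] [CommRing B] [Algebra S B] (T : Submonoid S) [IsLocalization T B]
    (M : Type u) [AddCommGroup M] [Module B M] [Module S M] [IsScalarTower S B M] [Module.Finite B M] :
    ∃ N : Submodule S M, Module.Finite S N ∧ IsLocalizedModule T N.subtype := by
  classical
  obtain ⟨G, hG⟩ := (Module.Finite.fg_top : (⊤ : Submodule B M).FG)
  let N := Submodule.span S (G : Set M)
  haveI : Module.Finite S N := Module.Finite.span_of_finite S G.finite_toSet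
  have hloc : IsLocalizedModule T N.subtype := by
    refine ⟨fun s => ?_, fun x => ?_, fun {x y} h => ⟨1, by rw [Subtype.ext (show (x : M) = y from h)]⟩⟩
    · refine (Module.End.isUnit_iff _).2 ?_
      obtain ⟨u, hu⟩ := IsLocalization.map_units B s
      refine ⟨fun x y hxy => ?_, fun x => ⟨(↑u⁻¹ : B) • x, ?_⟩⟩
      · have h' : algebraMap S B s • x = algebraMap S B s • y := by rw [algebraMap_smul, algebraMap_smul]; exact hxy
        rw [← hu] at h'
        exact (smul_left_cancel_iff u).1 h'
      · show (s : S) • ((↑u⁻¹ : B) • x) = x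
        rw [← algebraMap_smul B (s : S), ← hu, ← mul_smul, Units.mul_inv, one_smul]
    · have hx : x ∈ Submodule.span B (G : Set M) := hG ▸ Submodule.mem_top
      induction hx using Submodule.span_induction with
      | mem z hz => exact ⟨(⟨z, Submodule.subset_span hz⟩, 1), by simp⟩
      | zero => exact ⟨(0, 1), by simp⟩
      | add a b _ _ ha hb =>
        obtain ⟨⟨p, s⟩, hp⟩ := ha
        obtain ⟨⟨p', s'⟩, hp'⟩ := hb
        refine ⟨((s' : S) • p + (s : S) • p', s * s'), ?_⟩
        show ((s : S) * (s' : S)) • (a + b) = N.subtype _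
        rw [map_add, map_smul, map_smul, ← hp, ← hp']
        show ((s : S) * (s' : S)) • (a + b) = (s' : S) • ((s : S) • a) + (s : S) • ((s' : S) • b)
        rw [smul_add, ← mul_smul, ← mul_smul, mul_comm (s' : S) (s : S)]
      | smul c a _ ha =>
        obtain ⟨⟨p, s⟩, hp⟩ := ha
        obtain ⟨⟨c₀, t⟩, hc⟩ := IsLocalization.surj T c
        refine ⟨(c₀ • p, t * s), ?_⟩
        show ((t : S) * (s : S)) • (c • a) = N.subtype _
        rw [map_smul, ← hp]
        show ((t : S) * (s : S)) • (c • a) = c₀ • ((s : S) • a)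
        have hc' : algebraMap S B (t : S) * c = algebraMap S B c₀ := (mul_comm _ _).trans hc
        rw [← algebraMap_smul B ((t : S) * (s : S)), ← algebraMap_smul B c₀, ← algebraMap_smul B (s : S), map_mul,
          ← mul_smul, ← mul_smul, ← hc']
        congr 1
        ring
  exact ⟨N, inferInstance, hloc⟩

/-- A faithfully flat algebra gives universally injective maps over a base. -/
theorem universallyInjective_mk {A B C : Type u} [CommRing A] [CommRing B] [CommRing C] [Algebra A B] [Algebra B C]
    [Algebra A C] [IsScalarTower A B C]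
    [Module.FaithfullyFlat B C] (N : Type u) [AddCommGroup N] [Module B N] [Module A N] [IsScalarTower A B N] :
    CAlgX.UniversallyInjective A ((TensorProduct.mk B C N 1).restrictScalars A) := by
  intro Q _ _
  have key : ∀ z, AlgebraTensorModule.assoc A B B C N Q (((TensorProduct.mk B C N 1).restrictScalars A).rTensor Q z) =
      TensorProduct.mk B C (N ⊗[A] Q) 1 z := fun z => by
    induction z using TensorProduct.induction_on with
    | zero => simp
    | add a b ha hb => simp only [map_add, ha, hb]
    | tmul n q => rfl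
  intro x y hxy
  refine Module.FaithfullyFlat.tensorProduct_mk_injective (A := B) (B := C) (N ⊗[A] Q) ?_
  rw [← key, ← key, hxy]

/-- The extension of a flat module to a flat algebra is flat over the base. -/
theorem flat_tensor_of_flat {A B C : Type u} [CommRing A] [CommRing B] [CommRing C] [Algebra A B] [Algebra B C]
    [Algebra A C] [IsScalarTower A B C]
    [Module.Flat B C] (N : Type u) [AddCommGroup N] [Module B N] [Module A N] [IsScalarTower A B N] [Module.Flat A N] :
    Module.Flat A (C ⊗[B] N) := by
  refine Module.Flat.iff_lTensor_injective'.2 fun I => ?_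
  let j : N ⊗[A] I →ₗ[B] N ⊗[A] A := AlgebraTensorModule.lTensor B N I.subtype
  have hj : Function.Injective j :=
    Module.Flat.lTensor_preserves_injective_linearMap (M := N) I.subtype I.injective_subtype
  have key : ∀ z, AlgebraTensorModule.assoc A B B C N A ((I.subtype).lTensor (C ⊗[B] N) z) =
      j.lTensor C (AlgebraTensorModule.assoc A B B C N I z) := fun z => by
    induction z using TensorProduct.induction_on with
    | zero => simp
    | add a b ha hb => simp only [map_add, ha, hb]
    | tmul x i =>
      induction x using TensorProduct.induction_on with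
      | zero => simp
      | add a b ha hb => simp only [TensorProduct.add_tmul, map_add, ha, hb]
      | tmul c n => rfl
  intro x y hxy
  refine (AlgebraTensorModule.assoc A B B C N I).injective
    (Module.Flat.lTensor_preserves_injective_linearMap (M := C) j hj ?_)
  rw [← key, ← key, hxy]

end Groth.Agent.Dev4
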