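import Groth.Agent.Lib.Dev4.FreeQuot
import Groth.Agent.Lib.Dev4.Henselian
import Groth.Agent.Lib.Hens.FiniteType
import Groth.Agent.Lib.Hens.Henselization
import Mathlib.RingTheory.ZariskisMainTheorem
import Mathlib.RingTheory.Unramified.Field
import Mathlib.RingTheory.Unramified.Finite
import Mathlib.RingTheory.Algebraic.Integral

/-!
# Elements of the henselisation divisible by all nonzero elements
-/

set_option autoImplicit false
set_option maxSynthPendingDepth 3

universe u

open IsLocalRing TensorProduct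

set_option backward.isDefEq.respectTransparency.types false

namespace Groth.Agent.Dev4

/-- In an etale local ring nothing nonzero is killed by a prime without annihilator. -/
theorem eq_zero_of_prime_smul {R S : Type u} [CommRing R] [CommRing S] [Algebra R S] [Algebra.Etale R S]
    (p : Ideal R) [p.IsPrime] (hreg : ∀ s : R, s ∉ p → ∀ ω : R, s * ω = 0 → ω = 0)
    (h0 : ∀ ω : R, (∀ q ∈ p, q * ω = 0) → ω = 0) (τ : Ideal S) [τ.IsPrime] [τ.LiesOver p]
    (x : Localization.AtPrime τ) (hx : ∀ q ∈ p, q • x = 0) : x = 0 := by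
  classical
  let P := Localization.AtPrime τ
  obtain ⟨S', hS', r, hr, hbij⟩ := Algebra.QuasiFiniteAt.exists_fg_and_exists_notMem_and_awayMap_bijective (R := R) τ
  haveI : Module.Finite R S' := ⟨(Submodule.fg_top _).mpr hS'⟩
  let τ' := τ.comap (algebraMap S' S)
  haveI : τ'.LiesOver p := ⟨(Ideal.over_def τ p).trans (by
    show τ.comap (algebraMap R S) = (τ.comap (algebraMap S' S)).comap (algebraMap R S')
    rw [Ideal.comap_comap, ← IsScalarTower.algebraMap_eq])⟩
  haveI hloc' : IsLocalization τ'.primeCompl P := by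
    have hpull := fun y => Hens.exists_pow_mul_mem_of_bijective_awayMap S'.val.toRingHom r hbij.2 y
    refine ⟨⟨fun s => ?_, fun z => ?_, fun {a b} h => ?_⟩⟩
    · rw [IsScalarTower.algebraMap_apply S' S P]
      exact IsLocalization.map_units P (⟨_, s.2⟩ : τ.primeCompl)
    · obtain ⟨⟨a, s⟩, has⟩ := IsLocalization.surj τ.primeCompl z
      obtain ⟨n, a', ha'⟩ := hpull a
      obtain ⟨n', s', hs'⟩ := hpull (s : S)
      have ha'' : algebraMap S' S a' = algebraMap S' S r ^ n * a := ha'.symm
      have hs'' : algebraMap S' S s' = algebraMap S' S r ^ n' * (s : S) := hs'.symm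
      have hmem : r ^ n * s' ∈ τ'.primeCompl := fun h => by
        change algebraMap S' S (r ^ n * s') ∈ τ at h
        rw [map_mul, map_pow, hs''] at h
        exact (Ideal.IsPrime.mem_or_mem inferInstance h).elim (fun h => hr (Ideal.IsPrime.mem_of_pow_mem inferInstance _ h))
          fun h => (Ideal.IsPrime.mem_or_mem inferInstance h).elim (fun h => hr (Ideal.IsPrime.mem_of_pow_mem inferInstance _ h)) s.2
      refine ⟨⟨r ^ n' * a', ⟨_, hmem⟩⟩, ?_⟩
      show z * algebraMap S' P (r ^ n * s') = algebraMap S' P (r ^ n' * a')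
      simp only [IsScalarTower.algebraMap_apply S' S P, map_mul, map_pow, hs'', ha'']
      rw [← has]
      ring
    · rw [IsScalarTower.algebraMap_apply S' S P, IsScalarTower.algebraMap_apply S' S P] at h
      obtain ⟨⟨s, hs⟩, hsab⟩ := IsLocalization.exists_of_eq (M := τ.primeCompl) h
      obtain ⟨n, s', hs'⟩ := hpull s
      have hs'' : algebraMap S' S s' = algebraMap S' S r ^ n * s := hs'.symm
      refine ⟨⟨s', fun h => ?_⟩, Subtype.ext ?_⟩
      · change algebraMap S' S s' ∈ τ at h
        rw [hs''] at h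
        exact (Ideal.IsPrime.mem_or_mem inferInstance h).elim (fun h => hr (Ideal.IsPrime.mem_of_pow_mem inferInstance _ h)) hs
      · show algebraMap S' S (s' * a) = algebraMap S' S (s' * b)
        rw [map_mul, map_mul, hs'', mul_assoc, mul_assoc]
        exact congrArg (_ * ·) hsab
  let T := Localization.AtPrime p
  let F := T ⊗[R] S'
  have hp : ∀ t : p.primeCompl, IsUnit (algebraMap R P t) := fun t => by
    rw [IsScalarTower.algebraMap_apply R S P]
    exact IsLocalization.map_units P (⟨_, fun h => t.2 ((Ideal.mem_of_liesOver τ p _).2 h)⟩ : τ.primeCompl)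
  letI : Algebra T P := (IsLocalization.lift (M := p.primeCompl) hp : T →+* P).toAlgebra
  haveI : IsScalarTower R T P := IsScalarTower.of_algebraMap_eq fun a => (IsLocalization.lift_eq hp a).symm
  letI : Algebra F P := (Algebra.TensorProduct.lift (IsScalarTower.toAlgHom R T P) (IsScalarTower.toAlgHom R S' P)
    fun _ _ => Commute.all _ _).toRingHom.toAlgebra
  haveI : IsScalarTower T F P := IsScalarTower.of_algebraMap_eq fun t => by
    show _ = Algebra.TensorProduct.lift _ _ _ (t ⊗ₜ[R] (1 : S'))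
    simp
  letI : Algebra S' F := Algebra.TensorProduct.rightAlgebra
  haveI : IsScalarTower S' F P := IsScalarTower.of_algebraMap_eq fun t => by
    show _ = Algebra.TensorProduct.lift _ _ _ ((1 : T) ⊗ₜ[R] t)
    simp
  haveI hFloc : IsLocalization (Algebra.algebraMapSubmonoid S' p.primeCompl) F := inferInstance
  haveI : IsLocalRing P := inferInstance
  have hle : Algebra.algebraMapSubmonoid S' p.primeCompl ≤ τ'.primeCompl := by
    rintro _ ⟨t, ht, rfl⟩ h
    exact ht ((Ideal.mem_of_liesOver τ' p t).2 h)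
  haveI := IsLocalization.isLocalization_of_submonoid_le F P (Algebra.algebraMapSubmonoid S' p.primeCompl) τ'.primeCompl hle
  haveI := isLocalization_atMaximal (S := F) (B := P) (τ'.primeCompl.map (algebraMap S' F))
  let σ := (maximalIdeal P).comap (algebraMap F P)
  haveI : σ.LiesOver (maximalIdeal T) := ⟨by
    show _ = ((maximalIdeal P).comap (algebraMap F P)).comap (algebraMap T F)
    rw [Ideal.comap_comap, ← IsScalarTower.algebraMap_eq]
    ext t
    obtain ⟨a, s, rfl⟩ := IsLocalization.exists_mk'_eq p.primeCompl t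
    rw [IsLocalization.AtPrime.mk'_mem_maximal_iff T p, Ideal.mem_comap,
      show algebraMap T P = IsLocalization.lift (M := p.primeCompl) hp from rfl, IsLocalization.lift_mk',
      Ideal.mul_unit_mem_iff_mem _ (Units.isUnit _), IsScalarTower.algebraMap_apply R S P, IsLocalization.AtPrime.to_map_mem_maximal_iff P τ]
    exact Ideal.mem_of_liesOver τ p a⟩
  haveI : Module.Flat R P := Module.Flat.trans R S P
  haveI : Module.Flat T P := (Module.flat_iff_of_isLocalization T p.primeCompl P).2 inferInstance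
  haveI : Module.Finite T F := Module.Finite.base_change R T S'
  refine eq_zero_of_maximalIdeal_smul (T := T) (fun ω hω => ?_) F σ x fun q hq => ?_
  · obtain ⟨a, s, rfl⟩ := IsLocalization.exists_mk'_eq p.primeCompl ω
    rw [IsLocalization.mk'_eq_zero_iff]
    refine ⟨1, ?_⟩
    rw [OneMemClass.coe_one, one_mul]
    refine h0 a fun q hq => ?_
    have h1 := hω (algebraMap R T q) ((IsLocalization.AtPrime.to_map_mem_maximal_iff T p q).2 hq)
    rw [IsLocalization.mul_mk'_eq_mk'_of_mul, IsLocalization.mk'_eq_zero_iff] at h1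
    obtain ⟨c, hc⟩ := h1
    exact hreg c c.2 _ hc
  · obtain ⟨a, s, rfl⟩ := IsLocalization.exists_mk'_eq p.primeCompl q
    rw [IsLocalization.AtPrime.mk'_mem_maximal_iff T p] at hq
    rw [IsLocalization.mk'_eq_mul_mk'_one, mul_comm, mul_smul, algebraMap_smul, hx a hq, smul_zero]

/-- In an etale local ring over a local ring, an element divisible by everything outside a prime
smaller than the maximal ideal lies in the extension of the prime. -/
theorem mem_map_of_forall_divisible {R S : Type u} [CommRing R] [IsLocalRing R] [CommRing S] [Algebra R S]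
    [Algebra.Etale R S] (p : Ideal R) [p.IsPrime] (t : R) (htm : t ∈ maximalIdeal R) (htp : t ∉ p)
    (n : Ideal S) [n.IsPrime] [n.LiesOver (maximalIdeal R)] (γ : Localization.AtPrime n)
    (h : ∀ s : R, s ∉ p → ∃ μ, γ - s • μ ∈ p.map (algebraMap R (Localization.AtPrime n))) :
    γ ∈ p.map (algebraMap R (Localization.AtPrime n)) := by
  classical
  let L := Localization.AtPrime n
  let pL := p.map (algebraMap R L)
  let pS := p.map (algebraMap R S)
  have hpS : pS.map (algebraMap S L) = pL := by rw [Ideal.map_map, ← IsScalarTower.algebraMap_eq]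
  obtain ⟨⟨a, s₀⟩, has⟩ := IsLocalization.surj n.primeCompl γ
  obtain ⟨u, hu⟩ := IsLocalization.map_units L s₀
  have hγ : γ = algebraMap S L a * ↑u⁻¹ := by rw [← has, ← hu, Units.mul_inv_cancel_right]
  suffices hA : algebraMap S L a ∈ pL by rw [hγ]; exact Ideal.mul_mem_right _ _ hA
  have h' : ∀ s : R, s ∉ p → ∃ μ, algebraMap S L a - s • μ ∈ pL := fun s hs => by
    obtain ⟨μ, hμ⟩ := h s hs
    refine ⟨μ * algebraMap S L s₀, ?_⟩
    rw [← has, ← smul_mul_assoc, ← sub_mul]
    exact Ideal.mul_mem_right _ _ hμ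
  -- the fibre
  let D := R ⧸ p
  let Kp := p.ResidueField
  let F := Kp ⊗[R] S
  haveI : Algebra.Etale Kp F := inferInstance
  haveI : Module.Finite Kp F := Algebra.FormallyUnramified.finite_of_free Kp F
  haveI : _root_.IsReduced F := Algebra.FormallyUnramified.isReduced_of_field Kp F
  let ψ : S →ₐ[R] F := Algebra.TensorProduct.includeRight
  have hψ : ∀ z : S, ψ z = 0 → z ∈ pS := fun z hz => by
    have hinj : Function.Injective ((IsScalarTower.toAlgHom R D Kp).toLinearMap.rTensor S) :=
      Module.Flat.rTensor_preserves_injective_linearMap _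
        (Ideal.injective_algebraMap_quotient_residueField p)
    rw [← Ideal.Quotient.eq_zero_iff_mem]
    refine (Algebra.TensorProduct.quotIdealMapEquivQuotTensor S p).injective ?_
    rw [map_zero, Algebra.TensorProduct.quotIdealMapEquivQuotTensor_mk]
    refine hinj ?_
    rw [map_zero, LinearMap.rTensor_tmul]
    show algebraMap D Kp 1 ⊗ₜ[R] z = 0
    rw [map_one]
    exact hz
  have hpT : ∀ (c : R) (z : L), c ∉ p → c • z ∈ pL → z ∈ pL := fun c z hc hz => by
    rw [← Ideal.Quotient.eq_zero_iff_mem] at hz ⊢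
    haveI : Module.Flat D (L ⧸ pL) :=
      haveI : Module.Flat R L := Module.Flat.trans R S L
      Module.Flat.of_linearEquiv (Algebra.TensorProduct.quotIdealMapEquivQuotTensor L p).toLinearEquiv
    refine (Module.Flat.isSMulRegular_of_isRegular
      (IsRegular.of_ne_zero (a := Ideal.Quotient.mk p c) (fun h => hc (Ideal.Quotient.eq_zero_iff_mem.1 h)))
      (M := L ⧸ pL)) ?_
    show Ideal.Quotient.mk p c • Ideal.Quotient.mk pL z = Ideal.Quotient.mk p c • (0 : L ⧸ pL)
    rw [smul_zero]
    exact hz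
  haveI : Module.Flat R L := Module.Flat.trans R S L
  obtain ⟨Q, hQ0, hQ⟩ := (Algebra.IsAlgebraic.isAlgebraic (R := Kp) (ψ a) : IsAlgebraic Kp (ψ a)).restrictScalars D
  -- the lowest coefficient
  obtain ⟨Q₁, hQ₁, hQ₁X⟩ := Polynomial.exists_eq_pow_rootMultiplicity_mul_and_not_dvd Q hQ0 0
  simp only [map_zero, sub_zero] at hQ₁ hQ₁X
  set i := Q.rootMultiplicity 0
  obtain ⟨G, hG⟩ := Polynomial.map_surjective (Ideal.Quotient.mk p) Ideal.Quotient.mk_surjective Q₁
  let d := G.coeff 0
  have hd : d ∉ p := fun hd => hQ₁X (Polynomial.X_dvd_iff.2 (by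
    rw [← hG, Polynomial.coeff_map, Ideal.Quotient.eq_zero_iff_mem]; exact hd))
  have hrel : a ^ i * Polynomial.aeval a G ∈ pS := hψ _ (by
    rw [map_mul, map_pow, ← Polynomial.aeval_algHom_apply, ← Polynomial.aeval_map_algebraMap D]
    have hG' : G.map (algebraMap R D) = Q₁ := hG
    rw [hG', ← Polynomial.aeval_X (R := D) (ψ a), ← map_pow]
    simp only [Polynomial.aeval_X]
    rw [← map_mul, ← hQ₁, hQ])
  -- the contradiction
  let A := algebraMap S L a
  have hdt : d * t ∉ p := fun h => (Ideal.IsPrime.mem_or_mem inferInstance h).elim hd htp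
  obtain ⟨μ, hμ⟩ := h' (d * t) hdt
  have hrel' : A ^ i * Polynomial.aeval A G ∈ pL := by
    rw [← hpS, show A ^ i * Polynomial.aeval A G = algebraMap S L (a ^ i * Polynomial.aeval a G) by
      rw [map_mul, map_pow, Polynomial.aeval_algebraMap_apply]]
    exact Ideal.mem_map_of_mem _ hrel
  have hG0 : Polynomial.aeval A G = A * Polynomial.aeval A G.divX + algebraMap R L d := by
    have h1 := congrArg (Polynomial.aeval A) (Polynomial.X_mul_divX_add G)
    simp only [map_add, map_mul, Polynomial.aeval_X, Polynomial.aeval_C] at h1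
    exact h1.symm
  have hu1 : IsUnit (1 + algebraMap R L t * (μ * Polynomial.aeval A G.divX)) := by
    have htL : algebraMap R L t ∈ maximalIdeal L := by
      rw [IsScalarTower.algebraMap_apply R S L, IsLocalization.AtPrime.to_map_mem_maximal_iff L n]
      exact (Ideal.mem_of_liesOver n (maximalIdeal R) t).1 htm
    by_contra hnu
    have h1 := (IsLocalRing.mem_maximalIdeal _).2 hnu
    exact (maximalIdeal.isMaximal L).ne_top ((Ideal.eq_top_iff_one _).2 (by
      simpa using Ideal.sub_mem _ h1 (Ideal.mul_mem_right (μ * Polynomial.aeval A G.divX) _ htL)))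
  have hkey : d • (A ^ i * (1 + algebraMap R L t * (μ * Polynomial.aeval A G.divX))) ∈ pL := by
    have h1 : d • (A ^ i * (1 + algebraMap R L t * (μ * Polynomial.aeval A G.divX))) =
        A ^ i * Polynomial.aeval A G - (A - (d * t) • μ) * (A ^ i * Polynomial.aeval A G.divX) := by
      rw [hG0, Algebra.smul_def, Algebra.smul_def, map_mul]
      ring
    rw [h1]
    exact Ideal.sub_mem _ hrel' (Ideal.mul_mem_right _ _ hμ)
  obtain ⟨v, hv⟩ := hu1
  have hAi : A ^ i ∈ pL := by
    have h1 := Ideal.mul_mem_right (↑v⁻¹ : L) _ (hpT d _ hd hkey)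
    rwa [← hv, mul_assoc, Units.mul_inv, mul_one] at h1
  rw [← map_pow, ← hpS, IsLocalization.algebraMap_mem_map_algebraMap_iff n.primeCompl] at hAi
  rw [← hpS, IsLocalization.algebraMap_mem_map_algebraMap_iff n.primeCompl]
  obtain ⟨s, hs, hsa⟩ := hAi
  refine ⟨s, hs, hψ _ (IsReduced.eq_zero _ ⟨i + 1, ?_⟩)⟩
  have h1 : ψ (s * a ^ i) = 0 := by
    have h2 : pS.map ψ.toRingHom = ⊥ := by
      rw [Ideal.map_map, show ψ.toRingHom.comp (algebraMap R S) = algebraMap R F from ψ.comp_algebraMap, eq_bot_iff,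
        Ideal.map_le_iff_le_comap]
      intro q hq
      show algebraMap R F q = 0
      rw [IsScalarTower.algebraMap_apply R Kp F, Ideal.algebraMap_residueField_eq_zero.2 hq, map_zero]
    exact (Ideal.mem_bot).1 (h2 ▸ Ideal.mem_map_of_mem ψ.toRingHom hsa)
  rw [← map_pow, show (s * a) ^ (i + 1) = (s ^ i * a) * (s * a ^ i) by ring, map_mul, h1, mul_zero]

/-- Over a local ring without socle whose nonzero ideals meet, nothing nonzero in the henselisation is
divisible by all nonzero elements. -/
theorem eq_zero_of_forall_divisible {R : Type u} [CommRing R] [IsLocalRing R]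
    (hsoc : ∀ ω : R, (∀ q ∈ maximalIdeal R, q * ω = 0) → ω = 0)
    (hunif : ∀ r s : R, r ≠ 0 → s ≠ 0 → ∃ a b : R, r * a = s * b ∧ r * a ≠ 0)
    (c : Hens.Hh R) (h : ∀ r : R, r ≠ 0 → ∃ v, c = r • v) : c = 0 := by
  classical
  obtain ⟨i, x, rfl⟩ := Hens.Hs.exists_of c
  let L := i.G
  letI : Algebra L (Hens.Hh R) := (Hens.Hs.of i).toRingHom.toAlgebra
  haveI : IsScalarTower R L (Hens.Hh R) := IsScalarTower.of_algebraMap_eq fun r => ((Hens.Hs.of i).commutes r).symm
  haveI : Module.Flat R L := inferInstance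
  haveI : Module.Flat L (Hens.Hh R) := Algebra.FormallyUnramified.flat_of_restrictScalars R L (Hens.Hh R)
  haveI : IsLocalHom (algebraMap L (Hens.Hh R)) := ⟨fun y hy => by
    by_contra hny
    have h1 := (i.res_eq_zero_iff y).2 ((IsLocalRing.mem_maximalIdeal _).2 hny)
    rw [← Hens.Hs.res_of] at h1
    exact (Hens.Hs.isUnit_iff _).1 hy h1⟩
  haveI : Module.FaithfullyFlat L (Hens.Hh R) := Module.FaithfullyFlat.of_flat_of_isLocalHom
  suffices hx0 : x = 0 by rw [hx0, map_zero]
  have hdiv : ∀ r : R, r ≠ 0 → ∃ v : L, x = r • v := fun r hr => by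
    obtain ⟨v, hv⟩ := h r hr
    have hmem : x ∈ ((Ideal.span {algebraMap R L r}).map (algebraMap L (Hens.Hh R))).comap (algebraMap L (Hens.Hh R)) := by
      rw [Ideal.mem_comap, show algebraMap L (Hens.Hh R) x = r • v from hv, Algebra.smul_def, IsScalarTower.algebraMap_apply R L (Hens.Hh R)]
      exact Ideal.mul_mem_right _ _ (Ideal.mem_map_of_mem _ (Ideal.mem_span_singleton_self _))
    rw [Ideal.comap_map_eq_self_of_faithfullyFlat] at hmem
    obtain ⟨w, hw⟩ := Ideal.mem_span_singleton'.1 hmem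
    exact ⟨w, by rw [Algebra.smul_def, ← hw, mul_comm]⟩
  haveI : i.q.LiesOver (maximalIdeal R) := ⟨Ideal.ext fun r => by
    show r ∈ maximalIdeal R ↔ i.σ (algebraMap R i.S r) = 0
    rw [AlgHom.commutes, Hens.Hs.algebraMap_eq_zero_iff_mem]⟩
  let p : Ideal R :=
    { carrier := {r | ∃ s, s ≠ 0 ∧ r * s = 0}
      add_mem' := by
        rintro r r' ⟨s, hs, hrs⟩ ⟨s', hs', hrs'⟩
        obtain ⟨a, b, hab, hne⟩ := hunif s s' hs hs'
        exact ⟨s * a, hne, by rw [add_mul, ← mul_assoc, hrs, zero_mul, hab, ← mul_assoc, hrs', zero_mul, add_zero]⟩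
      zero_mem' := ⟨1, one_ne_zero, zero_mul _⟩
      smul_mem' := by
        rintro a r ⟨s, hs, hrs⟩
        exact ⟨s, hs, by rw [smul_eq_mul, mul_assoc, hrs, mul_zero]⟩ }
  haveI : p.IsPrime := ⟨fun hp => by
    obtain ⟨s, hs, h1⟩ : (1 : R) ∈ p := hp ▸ Submodule.mem_top
    exact hs ((one_mul s).symm.trans h1), fun {r r'} hrr' => by
    obtain ⟨s, hs, hrs⟩ := hrr'
    by_cases h2 : r' * s = 0
    · exact Or.inr ⟨s, hs, h2⟩
    · exact Or.inl ⟨_, h2, by rw [← mul_assoc, hrs]⟩⟩
  have hpx : ∀ q ∈ p, q • x = 0 := by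
    rintro q ⟨s, hs, hqs⟩
    obtain ⟨v, rfl⟩ := hdiv s hs
    rw [← mul_smul, hqs, zero_smul]
  by_cases hω : ∃ ω : R, ω ≠ 0 ∧ ∀ q ∈ p, q * ω = 0
  · obtain ⟨ω, hω0, hωp⟩ := hω
    obtain ⟨t, htm, htω⟩ : ∃ t ∈ maximalIdeal R, t * ω ≠ 0 := by
      by_contra hc
      push Not at hc
      exact hω0 (hsoc ω hc)
    obtain ⟨v, rfl⟩ := hdiv ω hω0
    have hmem : v ∈ p.map (algebraMap R L) := by
      refine mem_map_of_forall_divisible p t htm (fun ht => htω (hωp t ht)) i.q v fun s hs => ?_
      have hsω : s * ω ≠ 0 := fun h0 => hs ⟨ω, hω0, h0⟩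
      obtain ⟨w, hw⟩ := hdiv (s * ω) hsω
      refine ⟨w, ?_⟩
      have h1 : ω • (v - s • w) = 0 := by rw [smul_sub, hw, ← mul_smul, mul_comm ω s, sub_self]
      have h2 := mem_annihilator_smul_top ω _ h1
      have hle : (Submodule.span R {ω}).annihilator ≤ p := fun a ha =>
        ⟨ω, hω0, (Submodule.mem_annihilator_span_singleton _ _).1 ha⟩
      have h3 := Submodule.smul_mono_left hle h2
      rwa [Ideal.smul_top_eq_map] at h3
    suffices h0 : ∀ z ∈ p.map (algebraMap R L), ω • z = 0 from h0 v hmem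
    intro z hz
    clear hmem h hdiv hpx
    induction hz using Submodule.span_induction with
    | mem z hz =>
      obtain ⟨q, hq, rfl⟩ := hz
      rw [Algebra.smul_def, ← map_mul, mul_comm, hωp q hq, map_zero]
    | zero => exact smul_zero _
    | add y z _ _ hy hz => rw [smul_add, hy, hz, add_zero]
    | smul c z _ hz => rw [smul_comm, hz, smul_zero]
  push Not at hω
  by_contra hx0
  let An : Ideal L := (Submodule.span L {x}).annihilator
  have hAn : An ≠ ⊤ := fun hc => hx0 (by
    have := (Submodule.mem_annihilator_span_singleton x (1 : L)).1 (show (1 : L) ∈ An by rw [hc]; exact Submodule.mem_top)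
    rwa [one_smul] at this)
  obtain ⟨M, hM, hAnM⟩ := Ideal.exists_le_maximal An hAn
  haveI := hM
  obtain ⟨τL, hτ, -⟩ := Ideal.exists_minimalPrimes_le hAnM
  haveI : τL.IsPrime := hτ.1.1
  let τ := τL.comap (algebraMap i.S L)
  have hτn : τ ≤ i.q := fun z hz => (IsLocalization.AtPrime.to_map_mem_maximal_iff L i.q z).1
    (IsLocalRing.le_maximalIdeal (Ideal.IsPrime.ne_top inferInstance) hz)
  haveI : τ.LiesOver p := ⟨Ideal.ext fun r => by
    show r ∈ p ↔ algebraMap i.S L (algebraMap R i.S r) ∈ τL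
    rw [← IsScalarTower.algebraMap_apply]
    refine ⟨fun hr => hτ.1.2 ((Submodule.mem_annihilator_span_singleton _ _).2 (by
      rw [algebraMap_smul]; exact hpx r hr)), fun hr => ?_⟩
    by_contra hrp
    obtain ⟨y, hy, hry⟩ := Ideal.exists_mul_mem_of_mem_minimalPrimes hτ hr
    have hreg : Function.Injective (fun z : L => r • z) := fun z w hzw => by
      have h0 : r • (z - w) = 0 := by rw [smul_sub]; exact sub_eq_zero.2 hzw
      have h1 := mem_annihilator_smul_top r _ h0
      have h2 : (Submodule.span R {r}).annihilator = ⊥ := eq_bot_iff.2 fun a ha => by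
        by_contra ha0
        exact hrp ⟨a, ha0, by rw [mul_comm]; exact (Submodule.mem_annihilator_span_singleton _ _).1 ha⟩
      rw [h2, Submodule.bot_smul, Submodule.mem_bot, sub_eq_zero] at h1
      exact h1
    refine hy ((Submodule.mem_annihilator_span_singleton _ _).2 (hreg ?_))
    show r • (y • x) = r • (0 : L)
    rw [smul_zero, ← algebraMap_smul L r, ← mul_smul]
    exact (Submodule.mem_annihilator_span_singleton _ _).1 hry⟩
  obtain ⟨⟨a, s⟩, has⟩ := IsLocalization.surj i.q.primeCompl x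
  have hzero := eq_zero_of_prime_smul p
    (fun r hr ω hrω => by by_contra hω0; exact hr ⟨ω, hω0, hrω⟩)
    (fun ω hq => by
      by_contra hω0
      obtain ⟨q, hq', hne⟩ := hω ω hω0
      exact hne (hq q hq')) τ (algebraMap i.S (Localization.AtPrime τ) a) fun q hq => by
    have h1 : algebraMap i.S L (algebraMap R i.S q * a) = algebraMap i.S L 0 := by
      rw [map_zero, map_mul, ← IsScalarTower.algebraMap_apply, ← has, ← mul_assoc, ← Algebra.smul_def, hpx q hq, zero_mul]
    obtain ⟨⟨w, hw⟩, hwa⟩ := IsLocalization.exists_of_eq (M := i.q.primeCompl) h1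
    rw [Algebra.smul_def, IsScalarTower.algebraMap_apply R i.S (Localization.AtPrime τ), ← map_mul,
      IsLocalization.map_eq_zero_iff τ.primeCompl]
    refine ⟨⟨w, fun h => hw (hτn h)⟩, ?_⟩
    rw [mul_zero] at hwa
    exact hwa
  rw [IsLocalization.map_eq_zero_iff τ.primeCompl] at hzero
  obtain ⟨⟨w, hw⟩, hwa⟩ := hzero
  refine hw (hτ.1.2 ((Submodule.mem_annihilator_span_singleton _ _).2 ?_))
  obtain ⟨u, hu⟩ := IsLocalization.map_units L s
  have hx : x = algebraMap i.S L a * ↑u⁻¹ := by rw [← has, ← hu, Units.mul_inv_cancel_right]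
  rw [smul_eq_mul, hx, ← mul_assoc, ← map_mul, show w * a = 0 from hwa, map_zero, zero_mul]

end Groth.Agent.Dev4
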