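import Mathlib.RingTheory.Etale.StandardEtale
import Mathlib.RingTheory.IsTensorProduct
import Mathlib

/-!
# Lifting standard etale algebras along rings of fractions of quotients
-/

set_option autoImplicit false
set_option maxSynthPendingDepth 3

universe u

open TensorProduct Polynomial

namespace Groth.Agent.Dev4

variable {A B : Type u} [CommRing A] [CommRing B] [Algebra A B]

/-- Denominators for a polynomial. -/
theorem exists_denominator (hB : ∀ b : B, ∃ r a : A, IsUnit (algebraMap A B r) ∧ algebraMap A B r * b = algebraMap A B a)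
    (p : B[X]) : ∃ r : A, IsUnit (algebraMap A B r) ∧ C (algebraMap A B r) * p ∈ lifts (algebraMap A B) := by
  induction p using Polynomial.induction_on' with
  | add p q hp hq =>
    obtain ⟨r, hr, hp⟩ := hp
    obtain ⟨s, hs, hq⟩ := hq
    refine ⟨r * s, by rw [map_mul]; exact hr.mul hs, ?_⟩
    rw [show C (algebraMap A B (r * s)) * (p + q) = C (algebraMap A B s) * (C (algebraMap A B r) * p) +
      C (algebraMap A B r) * (C (algebraMap A B s) * q) by rw [map_mul, map_mul]; ring]
    exact add_mem (mul_mem (C_mem_lifts _ s) hp) (mul_mem (C_mem_lifts _ r) hq)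
  | monomial n b =>
    obtain ⟨r, a, hr, h⟩ := hB b
    refine ⟨r, hr, ?_⟩
    rw [C_mul_monomial, h]
    exact (mem_lifts _).2 ⟨monomial n a, map_monomial _⟩

/-- A standard etale algebra over `B` comes from an etale algebra over `A` when every element of `B` is a
fraction of images from `A`. -/
theorem exists_etale_pushout [Nontrivial B]
    (hB : ∀ b : B, ∃ r a : A, IsUnit (algebraMap A B r) ∧ algebraMap A B r * b = algebraMap A B a)
    (D : Type u) [CommRing D] [Algebra B D] [Algebra.IsStandardEtale B D] :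
    ∃ (S : Type u) (_ : CommRing S) (φ : A →+* S) (ψ : S →+* D), φ.Etale ∧
      CategoryTheory.IsPushout (CommRingCat.ofHom (algebraMap A B)) (CommRingCat.ofHom φ)
        (CommRingCat.ofHom (algebraMap B D)) (CommRingCat.ofHom ψ) := by
  obtain ⟨P⟩ := Algebra.IsStandardEtale.nonempty_standardEtalePresentation (R := B) (S := D)
  obtain ⟨r₁, hr₁, hf⟩ := exists_denominator hB P.f
  obtain ⟨r₂, hr₂, hg⟩ := exists_denominator hB P.g
  have hu : IsUnit (algebraMap A B (r₁ * r₂)) := by rw [map_mul]; exact hr₁.mul hr₂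
  let Ar := Localization.Away (r₁ * r₂)
  let ι : Ar →+* B := IsLocalization.Away.lift (r₁ * r₂) hu
  have hι : ι.comp (algebraMap A Ar) = algebraMap A B := IsLocalization.Away.lift_comp _ _
  have hlift : ∀ (r : A) (p : B[X]), IsUnit (algebraMap A Ar r) →
      C (algebraMap A B r) * p ∈ lifts (algebraMap A B) → p ∈ lifts ι := fun r p hr hp => by
    obtain ⟨q, hq⟩ := (mem_lifts _).1 hp
    refine (mem_lifts _).2 ⟨C (↑hr.unit⁻¹ : Ar) * q.map (algebraMap A Ar), ?_⟩
    rw [Polynomial.map_mul, Polynomial.map_map, hι, hq, map_C, ← mul_assoc, ← map_mul C, ← hι, RingHom.comp_apply,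
      ← map_mul ι, IsUnit.val_inv_mul, map_one, map_one, one_mul]
  have huA : IsUnit (algebraMap A Ar (r₁ * r₂)) := IsLocalization.Away.algebraMap_isUnit _
  rw [map_mul] at huA
  obtain ⟨F, hF, -, hFm⟩ := lifts_and_degree_eq_and_monic
    (hlift r₁ P.f (isUnit_of_mul_isUnit_left huA) hf) P.monic_f
  obtain ⟨G, hG⟩ := (mem_lifts _).1 (hlift r₂ P.g (isUnit_of_mul_isUnit_right huA) hg)
  let Q : StandardEtalePair Ar := ⟨F, hFm, G * derivative F, G, 0, 1, by ring⟩
  letI : Algebra Ar D := ((algebraMap B D).comp ι).toAlgebra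
  have haev : ∀ p : Ar[X], aeval P.x p = aeval P.x (p.map ι) := fun p => by
    rw [aeval_def, aeval_def, eval₂_map]
    rfl
  have hQ : Q.HasMap P.x := by
    refine ⟨by rw [haev, hF]; exact P.hasMap.1, ?_⟩
    rw [haev, Polynomial.map_mul, hG, ← derivative_map, hF, map_mul]
    exact P.hasMap.2.mul P.hasMap.isUnit_derivative_f
  let ψ : Q.Ring →ₐ[Ar] D := Q.lift P.x hQ
  letI : Algebra A Q.Ring := ((algebraMap Ar Q.Ring).comp (algebraMap A Ar)).toAlgebra
  haveI : IsScalarTower A Ar Q.Ring := IsScalarTower.of_algebraMap_eq' rfl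
  haveI : Algebra.Etale A Ar := Algebra.Etale.of_isLocalizationAway (r₁ * r₂)
  haveI : Algebra.Etale A Q.Ring := Algebra.Etale.comp A Ar Q.Ring
  letI : Algebra Q.Ring D := ψ.toRingHom.toAlgebra
  letI : Algebra A D := ((algebraMap B D).comp (algebraMap A B)).toAlgebra
  haveI : IsScalarTower A B D := IsScalarTower.of_algebraMap_eq' rfl
  have hψ : ψ.toRingHom.comp (algebraMap A Q.Ring) = algebraMap A D := by
    show ψ.toRingHom.comp ((algebraMap Ar Q.Ring).comp (algebraMap A Ar)) = _
    rw [← RingHom.comp_assoc, ψ.toRingHom_eq_coe, ψ.comp_algebraMap]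
    show ((algebraMap B D).comp ι).comp (algebraMap A Ar) = _
    rw [RingHom.comp_assoc, hι]
    rfl
  let ψA : Q.Ring →ₐ[A] D := { ψ.toRingHom with commutes' := fun a => RingHom.congr_fun hψ a }
  let T := B ⊗[A] Q.Ring
  let Φ : T →ₐ[B] D := Algebra.TensorProduct.lift (Algebra.ofId B D) ψA fun _ _ => .all _ _
  have hloc : ((Algebra.TensorProduct.includeRight : Q.Ring →ₐ[A] T).toRingHom.comp (algebraMap Ar Q.Ring)) =
      (algebraMap B T).comp ι := by
    refine IsLocalization.ringHom_ext (Submonoid.powers (r₁ * r₂)) ?_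
    rw [RingHom.comp_assoc, RingHom.comp_assoc, hι]
    exact (Algebra.TensorProduct.includeRight : Q.Ring →ₐ[A] T).comp_algebraMap.trans (IsScalarTower.algebraMap_eq A B T)
  have hev : ∀ p : Ar[X], aeval ((1 : B) ⊗ₜ[A] Q.X : T) (p.map ι) =
      (Algebra.TensorProduct.includeRight : Q.Ring →ₐ[A] T) (aeval Q.X p) := fun p => by
    rw [aeval_def, aeval_def, eval₂_map, ← hloc]
    exact (Polynomial.hom_eval₂ p (algebraMap Ar Q.Ring)
      ((Algebra.TensorProduct.includeRight : Q.Ring →ₐ[A] T).toRingHom) Q.X).symm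
  have hP : P.P.HasMap ((1 : B) ⊗ₜ[A] Q.X : T) := by
    refine ⟨?_, ?_⟩
    · rw [← hF, hev, Q.hasMap_X.1, map_zero]
    · rw [← hG, hev]
      have := Q.hasMap_X.2
      rw [map_mul] at this
      exact (isUnit_of_mul_isUnit_left this).map _
  let Ψ : D →ₐ[B] T := (P.lift _ hP).comp P.equivRing.toAlgHom
  have h1 : Ψ P.x = (1 : B) ⊗ₜ[A] Q.X := by
    simp [Ψ]
  have h2 : Φ ((1 : B) ⊗ₜ[A] Q.X) = P.x := by
    show Algebra.TensorProduct.lift _ _ _ _ = _
    rw [Algebra.TensorProduct.lift_tmul, map_one, one_mul]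
    exact Q.lift_X P.x hQ
  let e : T ≃ₐ[B] D := AlgEquiv.ofAlgHom Φ Ψ (P.hom_ext (by simp [h1, h2])) (by
    refine Algebra.TensorProduct.ext (by ext) ?_
    let g₁ : Q.Ring →+* T := ((Ψ.comp Φ).toRingHom).comp (Algebra.TensorProduct.includeRight : Q.Ring →ₐ[A] T).toRingHom
    have hg₁ : g₁.comp (algebraMap Ar Q.Ring) = (algebraMap B T).comp ι := by
      show ((Ψ.comp Φ).toRingHom.comp _).comp _ = _
      rw [RingHom.comp_assoc, hloc, ← RingHom.comp_assoc, AlgHom.toRingHom_eq_coe, (Ψ.comp Φ).comp_algebraMap]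
    letI : Algebra Ar T := ((algebraMap B T).comp ι).toAlgebra
    let a₁ : Q.Ring →ₐ[Ar] T := { g₁ with commutes' := fun a => RingHom.congr_fun hg₁ a }
    let a₂ : Q.Ring →ₐ[Ar] T :=
      { (Algebra.TensorProduct.includeRight : Q.Ring →ₐ[A] T).toRingHom with
        commutes' := fun a => RingHom.congr_fun hloc a }
    have h : a₁ = a₂ := Q.hom_ext (by
      show Ψ (Φ ((1 : B) ⊗ₜ[A] Q.X)) = (1 : B) ⊗ₜ[A] Q.X
      rw [h2, h1])
    ext z
    exact DFunLike.congr_fun h z)
  haveI : IsScalarTower A Q.Ring D := IsScalarTower.of_algebraMap_eq' hψ.symm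
  haveI : Algebra.IsPushout A B Q.Ring D :=
    letI : Algebra Q.Ring T := Algebra.TensorProduct.rightAlgebra
    Algebra.IsPushout.of_equiv e (RingHom.ext fun z => by
      show Φ ((1 : B) ⊗ₜ[A] z) = ψ z
      show Algebra.TensorProduct.lift _ _ _ _ = _
      rw [Algebra.TensorProduct.lift_tmul, map_one, one_mul]
      rfl)
  exact ⟨Q.Ring, inferInstance, algebraMap A Q.Ring, ψ.toRingHom, RingHom.etale_algebraMap.2 inferInstance,
    CommRingCat.isPushout_of_isPushout A B Q.Ring D⟩

end Groth.Agent.Dev4
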