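import Groth.Agent.Lib.Dev4.EtaleFibreLift
import Groth.Agent.Lib.ConsH13.Fibre
import Groth.Agent.Lib.FlatH4.PullChart

/-!
# Etale neighbourhoods in a fibre come from the total space
-/

set_option autoImplicit false
set_option maxSynthPendingDepth 3
set_option backward.isDefEq.respectTransparency.types false

universe u

open AlgebraicGeometry CategoryTheory Limits TensorProduct

namespace Groth.Agent.Dev4

/-- Fractions in a base change to a field along a map surjective on stalks. -/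
theorem exists_fraction {R A K B : Type u} [CommRing R] [CommRing A] [CommRing K] [CommRing B] [Algebra R A]
    [Algebra R K] [Algebra A B] [Algebra K B] [Algebra R B] [IsScalarTower R A B] [IsScalarTower R K B]
    [Algebra.IsPushout R K A B]
    (hK : ∀ z : K, ∃ r a : R, IsUnit (algebraMap R K r) ∧ algebraMap R K r * z = algebraMap R K a) (b : B) :
    ∃ r a : A, IsUnit (algebraMap A B r) ∧ algebraMap A B r * b = algebraMap A B a := by
  induction b using (Algebra.IsPushout.out (R := R) (S := K) (R' := A) (S' := B)).inductionOn with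
  | zero => exact ⟨1, 0, by simp⟩
  | tmul a => exact ⟨1, a, by simp⟩
  | smul z b hb =>
    obtain ⟨r, a, hr, hb⟩ := hb
    obtain ⟨s, c, hs, hz⟩ := hK z
    refine ⟨algebraMap R A s * r, algebraMap R A c * a, ?_, ?_⟩
    · rw [map_mul, ← IsScalarTower.algebraMap_apply, IsScalarTower.algebraMap_apply R K B]
      exact (hs.map _).mul hr
    · rw [map_mul, map_mul, ← IsScalarTower.algebraMap_apply, ← IsScalarTower.algebraMap_apply,
        IsScalarTower.algebraMap_apply R K B, IsScalarTower.algebraMap_apply R K B, ← hz, ← hb, map_mul,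
        Algebra.smul_def]
      ring
  | add b b' hb hb' =>
    obtain ⟨r, a, hr, hb⟩ := hb
    obtain ⟨s, c, hs, hc⟩ := hb'
    refine ⟨r * s, s * a + r * c, by rw [map_mul]; exact hr.mul hs, ?_⟩
    rw [map_mul, map_add, map_mul, map_mul, ← hb, ← hc]
    ring

set_option maxHeartbeats 1000000 in
/-- Every element of the coordinate ring of a fibre is a fraction of functions. -/
theorem exists_fraction_fibre {X S : Scheme.{u}} (f : X ⟶ S) (x : X) {V : S.Opens} (hV : IsAffineOpen V) (hxV : f x ∈ V)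
    {U : X.Opens} (hU : IsAffineOpen U) (hUV : U ≤ f ⁻¹ᵁ V) :
    IsAffineOpen (f.fiberι (f x) ⁻¹ᵁ U) ∧ ∀ b : Γ(f.fiber (f x), f.fiberι (f x) ⁻¹ᵁ U), ∃ r a : Γ(X, U),
      IsUnit ((f.fiberι (f x)).appLE U (f.fiberι (f x) ⁻¹ᵁ U) le_rfl r) ∧
      (f.fiberι (f x)).appLE U (f.fiberι (f x) ⁻¹ᵁ U) le_rfl r * b =
        (f.fiberι (f x)).appLE U (f.fiberι (f x) ⁻¹ᵁ U) le_rfl a := by
  let g := S.fromSpecResidueField (f x)
  let q := f.fiberToSpecResidueField (f x)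
  let p := f.fiberι (f x)
  have hc : IsPullback p q f g := IsPullback.of_hasPullback f g
  have hgV : (⊤ : (Spec (S.residueField (f x))).Opens) ≤ g ⁻¹ᵁ V := fun z _ => by
    show g z ∈ V
    rw [Scheme.fromSpecResidueField_apply]
    exact hxV
  have htop := isAffineOpen_top (Spec (S.residueField (f x)))
  have hWeq : p ⁻¹ᵁ U = p ⁻¹ᵁ U ⊓ q ⁻¹ᵁ ⊤ := by simp
  refine ⟨FlatH4.isAffineOpen_of_isPullback hc hgV hUV hWeq hV htop hU, ?_⟩
  have hsq := FlatH4.isPushout_sections hc hgV hUV hWeq hV htop hU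
  letI : Algebra Γ(S, V) Γ(X, U) := (f.appLE V U hUV).hom.toAlgebra
  letI : Algebra Γ(S, V) Γ(Spec (S.residueField (f x)), ⊤) := (g.appLE V ⊤ hgV).hom.toAlgebra
  letI : Algebra Γ(X, U) Γ(f.fiber (f x), p ⁻¹ᵁ U) := (p.appLE U (p ⁻¹ᵁ U) le_rfl).hom.toAlgebra
  letI : Algebra Γ(Spec (S.residueField (f x)), ⊤) Γ(f.fiber (f x), p ⁻¹ᵁ U) :=
    (q.appLE ⊤ (p ⁻¹ᵁ U) (by simp)).hom.toAlgebra
  letI : Algebra Γ(S, V) Γ(f.fiber (f x), p ⁻¹ᵁ U) :=
    ((algebraMap Γ(X, U) Γ(f.fiber (f x), p ⁻¹ᵁ U)).comp (algebraMap Γ(S, V) Γ(X, U))).toAlgebra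
  haveI : IsScalarTower Γ(S, V) Γ(X, U) Γ(f.fiber (f x), p ⁻¹ᵁ U) := IsScalarTower.of_algebraMap_eq' rfl
  haveI : IsScalarTower Γ(S, V) Γ(Spec (S.residueField (f x)), ⊤) Γ(f.fiber (f x), p ⁻¹ᵁ U) :=
    IsScalarTower.of_algebraMap_eq fun r => congrArg (fun m => m.hom r) hsq.w
  haveI : Algebra.IsPushout Γ(S, V) Γ(Spec (S.residueField (f x)), ⊤) Γ(X, U) Γ(f.fiber (f x), p ⁻¹ᵁ U) :=
    CommRingCat.isPushout_iff_isPushout.1 hsq.flip
  let e := (Scheme.ΓSpecIso (S.residueField (f x))).commRingCatIsoToRingEquiv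
  have hF : IsField Γ(Spec (S.residueField (f x)), ⊤) := e.toMulEquiv.isField (Field.toIsField _)
  letI := hF.toField
  haveI : SurjectiveOnStalks g := inferInstance
  have hsos : (g.appLE V ⊤ hgV).hom.SurjectiveOnStalks :=
    HasRingHomProperty.appLE @SurjectiveOnStalks g inferInstance ⟨V, hV⟩ ⟨⊤, htop⟩ hgV
  intro b
  refine exists_fraction (R := Γ(S, V)) (A := Γ(X, U)) (K := Γ(Spec (S.residueField (f x)), ⊤)) (fun z => ?_) b
  obtain ⟨a, r, c, hc, hr, h⟩ := (RingHom.surjectiveOnStalks_iff_forall_ideal.1 hsos) ⊥ bot_ne_top z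
  refine ⟨r, a, isUnit_iff_ne_zero.2 (fun h0 => hr (Ideal.mem_bot.2 h0)), ?_⟩
  rw [mul_assoc] at h
  exact mul_left_cancel₀ (fun h0 => hc (Ideal.mem_bot.2 h0)) h

set_option maxHeartbeats 1000000 in
/-- An etale neighbourhood in a fibre lifts to the total space. -/
theorem exists_lift_etale_fibre {X S V : Scheme.{u}} (f : X ⟶ S) (x : X)
    (g : V ⟶ f.fiber (f x)) [Etale g] (v : V) (hv : g v = f.asFiber x) :
    ∃ (U : Scheme.{u}) (p : U ⟶ X) (u : U) (m : (p ≫ f).fiber (f x) ⟶ V) (u' : ↑((p ≫ f).fiber (f x))),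
      Etale p ∧ p u = x ∧ IsOpenImmersion m ∧ m ≫ g = MoreMor.fiberMap p f (f x) ∧
      (p ≫ f).fiberι (f x) u' = u ∧ m u' = v := by
  obtain ⟨V₀, hV₀, hxV₀, -⟩ := exists_isAffineOpen_mem_and_subset (X := S) (x := f x) (U := ⊤) trivial
  obtain ⟨U₀, hU₀, hxU₀, hUV⟩ := exists_isAffineOpen_mem_and_subset (X := X) (x := x) (U := f ⁻¹ᵁ V₀) hxV₀
  let ι := f.fiberι (f x)
  let W := ι ⁻¹ᵁ U₀
  obtain ⟨hW, hB⟩ := exists_fraction_fibre f x hV₀ hxV₀ hU₀ hUV
  have hgvW : g v ∈ W := by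
    show ι (g v) ∈ U₀
    rw [hv, f.fiberι_asFiber]
    exact hxU₀
  obtain ⟨V₁, hV₁, hvV₁, hV₁W⟩ := exists_isAffineOpen_mem_and_subset (X := V) (x := v) (U := g ⁻¹ᵁ W) hgvW
  let φ := g.appLE W V₁ hV₁W
  letI : Algebra Γ(f.fiber (f x), W) Γ(V, V₁) := φ.hom.toAlgebra
  haveI : Algebra.Etale Γ(f.fiber (f x), W) Γ(V, V₁) := RingHom.etale_algebraMap.1 (g.etale_appLE hW hV₁ hV₁W)
  let q := (hV₁.primeIdealOf ⟨v, hvV₁⟩).asIdeal
  haveI : Algebra.IsEtaleAt Γ(f.fiber (f x), W) q :=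
    Algebra.FormallyEtale.comp Γ(f.fiber (f x), W) Γ(V, V₁) _
  obtain ⟨h, hh, hstd⟩ := Algebra.IsEtaleAt.exists_isStandardEtale (R := Γ(f.fiber (f x), W)) q
  let V₂ := V.basicOpen h
  have hV₂ : IsAffineOpen V₂ := hV₁.basicOpen h
  have hvV₂ : v ∈ V₂ := by
    have h1 : hV₁.primeIdealOf ⟨v, hvV₁⟩ ∈ hV₁.fromSpec ⁻¹ᵁ V.basicOpen h := by
      rw [hV₁.fromSpec_preimage_basicOpen]
      exact hh
    have h2 : hV₁.fromSpec (hV₁.primeIdealOf ⟨v, hvV₁⟩) ∈ V.basicOpen h := h1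
    rwa [hV₁.fromSpec_primeIdealOf] at h2
  have hV₂W : V₂ ≤ g ⁻¹ᵁ W := (V.basicOpen_le h).trans hV₁W
  letI : Algebra Γ(f.fiber (f x), W) Γ(V, V₂) := (g.appLE W V₂ hV₂W).hom.toAlgebra
  haveI : IsScalarTower Γ(f.fiber (f x), W) Γ(V, V₁) Γ(V, V₂) := IsScalarTower.of_algebraMap_eq' (by
    show (g.appLE W V₂ hV₂W).hom = (V.presheaf.map (homOfLE (V.basicOpen_le h)).op).hom.comp φ.hom
    rw [← CommRingCat.hom_comp]
    exact congrArg (fun m => m.hom) (g.appLE_map hV₁W _).symm)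
  haveI := hV₁.isLocalization_basicOpen h
  haveI : Algebra.IsStandardEtale Γ(f.fiber (f x), W) Γ(V, V₂) :=
    Algebra.IsStandardEtale.of_equiv ((IsLocalization.algEquiv (Submonoid.powers h) (Localization.Away h)
      Γ(V, V₂)).restrictScalars Γ(f.fiber (f x), W))
  letI : Algebra Γ(X, U₀) Γ(f.fiber (f x), W) := (ι.appLE U₀ W le_rfl).hom.toAlgebra
  haveI : Nonempty W := ⟨⟨g v, hgvW⟩⟩
  obtain ⟨C, _, a, c, ha, hpo⟩ := exists_etale_pushout (A := Γ(X, U₀)) (B := Γ(f.fiber (f x), W)) hB Γ(V, V₂)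
  let p : Spec (CommRingCat.of C) ⟶ X := Spec.map (CommRingCat.ofHom a) ≫ hU₀.fromSpec
  have hE : Etale (Spec.map (CommRingCat.ofHom a)) := (HasRingHomProperty.Spec_iff (P := @Etale)).2 ha
  have hopen : IsPullback (Spec.map (ι.appLE U₀ W le_rfl)) hW.fromSpec hU₀.fromSpec ι := by
    refine IsOpenImmersion.isPullback _ _ _ _ (IsAffineOpen.SpecMap_appLE_fromSpec ι hU₀ hW le_rfl).symm ?_
    rw [IsAffineOpen.opensRange_fromSpec, IsAffineOpen.opensRange_fromSpec]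
  have h1 : IsPullback (Spec.map (CommRingCat.ofHom c)) (Spec.map (CommRingCat.ofHom (algebraMap Γ(f.fiber (f x), W) Γ(V, V₂))))
      (Spec.map (CommRingCat.ofHom a)) (Spec.map (ι.appLE U₀ W le_rfl)) :=
    (isPullback_SpecMap_of_isPushout _ _ _ _ hpo).flip
  have h2 : IsPullback (Spec.map (CommRingCat.ofHom c)) (hV₂.fromSpec ≫ g) p ι := by
    have h3 := h1.paste_vert hopen
    rwa [show Spec.map (CommRingCat.ofHom (algebraMap Γ(f.fiber (f x), W) Γ(V, V₂))) ≫ hW.fromSpec = hV₂.fromSpec ≫ g from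
      IsAffineOpen.SpecMap_appLE_fromSpec g hW hV₂ hV₂W] at h3
  let e := (ConsH13.isPullback_fiberMap p f (f x)).isoIsPullback _ _ h2
  let z : Spec Γ(V, V₂) := hV₂.primeIdealOf ⟨v, hvV₂⟩
  have hz : hV₂.fromSpec z = v := hV₂.fromSpec_primeIdealOf _
  have hw : (p ≫ f).fiberι (f x) (e.inv z) = Spec.map (CommRingCat.ofHom c) z := by
    rw [← Scheme.Hom.comp_apply, IsPullback.isoIsPullback_inv_fst]
  refine ⟨Spec (CommRingCat.of C), p, Spec.map (CommRingCat.ofHom c) z, e.hom ≫ hV₂.fromSpec, e.inv z, inferInstance, ?_,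
    inferInstance, ?_, hw, ?_⟩
  · rw [← Scheme.Hom.comp_apply, h2.w, Scheme.Hom.comp_apply, Scheme.Hom.comp_apply, hz, hv, f.fiberι_asFiber]
  · exact (Category.assoc _ _ _).trans (IsPullback.isoIsPullback_hom_snd _ _ _ _)
  · rw [Scheme.Hom.comp_apply, ← Scheme.Hom.comp_apply e.inv, e.inv_hom_id]
    exact hz

end Groth.Agent.Dev4
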