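import Groth.Prelude.Def_FlatCA
import Groth.Agent.Lib.GeomNbhd4.FibreSupport
import Groth.Agent.Lib.FibDim4.Basic

/-!
# The dimension of a fibre support under base change
-/

set_option autoImplicit false

universe u

open TensorProduct

set_option backward.isDefEq.respectTransparency.types false

attribute [local instance] Algebra.TensorProduct.rightAlgebra

namespace Groth.Agent.Dev4

/-- The fibre support dimension as the dimension of a ring. -/
theorem supportDim_fiberMod_quotient {R S : Type u} [CommRing R] [CommRing S] [Algebra R S] (N : Type u)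
    [AddCommGroup N] [Module S N] [Module R N] [IsScalarTower R S N] [Module.Finite S N] (p : Ideal R) [p.IsPrime] :
    Module.supportDim (p.Fiber S) (FlatCA.fiberMod p S N) =
      ringKrullDim (p.Fiber S ⧸ (Module.annihilator S N).map (algebraMap S (p.Fiber S))) := by
  rw [← Module.supportDim_quotient_eq_ringKrullDim]
  have h : Module.support (p.Fiber S) (FlatCA.fiberMod p S N) =
      Module.support (p.Fiber S) (p.Fiber S ⧸ (Module.annihilator S N).map (algebraMap S (p.Fiber S))) := by
    ext Q
    rw [GeomNbhd4.mem_support_fiberMod_iff, Module.mem_support_iff_of_finite, Ideal.annihilator_quotient,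
      Ideal.map_le_iff_le_comap]
  unfold Module.supportDim
  rw [h]

/-- The fibre support dimension does not change under base change. -/
theorem supportDim_fiberMod_bc {R R' : Type u} [CommRing R] [CommRing R'] [Algebra R R'] {p : Ideal R} [p.IsPrime]
    {p' : Ideal R'} [p'.IsPrime] [hp' : p'.LiesOver p]
    {S S' : Type u} [CommRing S] [CommRing S'] [Algebra R S] [Algebra R' S'] [Algebra R S'] [Algebra S S']
    [IsScalarTower R R' S'] [IsScalarTower R S S'] [Algebra.IsPushout R R' S S'] [Algebra.FiniteType R S]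
    {N N' : Type u} [AddCommGroup N] [Module S N] [Module R N] [IsScalarTower R S N] [Module.Finite S N]
    [AddCommGroup N'] [Module S' N'] [Module R' N'] [IsScalarTower R' S' N'] [Module S N'] [IsScalarTower S S' N']
    (f : N →ₗ[S] N') (hf : IsBaseChange S' f) :
    Module.supportDim (p'.Fiber S') (FlatCA.fiberMod p' S' N') =
      Module.supportDim (p.Fiber S) (FlatCA.fiberMod p S N) := by
  haveI : Module.Finite S' N' := Module.Finite.equiv hf.equiv
  let κ := p.ResidueField
  let κ' := p'.ResidueField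
  let ι : κ →ₐ[R] κ' := Ideal.ResidueField.mapₐ p p' (Algebra.ofId R R') hp'.over
  letI : Algebra κ κ' := ι.toRingHom.toAlgebra
  haveI : IsScalarTower R κ κ' := IsScalarTower.of_algebraMap_eq fun r => (ι.commutes r).symm
  -- the dimensions as dimensions of rings
  rw [supportDim_fiberMod_quotient N p]
  let J := (Module.annihilator S N).map (algebraMap S (p.Fiber S))
  let J' := (Module.annihilator S N).map ((algebraMap S' (p'.Fiber S')).comp (algebraMap S S'))
  have h : Module.support (p'.Fiber S') (FlatCA.fiberMod p' S' N') = Module.support (p'.Fiber S') (p'.Fiber S' ⧸ J') := by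
    ext Q
    rw [Module.mem_support_iff_of_finite (M := p'.Fiber S' ⧸ J'), Ideal.annihilator_quotient, Ideal.map_le_iff_le_comap]
    refine (FlatPur25.mem_support_baseChange_iff (B := S') (C := p'.Fiber S') (M := N') Q).trans ?_
    rw [← hf.equiv.support_eq, FlatPur25.mem_support_baseChange_iff, Module.mem_support_iff_of_finite]
    rfl
  have h1 : Module.supportDim (p'.Fiber S') (FlatCA.fiberMod p' S' N') = ringKrullDim (p'.Fiber S' ⧸ J') := by
    rw [← Module.supportDim_quotient_eq_ringKrullDim]
    unfold Module.supportDim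
    rw [h]
  rw [h1]
  -- the fibres
  let e₁ : p'.Fiber S' ≃+* κ' ⊗[R'] (R' ⊗[R] S) :=
    (Algebra.TensorProduct.congr (AlgEquiv.refl (R := κ') (A₁ := κ')) (Algebra.IsPushout.equiv R R' S S').symm).toRingEquiv
  let e₂ : κ' ⊗[R'] (R' ⊗[R] S) ≃+* κ' ⊗[R] S := (Algebra.TensorProduct.cancelBaseChange R R' κ' κ' S).toRingEquiv
  let e₃ : κ' ⊗[R] S ≃+* κ' ⊗[κ] (p.Fiber S) := (Algebra.TensorProduct.cancelBaseChange R κ κ' κ' S).symm.toRingEquiv
  let e := (e₁.trans e₂).trans e₃
  have he : ∀ s : S, e (algebraMap S' (p'.Fiber S') (algebraMap S S' s)) = (1 : κ') ⊗ₜ[κ] algebraMap S (p.Fiber S) s := by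
    intro s
    show e₃ (e₂ (e₁ ((1 : κ') ⊗ₜ[R'] algebraMap S S' s))) = (1 : κ') ⊗ₜ[κ] ((1 : κ) ⊗ₜ[R] s)
    have hs : (Algebra.IsPushout.equiv R R' S S').symm (algebraMap S S' s) = (1 : R') ⊗ₜ[R] s :=
      Algebra.IsPushout.equiv_symm_algebraMap_right R R' S S' s
    simp [e₁, e₂, e₃, hs]
  have hJ : J.map (Algebra.TensorProduct.includeRight : p.Fiber S →ₐ[κ] κ' ⊗[κ] p.Fiber S) = J'.map e.toRingHom := by
    show Ideal.map (Algebra.TensorProduct.includeRight : p.Fiber S →ₐ[κ] κ' ⊗[κ] p.Fiber S).toRingHom J = _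
    rw [Ideal.map_map, Ideal.map_map]
    congr 1
    exact RingHom.ext fun s => (he s).symm
  let zA : CommRing (κ' ⊗[κ] p.Fiber S) := inferInstance
  let zB : CommRing (p.Fiber S ⧸ J) := inferInstance
  let zC : Algebra κ (p.Fiber S ⧸ J) := inferInstance
  let zD : CommRing (κ' ⊗[κ] (p.Fiber S ⧸ J)) := inferInstance
  let q : (p'.Fiber S' ⧸ J') ≃+* κ' ⊗[κ] (p.Fiber S ⧸ J) :=
    (Ideal.quotientEquiv J' (J.map (Algebra.TensorProduct.includeRight : p.Fiber S →ₐ[κ] κ' ⊗[κ] p.Fiber S)) e hJ).trans
      (Algebra.TensorProduct.tensorQuotientEquiv (R := κ) κ (p.Fiber S) κ' J).symm.toRingEquiv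
  rw [ringKrullDim_eq_of_ringEquiv q]
  exact FibDim4.ringKrullDim_tensorProduct κ κ' (p.Fiber S ⧸ J)

end Groth.Agent.Dev4
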