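import Groth.Agent.Lib.Dev4.EtaleDim
import Groth.Agent.Lib.Dev4.Loc
import Groth.Agent.Lib.Dev4.SuppDim
import Groth.Agent.Lib.RG4.FibreSupp

/-!
# Étale localisation of one step
-/

set_option autoImplicit false

universe u

open TensorProduct AlgebraicGeometry CategoryTheory

set_option backward.isDefEq.respectTransparency.types false

attribute [local instance] Algebra.TensorProduct.rightAlgebra

namespace Groth.Agent.Dev4

/-- Smooth of relative dimension over an étale algebra. -/
theorem smoothRelDim_of_etale_base {R R' B B' : Type u} [CommRing R] [CommRing R'] [CommRing B] [CommRing B'] [Algebra R B]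
    [Algebra R R'] [Algebra.Etale R R'] [Algebra B B'] [Algebra.Etale B B'] [Algebra R' B'] [Algebra R B']
    [IsScalarTower R R' B'] [IsScalarTower R B B'] (n : ℕ) (h : FlatCA.SmoothRelDim n R B) :
    FlatCA.SmoothRelDim n R' B' := by
  let i := Spec.map (CommRingCat.ofHom (algebraMap B B'))
  let j := Spec.map (CommRingCat.ofHom (algebraMap R R'))
  let hB := Spec.map (CommRingCat.ofHom (algebraMap R B))
  let h' := Spec.map (CommRingCat.ofHom (algebraMap R' B'))
  haveI : Etale i := (HasRingHomProperty.Spec_iff (P := @Etale)).2 (RingHom.etale_algebraMap.2 inferInstance)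
  haveI : Etale j := (HasRingHomProperty.Spec_iff (P := @Etale)).2 (RingHom.etale_algebraMap.2 inferInstance)
  have w : h' ≫ j = i ≫ hB := by
    rw [← Spec.map_comp, ← Spec.map_comp, ← CommRingCat.ofHom_comp, ← CommRingCat.ofHom_comp,
      ← IsScalarTower.algebraMap_eq, ← IsScalarTower.algebraMap_eq]
  haveI : SmoothOfRelativeDimension 0 i := inferInstance
  haveI : SmoothOfRelativeDimension n hB := h
  have h2 : SmoothOfRelativeDimension (0 + n) (i ≫ hB) := inferInstance
  rw [zero_add, ← w] at h2
  haveI := h2
  exact GeomNbhd4.smoothOfRelativeDimension_of_comp_etale h' j n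

/-- Smooth of relative dimension gives smooth. -/
theorem smooth_of_relDim {R B : Type u} [CommRing R] [CommRing B] [Algebra R B] {n : ℕ}
    (h : FlatCA.SmoothRelDim n R B) : Algebra.Smooth R B := by
  haveI : SmoothOfRelativeDimension n (Spec.map (CommRingCat.ofHom (algebraMap R B))) := h
  haveI hs : AlgebraicGeometry.Smooth (Spec.map (CommRingCat.ofHom (algebraMap R B))) :=
    SmoothOfRelativeDimension.smooth n _
  exact RingHom.smooth_algebraMap.1 ((HasRingHomProperty.Spec_iff (P := @AlgebraicGeometry.Smooth)).1 hs)

/-- The fibre support dimension of a step is at most its relative dimension. -/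
theorem supportDim_le_of_step {R S C D N G : Type u} [CommRing R] [CommRing S] [CommRing C] [CommRing D] [Algebra R S]
    [Algebra R C] [Algebra R D] [Algebra S C] [IsScalarTower R S C] [Algebra D C] [IsScalarTower R D C]
    [AddCommGroup N] [Module S N] [Module R N] [IsScalarTower R S N]
    [AddCommGroup G] [Module C G] [Module S G] [IsScalarTower S C G] [Module.Finite C G]
    (e : N ≃ₗ[S] G) (hsurj : Function.Surjective (algebraMap S C)) [Module.Finite D C] (p : Ideal R) [p.IsPrime] (n : ℕ)
    (hD : FlatCA.SmoothRelDim n R D) :
    Module.supportDim (p.Fiber S) (FlatCA.fiberMod p S N) ≤ n := by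
  haveI : Module.Finite S C := Module.Finite.of_surjective (Algebra.linearMap S C) hsurj
  haveI : Module.Finite S G := Module.Finite.trans C G
  haveI : Module.Finite S N := Module.Finite.equiv e.symm
  letI : Module R G := Module.compHom G (algebraMap R C)
  haveI : IsScalarTower R C G := IsScalarTower.of_algebraMap_smul fun _ _ => rfl
  haveI : IsScalarTower R S G := IsScalarTower.of_algebraMap_smul fun r x => by
    show algebraMap R S r • x = algebraMap R C r • x
    rw [← algebraMap_smul C (algebraMap R S r) x, ← IsScalarTower.algebraMap_apply]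
  letI : Module D G := Module.compHom G (algebraMap D C)
  haveI : IsScalarTower D C G := IsScalarTower.of_algebraMap_smul fun _ _ => rfl
  haveI : IsScalarTower R D G := IsScalarTower.of_algebraMap_smul fun r x => by
    show algebraMap D C (algebraMap R D r) • x = algebraMap R C r • x
    rw [← IsScalarTower.algebraMap_apply]
  haveI : Module.Finite D G := Module.Finite.trans C G
  rw [supportDim_fiberMod_quotient N p, e.annihilator_eq, ← supportDim_fiberMod_quotient G p,
    RG4.supportDim_fiberMod_eq (A := S) (B := C), ← RG4.supportDim_fiberMod_eq (A := D) (B := C)]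
  exact (Module.supportDim_le_ringKrullDim _ _).trans (RG4.ringKrullDim_fiber_le n hD p)

/-- Identifying base changes along a closed subscheme. -/
theorem nonempty_iso_of_pushout {S E C C' N G : Type u} [CommRing S] [CommRing E] [CommRing C] [CommRing C'] [Algebra S E]
    [Algebra S C] [Algebra E C'] [Algebra C C'] [Algebra S C'] [IsScalarTower S E C'] [IsScalarTower S C C']
    [Algebra.IsPushout S E C C'] [AddCommGroup N] [Module S N] [AddCommGroup G] [Module C G] [Module S G]
    [IsScalarTower S C G] (e : N ≃ₗ[S] G) : Nonempty ((E ⊗[S] N) ≃ₗ[E] (C' ⊗[C] G)) := by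
  let g : G →ₗ[C] C' ⊗[C] G := TensorProduct.mk C C' G 1
  haveI : IsScalarTower S C (C' ⊗[C] G) := IsScalarTower.of_algebraMap_smul fun s x => by
    rw [← algebraMap_smul C' (algebraMap S C s) x, ← IsScalarTower.algebraMap_apply, algebraMap_smul]
  have hg := isBaseChange_comp_equiv e (g.restrictScalars S)
    (isBaseChange_restrict (B' := E) (A' := C') g (TensorProduct.isBaseChange C G C'))
  exact ⟨(TensorProduct.isBaseChange S N E).equiv.symm.trans hg.equiv⟩

end Groth.Agent.Dev4
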