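import Groth.Agent.Lib.Dev4.BaseChange

/-!
# Extending a first step along compatible ring maps
-/

set_option autoImplicit false

universe u

open TensorProduct

set_option backward.isDefEq.respectTransparency.types false

attribute [local instance] Algebra.TensorProduct.rightAlgebra

namespace Groth.Agent.Dev4.Head

variable {R : Type u} [CommRing R] {p : Ideal R} [p.IsPrime] {S : Type u} [CommRing S] [Algebra R S]
  {N : Type u} [AddCommGroup N] [Module S N]
  (H : Head R S N p) (R' : Type u) [CommRing R']
  (C' D' : Type u) [CommRing C'] [CommRing D'] [Algebra R' C'] [Algebra R' D'] [Algebra H.C C'] [Algebra H.D D']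
  [Algebra D' C'] [Algebra H.D C'] [IsScalarTower H.D D' C'] [IsScalarTower H.D H.C C'] [IsScalarTower R' D' C']

/-- The module of an extension. -/
abbrev extG : Type u := C' ⊗[H.C] H.G

/-- The map of modules. -/
noncomputable def extToG : H.G →ₗ[H.C] H.extG C' := TensorProduct.mk H.C C' H.G 1

/-- The map from the free module. -/
noncomputable def extα : (Fin H.r → D') →ₗ[D'] H.extG C' :=
  (Pi.basisFun D' (Fin H.r)).constr ℕ fun i => (1 : C') ⊗ₜ[H.C] H.α (Pi.single i 1)

theorem extα_map (v : Fin H.r → H.D) :
    H.extα C' D' (fun i => algebraMap H.D D' (v i)) = (1 : C') ⊗ₜ[H.C] H.α v := by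
  classical
  conv_lhs => rw [pi_eq_sum_univ' (fun i => algebraMap H.D D' (v i))]
  conv_rhs => rw [pi_eq_sum_univ' v]
  simp only [map_sum, map_smul, TensorProduct.tmul_sum, extα, ← Pi.basisFun_apply, Module.Basis.constr_basis]
  simp only [Pi.basisFun_apply]
  refine Finset.sum_congr rfl fun i _ => ?_
  rw [show (v i • H.α (Pi.single i 1)) = algebraMap H.D H.C (v i) • H.α (Pi.single i 1) from
      (algebraMap_smul H.C _ _).symm, TensorProduct.tmul_smul,
    ← algebraMap_smul C' (algebraMap H.D D' (v i)) ((1 : C') ⊗ₜ[H.C] H.α (Pi.single i 1)),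
    ← algebraMap_smul C' (algebraMap H.D H.C (v i)) ((1 : C') ⊗ₜ[H.C] H.α (Pi.single i 1)),
    ← IsScalarTower.algebraMap_apply, ← IsScalarTower.algebraMap_apply]

theorem range_extα :
    LinearMap.range (H.extα C' D') = Submodule.span D' ((H.extToG C') '' (LinearMap.range H.α : Set H.G)) := by
  classical
  refine le_antisymm ?_ (Submodule.span_le.2 ?_)
  · rw [extα, Module.Basis.constr_range]
    exact Submodule.span_mono (by rintro _ ⟨i, rfl⟩; exact ⟨_, ⟨_, rfl⟩, rfl⟩)
  · rintro _ ⟨_, ⟨v, rfl⟩, rfl⟩
    exact ⟨_, H.extα_map C' D' v⟩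

variable [Algebra.IsPushout H.D D' H.C C']

theorem ext_isBaseChange :
    ∃ (_ : IsScalarTower H.D H.C (H.extG C')) (_ : IsScalarTower H.D D' (H.extG C')),
      IsBaseChange D' ((H.extToG C').restrictScalars H.D) := by
  haveI t3 : IsScalarTower H.D H.C (H.extG C') := IsScalarTower.of_algebraMap_smul fun d x => by
    rw [← algebraMap_smul C' (algebraMap H.D H.C d) x, ← IsScalarTower.algebraMap_apply, algebraMap_smul]
  haveI t4 : IsScalarTower H.D D' (H.extG C') := IsScalarTower.of_algebraMap_smul fun d x => by
    rw [← algebraMap_smul C' (algebraMap H.D D' d) x, ← IsScalarTower.algebraMap_apply, algebraMap_smul]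
  exact ⟨t3, t4, isBaseChange_restrict (B' := D') (A' := C') (H.extToG C') (TensorProduct.isBaseChange H.C H.G C')⟩

variable (p' : Ideal R') [p'.IsPrime]

theorem ext_fibreIso [(p'.map (algebraMap R' D')).IsPrime]
    (hP : p.map (algebraMap R H.D) = (p'.map (algebraMap R' D')).comap (algebraMap H.D D')) :
    Function.Bijective ((H.extα C' D').baseChange (p'.map (algebraMap R' D')).ResidueField) := by
  let P := p.map (algebraMap R H.D)
  let P' := p'.map (algebraMap R' D')
  let K := P.ResidueField
  let K' := P'.ResidueField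
  letI : Algebra K K' := (Ideal.ResidueField.map P P' (algebraMap H.D D') hP).toAlgebra
  haveI : IsScalarTower H.D K K' := IsScalarTower.of_algebraMap_eq fun d => by
    rw [RingHom.algebraMap_toAlgebra, Ideal.ResidueField.map_algebraMap, ← IsScalarTower.algebraMap_apply]
  have h0 : Function.Bijective (H.α.baseChange K') := bijective_baseChange_trans H.α H.fibreIso
  obtain ⟨_, _, hgG⟩ := H.ext_isBaseChange C' D'
  exact bijective_baseChange_of_square ((Algebra.linearMap H.D D').compLeft (Fin H.r))
    (isBaseChange_pi H.D D' H.r) _ hgG H.α (H.extα C' D') (H.extα_map C' D') h0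

variable (S' : Type u) [CommRing S'] [Algebra R' S'] [Algebra S S'] [Algebra S' C'] [Algebra S C']
  [IsScalarTower R' S' C'] [IsScalarTower S S' C'] [IsScalarTower S H.C C'] [Algebra.IsPushout S S' H.C C']
  {N' : Type u} [AddCommGroup N'] [Module S' N'] [Module S N'] [IsScalarTower S S' N']
  (f : N →ₗ[S] N') (hf : IsBaseChange S' f)

omit [IsScalarTower R' D' C'] [Algebra.IsPushout H.D D' H.C C'] [IsScalarTower R' S' C'] in
include hf in
theorem exists_extIso : ∃ e : N' ≃ₗ[S'] H.extG C', ∀ x, e (f x) = H.extToG C' (H.isoN x) := by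
  haveI : IsScalarTower S H.C (H.extG C') := IsScalarTower.of_algebraMap_smul fun s x => by
    rw [← algebraMap_smul C' (algebraMap S H.C s) x, ← IsScalarTower.algebraMap_apply, algebraMap_smul]
  haveI : IsScalarTower S S' (H.extG C') := IsScalarTower.of_algebraMap_smul fun s x => by
    rw [← algebraMap_smul C' (algebraMap S S' s) x, ← IsScalarTower.algebraMap_apply, algebraMap_smul]
  have hg := isBaseChange_comp_equiv H.isoN ((H.extToG C').restrictScalars S)
    (isBaseChange_restrict (B' := S') (A' := C') (H.extToG C') (TensorProduct.isBaseChange H.C H.G C'))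
  refine ⟨hf.equiv.symm.trans hg.equiv, fun x => ?_⟩
  rw [LinearEquiv.trans_apply, hf.equiv_symm_apply, hg.equiv_tmul, one_smul]
  rfl

omit [IsScalarTower R' D' C'] [Algebra.IsPushout H.D D' H.C C'] [Algebra R' S'] [IsScalarTower R' S' C'] in
include H in
theorem ext_surjective : Function.Surjective (algebraMap S' C') := by
  intro x
  induction x using pushout_induction S S' H.C C' with
  | h0 => exact ⟨0, map_zero _⟩
  | hmk r c =>
    obtain ⟨s, rfl⟩ := H.surjSC c
    exact ⟨r * algebraMap S S' s, by
      rw [map_mul, ← IsScalarTower.algebraMap_apply S S' C', IsScalarTower.algebraMap_apply S H.C C']⟩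
  | hadd a b ha hb =>
    obtain ⟨a, rfl⟩ := ha; obtain ⟨b, rfl⟩ := hb
    exact ⟨a + b, map_add _ _ _⟩

/-- An extension of a first step. -/
noncomputable def ext [hprime : (p'.map (algebraMap R' D')).IsPrime] (hsm : Algebra.Smooth R' D')
    (hgi : FlatCA.GeomIrredFibres R' D')
    (hP : p.map (algebraMap R H.D) = (p'.map (algebraMap R' D')).comap (algebraMap H.D D')) :
    Head R' S' N' p' :=
  haveI := H.fpSC
  haveI := H.finiteDC
  haveI := H.finiteG
  haveI : IsScalarTower R' D' (H.extG C') := IsScalarTower.of_algebraMap_smul fun r x => by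
    rw [← algebraMap_smul C' (algebraMap R' D' r) x, ← IsScalarTower.algebraMap_apply, algebraMap_smul]
  haveI : IsScalarTower S' C' (H.extG C') := inferInstance
  { C := C'
    D := D'
    G := H.extG C'
    r := H.r
    α := H.extα C' D'
    surjSC := H.ext_surjective C' S'
    fpSC := Algebra.FinitePresentation.equiv (Algebra.IsPushout.equiv S S' H.C C')
    finiteDC := Module.Finite.equiv (Algebra.IsPushout.equiv H.D D' H.C C').toLinearEquiv
    smooth := hsm
    geomIrred := hgi
    finiteG := inferInstance
    isoN := (H.exists_extIso C' S' f hf).choose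
    fibreIso := H.ext_fibreIso R' C' D' p' hP }

end Groth.Agent.Dev4.Head
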