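import Groth.Agent.Lib.Dev4.FlatAssBC

/-!
# The relative assassin under base change, ring form
-/

set_option autoImplicit false
set_option maxSynthPendingDepth 3
set_option backward.isDefEq.respectTransparency.types false

universe u

open TensorProduct

attribute [local instance] Algebra.TensorProduct.rightAlgebra

namespace Groth.Agent.Dev4

section

variable {R S : Type u} [CommRing R] [CommRing S] [Algebra R S] (p : Ideal R) [p.IsPrime]

/-- Primes of the fibre ring. -/
theorem fibrePrime_extend (P : Ideal (p.Fiber S)) [P.IsPrime] :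
    (P.comap (algebraMap S (p.Fiber S))).LiesOver p ∧ FlatCA.fiberIdeal p (P.comap (algebraMap S (p.Fiber S))) = P := by
  have hi : algebraMap S (p.Fiber S) = CI2.FibAss.inc (S := S) p := rfl
  constructor
  · constructor
    ext s
    refine ⟨fun h => ?_, fun h => ?_⟩
    · show algebraMap S (p.Fiber S) (algebraMap R S s) ∈ P
      rw [hi, CI2.FibAss.inc_eq_zero p h]; exact zero_mem _
    · by_contra hs
      have h' : CI2.FibAss.inc (S := S) p (algebraMap R S s) ∈ P := h
      exact (inferInstance : P.IsPrime).ne_top (Ideal.eq_top_of_isUnit_mem _ h' (CI2.FibAss.isUnit_inc p hs))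
  · refine le_antisymm (Ideal.map_le_iff_le_comap.2 le_rfl) fun f hf => ?_
    obtain ⟨c, hc, a, ha⟩ := CI2.FibAss.fib_frac p f
    obtain ⟨v, hv⟩ := CI2.FibAss.isUnit_inc (S := S) p hc
    have hfa : f = (↑v⁻¹ : p.Fiber S) * CI2.FibAss.inc p a := by rw [← ha, ← hv, Units.inv_mul_cancel_left]
    have ha' : CI2.FibAss.inc p a ∈ P := by rw [← ha]; exact P.mul_mem_left _ hf
    rw [hfa]
    exact Ideal.mul_mem_left _ _ (Ideal.mem_map_of_mem _ ha')

/-- The contraction of an extended prime. -/
theorem fibrePrime_contract (q : Ideal S) [q.IsPrime] [q.LiesOver p] :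
    (FlatCA.fiberIdeal p q).IsPrime ∧ (FlatCA.fiberIdeal p q).comap (algebraMap S (p.Fiber S)) = q := by
  let π : p.ResidueField →ₐ[R] q.ResidueField :=
    Ideal.ResidueField.mapₐ p q (Algebra.ofId R S) (Ideal.LiesOver.over (P := q) (p := p))
  let Φ := (Algebra.TensorProduct.lift π (IsScalarTower.toAlgHom R S q.ResidueField) fun _ _ => Commute.all _ _).toRingHom
  have hc : (RingHom.ker Φ).comap (algebraMap S (p.Fiber S)) = q := by
    ext s
    show Φ ((1 : p.ResidueField) ⊗ₜ[R] s) = 0 ↔ s ∈ q
    simp [Φ, Ideal.algebraMap_residueField_eq_zero]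
  haveI : (RingHom.ker Φ).IsPrime := RingHom.ker_isPrime Φ
  have h := (fibrePrime_extend p (RingHom.ker Φ)).2
  rw [hc] at h
  rw [h]
  exact ⟨inferInstance, hc⟩

end

variable {R R' S S' : Type u} [CommRing R] [CommRing R'] [CommRing S] [CommRing S'] [Algebra R R'] [Algebra R S]
  [Algebra R' S'] [Algebra S S'] [Algebra R S'] [IsScalarTower R R' S'] [IsScalarTower R S S'] [Algebra.IsPushout R R' S S']
  [Algebra.FiniteType R S] [Algebra.FiniteType R' S'] (p : Ideal R) [p.IsPrime] (p' : Ideal R') [p'.IsPrime] [p'.LiesOver p]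
  (N : Type u) [AddCommGroup N] [Module S N] [Module R N] [IsScalarTower R S N]

set_option maxHeartbeats 1000000 in
/-- The relative assassin of a base change lies over the relative assassin, and surjects onto it. -/
theorem fiberAss_baseChange [Module R' (S' ⊗[S] N)] [IsScalarTower R' S' (S' ⊗[S] N)] :
    (∀ (q' : Ideal S') [q'.IsPrime] [q'.LiesOver p'],
      FlatCA.fiberIdeal p' q' ∈ associatedPrimes (p'.Fiber S') (FlatCA.fiberMod p' S' (S' ⊗[S] N)) →
      FlatCA.fiberIdeal p (q'.comap (algebraMap S S')) ∈ associatedPrimes (p.Fiber S) (FlatCA.fiberMod p S N)) ∧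
    (∀ (q : Ideal S) [q.IsPrime] [q.LiesOver p],
      FlatCA.fiberIdeal p q ∈ associatedPrimes (p.Fiber S) (FlatCA.fiberMod p S N) →
      ∃ q' : Ideal S', q'.IsPrime ∧ q'.LiesOver p' ∧ q'.comap (algebraMap S S') = q ∧
        FlatCA.fiberIdeal p' q' ∈ associatedPrimes (p'.Fiber S') (FlatCA.fiberMod p' S' (S' ⊗[S] N))) := by
  let κ := p.ResidueField
  let κ' := p'.ResidueField
  let A := p.Fiber S
  let A' := p'.Fiber S'
  let π : κ →+* κ' := Ideal.ResidueField.map p p' (algebraMap R R') (Ideal.LiesOver.over (P := p') (p := p))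
  letI : Algebra κ κ' := π.toAlgebra
  haveI : IsScalarTower R κ κ' := IsScalarTower.of_algebraMap_eq fun r => by
    show algebraMap R κ' r = π (algebraMap R κ r)
    rw [Ideal.ResidueField.map_algebraMap, IsScalarTower.algebraMap_apply R R' κ']
  letI algRA' : Algebra R A' := inferInstance
  haveI : IsScalarTower R R' A' := inferInstance
  letI algSA' : Algebra S A' := ((algebraMap S' A').comp (algebraMap S S')).toAlgebra
  haveI : IsScalarTower S S' A' := IsScalarTower.of_algebraMap_eq' rfl
  haveI : IsScalarTower R S' A' := IsScalarTower.of_algebraMap_eq fun r => by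
    rw [IsScalarTower.algebraMap_apply R R' S', ← IsScalarTower.algebraMap_apply R' S' A', ← IsScalarTower.algebraMap_apply R R' A']
  haveI : IsScalarTower R S A' := IsScalarTower.of_algebraMap_eq fun r => by
    show _ = algebraMap S' A' (algebraMap S S' (algebraMap R S r))
    rw [← IsScalarTower.algebraMap_apply R S S', ← IsScalarTower.algebraMap_apply R S' A']
  let ψκ : κ →ₐ[R] A' := (IsScalarTower.toAlgHom R κ' A').comp (IsScalarTower.toAlgHom R κ κ')
  let Φ : A →ₐ[R] A' := Algebra.TensorProduct.lift ψκ (IsScalarTower.toAlgHom R S A') fun _ _ => Commute.all _ _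
  letI : Algebra A A' := Φ.toRingHom.toAlgebra
  haveI : IsScalarTower κ κ' A' := inferInstance
  haveI : IsScalarTower κ A A' := IsScalarTower.of_algebraMap_eq fun c => by
    show algebraMap κ' A' (π c) = Φ (c ⊗ₜ[R] (1 : S))
    rw [Algebra.TensorProduct.lift_tmul, map_one, mul_one]
    rfl
  haveI : IsScalarTower S A A' := IsScalarTower.of_algebraMap_eq fun s => by
    show algebraMap S A' s = Φ ((1 : κ) ⊗ₜ[R] s)
    rw [Algebra.TensorProduct.lift_tmul, map_one, one_mul]
    rfl
  haveI : IsScalarTower R κ A' := IsScalarTower.of_algebraMap_eq fun r => (ψκ.commutes r).symm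
  haveI : IsScalarTower R A A' := IsScalarTower.of_algebraMap_eq fun r => (Φ.commutes r).symm
  -- the fibre rings form a pushout over the residue fields
  haveI h0 : Algebra.IsPushout R κ S A := inferInstance
  haveI h1 : Algebra.IsPushout R' κ' S' A' := inferInstance
  haveI h2 : Algebra.IsPushout R κ' S A' := by
    haveI : Algebra.IsPushout R S R' S' := Algebra.IsPushout.symm ‹_›
    haveI : Algebra.IsPushout R R' S S' := ‹_›
    exact (Algebra.IsPushout.comp_iff R R' S S').2 h1
  haveI h3 : Algebra.IsPushout κ κ' A A' := (Algebra.IsPushout.comp_iff R κ S A).1 h2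
  haveI h4 : Algebra.IsPushout κ A κ' A' := h3.symm
  haveI : Module.FaithfullyFlat A A' :=
    Module.FaithfullyFlat.of_linearEquiv A (A ⊗[κ] κ') ((Algebra.IsPushout.equiv κ A κ' A').toLinearEquiv).symm
  haveI : IsNoetherianRing A := Algebra.FiniteType.isNoetherianRing κ A
  haveI : IsNoetherianRing A' := Algebra.FiniteType.isNoetherianRing κ' A'
  -- the fibre module of the base change is the base change of the fibre module
  let e : A' ⊗[A] (A ⊗[S] N) ≃ₗ[A'] A' ⊗[S'] (S' ⊗[S] N) :=
    (AlgebraTensorModule.cancelBaseChange S A A' A' N).trans (AlgebraTensorModule.cancelBaseChange S S' A' A' N).symm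
  have hass : associatedPrimes A' (FlatCA.fiberMod p' S' (S' ⊗[S] N)) = associatedPrimes A' (A' ⊗[A] (A ⊗[S] N)) :=
    (LinearEquiv.AssociatedPrimes.eq e).symm
  have hassA : associatedPrimes A (FlatCA.fiberMod p S N) = associatedPrimes A (A ⊗[S] N) := rfl
  have hcomap : ∀ P : Ideal A', (P.comap (algebraMap A A')).comap (algebraMap S A) =
      (P.comap (algebraMap S' A')).comap (algebraMap S S') := fun P => by
    rw [Ideal.comap_comap, Ideal.comap_comap, ← IsScalarTower.algebraMap_eq, ← IsScalarTower.algebraMap_eq]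
  constructor
  · intro q' _ _ h
    rw [hass] at h
    obtain ⟨hP, hc⟩ := fibrePrime_contract p' q'
    have h' := comap_mem_ass_of_flat h
    haveI := hP
    have h5 := (fibrePrime_extend p ((FlatCA.fiberIdeal p' q').comap (algebraMap A A'))).2
    rw [hcomap, hc] at h5
    rw [h5, hassA]
    exact h'
  · intro q _ _ h
    rw [hassA] at h
    obtain ⟨hP, hc⟩ := fibrePrime_contract p q
    obtain ⟨⟨P'', hP''⟩, hP''eq⟩ := PrimeSpectrum.comap_surjective_of_faithfullyFlat (B := A') ⟨FlatCA.fiberIdeal p q, hP⟩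
    obtain ⟨P', -, hP'c, hP'⟩ := exists_ass_over_of_flat h P'' (congrArg PrimeSpectrum.asIdeal hP''eq)
    haveI := hP'.isPrime
    obtain ⟨hl, hfe⟩ := fibrePrime_extend p' P'
    refine ⟨P'.comap (algebraMap S' A'), inferInstance, hl, ?_, ?_⟩
    · rw [← hcomap, hP'c, hc]
    · rw [hfe, hass]; exact hP'

end Groth.Agent.Dev4
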