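import Groth.Agent.Lib.Dev4.FiberAssBC
import Groth.Agent.Lib.Dev4.WeakAssTensor
import Groth.Agent.Lib.AssFlat15.Fields

/-!
# No embedded primes under extension of the base field
-/

set_option autoImplicit false
set_option maxSynthPendingDepth 3
set_option backward.isDefEq.respectTransparency.types false

universe u

open TensorProduct

attribute [local instance] Algebra.TensorProduct.rightAlgebra

namespace Groth.Agent.Dev4

/-- An associated prime of a flat base change is associated to the base change of the residue ring. -/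
theorem mem_ass_quot_of_flat {A A' M : Type u} [CommRing A] [CommRing A'] [Algebra A A'] [IsNoetherianRing A]
    [IsNoetherianRing A'] [Module.Flat A A'] [AddCommGroup M] [Module A M] {P : Ideal A'}
    (h : P ∈ associatedPrimes A' (A' ⊗[A] M)) :
    P ∈ associatedPrimes A' (A' ⊗[A] (A ⧸ P.comap (algebraMap A A'))) := by
  classical
  obtain ⟨hP, z, hz⟩ := isAssociatedPrime_iff.1 h
  obtain ⟨M0, hM0, z0, hz0⟩ : ∃ M0 : Submodule A M, M0.FG ∧ ∃ z0, M0.subtype.lTensor A' z0 = z := by
    obtain ⟨T, rfl⟩ := TensorProduct.exists_finset (R := A) z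
    refine ⟨Submodule.span A ↑(T.image Prod.snd), Submodule.fg_span (Finset.finite_toSet _),
      ∑ i ∈ T.attach, i.1.1 ⊗ₜ[A] (⟨i.1.2, Submodule.subset_span (Finset.mem_coe.2 (Finset.mem_image_of_mem _ i.2))⟩ : Submodule.span A ↑(T.image Prod.snd)), ?_⟩
    rw [map_sum]
    exact Finset.sum_attach T fun i => i.1 ⊗ₜ[A] i.2
  have hinj := Module.Flat.lTensor_preserves_injective_linearMap (M := A') M0.subtype Subtype.val_injective
  have h0 : P ∈ associatedPrimes A' (A' ⊗[A] M0) := by
    refine ⟨hP, z0, ?_⟩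
    rw [show Submodule.colon (⊥ : Submodule A' (A' ⊗[A] M0)) {z0} = P from ?_, hP.radical]
    ext c
    rw [Submodule.mem_colon_singleton, Submodule.mem_bot, hz, Submodule.mem_colon_singleton, Submodule.mem_bot, ← hz0]
    have hsm : c • (M0.subtype.lTensor A' z0) = M0.subtype.lTensor A' (c • z0) := by
      show c • (AlgebraTensorModule.lTensor A' A' M0.subtype z0) = AlgebraTensorModule.lTensor A' A' M0.subtype (c • z0)
      rw [map_smul]
    rw [hsm, map_eq_zero_iff _ hinj]
  have hex : ∃ r : PrimeSpectrum A, P ∈ associatedPrimes A' (A' ⊗[A] (A ⧸ r.asIdeal)) := by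
    revert h0
    refine IsNoetherianRing.induction_on_isQuotientEquivQuotientPrime (A := A) (Module.Finite.iff_fg.2 hM0)
      (motive := fun X _ _ _ => P ∈ associatedPrimes A' (A' ⊗[A] X) →
        ∃ r : PrimeSpectrum A, P ∈ associatedPrimes A' (A' ⊗[A] (A ⧸ r.asIdeal))) ?_ ?_ ?_
    · intro X _ _ _ _ hX
      haveI : Subsingleton (A' ⊗[A] X) := subsingleton_of_forall_eq 0 fun w => by
        induction w using TensorProduct.induction_on with
        | zero => rfl
        | add a b ha hb => rw [ha, hb, add_zero]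
        | tmul n x => rw [Subsingleton.elim x 0, TensorProduct.tmul_zero]
      exact absurd hX not_isAssociatedPrime_of_subsingleton
    · intro X _ _ _ r e hX
      exact ⟨r, (LinearEquiv.AssociatedPrimes.eq (AlgebraTensorModule.congr (LinearEquiv.refl A' A') e)) ▸ hX⟩
    · intro X₁ _ _ _ X₂ _ _ _ X₃ _ _ _ f g hf hg hfg h₁ h₃ hX
      rcases associatedPrimes.subset_union_of_exact (f := AlgebraTensorModule.lTensor A' A' f)
        (g := AlgebraTensorModule.lTensor A' A' g)
        (Module.Flat.lTensor_preserves_injective_linearMap f hf) (lTensor_exact A' hfg hg) hX with h | h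
      · exact h₁ h
      · exact h₃ h
  obtain ⟨r, hr⟩ := hex
  have h1 := comap_mem_ass_of_flat hr
  rw [associatedPrimes.eq_singleton_of_isPrimary r.2.isPrimary, Set.mem_singleton_iff, r.2.radical] at h1
  rw [h1]
  exact hr

/-- Over an associated prime of the extension of scalars there is no smaller prime with the same contraction. -/
theorem eq_of_le_of_mem_ass_fieldExt {k K A A' : Type u} [Field k] [Field K] [CommRing A] [CommRing A'] [Algebra k K]
    [Algebra k A] [Algebra k A'] [Algebra K A'] [Algebra A A'] [IsScalarTower k K A'] [IsScalarTower k A A']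
    [Algebra.IsPushout k K A A'] [IsNoetherianRing A] [IsNoetherianRing A'] [Module.Flat A A']
    {M : Type u} [AddCommGroup M] [Module A M] {P P'' : Ideal A'} [P''.IsPrime]
    (h : P ∈ associatedPrimes A' (A' ⊗[A] M)) (hle : P'' ≤ P)
    (hc : P''.comap (algebraMap A A') = P.comap (algebraMap A A')) : P'' = P := by
  classical
  haveI hP := h.isPrime
  let q := P.comap (algebraMap A A')
  haveI : q.IsPrime := Ideal.comap_isPrime _ _
  haveI : P.LiesOver q := ⟨rfl⟩
  haveI : P''.LiesOver q := ⟨hc.symm⟩
  have h1 := mem_ass_quot_of_flat h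
  rw [← LinearEquiv.AssociatedPrimes.eq (Algebra.TensorProduct.quotIdealMapEquivTensorQuot A' q).toLinearEquiv] at h1
  obtain ⟨-, y, hy⟩ := isAssociatedPrime_iff.1 h1
  obtain ⟨y, rfl⟩ := Ideal.Quotient.mk_surjective y
  have hann : ∀ c : A', c ∈ P ↔ c * y ∈ q.map (algebraMap A A') := fun c => by
    rw [hy, Submodule.mem_colon_singleton, Submodule.mem_bot, ← Ideal.Quotient.eq_zero_iff_mem, map_mul]
    rfl
  obtain ⟨hp1, hc1⟩ := fibrePrime_contract q P
  obtain ⟨hp2, hc2⟩ := fibrePrime_contract q P''
  let i := CI2.FibAss.inc (S := A') q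
  have hi : algebraMap A' (q.Fiber A') = i := rfl
  have hy0 : i y ≠ 0 := fun h0 => by
    have h2 : y ⊗ₜ[A] (1 : q.ResidueField) = 0 := by
      exact (congrArg (TensorProduct.comm A q.ResidueField A') (h0 : (1 : q.ResidueField) ⊗ₜ[A] y = 0)).trans (map_zero _)
    obtain ⟨c, hcq, hcy⟩ := exists_smul_mem_of_tmul_one_eq_zero q A' h2
    rw [← CI2.FibAss.pS_iff (S := A'), smul_eq_mul, Ideal.mul_top, Algebra.smul_def] at hcy
    exact hcq ((hann _).2 hcy)
  have hmap : ∀ a ∈ q.map (algebraMap A A'), i a = 0 := by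
    intro a ha
    have hle : q.map (algebraMap A A') ≤ RingHom.ker i := Ideal.map_le_iff_le_comap.2 fun b hb =>
      CI2.FibAss.inc_eq_zero q hb
    exact hle ha
  have hzd : ∀ r ∈ FlatCA.fiberIdeal q P, r * i y = 0 := by
    intro r hr
    obtain ⟨c, hc', a, ha⟩ := CI2.FibAss.fib_frac q r
    obtain ⟨v, hv⟩ := CI2.FibAss.isUnit_inc (S := A') q hc'
    have ha' : a ∈ P := by
      rw [← hc1, Ideal.mem_comap, hi]
      show CI2.FibAss.inc q a ∈ _
      rw [← ha]; exact Ideal.mul_mem_left _ _ hr
    have h3 : (v : q.Fiber A') * (r * i y) = 0 := by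
      rw [← mul_assoc, hv, ha, ← map_mul]
      exact hmap _ ((hann a).1 ha')
    exact (Units.mul_right_eq_zero v).1 h3
  let e : q.Fiber A' ≃+* K ⊗[k] q.ResidueField :=
    (Algebra.TensorProduct.comm A q.ResidueField A').toRingEquiv.trans
      (Algebra.IsPushout.cancelBaseChangeAlg k K A A' q.ResidueField).toRingEquiv
  have key := AssFlat15.tensor_fields_incomparable k K q.ResidueField
    ((FlatCA.fiberIdeal q P).comap e.symm) ((FlatCA.fiberIdeal q P'').comap e.symm) (fun r hr hr0 => hy0 (by
      have h4 : r * e (i y) = 0 := by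
        rw [← e.apply_symm_apply r, ← map_mul, hzd _ hr, map_zero]
      exact (map_eq_zero_iff e e.injective).1 (mem_nonZeroDivisors_iff_right.1 hr0 _ (by rw [mul_comm]; exact h4))))
    (Ideal.comap_mono (Ideal.map_mono hle))
  have key' := Ideal.comap_injective_of_surjective (e.symm : K ⊗[k] q.ResidueField →+* q.Fiber A') e.symm.surjective key
  rw [← hc2, key', hc1]

section Fibre

variable {R R' S S' : Type u} [CommRing R] [CommRing R'] [CommRing S] [CommRing S'] [Algebra R R'] [Algebra R S]
  [Algebra R' S'] [Algebra S S'] [Algebra R S'] [IsScalarTower R R' S'] [IsScalarTower R S S'] [Algebra.IsPushout R R' S S']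
  [Algebra.FiniteType R S] [Algebra.FiniteType R' S'] (p : Ideal R) [p.IsPrime] (p' : Ideal R') [p'.IsPrime] [p'.LiesOver p]
  (N : Type u) [AddCommGroup N] [Module S N] [Module R N] [IsScalarTower R S N]

set_option maxHeartbeats 1000000 in
/-- The relative assassin of a base change: existence of generizations and maximality. -/
theorem fiberAss_baseChange_maximal [Module R' (S' ⊗[S] N)] [IsScalarTower R' S' (S' ⊗[S] N)] :
    (∀ (q'' : Ideal S') [q''.IsPrime] [q''.LiesOver p'],
      FlatCA.fiberIdeal p (q''.comap (algebraMap S S')) ∈ associatedPrimes (p.Fiber S) (FlatCA.fiberMod p S N) →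
      ∃ q' : Ideal S', q'.IsPrime ∧ q'.LiesOver p' ∧ q' ≤ q'' ∧ q'.comap (algebraMap S S') = q''.comap (algebraMap S S') ∧
        FlatCA.fiberIdeal p' q' ∈ associatedPrimes (p'.Fiber S') (FlatCA.fiberMod p' S' (S' ⊗[S] N))) ∧
    (∀ (q' q'' : Ideal S') [q'.IsPrime] [q'.LiesOver p'] [q''.IsPrime] [q''.LiesOver p'],
      FlatCA.fiberIdeal p' q' ∈ associatedPrimes (p'.Fiber S') (FlatCA.fiberMod p' S' (S' ⊗[S] N)) →
      q'' ≤ q' → q''.comap (algebraMap S S') = q'.comap (algebraMap S S') → q'' = q') := by
  let κ := p.ResidueField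
  let κ' := p'.ResidueField
  let A := p.Fiber S
  let A' := p'.Fiber S'
  let π : κ →+* κ' := Ideal.ResidueField.map p p' (algebraMap R R') (Ideal.LiesOver.over (P := p') (p := p))
  letI : Algebra κ κ' := π.toAlgebra
  haveI : IsScalarTower R κ κ' := IsScalarTower.of_algebraMap_eq fun r => by
    show algebraMap R κ' r = π (algebraMap R κ r)
    rw [Ideal.ResidueField.map_algebraMap, IsScalarTower.algebraMap_apply R R' κ']
  letI algRA' : Algebra R A' := inferInstance
  haveI : IsScalarTower R R' A' := inferInstance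
  letI algSA' : Algebra S A' := ((algebraMap S' A').comp (algebraMap S S')).toAlgebra
  haveI : IsScalarTower S S' A' := IsScalarTower.of_algebraMap_eq' rfl
  haveI : IsScalarTower R S' A' := IsScalarTower.of_algebraMap_eq fun r => by
    rw [IsScalarTower.algebraMap_apply R R' S', ← IsScalarTower.algebraMap_apply R' S' A', ← IsScalarTower.algebraMap_apply R R' A']
  haveI : IsScalarTower R S A' := IsScalarTower.of_algebraMap_eq fun r => by
    show _ = algebraMap S' A' (algebraMap S S' (algebraMap R S r))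
    rw [← IsScalarTower.algebraMap_apply R S S', ← IsScalarTower.algebraMap_apply R S' A']
  let ψκ : κ →ₐ[R] A' := (IsScalarTower.toAlgHom R κ' A').comp (IsScalarTower.toAlgHom R κ κ')
  let Φ : A →ₐ[R] A' := Algebra.TensorProduct.lift ψκ (IsScalarTower.toAlgHom R S A') fun _ _ => Commute.all _ _
  letI : Algebra A A' := Φ.toRingHom.toAlgebra
  haveI : IsScalarTower κ κ' A' := inferInstance
  haveI : IsScalarTower κ A A' := IsScalarTower.of_algebraMap_eq fun c => by
    show algebraMap κ' A' (π c) = Φ (c ⊗ₜ[R] (1 : S))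
    rw [Algebra.TensorProduct.lift_tmul, map_one, mul_one]
    rfl
  haveI : IsScalarTower S A A' := IsScalarTower.of_algebraMap_eq fun s => by
    show algebraMap S A' s = Φ ((1 : κ) ⊗ₜ[R] s)
    rw [Algebra.TensorProduct.lift_tmul, map_one, one_mul]
    rfl
  haveI : IsScalarTower R κ A' := IsScalarTower.of_algebraMap_eq fun r => (ψκ.commutes r).symm
  haveI : IsScalarTower R A A' := IsScalarTower.of_algebraMap_eq fun r => (Φ.commutes r).symm
  -- the fibre rings form a pushout over the residue fields
  haveI h0 : Algebra.IsPushout R κ S A := inferInstance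
  haveI h1 : Algebra.IsPushout R' κ' S' A' := inferInstance
  haveI h2 : Algebra.IsPushout R κ' S A' := by
    haveI : Algebra.IsPushout R S R' S' := Algebra.IsPushout.symm ‹_›
    haveI : Algebra.IsPushout R R' S S' := ‹_›
    exact (Algebra.IsPushout.comp_iff R R' S S').2 h1
  haveI h3 : Algebra.IsPushout κ κ' A A' := (Algebra.IsPushout.comp_iff R κ S A).1 h2
  haveI h4 : Algebra.IsPushout κ A κ' A' := h3.symm
  haveI : Module.FaithfullyFlat A A' :=
    Module.FaithfullyFlat.of_linearEquiv A (A ⊗[κ] κ') ((Algebra.IsPushout.equiv κ A κ' A').toLinearEquiv).symm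
  haveI : IsNoetherianRing A := Algebra.FiniteType.isNoetherianRing κ A
  haveI : IsNoetherianRing A' := Algebra.FiniteType.isNoetherianRing κ' A'
  -- the fibre module of the base change is the base change of the fibre module
  let e : A' ⊗[A] (A ⊗[S] N) ≃ₗ[A'] A' ⊗[S'] (S' ⊗[S] N) :=
    (AlgebraTensorModule.cancelBaseChange S A A' A' N).trans (AlgebraTensorModule.cancelBaseChange S S' A' A' N).symm
  have hass : associatedPrimes A' (FlatCA.fiberMod p' S' (S' ⊗[S] N)) = associatedPrimes A' (A' ⊗[A] (A ⊗[S] N)) :=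
    (LinearEquiv.AssociatedPrimes.eq e).symm
  have hassA : associatedPrimes A (FlatCA.fiberMod p S N) = associatedPrimes A (A ⊗[S] N) := rfl
  have hcomap : ∀ P : Ideal A', (P.comap (algebraMap A A')).comap (algebraMap S A) =
      (P.comap (algebraMap S' A')).comap (algebraMap S S') := fun P => by
    rw [Ideal.comap_comap, Ideal.comap_comap, ← IsScalarTower.algebraMap_eq, ← IsScalarTower.algebraMap_eq]
  have hfib : ∀ (P : Ideal A') [P.IsPrime], P.comap (algebraMap A A') =
      FlatCA.fiberIdeal p ((P.comap (algebraMap S' A')).comap (algebraMap S S')) := fun P _ => by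
    have h5 := (fibrePrime_extend p (P.comap (algebraMap A A'))).2
    rw [hcomap] at h5
    exact h5.symm
  constructor
  · intro q'' _ _ h
    rw [hassA] at h
    obtain ⟨hP, hc⟩ := fibrePrime_contract p' q''
    haveI := hP
    have h6 := hfib (FlatCA.fiberIdeal p' q'')
    rw [hc] at h6
    obtain ⟨P', hle, hP'c, hP'⟩ := exists_ass_over_of_flat (A' := A') h (FlatCA.fiberIdeal p' q'') h6
    haveI := hP'.isPrime
    obtain ⟨hl, hfe⟩ := fibrePrime_extend p' P'
    refine ⟨P'.comap (algebraMap S' A'), inferInstance, hl, ?_, ?_, ?_⟩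
    · rw [← hc]; exact Ideal.comap_mono hle
    · rw [← hc, ← hcomap, ← hcomap, hP'c, ← h6]
    · rw [hfe, hass]; exact hP'
  · intro q' q'' _ _ _ _ h hle hq
    rw [hass] at h
    obtain ⟨hP1, hc1⟩ := fibrePrime_contract p' q'
    obtain ⟨hP2, hc2⟩ := fibrePrime_contract p' q''
    haveI := hP1
    haveI := hP2
    have h7 : (FlatCA.fiberIdeal p' q'').comap (algebraMap A A') = (FlatCA.fiberIdeal p' q').comap (algebraMap A A') := by
      rw [hfib, hfib, hc1, hc2, hq]
    have hle' : FlatCA.fiberIdeal p' q'' ≤ FlatCA.fiberIdeal p' q' := Ideal.map_mono hle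
    have h8 := eq_of_le_of_mem_ass_fieldExt (k := κ) (K := κ') h hle' h7
    rw [← hc1, ← hc2, h8]

end Fibre

end Groth.Agent.Dev4
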