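import Groth.Agent.Lib.Dev4.Loc
import Groth.Agent.Lib.Dev4.SuppDim
import Groth.Agent.Lib.TopDimLib.Basic

/-!
# Standard shrinkings of one step dévissages
-/

set_option autoImplicit false

universe u

open TensorProduct Topology

set_option backward.isDefEq.respectTransparency.types false

attribute [local instance] Algebra.TensorProduct.rightAlgebra

namespace Groth.Agent.Dev4

/-- The dimension of the fibre support as a topological dimension. -/
theorem supportDim_eq_topDim {R B : Type u} [CommRing R] [CommRing B] [Algebra R B] (p : Ideal R) [p.IsPrime]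
    (M : Type u) [AddCommGroup M] [Module B M] [Module R M] [IsScalarTower R B M] [Module.Finite B M] :
    Module.supportDim (p.Fiber B) (FlatCA.fiberMod p B M) = topologicalKrullDim (fibreSupp (B := B) p M) := by
  rw [supportDim_fiberMod_quotient M p]
  letI : CommRing (p.Fiber B) := inferInstance
  let J : Ideal (p.Fiber B) := (Module.annihilator B M).map (algebraMap B (p.Fiber B))
  show ringKrullDim (p.Fiber B ⧸ J) = _
  obtain ⟨hc, hrange⟩ := isEmbedding_fiber (B := B) p
  let π := PrimeSpectrum.comap (algebraMap (p.Fiber B) (p.Fiber B ⧸ J))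
  let e := PrimeSpectrum.comap (algebraMap B (p.Fiber B)) ∘ π
  have he : IsEmbedding e :=
    hc.comp (PrimeSpectrum.isClosedEmbedding_comap_of_surjective _ (algebraMap (p.Fiber B) (p.Fiber B ⧸ J)) Ideal.Quotient.mk_surjective).isEmbedding
  have her : Set.range e = fibreSupp (B := B) p M := by
    rw [Set.range_comp, range_comap_of_surjective _ (algebraMap (p.Fiber B) (p.Fiber B ⧸ J)) Ideal.Quotient.mk_surjective, Ideal.Quotient.algebraMap_eq, Ideal.mk_ker]
    ext x
    constructor
    · rintro ⟨w, hw, rfl⟩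
      refine ⟨?_, Module.mem_support_iff_of_finite.2 (Ideal.map_le_iff_le_comap.1 hw)⟩
      have : PrimeSpectrum.comap (algebraMap B (p.Fiber B)) w ∈ Set.range _ := ⟨w, rfl⟩
      rwa [hrange] at this
    · rintro ⟨hx1, hx2⟩
      obtain ⟨w, rfl⟩ : x ∈ Set.range (PrimeSpectrum.comap (algebraMap B (p.Fiber B))) := by rw [hrange]; exact hx1
      exact ⟨w, Ideal.map_le_iff_le_comap.2 (Module.mem_support_iff_of_finite.1 hx2), rfl⟩
  rw [← PrimeSpectrum.topologicalKrullDim_eq_ringKrullDim]
  exact IsHomeomorph.topologicalKrullDim_eq _ (he.toHomeomorph.trans (Homeomorph.setCongr her)).isHomeomorph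

/-- The dimension of a fibre support on an open piece. -/
theorem supportDim_loc {R R' B B' M M' : Type u} [CommRing R] [CommRing R'] [CommRing B] [CommRing B'] [Algebra R B] [Algebra R R']
    [Algebra B B'] [Algebra R' B'] (g : R) (b : B) [IsLocalization.Away g R'] [IsLocalization.Away b B']
    (hcomp : (algebraMap R' B').comp (algebraMap R R') = (algebraMap B B').comp (algebraMap R B))
    [AddCommGroup M] [Module B M] [Module R M] [IsScalarTower R B M] [Module.Finite B M]
    [AddCommGroup M'] [Module B' M'] [Module R' M'] [IsScalarTower R' B' M'] [Module B M'] [IsScalarTower B B' M']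
    (gM : M →ₗ[B] M') (hg : IsBaseChange B' gM) (p : Ideal R) [p.IsPrime] (p' : Ideal R') [p'.IsPrime] [p'.LiesOver p]
    (y : Ideal B) [y.IsPrime] [y.LiesOver p] (y' : Ideal B') [y'.IsPrime] [y'.LiesOver p'] [y'.LiesOver y] (n : ℕ)
    (h : ∃ (x : PrimeSpectrum (p.Fiber B)) (hx : x ∈ Module.support (p.Fiber B) (FlatCA.fiberMod p B M)),
      x.asIdeal = FlatCA.fiberIdeal p y ∧
      FlatMor.localDim (Module.support (p.Fiber B) (FlatCA.fiberMod p B M)) ⟨x, hx⟩ = n)
    (hn : Module.supportDim (p.Fiber B) (FlatCA.fiberMod p B M) = n) :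
    Module.supportDim (p'.Fiber B') (FlatCA.fiberMod p' B' M') = n := by
  haveI : Module.Finite B' M' := Module.Finite.equiv hg.equiv
  obtain ⟨hy', hd⟩ := (locDim_iff p' M' y' n).1 (locDim_loc g b hcomp gM hg p p' y y' n h)
  rw [supportDim_eq_topDim] at hn ⊢
  refine le_antisymm ?_ (hd.symm.le.trans (TopDimLib.localDim_le _))
  rw [← hn]
  let e := PrimeSpectrum.comap (algebraMap B B')
  have he : IsOpenEmbedding e := PrimeSpectrum.localization_away_isOpenEmbedding B' b
  have hmem : ∀ x ∈ fibreSupp p' M', e x ∈ fibreSupp p M := by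
    rintro x ⟨hx1, hx2⟩
    refine ⟨?_, ?_⟩
    · show (x.asIdeal.comap (algebraMap B B')).comap (algebraMap R B) = p
      rw [Ideal.comap_comap, ← hcomp, ← Ideal.comap_comap, hx1]
      exact (‹p'.LiesOver p›).over.symm
    · rw [← hg.equiv.support_eq] at hx2
      exact (FlatPur25.mem_support_baseChange_iff (B := B) (C := B') (M := M) x).1 hx2
  exact IsInducing.topologicalKrullDim_le (f := fun x : fibreSupp p' M' => (⟨e x.1, hmem x.1 x.2⟩ : fibreSupp p M))
    (IsInducing.of_comp ((he.continuous.comp continuous_subtype_val).subtype_mk _) continuous_subtype_val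
      (he.isInducing.comp IsInducing.subtypeVal))

variable {R S : Type u} [CommRing R] [CommRing S] [Algebra R S]
  {N : Type u} [AddCommGroup N] [Module S N] [Module R N] [IsScalarTower R S N] [Module.Finite S N]
  {p : Ideal R} [p.IsPrime] {q : Ideal S} [q.IsPrime] [q.LiesOver p]
  {C D G : Type u} [CommRing C] [CommRing D] [Algebra S C] [Algebra R C] [IsScalarTower R S C]
  [Algebra R D] [Algebra D C] [IsScalarTower R D C] [AddCommGroup G] [Module C G] [Module S G]
  [IsScalarTower S C G] {n : ℕ}

/-- Elements cutting out a standard shrinking of one step. -/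
theorem exists_oneStep_elements (h : FlatCA.IsOneStepDevissage R S N p C D G n)
    {z : Ideal C} [z.IsPrime] {y : Ideal D} [y.IsPrime] [z.LiesOver q] [z.LiesOver y] [y.LiesOver p]
    (u : S) (hu : u ∉ q) (d : D) (hd : d ∉ y) (hud : ∃ k, algebraMap S C u ∣ algebraMap D C d ^ k)
    (w : D) (hw : w ∉ y) :
    ∃ (g : R) (hX : S) (b : D), g ∉ p ∧ hX ∉ q ∧ b ∉ y ∧ algebraMap R S g ∣ hX ∧ algebraMap R D g ∣ b ∧
      AwayEq (algebraMap S C hX) (algebraMap D C b) ∧ u ∣ hX ∧ b = w * d * algebraMap R D g ∧
      ∀ P : Ideal R, P.IsPrime → g ∉ P → ∃ Q : Ideal D, Q.IsPrime ∧ Q.comap (algebraMap R D) = P ∧ b ∉ Q := by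
  obtain ⟨-, hsurj, -, -, -, hsm, -, -⟩ := h
  have hc : w * d ∉ y := fun h' => ((inferInstance : y.IsPrime).mem_or_mem h').elim hw hd
  obtain ⟨e, he⟩ := hsurj (algebraMap D C (w * d))
  have heq : e ∉ q := fun h' => hc <| (Ideal.mem_of_liesOver z y _).2 <| he ▸ (Ideal.mem_of_liesOver z q e).1 h'
  haveI : Algebra.Smooth R D := by
    haveI : AlgebraicGeometry.SmoothOfRelativeDimension n
      (AlgebraicGeometry.Spec.map (CommRingCat.ofHom (algebraMap R D))) := hsm
    haveI hs : AlgebraicGeometry.Smooth (AlgebraicGeometry.Spec.map (CommRingCat.ofHom (algebraMap R D))) :=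
      AlgebraicGeometry.SmoothOfRelativeDimension.smooth n _
    exact RingHom.smooth_algebraMap.1 ((AlgebraicGeometry.HasRingHomProperty.Spec_iff (P := @AlgebraicGeometry.Smooth)).1 hs)
  have himg : IsOpen (PrimeSpectrum.comap (algebraMap R D) '' (PrimeSpectrum.basicOpen (w * d) : Set _)) :=
    PrimeSpectrum.isOpenMap_comap_of_hasGoingDown_of_finitePresentation _ (PrimeSpectrum.basicOpen (w * d)).isOpen
  have hp' : (⟨p, ‹_›⟩ : PrimeSpectrum R) ∈
      PrimeSpectrum.comap (algebraMap R D) '' (PrimeSpectrum.basicOpen (w * d) : Set _) :=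
    ⟨⟨y, ‹_›⟩, hc, PrimeSpectrum.ext (Ideal.LiesOver.over (P := y) (p := p)).symm⟩
  obtain ⟨_, ⟨g, rfl⟩, hg, hgsub⟩ :=
    PrimeSpectrum.isTopologicalBasis_basic_opens.exists_subset_of_mem_open hp' himg
  obtain ⟨k, hk⟩ := hud
  refine ⟨g, u * e * algebraMap R S g, w * d * algebraMap R D g, hg, ?_, ?_, dvd_mul_left _ _, dvd_mul_left _ _, ?_,
    ⟨e * algebraMap R S g, by ring⟩, rfl, fun P hP hgP => ?_⟩
  · exact fun h' => ((inferInstance : q.IsPrime).mem_or_mem h').elim
      (fun h' => ((inferInstance : q.IsPrime).mem_or_mem h').elim hu heq)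
      (fun h' => hg ((Ideal.mem_of_liesOver q p g).2 h'))
  · exact fun h' => ((inferInstance : y.IsPrime).mem_or_mem h').elim hc fun h' => hg ((Ideal.mem_of_liesOver y p g).2 h')
  · rw [map_mul (algebraMap S C), map_mul (algebraMap S C), map_mul (algebraMap D C) (w * d), he,
      ← IsScalarTower.algebraMap_apply, ← IsScalarTower.algebraMap_apply]
    exact (awayEq_mul_of_dvd _ _ k (hk.trans (pow_dvd_pow_of_dvd (map_dvd _ (dvd_mul_left d w)) k))).mul_right _
  · obtain ⟨Q, hQd, hQP⟩ := hgsub (show (⟨P, hP⟩ : PrimeSpectrum R) ∈ (PrimeSpectrum.basicOpen g : Set _) from hgP)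
    exact ⟨Q.asIdeal, Q.isPrime, congrArg PrimeSpectrum.asIdeal hQP, fun h' => (Q.isPrime.mem_or_mem h').elim hQd
      fun h'' => hgP ((SetLike.ext_iff.1 (congrArg PrimeSpectrum.asIdeal hQP) g).1 h'')⟩

/-- A standard shrinking of one step is again one step at the point. -/
theorem oneStep_loc (h : FlatCA.IsOneStepDevissage R S N p C D G n)
    {z : Ideal C} [z.IsPrime] {y : Ideal D} [y.IsPrime] [z.LiesOver q] [z.LiesOver y] [y.LiesOver p]
    (h1 : ∃ (ξ : PrimeSpectrum (p.Fiber S)) (hξ : ξ ∈ Module.support (p.Fiber S) (FlatCA.fiberMod p S N)),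
      ξ.asIdeal = FlatCA.fiberIdeal p q ∧
      FlatMor.localDim (Module.support (p.Fiber S) (FlatCA.fiberMod p S N)) ⟨ξ, hξ⟩ = n)
    (h3 : ∀ (z₁ : Ideal C) [z₁.IsPrime], z₁.LiesOver y → z₁ = z)
    (h4 : FlatCA.PurelyTranscendental p y)
    {g : R} {hX : S} {b : D} (hgp : g ∉ p) (hXq : hX ∉ q) (hby : b ∉ y)
    (he : AwayEq (algebraMap S C hX) (algebraMap D C b))
    (hsu : ∀ P : Ideal R, P.IsPrime → g ∉ P → ∃ Q : Ideal D, Q.IsPrime ∧ Q.comap (algebraMap R D) = P ∧ b ∉ Q)
    (R' S' C' D' : Type u) [CommRing R'] [CommRing S'] [CommRing C'] [CommRing D']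
    [Algebra R R'] [Algebra S S'] [Algebra C C'] [Algebra D D'] [IsLocalization.Away g R'] [IsLocalization.Away hX S']
    [IsLocalization.Away (algebraMap D C b) C'] [IsLocalization.Away b D']
    [Algebra R' S'] [Algebra R' C'] [Algebra R' D'] [Algebra S' C'] [Algebra D' C'] [Algebra S C'] [Algebra D C']
    [IsScalarTower R' S' C'] [IsScalarTower R' D' C'] [IsScalarTower S S' C'] [IsScalarTower S C C']
    [IsScalarTower D D' C'] [IsScalarTower D C C']
    (hRS : (algebraMap R' S').comp (algebraMap R R') = (algebraMap S S').comp (algebraMap R S))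
    (hRD : (algebraMap R' D').comp (algebraMap R R') = (algebraMap D D').comp (algebraMap R D))
    (N' : Type u) [AddCommGroup N'] [Module S' N'] [Module R' N'] [IsScalarTower R' S' N']
    [Module S N'] [IsScalarTower S S' N'] (f : N →ₗ[S] N') (hf : IsBaseChange S' f)
    (G' : Type u) [AddCommGroup G'] [Module C' G'] [Module S' G'] [IsScalarTower S' C' G']
    [Module C G'] [IsScalarTower C C' G'] (gG : G →ₗ[C] G') (hgG : IsBaseChange C' gG)
    [hp' : (p.map (algebraMap R R')).IsPrime] [(q.map (algebraMap S S')).IsPrime]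
    [hy' : (y.map (algebraMap D D')).IsPrime] [hyo : (y.map (algebraMap D D')).LiesOver (p.map (algebraMap R R'))] :
    FlatCA.IsOneStepDevissage R' S' N' (p.map (algebraMap R R')) C' D' G' n ∧
      (∃ (ξ : PrimeSpectrum ((p.map (algebraMap R R')).Fiber S'))
          (hξ : ξ ∈ Module.support ((p.map (algebraMap R R')).Fiber S') (FlatCA.fiberMod (p.map (algebraMap R R')) S' N')),
        ξ.asIdeal = FlatCA.fiberIdeal (p.map (algebraMap R R')) (q.map (algebraMap S S')) ∧
        FlatMor.localDim (Module.support ((p.map (algebraMap R R')).Fiber S')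
          (FlatCA.fiberMod (p.map (algebraMap R R')) S' N')) ⟨ξ, hξ⟩ = n) ∧
      (z.map (algebraMap C C')).LiesOver (q.map (algebraMap S S')) ∧
      (z.map (algebraMap C C')).LiesOver (y.map (algebraMap D D')) ∧
      (∀ (z₂ : Ideal C') [z₂.IsPrime], z₂.LiesOver (y.map (algebraMap D D')) → z₂ = z.map (algebraMap C C')) ∧
      FlatCA.PurelyTranscendental (p.map (algebraMap R R')) (y.map (algebraMap D D')) := by
  obtain ⟨⟨e⟩, hsurj, hfp, hfin, hG, hsm, hgi, hdim⟩ := h
  set p' := p.map (algebraMap R R') with hp'def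
  set q' := q.map (algebraMap S S') with hq'def
  set y' := y.map (algebraMap D D') with hy'def
  set z' := z.map (algebraMap C C') with hz'def
  have hbz : algebraMap D C b ∉ z := fun h => hby ((Ideal.mem_of_liesOver z y b).2 h)
  have hdz : Disjoint (Submonoid.powers (algebraMap D C b) : Set C) (z : Set C) :=
    (Ideal.disjoint_powers_iff_notMem_of_isPrime _).2 hbz
  haveI hz' : z'.IsPrime := IsLocalization.isPrime_of_isPrime_disjoint (Submonoid.powers (algebraMap D C b)) _ _ ‹_› hdz
  have hp : p'.comap (algebraMap R R') = p := IsLocalization.under_map_of_isPrime_disjoint (Submonoid.powers g) _ ‹_›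
    ((Ideal.disjoint_powers_iff_notMem_of_isPrime _).2 hgp)
  have hq : q'.comap (algebraMap S S') = q := IsLocalization.under_map_of_isPrime_disjoint (Submonoid.powers hX) _ ‹_›
    ((Ideal.disjoint_powers_iff_notMem_of_isPrime _).2 hXq)
  have hy : y'.comap (algebraMap D D') = y := IsLocalization.under_map_of_isPrime_disjoint (Submonoid.powers b) _ ‹_›
    ((Ideal.disjoint_powers_iff_notMem_of_isPrime _).2 hby)
  have hz : z'.comap (algebraMap C C') = z :=
    IsLocalization.under_map_of_isPrime_disjoint (Submonoid.powers (algebraMap D C b)) _ ‹_› hdz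
  haveI : p'.LiesOver p := ⟨hp.symm⟩
  haveI : y'.LiesOver y := ⟨hy.symm⟩
  haveI : q'.LiesOver q := ⟨hq.symm⟩
  haveI : q'.LiesOver p' := ⟨by
    refine comap_localization_inj g _ _ ?_
    show p'.comap (algebraMap R R') = (q'.comap (algebraMap R' S')).comap (algebraMap R R')
    rw [Ideal.comap_comap, hRS, ← Ideal.comap_comap, hq, hp]
    exact Ideal.over_def q p⟩
  haveI hpS : Algebra.IsPushout S S' C C' := by
    haveI : IsLocalization.Away (algebraMap S C hX) C' := he.symm.isLocalization
    haveI : IsLocalization (Algebra.algebraMapSubmonoid C (Submonoid.powers hX)) C' := by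
      rw [Algebra.algebraMapSubmonoid_powers]; infer_instance
    exact (Algebra.isPushout_of_isLocalization (Submonoid.powers hX) S' C C').symm
  haveI hpD : Algebra.IsPushout D D' C C' := by
    haveI : IsLocalization (Algebra.algebraMapSubmonoid C (Submonoid.powers b)) C' := by
      rw [Algebra.algebraMapSubmonoid_powers]; infer_instance
    exact (Algebra.isPushout_of_isLocalization (Submonoid.powers b) D' C C').symm
  refine ⟨⟨?_, ?_, ?_, ?_, ?_, smoothRelDim_loc (R := R) (B := D) g b hRD n hsm,
      geomIrredFibres_loc (R := R) (B := D) g b hRD hgi hsu, ?_⟩,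
    locDim_loc g hX hRS f hf p p' q q' n h1, ⟨?_⟩, ⟨?_⟩, fun z₂ _ hz₂ => ?_,
    pureTrans_transfer hRD p p' y y' (GeomNbhd4.surjective_localization_residue g p p' hp.symm)
      (GeomNbhd4.surjective_localization_residue b y y' hy.symm) h4⟩
  · letI : Module S G' := Module.compHom _ (algebraMap S C)
    haveI : IsScalarTower S C G' := IsScalarTower.of_algebraMap_smul fun _ _ => rfl
    haveI : IsScalarTower S S' G' := IsScalarTower.of_algebraMap_smul fun s x => by
      show algebraMap S S' s • x = algebraMap S C s • x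
      rw [← algebraMap_smul C' (algebraMap S S' s) x, ← algebraMap_smul C' (algebraMap S C s) x,
        ← IsScalarTower.algebraMap_apply, ← IsScalarTower.algebraMap_apply]
    have hg' := isBaseChange_comp_equiv e (gG.restrictScalars S) (isBaseChange_restrict (B := S) (B' := S') gG hgG)
    exact ⟨hf.equiv.symm.trans hg'.equiv⟩
  · intro x
    induction x using pushout_induction S S' C C' with
    | h0 => exact ⟨0, map_zero _⟩
    | hmk r c =>
      obtain ⟨s, rfl⟩ := hsurj c
      exact ⟨r * algebraMap S S' s, by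
        rw [map_mul, ← IsScalarTower.algebraMap_apply S S' C', IsScalarTower.algebraMap_apply S C C']⟩
    | hadd a b ha hb =>
      obtain ⟨a, rfl⟩ := ha; obtain ⟨b, rfl⟩ := hb
      exact ⟨a + b, map_add _ _ _⟩
  · haveI := hfp
    exact Algebra.FinitePresentation.equiv (Algebra.IsPushout.equiv S S' C C')
  · haveI := hfin
    exact Module.Finite.equiv (Algebra.IsPushout.equiv D D' C C').toLinearEquiv
  · haveI := hG
    exact Module.Finite.equiv hgG.equiv
  · exact supportDim_loc g hX hRS f hf p p' q q' n h1 hdim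
  · refine comap_localization_inj hX _ _ ?_
    show q'.comap (algebraMap S S') = (z'.comap (algebraMap S' C')).comap (algebraMap S S')
    rw [hq, Ideal.comap_comap, ← IsScalarTower.algebraMap_eq, IsScalarTower.algebraMap_eq S C C', ← Ideal.comap_comap, hz]
    exact Ideal.over_def z q
  · refine comap_localization_inj b _ _ ?_
    show y'.comap (algebraMap D D') = (z'.comap (algebraMap D' C')).comap (algebraMap D D')
    rw [hy, Ideal.comap_comap, ← IsScalarTower.algebraMap_eq, IsScalarTower.algebraMap_eq D C C', ← Ideal.comap_comap, hz]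
    exact Ideal.over_def z y
  · have hQC : z₂.comap (algebraMap C C') = z := by
      refine h3 _ ⟨?_⟩
      rw [Ideal.under_def, Ideal.comap_comap, ← IsScalarTower.algebraMap_eq, IsScalarTower.algebraMap_eq D D' C',
        ← Ideal.comap_comap, ← hy]
      exact congrArg (Ideal.comap (algebraMap D D')) hz₂.over
    rw [hz'def, ← hQC]
    exact (IsLocalization.map_under (Submonoid.powers (algebraMap D C b)) C' z₂).symm

end Groth.Agent.Dev4
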