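import Groth.Agent.S1249
import Groth.Agent.S1285
import Groth.Agent.Lib.Dev4.EtaleStep
import Groth.Agent.Lib.Dev4.OneStep
import Groth.Agent.Lib.Dev4.Cons
import Groth.Agent.Lib.EtaleCoord5.FieldRank
import Groth.Agent.Lib.RG4.Generic

/-!
# The first step of a complete dévissage
-/

set_option autoImplicit false

universe u

open TensorProduct

set_option backward.isDefEq.respectTransparency.types false

attribute [local instance] Algebra.TensorProduct.rightAlgebra

namespace Groth.Agent.Dev4

/-- In an integral algebra of finite type over a field all local dimensions agree. -/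
theorem localDim_eq_ringKrullDim (k : Type u) {D : Type u} [Field k] [CommRing D] [IsDomain D] [Algebra k D]
    [Algebra.FiniteType k D] (x : PrimeSpectrum D) :
    FlatMor.localDim (PrimeSpectrum D) x = ringKrullDim D := by
  refine le_antisymm ((TopDimLib.localDim_le x).trans (PrimeSpectrum.topologicalKrullDim_eq_ringKrullDim D).le) ?_
  rw [VarDim.ringKrullDim_eq_tdeg k D, ← EtaleCoord5.localDim_bot k D]
  exact GenSmooth5.localDim_mono ((PrimeSpectrum.le_iff_specializes _ _).1 bot_le)

/-- A fibre module with support of full dimension has the local dimensions of the fibre. -/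
theorem locDim_of_supportDim {R D : Type u} [CommRing R] [CommRing D] [Algebra R D] [Algebra.Smooth R D] (p : Ideal R)
    [p.IsPrime] (G : Type u) [AddCommGroup G] [Module D G] [Module R G] [IsScalarTower R D G] [Module.Finite D G]
    (hgi : FlatCA.GeomIrredFibres R D) (n : ℕ) (hle : ringKrullDim (p.Fiber D) ≤ n)
    (hdim : Module.supportDim (p.Fiber D) (FlatCA.fiberMod p D G) = n) (y : Ideal D) [y.IsPrime] [y.LiesOver p] :
    ∃ (x : PrimeSpectrum (p.Fiber D)) (hx : x ∈ Module.support (p.Fiber D) (FlatCA.fiberMod p D G)),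
      x.asIdeal = FlatCA.fiberIdeal p y ∧
      FlatMor.localDim (Module.support (p.Fiber D) (FlatCA.fiberMod p D G)) ⟨x, hx⟩ = n := by
  haveI := RG4.isDomain_fiber_of_smooth hgi p
  haveI : Module.Finite (p.Fiber D) (FlatCA.fiberMod p D G) := Module.Finite.base_change D (p.Fiber D) G
  have hann := RG4.annihilator_eq_bot n hle hdim.ge
  have huniv : Module.support (p.Fiber D) (FlatCA.fiberMod p D G) = Set.univ :=
    Set.eq_univ_of_forall fun x => Module.mem_support_iff_of_finite.2 (hann.le.trans bot_le)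
  haveI : Algebra.FiniteType p.ResidueField (p.Fiber D) := inferInstance
  have hdim' : ringKrullDim (p.Fiber D) = n :=
    le_antisymm hle (hdim.ge.trans (Module.supportDim_le_ringKrullDim _ _))
  obtain ⟨x, hx⟩ := RG4.exists_fiber_point p y
  have hmem : x ∈ Module.support (p.Fiber D) (FlatCA.fiberMod p D G) := by rw [huniv]; trivial
  have hxy : x.asIdeal = FlatCA.fiberIdeal p y := by
    refine le_antisymm (fun w hw => ?_) (Ideal.map_le_iff_le_comap.2 hx.ge)
    obtain ⟨t, ht, d, hd⟩ := Ideal.Fiber.exists_smul_eq_one_tmul p w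
    have hd' : algebraMap R (p.Fiber D) t * w = algebraMap D (p.Fiber D) d := by rw [← Algebra.smul_def]; exact hd
    have hu : IsUnit (algebraMap R (p.Fiber D) t) := by
      rw [IsScalarTower.algebraMap_apply R p.ResidueField (p.Fiber D)]
      exact (isUnit_iff_ne_zero.2 fun h => ht (Ideal.algebraMap_residueField_eq_zero.1 h)).map _
    refine (Ideal.unit_mul_mem_iff_mem _ hu).1 (hd' ▸ Ideal.mem_map_of_mem _ ?_)
    have : algebraMap D (p.Fiber D) d ∈ x.asIdeal := hd' ▸ x.asIdeal.mul_mem_left _ hw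
    exact (SetLike.ext_iff.1 hx d).1 this
  refine ⟨x, hmem, hxy, ?_⟩
  rw [← hdim', ← localDim_eq_ringKrullDim p.ResidueField x]
  exact FibDim14.localDim_of_isOpenEmbedding
    ((isOpen_univ.isOpenEmbedding_subtypeVal).comp (Homeomorph.setCongr huniv).isOpenEmbedding) _

/-- The first step of a complete dévissage after étale localization. -/
theorem exists_first {R S : Type u} [CommRing R] [CommRing S] [Algebra R S] [Algebra.FiniteType R S]
    (N : Type u) [AddCommGroup N] [Module S N] [Module R N] [IsScalarTower R S N] [Module.Finite S N]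
    (p : Ideal R) [p.IsPrime] (q : Ideal S) [q.IsPrime] [q.LiesOver p] (n : ℕ)
    (x : PrimeSpectrum (p.Fiber S)) (hxq : x.asIdeal = FlatCA.fiberIdeal p q)
    (hx : x ∈ Module.support (p.Fiber S) (FlatCA.fiberMod p S N))
    (hn : FlatMor.localDim (Module.support (p.Fiber S) (FlatCA.fiberMod p S N)) ⟨x, hx⟩ = n) :
    ∃ (R' S' : Type u) (_ : CommRing R') (_ : CommRing S') (_ : Algebra R R') (_ : Algebra S S') (_ : Algebra R' S')
      (_ : Algebra R S') (_ : IsScalarTower R R' S') (_ : IsScalarTower R S S')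
      (p' : Ideal R') (q' : Ideal S') (_ : p'.IsPrime) (_ : q'.IsPrime),
      FlatCA.IsEtaleNhd R R' p p' ∧ FlatCA.IsEtaleNhd S S' q q' ∧ q'.LiesOver p' ∧
      ∃ (H : Head R' S' (S' ⊗[S] N) p') (A : HeadAt H q'), A.d = n ∧
        Module.supportDim (p'.Fiber H.D) (FlatCA.fiberMod p' H.D (H.G ⧸ LinearMap.range H.α)) < (n : WithBot ℕ∞) := by
  obtain ⟨E⟩ := S1249.result N p q n x hxq hx hn
  obtain ⟨heR, hlR, hκR⟩ := id E.etaleR
  obtain ⟨heS, hlS, hκS⟩ := id E.etaleS
  haveI := heR
  haveI := hlR
  haveI := heS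
  haveI := hlS
  haveI := E.q'Over
  haveI := E.zOver
  haveI := E.zOverY
  haveI := E.yOver
  haveI := E.finiteDC
  haveI := E.finiteG
  haveI := E.fpC
  haveI : Algebra.FiniteType R E.S' := Algebra.FiniteType.trans (S := S) inferInstance inferInstance
  haveI : Algebra.FiniteType E.R' E.S' := Algebra.FiniteType.of_restrictScalars_finiteType R E.R' E.S'
  haveI hgI : AlgebraicGeometry.GeometricallyIntegral
      (AlgebraicGeometry.Spec.map (CommRingCat.ofHom (algebraMap E.R' E.D))) := E.geomInt
  have hgi : FlatCA.GeomIrredFibres E.R' E.D := inferInstance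
  haveI hsm : Algebra.Smooth E.R' E.D := smooth_of_relDim E.smooth
  haveI hprime : (E.p'.map (algebraMap E.R' E.D)).IsPrime := isPrime_map hgi E.p'
  let N₁ := E.S' ⊗[S] N
  let f : N →ₗ[S] N₁ := TensorProduct.mk S E.S' N 1
  have hf : IsBaseChange E.S' f := TensorProduct.isBaseChange S N E.S'
  let e : N₁ ≃ₗ[E.S'] E.G := E.isBaseChange.equiv.trans E.iso
  have hloc := locDim_etale (R' := E.R') f hf p E.p' q E.q' n ⟨x, hx, hxq, hn⟩
  have hdim : Module.supportDim (E.p'.Fiber E.S') (FlatCA.fiberMod E.p' E.S' N₁) = n := by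
    refine le_antisymm (supportDim_le_of_step (D := E.D) (C := E.C) (N := N₁) (G := E.G) e E.surjC E.p' n E.smooth) ?_
    obtain ⟨hm, hd'⟩ := (locDim_iff E.p' N₁ E.q' n).1 hloc
    rw [supportDim_eq_topDim, ← hd']
    exact TopDimLib.localDim_le _
  have hstep : FlatCA.IsOneStepDevissage E.R' E.S' N₁ E.p' E.C E.D E.G n :=
    ⟨⟨e⟩, E.surjC, E.fpC, E.finiteDC, E.finiteG, E.smooth, hgi, hdim⟩
  obtain ⟨⟨r, α, -, hα⟩, hdrop⟩ := S1285.result N₁ E.p' E.C E.D E.G n hstep
  haveI : Module.Finite E.D E.G := Module.Finite.trans E.C E.G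
  have hle := RG4.ringKrullDim_fiber_le n E.smooth E.p'
  have hdimD : Module.supportDim (E.p'.Fiber E.D) (FlatCA.fiberMod E.p' E.D E.G) = n := by
    haveI : Module.Finite E.S' E.C := Module.Finite.of_surjective (Algebra.linearMap E.S' E.C) E.surjC
    haveI : Module.Finite E.S' E.G := Module.Finite.trans E.C E.G
    haveI : IsScalarTower E.R' E.S' E.G := IsScalarTower.of_algebraMap_smul fun s g => by
      rw [← algebraMap_smul E.C (algebraMap E.R' E.S' s) g, ← IsScalarTower.algebraMap_apply, algebraMap_smul]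
    rw [RG4.supportDim_fiberMod_eq (A := E.D) (B := E.C), ← RG4.supportDim_fiberMod_eq (A := E.S') (B := E.C), ← hdim]
    exact (Module.supportDim_eq_of_equiv (LinearEquiv.baseChange E.S' (E.p'.Fiber E.S') N₁ E.G e)).symm
  let H : Head E.R' E.S' N₁ E.p' :=
    { C := E.C, D := E.D, G := E.G, r := r, α := α, surjSC := E.surjC, fpSC := E.fpC, finiteDC := E.finiteDC,
      smooth := hsm, geomIrred := hgi, finiteG := E.finiteG, isoN := e, fibreIso := hα }
  let A : HeadAt H E.q' :=
    { y := E.y, z := E.z, hy := E.hy, hz := E.hz, yOver := E.yOver, zOver := E.zOverY, pureTrans := E.pureTrans,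
      uniq := E.uniq, q0 := E.zOver.over.symm, d := n, relDim := E.smooth,
      locDim := locDim_of_supportDim E.p' E.G hgi n hle hdimD E.y }
  exact ⟨E.R', E.S', _, _, _, _, _, _, E.tRR'S', E.tRSS', E.p', E.q', E.hp', E.hq', E.etaleR, E.etaleS, E.q'Over,
    H, A, rfl, hdrop r α hα⟩

end Groth.Agent.Dev4
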