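import Groth.Prelude.Def_FlatCA
import Groth.Agent.Lib.CI2.FibAss
import Mathlib

/-!
# Associated primes under flat base change of a Noetherian ring
-/

set_option autoImplicit false
set_option maxSynthPendingDepth 3
set_option backward.isDefEq.respectTransparency.types false

universe u

open TensorProduct

namespace Groth.Agent.Dev4

/-- Associated primes of a flat base change lie over associated primes. -/
theorem comap_mem_ass_of_flat {A A' M : Type u} [CommRing A] [CommRing A'] [Algebra A A'] [IsNoetherianRing A]
    [IsNoetherianRing A'] [Module.Flat A A'] [AddCommGroup M] [Module A M] {q' : Ideal A'}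
    (h : q' ∈ associatedPrimes A' (A' ⊗[A] M)) : q'.comap (algebraMap A A') ∈ associatedPrimes A M := by
  classical
  obtain ⟨hq', z, hz⟩ := isAssociatedPrime_iff.1 h
  obtain ⟨M0, hM0, z0, hz0⟩ : ∃ M0 : Submodule A M, M0.FG ∧ ∃ z0, M0.subtype.lTensor A' z0 = z := by
    obtain ⟨T, rfl⟩ := TensorProduct.exists_finset (R := A) z
    refine ⟨Submodule.span A ↑(T.image Prod.snd), Submodule.fg_span (Finset.finite_toSet _),
      ∑ i ∈ T.attach, i.1.1 ⊗ₜ[A] (⟨i.1.2, Submodule.subset_span (Finset.mem_coe.2 (Finset.mem_image_of_mem _ i.2))⟩ : Submodule.span A ↑(T.image Prod.snd)), ?_⟩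
    rw [map_sum]
    exact Finset.sum_attach T fun i => i.1 ⊗ₜ[A] i.2
  haveI : Module.Finite A M0 := Module.Finite.iff_fg.2 hM0
  have hinj := Module.Flat.lTensor_preserves_injective_linearMap (M := A') M0.subtype Subtype.val_injective
  have hann : ∀ c : A', c ∈ q' ↔ c • z0 = 0 := fun c => by
    rw [hz, Submodule.mem_colon_singleton, Submodule.mem_bot, ← hz0]
    have hsm : c • (M0.subtype.lTensor A' z0) = M0.subtype.lTensor A' (c • z0) := by
      show c • (AlgebraTensorModule.lTensor A' A' M0.subtype z0) = AlgebraTensorModule.lTensor A' A' M0.subtype (c • z0)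
      rw [map_smul]
    rw [hsm, map_eq_zero_iff _ hinj]
  let q := q'.comap (algebraMap A A')
  haveI : q.IsPrime := Ideal.comap_isPrime _ _
  by_contra hne
  have hM0ass : q ∉ associatedPrimes A M0 := fun h' => hne (associatedPrimes.subset_of_injective (f := M0.subtype) Subtype.val_injective h')
  have hfin : (associatedPrimes A M0).Finite := associatedPrimes.finite A M0
  -- an element of `q` outside the smaller associated primes
  obtain ⟨a, haq, ha⟩ : ∃ a ∈ q, ∀ P ∈ associatedPrimes A M0, P ≤ q → a ∉ P := by
    by_contra hc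
    push Not at hc
    have hsub : (q : Set A) ⊆ ⋃ P ∈ (↑(hfin.toFinset.filter (· ≤ q)) : Set (Ideal A)), (P : Set A) := fun a ha => by
      obtain ⟨P, hP, hPq, haP⟩ := hc a ha
      exact Set.mem_biUnion (by simp [hP, hPq]) haP
    obtain ⟨P, hP, hqP⟩ := (Ideal.subset_union_prime (s := hfin.toFinset.filter (· ≤ q)) (f := fun P => P) q q
      (fun P hP _ _ => by
        simp only [Finset.mem_filter, Set.Finite.mem_toFinset] at hP
        exact hP.1.isPrime)).1 hsub
    simp only [Finset.mem_filter, Set.Finite.mem_toFinset] at hP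
    exact hM0ass (le_antisymm hP.2 hqP ▸ hP.1)
  -- the kernel of multiplication by `a` is killed outside `q`
  let m : M0 →ₗ[A] M0 := DistribSMul.toLinearMap A M0 a
  have hker : ∀ y ∈ LinearMap.ker m, ∃ s : A, s ∉ q ∧ s • y = 0 := fun y hy => by
    by_contra hc
    push Not at hc
    let T := Submodule.span A {y}
    have hTq : (T.annihilator : Ideal A) ≤ q := fun s hs => by
      by_contra hsq
      exact hc s hsq ((Submodule.mem_annihilator_span_singleton _ _).1 hs)
    obtain ⟨P, hP, hPq⟩ := Ideal.exists_minimalPrimes_le hTq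
    have hP' : P ∈ associatedPrimes A M0 := associatedPrimes.subset_of_injective (f := T.subtype) Subtype.val_injective
      (Module.associatedPrimes.minimalPrimes_annihilator_subset_associatedPrimes A T (by
        rwa [show Module.annihilator A T = T.annihilator from rfl]))
    exact ha P hP' hPq (hP.1.2 ((Submodule.mem_annihilator_span_singleton _ _).2 (LinearMap.mem_ker.1 hy)))
  haveI : IsNoetherian A M0 := isNoetherian_of_isNoetherianRing_of_finite A M0
  obtain ⟨K, hK⟩ := (IsNoetherian.noetherian (LinearMap.ker m) : (LinearMap.ker m).FG)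
  choose! s hs hsy using fun y (hy : y ∈ K) => hker y (hK ▸ Submodule.subset_span hy)
  let σ := ∏ y ∈ K, s y
  have hσ : σ ∉ q := fun h => by
    obtain ⟨y, hy, hy'⟩ := (Ideal.IsPrime.prod_mem_iff).1 h
    exact hs y hy hy'
  have hσ0 : (DistribSMul.toLinearMap A M0 σ).comp (LinearMap.ker m).subtype = 0 := by
    refine LinearMap.ext fun y => ?_
    have : LinearMap.ker m ≤ LinearMap.ker (DistribSMul.toLinearMap A M0 σ) := by
      rw [← hK, Submodule.span_le]
      intro y hy
      show σ • y = 0
      simp only [σ]
      rw [← Finset.prod_erase_mul _ _ hy, mul_smul, hsy y hy, smul_zero]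
    exact this y.2
  have hact : ∀ (c : A) (w : A' ⊗[A] M0), (DistribSMul.toLinearMap A M0 c).lTensor A' w = algebraMap A A' c • w := fun c w => by
    induction w using TensorProduct.induction_on with
    | zero => simp
    | tmul x y =>
      rw [LinearMap.lTensor_tmul, DistribSMul.toLinearMap_apply, TensorProduct.tmul_smul, algebraMap_smul]
    | add u v hu hv => rw [map_add, smul_add, hu, hv]
  -- `a` kills `z0`, hence so does `σ`
  have haz : m.lTensor A' z0 = 0 := by rw [hact]; exact (hann _).1 haq
  obtain ⟨w, rfl⟩ := ((Module.Flat.lTensor_exact A') (LinearMap.exact_subtype_ker_map m) z0).1 haz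
  refine hσ ((hann _).2 ?_)
  rw [← hact, ← LinearMap.comp_apply, ← LinearMap.lTensor_comp, hσ0, LinearMap.lTensor_zero, LinearMap.zero_apply]

/-- Over every prime below, a flat base change has an associated prime over an associated prime. -/
theorem exists_ass_over_of_flat {A A' M : Type u} [CommRing A] [CommRing A'] [Algebra A A'] [IsNoetherianRing A]
    [IsNoetherianRing A'] [Module.Flat A A'] [AddCommGroup M] [Module A M] {q : Ideal A} (hq : q ∈ associatedPrimes A M)
    (q'' : Ideal A') [q''.IsPrime] (h : q''.comap (algebraMap A A') = q) :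
    ∃ q' : Ideal A', q' ≤ q'' ∧ q'.comap (algebraMap A A') = q ∧ q' ∈ associatedPrimes A' (A' ⊗[A] M) := by
  obtain ⟨hqp, f, hf⟩ := (isAssociatedPrime_iff_exists_injective_linearMap (I := q) (M := M)).1 hq
  obtain ⟨q', hq', hle⟩ := Ideal.exists_minimalPrimes_le (I := q.map (algebraMap A A')) (J := q'')
    (Ideal.map_le_iff_le_comap.2 h.ge)
  refine ⟨q', hle, le_antisymm ((Ideal.comap_mono hle).trans h.le) (Ideal.map_le_iff_le_comap.1 hq'.1.2), ?_⟩
  have hinj : Function.Injective (AlgebraTensorModule.lTensor A' A' f) :=
    Module.Flat.lTensor_preserves_injective_linearMap (M := A') f hf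
  refine associatedPrimes.subset_of_injective hinj ?_
  rw [← LinearEquiv.AssociatedPrimes.eq (Algebra.TensorProduct.quotIdealMapEquivTensorQuot A' q).toLinearEquiv]
  refine Module.associatedPrimes.minimalPrimes_annihilator_subset_associatedPrimes A' _ ?_
  rwa [Ideal.annihilator_quotient]

end Groth.Agent.Dev4
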