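import Groth.Agent.Lib.Dev4.FlatOver
import Mathlib.RingTheory.Localization.LocalizationLocalization

/-!
# Flatness over a pair of points, computed in a chart of the base
-/

set_option autoImplicit false
set_option maxSynthPendingDepth 3

universe u

open TensorProduct IsLocalRing

set_option backward.isDefEq.respectTransparency.types false

attribute [local instance] Algebra.TensorProduct.rightAlgebra

namespace Groth.Agent.Dev4

/-- Flatness at a point of a localisation of the base. -/
theorem flatAt_localized_base_iff {U U' C C' : Type u} [CommRing U] [CommRing U'] [CommRing C] [CommRing C']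
    [Algebra U U'] [Algebra U C] [Algebra U C'] [Algebra U' C'] [Algebra C C'] [IsScalarTower U U' C']
    [IsScalarTower U C C'] (T : Submonoid U) [IsLocalization T U'] [IsLocalization (Algebra.algebraMapSubmonoid C T) C']
    (M M' : Type u) [AddCommGroup M] [Module C M] [Module U M] [IsScalarTower U C M]
    [AddCommGroup M'] [Module C' M'] [Module C M'] [IsScalarTower C C' M'] [Module U' M'] [IsScalarTower U' C' M']
    [Module U M'] [IsScalarTower U U' M'] [IsScalarTower U C M']
    (g : M →ₗ[C] M') (hg : IsBaseChange C' g) (Q : Ideal C') [Q.IsPrime] :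
    FlatCA.FlatAt U' Q M' ↔ FlatCA.FlatAt U (Q.comap (algebraMap C C')) M := by
  let y := Q.comap (algebraMap C C')
  haveI : IsScalarTower U C' M' := IsScalarTower.of_algebraMap_smul fun r x => by
    rw [IsScalarTower.algebraMap_apply U U' C', algebraMap_smul, algebraMap_smul]
  haveI : IsLocalizedModule (Algebra.algebraMapSubmonoid C T) g := (isLocalizedModule_iff_isBaseChange _ C' g).2 hg
  haveI : IsLocalization.AtPrime (Localization.AtPrime Q) y :=
    IsLocalization.isLocalization_isLocalization_atPrime_isLocalization (Algebra.algebraMapSubmonoid C T)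
      (T := Localization.AtPrime Q) Q
  let L := LocalizedModule Q.primeCompl M'
  let l : M →ₗ[C] L := (LocalizedModule.mkLinearMap Q.primeCompl M').restrictScalars C ∘ₗ g
  haveI : IsLocalizedModule y.primeCompl l := (isLocalizedModule_iff_isBaseChange y.primeCompl (Localization.AtPrime Q) l).2
    (hg.comp ((isLocalizedModule_iff_isBaseChange Q.primeCompl (Localization.AtPrime Q)
      (LocalizedModule.mkLinearMap Q.primeCompl M')).1 inferInstance))
  haveI : IsScalarTower U U' L := IsScalarTower.of_algebraMap_smul fun r x => by
    induction x using LocalizedModule.induction_on with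
    | h m s => rw [LocalizedModule.smul'_mk, LocalizedModule.smul'_mk, algebraMap_smul]
  let e : LocalizedModule y.primeCompl M ≃ₗ[U] L := (IsLocalizedModule.iso y.primeCompl l).restrictScalars U
  unfold FlatCA.FlatAt
  rw [Module.flat_iff_of_isLocalization U' T L]
  exact ⟨fun _ => Module.Flat.of_linearEquiv (M := L) e, fun _ => Module.Flat.of_linearEquiv (M := LocalizedModule y.primeCompl M) e.symm⟩

/-- Flatness over a pair of points in a chart of the base. -/
theorem flatOver_iff_chart {A S U SU R' : Type u} [CommRing A] [CommRing S] [CommRing U] [CommRing SU] [CommRing R']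
    [IsLocalRing R'] [Algebra A S] [Algebra A U] [Algebra A SU] [Algebra U SU] [Algebra S SU] [IsScalarTower A U SU]
    [IsScalarTower A S SU] [Algebra.IsPushout A S U SU] (t : Ideal U) [t.IsPrime] [Algebra U R'] [Algebra A R']
    [IsScalarTower A U R'] [IsLocalization t.primeCompl R']
    (q : Ideal S) [q.IsPrime] (N : Type u) [AddCommGroup N] [Module S N] :
    FlatOver A q N R' ↔ ∀ (Q' : Ideal SU) [Q'.IsPrime], Q'.LiesOver t → Q'.comap (algebraMap S SU) = q →
      FlatCA.FlatAt U Q' (SU ⊗[S] N) := by
  haveI : IsLocalization.AtPrime R' t := inferInstance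
  let C' := R' ⊗[U] SU
  letI : Algebra S C' := Algebra.compHom C' (algebraMap S SU)
  haveI : IsScalarTower S SU C' := IsScalarTower.of_algebraMap_eq fun _ => rfl
  haveI : IsScalarTower A R' C' := inferInstance
  haveI : IsScalarTower A U C' := IsScalarTower.of_algebraMap_eq fun a => by
    rw [IsScalarTower.algebraMap_apply U R' C', ← IsScalarTower.algebraMap_apply A U R', ← IsScalarTower.algebraMap_apply A R' C']
  haveI : IsScalarTower A SU C' := IsScalarTower.of_algebraMap_eq fun a => by
    rw [IsScalarTower.algebraMap_apply A U SU, ← IsScalarTower.algebraMap_apply U SU C', ← IsScalarTower.algebraMap_apply A U C']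
  haveI : IsScalarTower A S C' := IsScalarTower.of_algebraMap_eq fun a => by
    rw [IsScalarTower.algebraMap_apply S SU C', ← IsScalarTower.algebraMap_apply A S SU, ← IsScalarTower.algebraMap_apply A SU C']
  haveI : Algebra.IsPushout U SU R' C' := Algebra.IsPushout.symm inferInstance
  haveI : Algebra.IsPushout A U S SU := Algebra.IsPushout.symm inferInstance
  haveI : Algebra.IsPushout U R' SU C' := Algebra.IsPushout.symm inferInstance
  haveI : Algebra.IsPushout A R' S C' := (Algebra.IsPushout.comp_iff (R := A) (S := U) (R' := S) (S' := SU) (T := R') (T' := C')).2 inferInstance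
  haveI : Algebra.IsPushout A S R' C' := Algebra.IsPushout.symm inferInstance
  haveI : q.LiesOver q := ⟨by simp [Ideal.under]⟩
  let M' := C' ⊗[SU] (SU ⊗[S] N)
  haveI : IsScalarTower S C' M' := IsScalarTower.of_algebraMap_smul fun s x => by
    show algebraMap SU C' (algebraMap S SU s) • x = s • x
    rw [algebraMap_smul, algebraMap_smul]
  haveI : IsLocalization (Algebra.algebraMapSubmonoid SU t.primeCompl) C' := inferInstance
  rw [flatOver_iff_model (C := S) q q N R' C' M'
    ((TensorProduct.mk SU C' (SU ⊗[S] N) 1).restrictScalars S ∘ₗ TensorProduct.mk S SU N 1)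
    ((TensorProduct.isBaseChange S N SU).comp (TensorProduct.isBaseChange SU (SU ⊗[S] N) C'))]
  have hiff := fun (Q : Ideal C') [Q.IsPrime] =>
    flatAt_localized_base_iff (U := U) (U' := R') (C := SU) (C' := C') t.primeCompl (SU ⊗[S] N) M'
      (TensorProduct.mk SU C' (SU ⊗[S] N) 1) (TensorProduct.isBaseChange SU (SU ⊗[S] N) C') Q
  refine ⟨fun h Q' _ hQt hQq => ?_, fun h Q _ hQm hQq => (hiff Q).2 (h _ ⟨?_⟩ ?_)⟩
  · have hdisj : Disjoint (Algebra.algebraMapSubmonoid SU t.primeCompl : Set SU) (Q' : Set SU) := by
      refine Set.disjoint_left.2 ?_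
      rintro _ ⟨c, hc, rfl⟩ hcQ
      exact hc (hQt.over.ge hcQ)
    haveI : (Q'.map (algebraMap SU C')).IsPrime :=
      IsLocalization.isPrime_of_isPrime_disjoint (Algebra.algebraMapSubmonoid SU t.primeCompl) C' Q' inferInstance hdisj
    have hcomap : (Q'.map (algebraMap SU C')).comap (algebraMap SU C') = Q' :=
      IsLocalization.comap_map_of_isPrime_disjoint (Algebra.algebraMapSubmonoid SU t.primeCompl) C' inferInstance hdisj
    have h1 := (hiff (Q'.map (algebraMap SU C'))).1 (h _ ⟨?_⟩ ?_)
    · simp only [hcomap] at h1
      exact h1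
    · show _ = (Q'.map (algebraMap SU C')).comap (algebraMap R' C')
      have hcU : ((Q'.map (algebraMap SU C')).comap (algebraMap R' C')).comap (algebraMap U R') = t := by
        rw [Ideal.comap_comap, ← IsScalarTower.algebraMap_eq, IsScalarTower.algebraMap_eq U SU C', ← Ideal.comap_comap, hcomap]
        exact hQt.over.symm
      refine (IsLocalRing.le_maximalIdeal (Ideal.IsPrime.ne_top inferInstance)).antisymm' ?_
      rw [← IsLocalization.AtPrime.map_eq_maximalIdeal t R', Ideal.map_le_iff_le_comap, hcU]
    · rw [IsScalarTower.algebraMap_eq S SU C', ← Ideal.comap_comap, hcomap, hQq]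
  · show t = (Q.comap (algebraMap SU C')).comap (algebraMap U SU)
    rw [Ideal.comap_comap, ← IsScalarTower.algebraMap_eq, IsScalarTower.algebraMap_eq U R' C', ← Ideal.comap_comap]
    exact (IsLocalization.AtPrime.comap_maximalIdeal R' t).symm.trans (congrArg (Ideal.comap _) hQm.over)
  · rw [Ideal.comap_comap, ← IsScalarTower.algebraMap_eq]
    exact hQq

end Groth.Agent.Dev4
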