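import Groth.Agent.S4848
import Groth.Agent.S1295
import Groth.Agent.Lib.Dev4.ColimSystems
import Groth.Agent.Lib.Dev4.FlatAssoc
import Groth.Agent.Lib.Dev4.FlatAtTransfer
import Groth.Agent.Lib.FlatH4.FlatLocusFP
import Groth.Agent.Lib.FlatH4.FlatAt
import Mathlib.RingTheory.Localization.BaseChange

/-!
# Flat loci along a directed colimit of base rings
-/

set_option autoImplicit false
set_option maxSynthPendingDepth 3

universe u

open TensorProduct

set_option backward.isDefEq.respectTransparency.types false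

attribute [local instance] Algebra.TensorProduct.rightAlgebra

namespace Groth.Agent.Dev4

variable {R S₀ : Type u} [CommRing R] [CommRing S₀] [Algebra R S₀]
  (M₀ : Type u) [AddCommGroup M₀] [Module S₀ M₀] [Module R M₀] [IsScalarTower R S₀ M₀]

/-- Flatness over `A` of the base change of `M₀` at a prime of `A ⊗ S₀`. -/
def FlatPt (A : Type u) [CommRing A] [Algebra R A] (q : PrimeSpectrum (A ⊗[R] S₀)) : Prop :=
  FlatCA.FlatAt A q.asIdeal ((A ⊗[R] S₀) ⊗[S₀] M₀)

variable {A A' : Type u} [CommRing A] [CommRing A'] [Algebra R A] [Algebra R A'] [Algebra A A'] [IsScalarTower R A A']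

variable (R S₀ A A') in
/-- The map between the base changes. -/
noncomputable abbrev bcMap : A ⊗[R] S₀ →ₐ[A] A' ⊗[R] S₀ :=
  Algebra.TensorProduct.map (Algebra.ofId A A') (AlgHom.id R S₀)

variable (A') in
/-- The base change of the modules. -/
theorem exists_bc_equiv : ∃ e : A' ⊗[A] ((A ⊗[R] S₀) ⊗[S₀] M₀) ≃ₗ[A'] (A' ⊗[R] S₀) ⊗[S₀] M₀,
    ∀ (a : A) (s : S₀) (m : M₀), e ((1 : A') ⊗ₜ ((a ⊗ₜ[R] s) ⊗ₜ[S₀] m)) = (algebraMap A A' a ⊗ₜ[R] s) ⊗ₜ[S₀] m := by
  let Φ := Algebra.IsPushout.cancelBaseChange R A S₀ (A ⊗[R] S₀) M₀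
  let Φ' := Algebra.IsPushout.cancelBaseChange R A' S₀ (A' ⊗[R] S₀) M₀
  refine ⟨((AlgebraTensorModule.congr (LinearEquiv.refl A' A') Φ).trans
    (AlgebraTensorModule.cancelBaseChange R A A' A' M₀)).trans Φ'.symm, fun a s m => ?_⟩
  have h1 : (a ⊗ₜ[R] s) ⊗ₜ[S₀] m = Φ.symm (a ⊗ₜ[R] (s • m)) := by
    rw [Algebra.IsPushout.cancelBaseChange_symm_tmul]
    show _ = (a ⊗ₜ[R] (1 : S₀)) ⊗ₜ[S₀] (s • m)
    rw [← TensorProduct.smul_tmul]
    congr 1
    rw [Algebra.smul_def]
    show a ⊗ₜ[R] s = ((1 : A) ⊗ₜ[R] s) * (a ⊗ₜ[R] 1)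
    rw [Algebra.TensorProduct.tmul_mul_tmul, one_mul, mul_one]
  rw [h1]
  simp only [LinearEquiv.trans_apply, AlgebraTensorModule.congr_tmul, LinearEquiv.refl_apply, LinearEquiv.apply_symm_apply,
    AlgebraTensorModule.cancelBaseChange_tmul]
  rw [Algebra.smul_def, mul_one, Algebra.IsPushout.cancelBaseChange_symm_tmul]
  show (algebraMap A A' a ⊗ₜ[R] (1 : S₀)) ⊗ₜ[S₀] (s • m) = _
  rw [← TensorProduct.smul_tmul]
  congr 1
  rw [Algebra.smul_def]
  show ((1 : A') ⊗ₜ[R] s) * (algebraMap A A' a ⊗ₜ[R] 1) = _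
  rw [Algebra.TensorProduct.tmul_mul_tmul, one_mul, mul_one]

/-- Flat points pull back to flat points. -/
theorem flatPt_bc (q : PrimeSpectrum (A' ⊗[R] S₀))
    (h : FlatPt M₀ A (PrimeSpectrum.comap (bcMap R S₀ A A').toRingHom q)) : FlatPt M₀ A' q := by
  obtain ⟨e, he⟩ := exists_bc_equiv (R := R) (S₀ := S₀) (A' := A') (A := A) M₀
  haveI : Module.Flat A (LocalizedModule (q.asIdeal.comap (bcMap R S₀ A A').toRingHom).primeCompl
      ((A ⊗[R] S₀) ⊗[S₀] M₀)) := h
  refine FlatH4.flat_localized_baseChange A' (bcMap R S₀ A A').toRingHom q.asIdeal e fun b w => ?_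
  induction w using TensorProduct.induction_on with
  | zero => simp
  | add u v hu hv => simp only [smul_add, TensorProduct.tmul_add, map_add, hu, hv]
  | tmul c m =>
    induction c using TensorProduct.induction_on with
    | zero => simp
    | add u v hu hv => simp only [smul_add, TensorProduct.add_tmul, TensorProduct.tmul_add, map_add, hu, hv]
    | tmul a s =>
      induction b using TensorProduct.induction_on with
      | zero => simp
      | add u v hu hv => simp only [add_smul, TensorProduct.tmul_add, map_add, hu, hv]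
      | tmul a' s' =>
        rw [TensorProduct.smul_tmul', smul_eq_mul, Algebra.TensorProduct.tmul_mul_tmul, he, he,
          TensorProduct.smul_tmul', smul_eq_mul]
        show _ = ((Algebra.ofId A A' a') ⊗ₜ[R] (AlgHom.id R S₀ s') * _) ⊗ₜ[S₀] m
        rw [Algebra.TensorProduct.tmul_mul_tmul, map_mul]
        rfl

variable (A') in
/-- A piece of the base change. -/
theorem exists_piece_equiv (g : A ⊗[R] S₀) (g' : A' ⊗[R] S₀) (hg : bcMap R S₀ A A' g = g') :
    Nonempty (A' ⊗[A] (Localization.Away g ⊗[A ⊗[R] S₀] ((A ⊗[R] S₀) ⊗[S₀] M₀)) ≃ₗ[A']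
      Localization.Away g' ⊗[A' ⊗[R] S₀] ((A' ⊗[R] S₀) ⊗[S₀] M₀)) := by
  let B := A ⊗[R] S₀
  let B' := A' ⊗[R] S₀
  letI : Algebra B B' := (bcMap R S₀ A A').toRingHom.toAlgebra
  haveI : IsScalarTower A B B' := IsScalarTower.of_algebraMap_eq fun a => ((bcMap R S₀ A A').commutes a).symm
  haveI : IsScalarTower S₀ B B' := IsScalarTower.of_algebraMap_eq fun s => by
    show (1 : A') ⊗ₜ[R] s = bcMap R S₀ A A' ((1 : A) ⊗ₜ[R] s)
    simp
  haveI : IsScalarTower R B B' := IsScalarTower.of_algebraMap_eq fun r => by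
    rw [IsScalarTower.algebraMap_apply R A B, ← IsScalarTower.algebraMap_apply A B B', ← IsScalarTower.algebraMap_apply R A B']
  haveI : Algebra.IsPushout A A' B B' :=
    (Algebra.IsPushout.comp_iff (R := R) (S := A) (R' := S₀) (S' := B) (T := A') (T' := B')).1 inferInstance
  let C := Localization.Away g
  let C' := Localization.Away g'
  have hu : IsUnit (algebraMap B C' g) := by
    rw [IsScalarTower.algebraMap_apply B B' C', show algebraMap B B' g = g' from hg]
    exact IsLocalization.Away.algebraMap_isUnit g'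
  letI : Algebra C C' := (IsLocalization.Away.lift g hu).toAlgebra
  haveI : IsScalarTower B C C' := IsScalarTower.of_algebraMap_eq fun b =>
    (IsLocalization.Away.lift_eq (g := algebraMap B C') g hu b).symm
  haveI : IsScalarTower A C C' := IsScalarTower.of_algebraMap_eq fun a => by
    rw [IsScalarTower.algebraMap_apply A B C, ← IsScalarTower.algebraMap_apply B C C', ← IsScalarTower.algebraMap_apply A B C']
  haveI : IsLocalization (Algebra.algebraMapSubmonoid B' (Submonoid.powers g)) C' := by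
    rw [Algebra.algebraMapSubmonoid_powers, show algebraMap B B' g = g' from hg]
    exact inferInstanceAs (IsLocalization.Away g' C')
  haveI : Algebra.IsPushout B C B' C' :=
    ((Algebra.isLocalization_iff_isPushout (Submonoid.powers g) C).1 inferInstance).symm
  haveI : Algebra.IsPushout A B A' B' := Algebra.IsPushout.symm inferInstance
  haveI hC : Algebra.IsPushout A C A' C' :=
    (Algebra.IsPushout.comp_iff (R := A) (S := B) (R' := A') (S' := B') (T := C) (T' := C')).2 inferInstance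
  haveI : Algebra.IsPushout A A' C C' := hC.symm
  let Nb := B ⊗[S₀] M₀
  let e : C' ⊗[B'] (B' ⊗[S₀] M₀) ≃ₗ[C'] C' ⊗[C] (C ⊗[B] Nb) :=
    (AlgebraTensorModule.cancelBaseChange S₀ B' C' C' M₀).trans
      ((AlgebraTensorModule.cancelBaseChange S₀ B C' C' M₀).symm.trans
        (AlgebraTensorModule.cancelBaseChange B C C' C' Nb).symm)
  exact ⟨((e.restrictScalars A').trans (Algebra.IsPushout.cancelBaseChange A A' C C' (C ⊗[B] Nb))).symm⟩

/-- Flatness on a localization of the base change of the algebra. -/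
theorem flatAt_chart {S : Type u} [CommRing S] [Algebra R S] [Algebra S₀ S] [IsScalarTower R S₀ S] (T : Submonoid S₀)
    [IsLocalization T S] {M : Type u} [AddCommGroup M] [Module S M] [Module S₀ M] [IsScalarTower S₀ S M]
    (f₀ : M₀ →ₗ[S₀] M) (hf₀ : IsBaseChange S f₀)
    {Si Mi : Type u} [CommRing Si] [Algebra S Si] [Algebra A Si] [Algebra R Si] [IsScalarTower R S Si] [IsScalarTower R A Si]
    [Algebra.IsPushout R S A Si] [AddCommGroup Mi] [Module Si Mi] [Module A Mi] [IsScalarTower A Si Mi] [Module S Mi]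
    [IsScalarTower S Si Mi] (fi : M →ₗ[S] Mi) (hfi : IsBaseChange Si fi) :
    ∃ ψ : A ⊗[R] S₀ →+* Si, (∀ a : A, ψ (a ⊗ₜ[R] 1) = algebraMap A Si a) ∧
      (∀ s : S₀, ψ ((1 : A) ⊗ₜ[R] s) = algebraMap S Si (algebraMap S₀ S s)) ∧
      (∀ Q : PrimeSpectrum Si, FlatCA.FlatAt A Q.asIdeal Mi ↔ FlatPt M₀ A (PrimeSpectrum.comap ψ Q)) ∧
      ∀ q : PrimeSpectrum (A ⊗[R] S₀), (∀ s ∈ T, (1 : A) ⊗ₜ[R] s ∉ q.asIdeal) →
        ∃ Q, PrimeSpectrum.comap ψ Q = q := by
  let B := A ⊗[R] S₀
  letI : Algebra S₀ Si := Algebra.compHom Si (algebraMap S₀ S)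
  haveI : IsScalarTower S₀ S Si := IsScalarTower.of_algebraMap_eq fun _ => rfl
  haveI : IsScalarTower R S₀ Si := IsScalarTower.of_algebraMap_eq fun r => by
    rw [IsScalarTower.algebraMap_apply R S Si, IsScalarTower.algebraMap_apply R S₀ S]; rfl
  let φ : B →ₐ[A] Si := Algebra.TensorProduct.lift (Algebra.ofId A Si) (IsScalarTower.toAlgHom R S₀ Si)
    fun _ _ => Commute.all _ _
  letI : Algebra B Si := φ.toRingHom.toAlgebra
  haveI : IsScalarTower A B Si := IsScalarTower.of_algebraMap_eq fun a => (φ.commutes a).symm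
  have hφs : ∀ s : S₀, φ ((1 : A) ⊗ₜ[R] s) = algebraMap S₀ Si s := fun s => by
    refine (Algebra.TensorProduct.lift_tmul _ _ _ _ _).trans ?_
    rw [map_one, one_mul]
    rfl
  haveI : IsScalarTower S₀ B Si := IsScalarTower.of_algebraMap_eq fun s => (hφs s).symm
  haveI : IsScalarTower R B Si := IsScalarTower.of_algebraMap_eq fun r => by
    rw [IsScalarTower.algebraMap_apply R A B, ← IsScalarTower.algebraMap_apply A B Si, ← IsScalarTower.algebraMap_apply R A Si]
  haveI : Algebra.IsPushout R S₀ A B := Algebra.IsPushout.symm inferInstance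
  haveI hp : Algebra.IsPushout S₀ S B Si :=
    (Algebra.IsPushout.comp_iff (R := R) (S := S₀) (R' := A) (S' := B) (T := S) (T' := Si)).1 inferInstance
  haveI : Algebra.IsPushout S₀ B S Si := hp.symm
  haveI : IsLocalization (Algebra.algebraMapSubmonoid B T) Si :=
    (Algebra.isLocalization_iff_isPushout T S).2 inferInstance
  haveI : Module.Flat B Si := IsLocalization.flat Si (Algebra.algebraMapSubmonoid B T)
  let e : Si ⊗[B] (B ⊗[S₀] M₀) ≃ₗ[Si] Mi :=
    (AlgebraTensorModule.cancelBaseChange S₀ B Si Si M₀).trans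
      ((AlgebraTensorModule.cancelBaseChange S₀ S Si Si M₀).symm.trans
        ((AlgebraTensorModule.congr (LinearEquiv.refl Si Si) hf₀.equiv).trans hfi.equiv))
  refine ⟨φ.toRingHom, fun a => φ.commutes a, hφs, fun Q => ?_, fun q hq => ?_⟩
  · let y := PrimeSpectrum.comap φ.toRingHom Q
    haveI : Q.asIdeal.LiesOver y.asIdeal := ⟨rfl⟩
    refine ⟨fun h => flatAt_of_flat_map_descent (R := A) (C := Si) (B ⊗[S₀] M₀) y.asIdeal Q.asIdeal
      ((FlatH4.flat_localized_congr Q.asIdeal e).2 h), fun h => ?_⟩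
    exact (FlatH4.flat_localized_congr Q.asIdeal e).1 (flatAt_of_flat_map (R := A) (C := Si) (B ⊗[S₀] M₀) y.asIdeal Q.asIdeal h)
  · have hdis : Disjoint ((Algebra.algebraMapSubmonoid B T : Submonoid B) : Set B) (q.asIdeal : Set B) :=
      Set.disjoint_left.2 fun x hx hxq => by obtain ⟨s, hs, rfl⟩ := hx; exact hq s hs hxq
    exact ⟨⟨q.asIdeal.map (algebraMap B Si), IsLocalization.isPrime_of_isPrime_disjoint _ _ _ q.2 hdis⟩,
      PrimeSpectrum.ext (IsLocalization.under_map_of_isPrime_disjoint (Algebra.algebraMapSubmonoid B T) Si q.2 hdis)⟩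

/-- A finitely presented module over a localization has a finitely presented model. -/
theorem exists_fp_model {B L N : Type u} [CommRing B] [CommRing L] [Algebra B L] (T : Submonoid B) [IsLocalization T L]
    [AddCommGroup N] [Module L N] [Module B N] [IsScalarTower B L N] [Module.FinitePresentation L N] :
    ∃ (N₀ : Type u) (_ : AddCommGroup N₀) (_ : Module B N₀) (f : N₀ →ₗ[B] N),
      Module.FinitePresentation B N₀ ∧ IsBaseChange L f := by
  classical
  obtain ⟨m, K, eM, hK⟩ := Module.FinitePresentation.exists_fin L N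
  obtain ⟨b, w, hw⟩ := Submodule.fg_iff_exists_fin_generating_family.1 hK
  choose t ht using fun c : Fin b => IsLocalization.exist_integer_multiples_of_finite T (w c)
  choose v hv using ht
  have h1 : ∀ c, (fun a => algebraMap B L (v c a)) = algebraMap B L (t c : B) • w c := fun c => funext fun a => by
    rw [hv c a, Pi.smul_apply, algebraMap_smul]
  have hspan : Submodule.span L (Set.range fun c a => algebraMap B L (v c a)) = K := by
    rw [← hw, funext h1]
    refine le_antisymm (Submodule.span_le.2 ?_) (Submodule.span_le.2 ?_)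
    · rintro _ ⟨c, rfl⟩
      exact Submodule.smul_mem _ _ (Submodule.subset_span ⟨c, rfl⟩)
    · rintro _ ⟨c, rfl⟩
      obtain ⟨u, hu⟩ := IsLocalization.map_units L (t c)
      rw [show w c = (↑u⁻¹ : L) • algebraMap B L (t c : B) • w c by rw [← hu, smul_smul, Units.inv_mul, one_smul]]
      exact Submodule.smul_mem _ _ (Submodule.subset_span ⟨c, rfl⟩)
  let π : (Fin m → L) →ₗ[L] N := eM.symm.toLinearMap.comp K.mkQ
  have hπk : LinearMap.ker π = Submodule.span L (Set.range fun c a => algebraMap B L (v c a)) := by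
    rw [hspan]; ext x; simp [π, Submodule.Quotient.mk_eq_zero]
  obtain ⟨f, hf⟩ := S1295.isBaseChange_quotient (B₁ := B) v π (eM.symm.surjective.comp K.mkQ_surjective) hπk
  exact ⟨(Fin m → B) ⧸ Submodule.span B (Set.range v), inferInstance, inferInstance, f,
    Module.finitePresentation_of_surjective _ (Submodule.mkQ_surjective _)
      (by rw [Submodule.ker_mkQ]; exact Submodule.fg_span (Set.finite_range v)), hf⟩

variable [Algebra.FinitePresentation R S₀] [Module.FinitePresentation S₀ M₀]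
  {ι : Type u} [Preorder ι] {G : ι → Type u} [∀ i, CommRing (G i)] [∀ i, Algebra R (G i)]
  {g : ∀ i j, i ≤ j → G i →ₐ[R] G j} {L : Type u} [CommRing L] [Algebra R L] [∀ i, Algebra (G i) L]
  [∀ i, IsScalarTower R (G i) L]

/-- The open set of flat points. -/
theorem isOpen_flatPt (A : Type u) [CommRing A] [Algebra R A] : IsOpen {q : PrimeSpectrum (A ⊗[R] S₀) | FlatPt M₀ A q} :=
  FlatH4.isOpen_flat_localized (R := A) (S := A ⊗[R] S₀) (M := (A ⊗[R] S₀) ⊗[S₀] M₀)

/-- A flat point comes from a flat point at some stage. -/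
theorem exists_stage_flatPt (hcolim : FlatCA.IsDirectedColimitRing G (fun i j h => (g i j h).toRingHom) L)
    (q : PrimeSpectrum (L ⊗[R] S₀)) (h : FlatPt M₀ L q) :
    ∃ j, FlatPt M₀ (G j) (PrimeSpectrum.comap (bcMap R S₀ (G j) L).toRingHom q) := by
  classical
  obtain ⟨_, ⟨g', rfl⟩, hgq, hgsub⟩ := PrimeSpectrum.isTopologicalBasis_basic_opens.exists_subset_of_mem_open
    (show q ∈ {q : PrimeSpectrum (L ⊗[R] S₀) | FlatPt M₀ L q} from h) (isOpen_flatPt M₀ L)
  letI : ∀ i, Algebra (G i ⊗[R] S₀) (L ⊗[R] S₀) := fun i =>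
    (Algebra.TensorProduct.map (IsScalarTower.toAlgHom R (G i) L) (AlgHom.id R S₀)).toRingHom.toAlgebra
  obtain ⟨-, -, -, -, -, hsurj, -⟩ := isDirectedColimitRing_tensor hcolim S₀ fun i x => rfl
  obtain ⟨i, gi, hgi⟩ := hsurj g'
  have hbc : ∀ (k : ι) (x : G k ⊗[R] S₀), bcMap R S₀ (G k) L x = algebraMap (G k ⊗[R] S₀) (L ⊗[R] S₀) x := fun k x => by
    induction x using TensorProduct.induction_on with
    | zero => simp
    | add u v hu hv => simp only [map_add, hu, hv]
    | tmul a s => rfl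
  have hgi' : bcMap R S₀ (G i) L gi = g' := (hbc i gi).trans hgi
  let B := G i ⊗[R] S₀
  let N₁ := Localization.Away gi ⊗[B] (B ⊗[S₀] M₀)
  let C' := Localization.Away g'
  haveI : Module.Flat (L ⊗[R] S₀) C' := IsLocalization.flat C' (Submonoid.powers g')
  haveI : Module.Flat L (C' ⊗[L ⊗[R] S₀] ((L ⊗[R] S₀) ⊗[S₀] M₀)) :=
    Module.flat_of_isLocalized_maximal (R := L) (M := C' ⊗[L ⊗[R] S₀] ((L ⊗[R] S₀) ⊗[S₀] M₀)) C'
      (fun P => LocalizedModule P.primeCompl _) (fun P _ => LocalizedModule.mkLinearMap P.primeCompl _) fun P _ => by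
      let Q : PrimeSpectrum (L ⊗[R] S₀) := PrimeSpectrum.comap (algebraMap (L ⊗[R] S₀) C') ⟨P, inferInstance⟩
      have hQ : Q ∈ (PrimeSpectrum.basicOpen g' : Set (PrimeSpectrum (L ⊗[R] S₀))) := by
        have : Q ∈ Set.range (PrimeSpectrum.comap (algebraMap (L ⊗[R] S₀) C')) := ⟨_, rfl⟩
        rwa [PrimeSpectrum.localization_away_comap_range C' g'] at this
      haveI : P.LiesOver Q.asIdeal := ⟨rfl⟩
      exact flatAt_of_flat_map (R := L) (C := C') _ Q.asIdeal P (hgsub hQ)
  obtain ⟨e'⟩ := exists_piece_equiv (A' := L) (A := G i) M₀ gi g' hgi'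
  haveI : Module.Flat L (L ⊗[G i] N₁) := Module.Flat.of_linearEquiv e'
  obtain ⟨hdir, hne, hid, hcomp, hcompat, -, -⟩ := id hcolim
  let ι' := {k : ι // i ≤ k}
  letI : ∀ k : ι', Algebra (G i) (G k.1) := fun k => (g i k.1 k.2).toRingHom.toAlgebra
  haveI : ∀ k : ι', IsScalarTower R (G i) (G k.1) := fun k =>
    IsScalarTower.of_algebraMap_eq fun r => ((g i k.1 k.2).commutes r).symm
  haveI : ∀ k : ι', IsScalarTower (G i) (G k.1) L := fun k => IsScalarTower.of_algebraMap_eq fun a =>
    (RingHom.congr_fun (hcompat i k.1 k.2) a).symm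
  let gt : ∀ k l : ι', k ≤ l → G k.1 →ₐ[G i] G l.1 := fun k l h =>
    { (g k.1 l.1 h).toRingHom with
      commutes' := fun a => RingHom.congr_fun (hcomp i k.1 l.1 k.2 h) a }
  have ht : FlatCA.IsDirectedColimitRing (fun k : ι' => G k.1) (fun k l h => (gt k l h).toRingHom) L :=
    isDirectedColimitRing_tail hcolim i
  haveI : Algebra.FinitePresentation (G i) (Localization.Away gi) :=
    haveI : Algebra.FinitePresentation B (Localization.Away gi) := IsLocalization.Away.finitePresentation gi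
    Algebra.FinitePresentation.trans (G i) B (Localization.Away gi)
  obtain ⟨⟨j, hij⟩, hflat⟩ := (S4848.result (A₀ := G i) (fun k : ι' => G k.1) gt L ht (B₀ := Localization.Away gi) N₁).1 inferInstance
  haveI := hflat
  refine ⟨j, ?_⟩
  letI : Algebra (G i) (G j) := (g i j hij).toRingHom.toAlgebra
  haveI : IsScalarTower R (G i) (G j) := IsScalarTower.of_algebraMap_eq fun r => ((g i j hij).commutes r).symm
  let gj := bcMap R S₀ (G i) (G j) gi
  obtain ⟨ej⟩ := exists_piece_equiv (A' := G j) (A := G i) M₀ gi gj rfl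
  let Cj := Localization.Away gj
  haveI : Module.Flat (G j) (Cj ⊗[G j ⊗[R] S₀] ((G j ⊗[R] S₀) ⊗[S₀] M₀)) := Module.Flat.of_linearEquiv ej.symm
  have hgj : bcMap R S₀ (G j) L gj = g' := by
    rw [← hgi']
    show bcMap R S₀ (G j) L (bcMap R S₀ (G i) (G j) gi) = _
    generalize gi = x
    induction x using TensorProduct.induction_on with
    | zero => simp
    | add u v hu hv => simp only [map_add, hu, hv]
    | tmul a s =>
      show algebraMap (G j) L (algebraMap (G i) (G j) a) ⊗ₜ[R] s = algebraMap (G i) L a ⊗ₜ[R] s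
      rw [RingHom.algebraMap_toAlgebra]
      exact congrArg (· ⊗ₜ[R] s) (RingHom.congr_fun (hcompat i j hij) a)
  let y := PrimeSpectrum.comap (bcMap R S₀ (G j) L).toRingHom q
  have hy : y ∈ (PrimeSpectrum.basicOpen gj : Set (PrimeSpectrum (G j ⊗[R] S₀))) := by
    show gj ∉ y.asIdeal
    intro hh
    refine hgq ?_
    have : bcMap R S₀ (G j) L gj ∈ q.asIdeal := hh
    rwa [hgj] at this
  rw [← PrimeSpectrum.localization_away_comap_range Cj gj] at hy
  obtain ⟨P, hP⟩ := hy
  haveI : P.asIdeal.LiesOver y.asIdeal := ⟨(congrArg PrimeSpectrum.asIdeal hP).symm⟩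
  haveI : Module.Flat (G j ⊗[R] S₀) Cj := IsLocalization.flat Cj (Submonoid.powers gj)
  exact flatAt_of_flat_map_descent (R := G j) (C := Cj) ((G j ⊗[R] S₀) ⊗[S₀] M₀) y.asIdeal P.asIdeal
    (RG4.flat_of_isLocalizedModule (R := G j) P.asIdeal.primeCompl (LocalizedModule.mkLinearMap P.asIdeal.primeCompl _))

end Groth.Agent.Dev4
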