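import Groth.Agent.Lib.Dev4.FlatOverIdeal
import Mathlib.RingTheory.Finiteness.ModuleFinitePresentation

/-!
# The ideal of the flat locus at a point with a complete dévissage
-/

set_option autoImplicit false
set_option maxSynthPendingDepth 3

universe u

open TensorProduct IsLocalRing

set_option backward.isDefEq.respectTransparency.types false

attribute [local instance] Algebra.TensorProduct.rightAlgebra

namespace Groth.Agent.Dev4

/-- A module with vanishing localisation has the zero ideal. -/
theorem isFlatLocusIdeal_bot {R B : Type u} [CommRing R] [IsLocalRing R] [CommRing B] [Algebra R B] (y : Ideal B)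
    (M : Type u) [AddCommGroup M] [Module B M] [Subsingleton M] : IsFlatLocusIdeal y M (⊥ : Ideal R) := by
  intro R' _ _ _ _
  refine ⟨fun _ => Ideal.map_bot, fun _ Q _ _ _ => ?_⟩
  haveI : Subsingleton ((R' ⊗[R] B) ⊗[B] M) := inferInstance
  haveI : Subsingleton (LocalizedModule Q.primeCompl ((R' ⊗[R] B) ⊗[B] M)) := inferInstance
  exact (Module.Flat.of_free : Module.Flat R' (LocalizedModule Q.primeCompl ((R' ⊗[R] B) ⊗[B] M)))

/-- The ideal of the flat locus at a point with a complete dévissage. -/
theorem exists_isFlatLocusIdeal_cda {R S : Type u} [CommRing R] [IsLocalRing R] [CommRing S] [Algebra R S]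
    [Algebra.FiniteType R S] (N : Type u) [AddCommGroup N] [Module S N] [Module.Finite S N] (q : Ideal S) [q.IsPrime]
    [q.LiesOver (maximalIdeal R)] (hcd : FlatCA.HasCompleteDevissageAt R S N (maximalIdeal R) q) :
    ∃ I : Ideal R, IsFlatLocusIdeal q N I ∧
      (Algebra.FinitePresentation R S → Module.FinitePresentation S N → I.FG) := by
  classical
  obtain ⟨D, ⟨DA⟩⟩ := hcd
  haveI : ∀ i, (DA.qB i).IsPrime := DA.hqB
  haveI : ∀ i, (DA.qA i).IsPrime := DA.hqA
  haveI : ∀ i, (DA.qB i).LiesOver (maximalIdeal R) := DA.overB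
  haveI : ∀ i, (DA.qA i).LiesOver (DA.qB i) := DA.overA
  have key : ∀ j i, i + j + 1 = D.n → ∃ I : Ideal R, IsFlatLocusIdeal (DA.qB i) (D.M i) I ∧
      (Module.FinitePresentation (D.B i) (D.M i) → I.FG) := by
    intro j
    induction j using Nat.strong_induction_on with
    | h j ih =>
      intro i hi
      have hin : i < D.n := by omega
      haveI := D.smooth i hin
      haveI := D.finiteBA i hin
      haveI := D.finiteM i hin
      haveI : Module.Finite (D.B i) (D.M i) := Module.Finite.trans (D.A i) (D.M i)
      obtain ⟨IT, hIT, hITfg⟩ : ∃ IT : Ideal R, IsFlatLocusIdeal (DA.qB i) (D.M i ⧸ LinearMap.range (D.α i)) IT ∧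
          (Module.FinitePresentation (D.B i) (D.M i ⧸ LinearMap.range (D.α i)) → IT.FG) := by
        by_cases hlast : i + 1 < D.n
        · have hsurj := D.surjBA' i hlast
          haveI : Module.Finite (D.B i) (D.A (i + 1)) :=
            Module.Finite.of_surjective (Algebra.linearMap (D.B i) (D.A (i + 1))) hsurj
          haveI : (DA.qA (i + 1)).LiesOver (DA.qB i) := ⟨(DA.qStep i hlast).symm⟩
          haveI := D.finiteBA (i + 1) hlast
          haveI := D.smooth (i + 1) hlast
          obtain ⟨J, hJ, hJfg⟩ := ih (j - 1) (by omega) (i + 1) (by omega)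
          refine ⟨J, fun R' _ _ _ _ => ?_, fun hfp => ?_⟩
          · rw [← hJ R', flatOver_congr (DA.qB i) (D.isoCoker i hlast) R',
              ← flatOver_finite (A := D.A (i + 1)) (DA.qB i) (DA.qA (i + 1)) (fun Q _ hQ =>
                Ideal.comap_injective_of_surjective _ hsurj (hQ.over.symm.trans (DA.qStep i hlast).symm)) (D.M (i + 1)) R',
              flatOver_finite (A := D.A (i + 1)) (DA.qB (i + 1)) (DA.qA (i + 1))
                (fun Q _ hQ => DA.uniq (i + 1) hlast Q hQ) (D.M (i + 1)) R']
          · haveI := hfp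
            haveI : Module.FinitePresentation (D.B i) (D.M (i + 1)) :=
              Module.FinitePresentation.of_equiv (D.isoCoker i hlast)
            haveI : Module.FinitePresentation (D.A (i + 1)) (D.M (i + 1)) :=
              RG4.finitePresentation_of_finite (B := D.B i)
            haveI := D.fpBA' i hlast
            haveI : Algebra.FinitePresentation R (D.A (i + 1)) := Algebra.FinitePresentation.trans R (D.B i) (D.A (i + 1))
            haveI : Algebra.FinitePresentation (D.B (i + 1)) (D.A (i + 1)) :=
              Algebra.FinitePresentation.of_restrict_scalars_finitePresentation R (D.B (i + 1)) (D.A (i + 1))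
            haveI : Module.FinitePresentation (D.B (i + 1)) (D.A (i + 1)) :=
              Module.FinitePresentation.of_finite_of_finitePresentation (D.B (i + 1)) (D.A (i + 1))
            exact hJfg (Module.FinitePresentation.trans (D.B (i + 1)) (D.M (i + 1)) (D.A (i + 1)))
        · obtain rfl : i = D.n - 1 := by omega
          haveI : Subsingleton (D.M (D.n - 1) ⧸ LinearMap.range (D.α (D.n - 1))) := by
            rw [Submodule.Quotient.subsingleton_iff, LinearMap.range_eq_top]; exact D.cokerLast
          exact ⟨⊥, isFlatLocusIdeal_bot _ _, fun _ => Submodule.fg_bot⟩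
      obtain ⟨I, hI, hIfg⟩ := exists_isFlatLocusIdeal_step (D.geomIrred i hin) (DA.qB i) (D.M i) (D.α i)
        (D.fibreIso i hin) IT hIT
      refine ⟨I, hI, fun hfp => hIfg hfp (hITfg ?_)⟩
      haveI := hfp
      exact Module.finitePresentation_of_surjective (LinearMap.range (D.α i)).mkQ (Submodule.mkQ_surjective _)
        (by rw [Submodule.ker_mkQ, LinearMap.range_eq_map]; exact Module.Finite.fg_top.map (D.α i))
  have h0 : 0 < D.n := D.pos
  haveI := D.finiteBA 0 h0
  haveI := D.smooth 0 h0
  haveI : Module.Finite S (D.A 0) := Module.Finite.of_surjective (Algebra.linearMap S (D.A 0)) D.surjSA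
  haveI : (DA.qA 0).LiesOver q := ⟨DA.q0.symm⟩
  obtain ⟨I, hI, hIfg⟩ := key (D.n - 1) 0 (by omega)
  refine ⟨I, fun R' _ _ _ _ => ?_, fun hfpS hfpN => ?_⟩
  · rw [← hI R', flatOver_congr q D.isoN R',
      ← flatOver_finite (A := D.A 0) q (DA.qA 0) (fun Q _ hQ =>
        Ideal.comap_injective_of_surjective _ D.surjSA (hQ.over.symm.trans DA.q0.symm)) (D.M 0) R',
      flatOver_finite (A := D.A 0) (DA.qB 0) (DA.qA 0) (fun Q _ hQ => DA.uniq 0 h0 Q hQ) (D.M 0) R']
  · haveI := hfpS
    haveI := hfpN
    haveI : Module.FinitePresentation S (D.M 0) := Module.FinitePresentation.of_equiv D.isoN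
    haveI : Module.FinitePresentation (D.A 0) (D.M 0) := RG4.finitePresentation_of_finite (B := S)
    haveI := D.fpSA
    haveI : Algebra.FinitePresentation R (D.A 0) := Algebra.FinitePresentation.trans R S (D.A 0)
    haveI : Algebra.FinitePresentation (D.B 0) (D.A 0) :=
      Algebra.FinitePresentation.of_restrict_scalars_finitePresentation R (D.B 0) (D.A 0)
    haveI : Module.FinitePresentation (D.B 0) (D.A 0) :=
      Module.FinitePresentation.of_finite_of_finitePresentation (D.B 0) (D.A 0)
    exact hIfg (Module.FinitePresentation.trans (D.B 0) (D.M 0) (D.A 0))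

end Groth.Agent.Dev4
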