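import Groth.Agent.Lib.Dev4.FlatChart
import Groth.Agent.Lib.FlatH4.PullFlat
import Groth.Agent.Lib.ModM1.Pull
import Groth.Agent.S1229
import Groth.Agent.S4863

/-!
# The ideal of flatness along points of the closed fibre
-/

set_option autoImplicit false
set_option maxSynthPendingDepth 3

universe u

open TensorProduct AlgebraicGeometry CategoryTheory CategoryTheory.Limits Opposite

set_option backward.isDefEq.respectTransparency.types false

attribute [local instance] Algebra.TensorProduct.rightAlgebra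

namespace Groth.Agent.Dev4

variable {A : Type u} [CommRing A]

/-- The ring map from the base to the sections of an open. -/
noncomputable abbrev baseToSections {X : Scheme.{u}} (f : X ⟶ Spec (CommRingCat.of A)) (W : X.Opens) :
    A →+* Γ(X, W) :=
  (f.appLE ⊤ W le_top).hom.comp (Scheme.ΓSpecIso (CommRingCat.of A)).inv.hom

/-- The ring map from the base to a stalk. -/
noncomputable abbrev baseToStalk {T : Scheme.{u}} (g : T ⟶ Spec (CommRingCat.of A)) (t : T) :
    A →+* T.presheaf.stalk t :=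
  (T.presheaf.germ ⊤ t trivial).hom.comp (g.appTop.hom.comp (Scheme.ΓSpecIso (CommRingCat.of A)).inv.hom)

theorem baseToStalk_eq {T : Scheme.{u}} (g : T ⟶ Spec (CommRingCat.of A)) (t : T) (U : T.Opens) (ht : t ∈ U) (a : A) :
    baseToStalk g t a = (T.presheaf.germ U t ht).hom (baseToSections g U a) :=
  (T.presheaf.germ_res_apply (homOfLE (le_top : U ≤ ⊤)) t ht _).symm

/-- A point over the closed point receives a local homomorphism. -/
theorem isLocalHom_baseToStalk [IsLocalRing A] {T : Scheme.{u}} (g : T ⟶ Spec (CommRingCat.of A)) (t : T)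
    (ht : g.base t = IsLocalRing.closedPoint A) : IsLocalHom (baseToStalk g t) := by
  refine ⟨fun a ha => ?_⟩
  have h1 : t ∈ T.basicOpen (g.appTop ((Scheme.ΓSpecIso (CommRingCat.of A)).inv a)) :=
    (T.mem_basicOpen (U := ⊤) (g.appTop ((Scheme.ΓSpecIso (CommRingCat.of A)).inv a)) t trivial).2 ha
  rw [← Scheme.preimage_basicOpen_top, AlgebraicGeometry.basicOpen_eq_of_affine'] at h1
  change g.base t ∈ PrimeSpectrum.basicOpen _ at h1
  rw [ht] at h1
  by_contra hu
  refine h1 ?_
  show _ ∈ IsLocalRing.maximalIdeal A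
  simpa using (IsLocalRing.mem_maximalIdeal a).2 hu

section

variable {X : Scheme.{u}} (f : X ⟶ Spec (CommRingCat.of A)) (F : X.Modules) [Coh.IsQCoh F]
  (W : X.Opens) (hW : IsAffineOpen W) (x : X) (hxW : x ∈ W)
  {T : Scheme.{u}} (g : T ⟶ Spec (CommRingCat.of A)) (t : T)

/-- Flatness at the points over a pair of points, in terms of the local ring of the base. -/
theorem forall_isFlatOverAt_iff :
    letI := (baseToSections f W).toAlgebra
    letI := (baseToStalk g t).toAlgebra
    (∀ x' : ↑(pullback f g), (pullback.snd f g).base x' = t → (pullback.fst f g).base x' = x →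
        FlatMod.IsFlatOverAt (pullback.snd f g) ((Scheme.Modules.pullback (pullback.fst f g)).obj F) x') ↔
      FlatOver A (hW.primeIdealOf ⟨x, hxW⟩).asIdeal Γ(F, W) (T.presheaf.stalk t) := by
  letI := (baseToSections f W).toAlgebra
  letI := (baseToStalk g t).toAlgebra
  obtain ⟨U, hU, htU, -⟩ := exists_isAffineOpen_mem_and_subset (X := T) (x := t) (U := ⊤) trivial
  let fst := pullback.fst f g
  let snd := pullback.snd f g
  let H := IsPullback.of_hasPullback f g
  let W' := fst ⁻¹ᵁ W ⊓ snd ⁻¹ᵁ U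
  have hW' : IsAffineOpen W' := FlatH4.isAffineOpen_of_isPullback H (le_top : U ≤ g ⁻¹ᵁ ⊤) (le_top : W ≤ f ⁻¹ᵁ ⊤) rfl
    (isAffineOpen_top _) hU hW
  have e1 : W' ≤ fst ⁻¹ᵁ W := inf_le_left
  have e2 : W' ≤ snd ⁻¹ᵁ U := inf_le_right
  letI : Algebra Γ(X, W) Γ(pullback f g, W') := (fst.appLE W W' e1).hom.toAlgebra
  letI : Algebra Γ(T, U) Γ(pullback f g, W') := (snd.appLE U W' e2).hom.toAlgebra
  letI : Algebra A Γ(T, U) := (baseToSections g U).toAlgebra
  letI : Algebra A Γ(pullback f g, W') := ((algebraMap Γ(X, W) Γ(pullback f g, W')).comp (algebraMap A Γ(X, W))).toAlgebra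
  haveI : IsScalarTower A Γ(X, W) Γ(pullback f g, W') := IsScalarTower.of_algebraMap_eq fun _ => rfl
  haveI : IsScalarTower A Γ(T, U) Γ(pullback f g, W') := IsScalarTower.of_algebraMap_eq fun a => by
    show (f.appLE ⊤ W le_top ≫ fst.appLE W W' e1) ((Scheme.ΓSpecIso (CommRingCat.of A)).inv a) =
      (g.appLE ⊤ U le_top ≫ snd.appLE U W' e2) ((Scheme.ΓSpecIso (CommRingCat.of A)).inv a)
    rw [Scheme.Hom.appLE_comp_appLE, Scheme.Hom.appLE_comp_appLE]
    simp only [fst, snd, pullback.condition]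
  haveI : Algebra.IsPushout A Γ(X, W) Γ(T, U) Γ(pullback f g, W') := by
    refine CommRingCat.isPushout_iff_isPushout.1 ?_
    refine (FlatH4.isPushout_sections H (le_top : U ≤ g ⁻¹ᵁ ⊤) (le_top : W ≤ f ⁻¹ᵁ ⊤) (UY := W') rfl
      (isAffineOpen_top _) hU hW).of_iso' (Scheme.ΓSpecIso (CommRingCat.of A)).symm (Iso.refl _) (Iso.refl _) (Iso.refl _) ?_ ?_ ?_ ?_
    · exact CommRingCat.hom_ext rfl
    · exact CommRingCat.hom_ext rfl
    · exact CommRingCat.hom_ext rfl
    · exact CommRingCat.hom_ext rfl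
  let tU := (hU.primeIdealOf ⟨t, htU⟩).asIdeal
  letI : Algebra Γ(T, U) (T.presheaf.stalk t) := T.presheaf.algebra_section_stalk ⟨t, htU⟩
  haveI : IsLocalization.AtPrime (T.presheaf.stalk t) tU := hU.isLocalization_stalk ⟨t, htU⟩
  haveI : IsScalarTower A Γ(T, U) (T.presheaf.stalk t) :=
    IsScalarTower.of_algebraMap_eq fun a => baseToStalk_eq g t U htU a
  rw [flatOver_iff_chart (U := Γ(T, U)) (SU := Γ(pullback f g, W')) tU (hW.primeIdealOf ⟨x, hxW⟩).asIdeal Γ(F, W)]
  have hcomap : ∀ (x' : ↑(pullback f g)) (hx' : x' ∈ W'),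
      (hW'.primeIdealOf ⟨x', hx'⟩).asIdeal.comap (fst.appLE W W' e1).hom = (hW.primeIdealOf ⟨fst.base x', e1 hx'⟩).asIdeal ∧
      (hW'.primeIdealOf ⟨x', hx'⟩).asIdeal.comap (snd.appLE U W' e2).hom = (hU.primeIdealOf ⟨snd.base x', e2 hx'⟩).asIdeal :=
    fun x' hx' => ⟨congr($(IsAffineOpen.comap_primeIdealOf_appLE W hW W' hW' e1 hx').1),
      congr($(IsAffineOpen.comap_primeIdealOf_appLE U hU W' hW' e2 hx').1)⟩
  refine ⟨fun h Q' _ hQt hQq => ?_, fun h x' hxt hxx => ?_⟩
  · let p' : PrimeSpectrum Γ(pullback f g, W') := ⟨Q', inferInstance⟩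
    have hx' : hW'.fromSpec p' ∈ W' := by
      rw [← SetLike.mem_coe, ← hW'.range_fromSpec]; exact ⟨p', rfl⟩
    set x' := hW'.fromSpec p'
    have hp : hW'.primeIdealOf ⟨x', hx'⟩ = p' :=
      hW'.fromSpec.isOpenEmbedding.injective (hW'.fromSpec_primeIdealOf ⟨x', hx'⟩)
    have hpQ : (hW'.primeIdealOf ⟨x', hx'⟩).asIdeal = Q' := by rw [hp]
    have h1 : fst.base x' = x := by
      have h1 : hW.primeIdealOf ⟨fst.base x', e1 hx'⟩ = hW.primeIdealOf ⟨x, hxW⟩ :=
        PrimeSpectrum.ext ((hcomap x' hx').1.symm.trans (by rw [hpQ]; exact hQq))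
      have := congrArg hW.fromSpec h1
      rwa [hW.fromSpec_primeIdealOf, hW.fromSpec_primeIdealOf] at this
    have h2 : snd.base x' = t := by
      have h1 : hU.primeIdealOf ⟨snd.base x', e2 hx'⟩ = hU.primeIdealOf ⟨t, htU⟩ :=
        PrimeSpectrum.ext ((hcomap x' hx').2.symm.trans (by rw [hpQ]; exact hQt.over.symm))
      have := congrArg hU.fromSpec h1
      rwa [hU.fromSpec_primeIdealOf, hU.fromSpec_primeIdealOf] at this
    have h3 := (FlatH4.isFlatOverAt_pullback_iff fst F hW hW' e1 snd U hU e2 hx').1 (h x' h2 h1)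
    have key : ∀ (P : Ideal Γ(pullback f g, W')) (hP : P.IsPrime), P = (hW'.primeIdealOf ⟨x', hx'⟩).asIdeal →
        FlatCA.FlatAt Γ(T, U) P (Γ(pullback f g, W') ⊗[Γ(X, W)] Γ(F, W)) := by
      rintro P hP rfl
      exact h3
    exact key Q' inferInstance hpQ.symm
  · have hx' : x' ∈ W' := ⟨show fst.base x' ∈ W by rw [hxx]; exact hxW, show snd.base x' ∈ U by rw [hxt]; exact htU⟩
    refine (FlatH4.isFlatOverAt_pullback_iff fst F hW hW' e1 snd U hU e2 hx').2
      (h (hW'.primeIdealOf ⟨x', hx'⟩).asIdeal ⟨?_⟩ ?_)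
    · refine Eq.trans ?_ (hcomap x' hx').2.symm
      show tU = _
      simp only [tU, show snd.base x' = t from hxt]
    · refine (hcomap x' hx').1.trans ?_
      simp only [show fst.base x' = x from hxx]

end

/-- The ideal of flatness at a point of the closed fibre. -/
theorem exists_ideal_flat_at_point [HenselianLocalRing A] {X : Scheme.{u}} (f : X ⟶ Spec (CommRingCat.of A))
    [LocallyOfFiniteType f] (F : X.Modules) [Coh.IsQCoh F] (hF : CohB1.IsFT F) (x : X)
    (hx : f.base x = IsLocalRing.closedPoint A) :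
    ∃ I : Ideal A, I ≤ IsLocalRing.maximalIdeal A ∧
      (∀ (T : Scheme.{u}) (g : T ⟶ Spec (CommRingCat.of A)) (t : T), g.base t = IsLocalRing.closedPoint A →
        ((∀ x' : ↑(pullback f g), (pullback.snd f g).base x' = t → (pullback.fst f g).base x' = x →
            FlatMod.IsFlatOverAt (pullback.snd f g) ((Scheme.Modules.pullback (pullback.fst f g)).obj F) x') ↔
          I ≤ RingHom.ker (baseToStalk g t))) ∧
      (LocallyOfFinitePresentation f → CohB1.IsFP F → I.FG) := by
  obtain ⟨W, hW, hxW, -⟩ := exists_isAffineOpen_mem_and_subset (X := X) (x := x) (U := ⊤) trivial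
  letI := (baseToSections f W).toAlgebra
  haveI : Algebra.FiniteType A Γ(X, W) :=
    ((f.finiteType_appLE (isAffineOpen_top _) hW le_top).comp
      (RingHom.FiniteType.of_surjective _ (Scheme.ΓSpecIso (CommRingCat.of A)).commRingCatIsoToRingEquiv.symm.surjective) :)
  haveI : Module.Finite Γ(X, W) Γ(F, W) := M1.finite_sections inferInstance hF hW
  let q := (hW.primeIdealOf ⟨x, hxW⟩).asIdeal
  haveI : q.LiesOver (IsLocalRing.maximalIdeal A) := by
    refine ⟨?_⟩
    have hloc := isLocalHom_baseToStalk f x hx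
    show _ = q.comap (baseToSections f W)
    letI : Algebra Γ(X, W) (X.presheaf.stalk x) := X.presheaf.algebra_section_stalk ⟨x, hxW⟩
    haveI : IsLocalization.AtPrime (X.presheaf.stalk x) q := hW.isLocalization_stalk ⟨x, hxW⟩
    ext a
    have h1 : baseToSections f W a ∈ q ↔ ¬ IsUnit (baseToStalk f x a) := by
      rw [baseToStalk_eq f x W hxW, show (X.presheaf.germ W x hxW).hom (baseToSections f W a) =
        algebraMap Γ(X, W) (X.presheaf.stalk x) (baseToSections f W a) from rfl,
        IsLocalization.AtPrime.isUnit_to_map_iff _ q]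
      simp
    rw [Ideal.mem_comap, h1, IsLocalRing.mem_maximalIdeal]
    exact ⟨fun hn h => hn (hloc.map_nonunit a h), fun h hu => h (hu.map _)⟩
  obtain ⟨I, hI, hIfg⟩ := S1229.exists_isFlatLocusIdeal (A := A) Γ(F, W) q
  refine ⟨I, ?_, fun T g t ht => ?_, fun hf hFP => hIfg ?_ (M1.finitePresentation_sections hFP hW)⟩
  · have h0 : FlatOver A q Γ(F, W) (IsLocalRing.ResidueField A) := fun Q _ _ _ => by
      letI : Field (IsLocalRing.ResidueField A) := inferInstance
      exact (Module.Flat.of_free : Module.Flat (IsLocalRing.ResidueField A) (LocalizedModule Q.primeCompl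
        ((IsLocalRing.ResidueField A ⊗[A] Γ(X, W)) ⊗[Γ(X, W)] Γ(F, W))))
    haveI : IsLocalHom (algebraMap A (IsLocalRing.ResidueField A)) :=
      (IsLocalRing.residue_surjective (R := A)).isLocalHom _
    intro a ha
    exact (IsLocalRing.residue_eq_zero_iff a).1
      ((Ideal.mem_bot).1 ((hI (IsLocalRing.ResidueField A)).1 h0 ▸ Ideal.mem_map_of_mem _ ha))
  · letI := (baseToStalk g t).toAlgebra
    haveI : IsLocalHom (algebraMap A (T.presheaf.stalk t)) := isLocalHom_baseToStalk g t ht
    rw [forall_isFlatOverAt_iff f F W hW x hxW g t, hI (T.presheaf.stalk t)]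
    exact Ideal.map_eq_bot_iff_le_ker _
  · haveI := hf
    exact ((f.finitePresentation_appLE (isAffineOpen_top _) hW le_top).comp
      (RingHom.FinitePresentation.of_bijective (Scheme.ΓSpecIso (CommRingCat.of A)).commRingCatIsoToRingEquiv.symm.bijective) :)

end Groth.Agent.Dev4
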