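import Groth.Agent.Lib.Dev4.HensPoint
import Groth.Agent.Lib.CAlgLow.TorNil
import Groth.Agent.S1229

/-!
# A map injective modulo the maximal ideal to a flat module: flatness of the source
-/

set_option autoImplicit false
set_option maxSynthPendingDepth 3

universe u

open TensorProduct IsLocalRing

set_option backward.isDefEq.respectTransparency.types false

attribute [local instance] Algebra.TensorProduct.rightAlgebra

namespace Groth.Agent.Dev4

/-- A map injective modulo the maximal ideal stays injective after tensoring with a module killed by it. -/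
theorem lTensor_injective_of_killed {A N M : Type u} [CommRing A] [IsLocalRing A] [AddCommGroup M] [Module A M]
    [AddCommGroup N] [Module A N] (u : N →ₗ[A] M)
    (h : Function.Injective (LinearMap.lTensor (ResidueField A) u)) (X : Type u) [AddCommGroup X] [Module A X]
    (hX : Module.IsTorsionBySet A X (maximalIdeal A : Set A)) : Function.Injective (u.lTensor X) := by
  letI : Module (A ⧸ maximalIdeal A) X := hX.module
  haveI : IsScalarTower A (A ⧸ maximalIdeal A) X := hX.isScalarTower
  let κ := ResidueField A
  letI : Module κ X := hX.module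
  haveI : IsScalarTower A κ X := hX.isScalarTower
  let v : κ ⊗[A] N →ₗ[κ] κ ⊗[A] M := u.baseChange κ
  have key : ∀ z, u.lTensor X (AlgebraTensorModule.cancelBaseChange A κ κ X N z) =
      AlgebraTensorModule.cancelBaseChange A κ κ X M (v.lTensor X z) := fun z => by
    induction z using TensorProduct.induction_on with
    | zero => simp
    | add a b ha hb => simp only [map_add, ha, hb]
    | tmul x t =>
      induction t using TensorProduct.induction_on with
      | zero => simp
      | add a b ha hb => simp only [TensorProduct.tmul_add, map_add, ha, hb]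
      | tmul c n => rfl
  intro x y hxy
  obtain ⟨x, rfl⟩ := (AlgebraTensorModule.cancelBaseChange A κ κ X N).surjective x
  obtain ⟨y, rfl⟩ := (AlgebraTensorModule.cancelBaseChange A κ κ X N).surjective y
  rw [key, key] at hxy
  exact congrArg _ (Module.Flat.lTensor_preserves_injective_linearMap v h
    ((AlgebraTensorModule.cancelBaseChange A κ κ X M).injective hxy))

/-- Flatness over a quotient of the base at a local ring. -/
theorem flat_iff_map_eq_bot {H C : Type u} [CommRing H] [IsLocalRing H] [CommRing C] [IsLocalRing C] [Algebra H C]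
    [IsLocalHom (algebraMap H C)] (Ns : Type u) [AddCommGroup Ns] [Module C Ns] [Module H Ns] [IsScalarTower H C Ns]
    (I : Ideal H)
    (hI : ∀ (A' B' M' : Type u) [CommRing A'] [IsLocalRing A'] [Algebra H A'] [IsLocalHom (algebraMap H A')]
        [CommRing B'] [Algebra C B'] [Algebra A' B'] [Algebra H B'] [IsScalarTower H C B'] [IsScalarTower H A' B']
        [Algebra.IsPushout H C A' B']
        [AddCommGroup M'] [Module B' M'] [Module C M'] [IsScalarTower C B' M'] [Module A' M'] [IsScalarTower A' B' M']
        (f : Ns →ₗ[C] M'), IsBaseChange B' f →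
        ((∀ (q : Ideal B') [q.IsPrime], (maximalIdeal A').map (algebraMap A' B') ⊔ (maximalIdeal C).map (algebraMap C B') ≤ q →
            FlatCA.FlatAt A' q M') ↔ I.map (algebraMap H A') = ⊥))
    (A' : Type u) [CommRing A'] [IsLocalRing A'] [Algebra H A'] (hsurj : Function.Surjective (algebraMap H A')) :
    Module.Flat A' (A' ⊗[H] Ns) ↔ I.map (algebraMap H A') = ⊥ := by
  haveI : IsLocalHom (algebraMap H A') := hsurj.isLocalHom _
  let B' := A' ⊗[H] C
  haveI : Algebra.IsPushout H C A' B' := Algebra.IsPushout.symm inferInstance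
  have hsB : Function.Surjective (algebraMap C B') := fun z => by
    induction z using TensorProduct.induction_on with
    | zero => exact ⟨0, map_zero _⟩
    | add p q hp hq =>
      obtain ⟨a, ha⟩ := hp
      obtain ⟨b, hb⟩ := hq
      exact ⟨a + b, by rw [map_add, ha, hb]⟩
    | tmul c b =>
      obtain ⟨a, rfl⟩ := hsurj c
      exact ⟨a • b, by
        show (1 : A') ⊗ₜ[H] (a • b) = algebraMap H A' a ⊗ₜ[H] b
        rw [TensorProduct.tmul_smul, TensorProduct.smul_tmul', Algebra.smul_def, mul_one]⟩
  have hmB : (maximalIdeal A').map (algebraMap A' B') ⊔ (maximalIdeal C).map (algebraMap C B') ≠ ⊤ := by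
    obtain ⟨P, hP, hPA, hPC⟩ := exists_prime_over_both (B := H) (SA := A') (S := C) (maximalIdeal A') (maximalIdeal C) (by
      rw [IsLocalRing.maximalIdeal_comap, IsLocalRing.maximalIdeal_comap])
    haveI := hP
    exact ne_top_of_le_ne_top (Ideal.IsPrime.ne_top inferInstance)
      (sup_le (Ideal.map_le_iff_le_comap.2 hPA.ge) (Ideal.map_le_iff_le_comap.2 hPC.ge))
  haveI : Nontrivial B' := by
    by_contra h
    rw [not_nontrivial_iff_subsingleton] at h
    exact hmB (Subsingleton.elim _ _)
  haveI : IsLocalRing B' := IsLocalRing.of_surjective' _ hsB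
  let M' := B' ⊗[C] Ns
  rw [← hI A' B' M' (TensorProduct.mk C B' Ns 1) (TensorProduct.isBaseChange C Ns B')]
  let e : A' ⊗[H] Ns ≃ₗ[A'] M' := (isBaseChange_tensor (A := H) A' (B := C) Ns).equiv
  have hunit : ∀ Q : Ideal B', Q.IsPrime → (maximalIdeal A').map (algebraMap A' B') ⊔ (maximalIdeal C).map (algebraMap C B') ≤ Q →
      Q = maximalIdeal B' := fun Q hQ hle => by
    refine (IsLocalRing.le_maximalIdeal hQ.ne_top).antisymm ?_
    refine le_trans (fun z hz => ?_) (le_sup_right.trans hle)
    obtain ⟨c, rfl⟩ := hsB z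
    exact Ideal.mem_map_of_mem _ ((IsLocalRing.mem_maximalIdeal c).2 fun hc => (IsLocalRing.mem_maximalIdeal _).1 hz (hc.map _))
  haveI hid : IsLocalizedModule (maximalIdeal B').primeCompl (LinearMap.id : M' →ₗ[B'] M') := by
    refine ⟨fun s => ?_, fun y => ⟨(y, 1), one_smul _ _⟩, fun {x y} h => ⟨1, congrArg _ h⟩⟩
    have hs : IsUnit (s : B') := by
      by_contra hs
      exact s.2 ((IsLocalRing.mem_maximalIdeal _).2 hs)
    exact hs.map (algebraMap B' (Module.End B' M'))
  let eL := (IsLocalizedModule.iso (maximalIdeal B').primeCompl (LinearMap.id : M' →ₗ[B'] M')).restrictScalars A'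
  refine ⟨fun hf Q _ hQ => ?_, fun hf => ?_⟩
  · obtain rfl := hunit Q inferInstance hQ
    haveI : Module.Flat A' (A' ⊗[H] Ns) := hf
    exact Module.Flat.of_linearEquiv (eL.trans e.symm)
  · haveI : Module.Flat A' (LocalizedModule (maximalIdeal B').primeCompl M') :=
      hf (maximalIdeal B') (IsLocalRing.le_maximalIdeal hmB)
    exact Module.Flat.of_linearEquiv (e.trans eL.symm)

/-- Over a local ring of essentially finite presentation, a finitely presented module with a map to a
flat module injective modulo the maximal ideal is flat. -/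
theorem flat_of_injective_mod {A B M N : Type u} [CommRing A] [CommRing B] [IsLocalRing A] [IsLocalRing B] [Algebra A B]
    [IsLocalHom (algebraMap A B)] (hB : FlatCA.EssFinitePresentation A B) [Algebra.EssFiniteType A B]
    [AddCommGroup M] [Module A M] [Module.Flat A M]
    [AddCommGroup N] [Module A N] [Module B N] [IsScalarTower A B N] [Module.FinitePresentation B N]
    (u : N →ₗ[A] M) (h : Function.Injective (LinearMap.lTensor (ResidueField A) u)) : Module.Flat A N := by
  classical
  let H := Hens.Hh A
  obtain ⟨Q, hQ, hQA, hQB⟩ := exists_prime_over_both (B := A) (SA := H) (S := B) (maximalIdeal H) (maximalIdeal B) (by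
    rw [IsLocalRing.maximalIdeal_comap, IsLocalRing.maximalIdeal_comap])
  haveI := hQ
  let C := Localization.AtPrime Q
  haveI : IsLocalHom (algebraMap H C) := isLocalHom_atPrime Q hQA
  haveI : Algebra.EssFiniteType H C := Algebra.EssFiniteType.comp H (H ⊗[A] B) C
  haveI : Module.FinitePresentation (H ⊗[A] B) ((H ⊗[A] B) ⊗[B] N) := inferInstance
  let Ns := C ⊗[H ⊗[A] B] ((H ⊗[A] B) ⊗[B] N)
  haveI : Module.FinitePresentation C Ns := inferInstance
  obtain ⟨I, hI, hIfg⟩ := S1229.result (A := H) (B := C) Ns
  have hfg : I.FG := hIfg (essFinitePresentation_atPrime hB Q) inferInstance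
  -- the closed fibre
  have hIm : I ≤ maximalIdeal H := by
    letI : Field (H ⧸ maximalIdeal H) := Ideal.Quotient.field _
    have h0 := (flat_iff_map_eq_bot Ns I hI (H ⧸ maximalIdeal H) Ideal.Quotient.mk_surjective).1 inferInstance
    exact fun x hx => Ideal.Quotient.eq_zero_iff_mem.1 ((Ideal.mem_bot).1 (h0 ▸ Ideal.mem_map_of_mem _ hx))
  let J := maximalIdeal H * I
  let R := H ⧸ J
  have hJ : J ≤ maximalIdeal H := Ideal.mul_le_right.trans hIm
  haveI : Nontrivial R := Ideal.Quotient.nontrivial_iff.2 (ne_top_of_le_ne_top (maximalIdeal.isMaximal H).ne_top hJ)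
  haveI : IsLocalRing R := IsLocalRing.of_surjective' (Ideal.Quotient.mk J) Ideal.Quotient.mk_surjective
  let Ib : Ideal R := I.map (algebraMap H R)
  have hmI : ∀ c ∈ maximalIdeal H, ∀ z ∈ Ib, algebraMap H R c * z = 0 := fun c hc z hz => by
    obtain ⟨y, hy, rfl⟩ := (Ideal.mem_map_iff_of_surjective _ Ideal.Quotient.mk_surjective).1 hz
    rw [show algebraMap H R c = Ideal.Quotient.mk J c from rfl, ← map_mul, Ideal.Quotient.eq_zero_iff_mem]
    exact Ideal.mul_mem_mul hc hy
  have hsq : Ib * Ib = ⊥ := eq_bot_iff.2 (Ideal.mul_le.2 fun a ha b hb => by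
    obtain ⟨y, hy, rfl⟩ := (Ideal.mem_map_iff_of_surjective _ Ideal.Quotient.mk_surjective).1 ha
    exact (Ideal.mem_bot).2 (hmI y (hIm hy) b hb))
  -- injectivity of multiplication on the square-zero ideal
  let j : Ib →ₗ[H] R := Ib.subtype.restrictScalars H
  have hjA : Function.Injective ((j.restrictScalars A).rTensor N) := by
    have htor : Module.IsTorsionBySet A Ib (maximalIdeal A : Set A) := by
      rintro z ⟨a, ha⟩
      refine Subtype.ext ?_
      show a • (z : R) = 0
      rw [Algebra.smul_def, IsScalarTower.algebraMap_apply A H R]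
      exact hmI _ (map_nonunit _ a ((IsLocalRing.mem_maximalIdeal a).1 ha)) z z.2
    have h1 : u.lTensor R ∘ₗ (j.restrictScalars A).rTensor N = (j.restrictScalars A).rTensor M ∘ₗ u.lTensor Ib := by
      rw [LinearMap.lTensor_comp_rTensor, LinearMap.rTensor_comp_lTensor]
    refine Function.Injective.of_comp (f := u.lTensor R) ?_
    rw [← LinearMap.coe_comp, h1, LinearMap.coe_comp]
    exact (Module.Flat.rTensor_preserves_injective_linearMap (j.restrictScalars A) Subtype.val_injective).comp
      (lTensor_injective_of_killed u h Ib htor)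
  have hjN : Function.Injective (j.lTensor ((H ⊗[A] B) ⊗[B] N)) := by
    let e := (isBaseChange_tensor (A := A) H (B := B) N).equiv
    let eX := fun (X : Type u) [AddCommGroup X] [Module H X] [Module A X] [IsScalarTower A H X] =>
      ((TensorProduct.congr e.symm (LinearEquiv.refl H X)).trans (TensorProduct.comm H (H ⊗[A] N) X)).trans
        (AlgebraTensorModule.cancelBaseChange A H H X N)
    have key : ∀ z, eX R (j.lTensor ((H ⊗[A] B) ⊗[B] N) z) = (j.restrictScalars A).rTensor N (eX Ib z) := fun z => by
      induction z using TensorProduct.induction_on with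
      | zero => simp
      | add a b ha hb => simp only [map_add, ha, hb]
      | tmul w x =>
        show AlgebraTensorModule.cancelBaseChange A H H R N (j x ⊗ₜ[H] e.symm w) =
          (j.restrictScalars A).rTensor N (AlgebraTensorModule.cancelBaseChange A H H Ib N (x ⊗ₜ[H] e.symm w))
        induction e.symm w using TensorProduct.induction_on with
        | zero => simp
        | add a b ha hb => simp only [TensorProduct.tmul_add, map_add, ha, hb]
        | tmul c n =>
          rw [AlgebraTensorModule.cancelBaseChange_tmul, AlgebraTensorModule.cancelBaseChange_tmul, LinearMap.rTensor_tmul]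
          show (c • j x) ⊗ₜ[A] n = j (c • x) ⊗ₜ[A] n
          rw [map_smul]
    intro x y hxy
    exact (eX Ib).injective (hjA (by rw [← key, ← key, hxy]))
  have hjs : Function.Injective (j.lTensor Ns) := lTensor_injective_tensor ((H ⊗[A] B) ⊗[B] N) j hjN
  have htor : Function.Injective (Ib.subtype.rTensor (R ⊗[H] Ns)) := by
    have key : ∀ z, AlgebraTensorModule.cancelBaseChange H R R R Ns (Ib.subtype.rTensor (R ⊗[H] Ns) z) =
        j.rTensor Ns (AlgebraTensorModule.cancelBaseChange H R R Ib Ns z) := fun z => by
      induction z using TensorProduct.induction_on with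
      | zero => simp
      | add a b ha hb => simp only [map_add, ha, hb]
      | tmul x t =>
        induction t using TensorProduct.induction_on with
        | zero => simp
        | add a b ha hb => simp only [TensorProduct.tmul_add, map_add, ha, hb]
        | tmul c n => rfl
    intro x y hxy
    refine (AlgebraTensorModule.cancelBaseChange H R R Ib Ns).injective ?_
    refine (LinearMap.lTensor_inj_iff_rTensor_inj Ns j).1 hjs ?_
    rw [← key, ← key, hxy]
  haveI : Module.Flat (R ⧸ Ib) ((R ⧸ Ib) ⊗[R] (R ⊗[H] Ns)) := by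
    haveI : Nontrivial (R ⧸ Ib) := Ideal.Quotient.nontrivial_iff.2 (ne_top_of_le_ne_top (maximalIdeal.isMaximal R).ne_top
      (Ideal.map_le_iff_le_comap.2 fun x hx => (IsLocalRing.mem_maximalIdeal _).2 fun hu =>
        (IsLocalRing.mem_maximalIdeal x).1 (hIm hx) (by
          haveI : IsLocalHom (algebraMap H R) := (Ideal.Quotient.mk_surjective (I := J)).isLocalHom _
          exact isUnit_of_map_unit _ x hu)))
    haveI : IsLocalRing (R ⧸ Ib) := IsLocalRing.of_surjective' (Ideal.Quotient.mk Ib) Ideal.Quotient.mk_surjective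
    haveI : IsScalarTower H R (R ⧸ Ib) := inferInstance
    have hs : Function.Surjective (algebraMap H (R ⧸ Ib)) := by
      rw [IsScalarTower.algebraMap_eq H R (R ⧸ Ib)]
      exact Ideal.Quotient.mk_surjective.comp Ideal.Quotient.mk_surjective
    haveI : Module.Flat (R ⧸ Ib) ((R ⧸ Ib) ⊗[H] Ns) := (flat_iff_map_eq_bot Ns I hI (R ⧸ Ib) hs).2 (by
      rw [IsScalarTower.algebraMap_eq H R (R ⧸ Ib), ← Ideal.map_map]
      exact Ideal.map_quotient_self Ib)
    exact Module.Flat.of_linearEquiv (AlgebraTensorModule.cancelBaseChange H R (R ⧸ Ib) (R ⧸ Ib) Ns)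
  haveI : Module.Flat R (R ⊗[H] Ns) := CAlgLow.flat_of_flat_mod_nilpotent ⟨2, by rw [pow_two, hsq]; rfl⟩ htor
  have hbot : I = ⊥ := by
    have h0 := (flat_iff_map_eq_bot Ns I hI R Ideal.Quotient.mk_surjective).1 inferInstance
    refine Submodule.eq_bot_of_le_smul_of_le_jacobson_bot (maximalIdeal H) I hfg (fun x hx => ?_)
      (IsLocalRing.maximalIdeal_le_jacobson _)
    exact Ideal.Quotient.eq_zero_iff_mem.1 ((Ideal.mem_bot).1 (h0 ▸ Ideal.mem_map_of_mem _ hx))
  haveI : Module.Flat H (H ⊗[H] Ns) := (flat_iff_map_eq_bot Ns I hI H Function.surjective_id).2 (by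
    rw [hbot, Ideal.map_bot])
  haveI : Module.Flat H Ns := Module.Flat.of_linearEquiv (TensorProduct.lid H Ns).symm
  haveI : Module.Flat A Ns := Module.Flat.trans A H Ns
  obtain ⟨ι, hι, -⟩ := universallyInjective_toPoint Q hQB N
  exact CAlgLow.flat_left_of_ui hι

end Groth.Agent.Dev4
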