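import Groth.Agent.Lib.Dev4.BaseChange
import Groth.Agent.Lib.Dev4.FlatAssoc
import Groth.Agent.Lib.Dev4.CdaFlat
import Groth.Agent.Lib.Dev4.ColimPure

/-!
# Flatness of base changes at the points over a pair of points
-/

set_option autoImplicit false
set_option maxSynthPendingDepth 3

universe u

open TensorProduct IsLocalRing

set_option backward.isDefEq.respectTransparency.types false

attribute [local instance] Algebra.TensorProduct.rightAlgebra

namespace Groth.Agent.Dev4

/-- A prime of a tensor product over two primes with the same contraction. -/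
theorem exists_prime_over_both {B SA S : Type u} [CommRing B] [CommRing SA] [CommRing S] [Algebra B SA]
    [Algebra B S] (r : Ideal SA) [r.IsPrime] (x : Ideal S) [x.IsPrime]
    (h : x.comap (algebraMap B S) = r.comap (algebraMap B SA)) :
    ∃ P : Ideal (SA ⊗[B] S), P.IsPrime ∧ P.comap (algebraMap SA (SA ⊗[B] S)) = r ∧ P.comap (algebraMap S (SA ⊗[B] S)) = x := by
  let r₀ := r.comap (algebraMap B SA)
  haveI : r.LiesOver r₀ := ⟨rfl⟩
  haveI : x.LiesOver r₀ := ⟨h.symm⟩
  letI : Algebra r₀.ResidueField r.ResidueField :=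
    (Ideal.ResidueField.mapₐ r₀ r (Algebra.ofId B SA) (Ideal.LiesOver.over (P := r) (p := r₀))).toRingHom.toAlgebra
  letI : Algebra r₀.ResidueField x.ResidueField :=
    (Ideal.ResidueField.mapₐ r₀ x (Algebra.ofId B S) (Ideal.LiesOver.over (P := x) (p := r₀))).toRingHom.toAlgebra
  haveI : IsScalarTower B r₀.ResidueField r.ResidueField := IsScalarTower.of_algebraMap_eq fun b =>
    ((Ideal.ResidueField.mapₐ r₀ r (Algebra.ofId B SA) (Ideal.LiesOver.over (P := r) (p := r₀))).commutes b).symm
  haveI : IsScalarTower B r₀.ResidueField x.ResidueField := IsScalarTower.of_algebraMap_eq fun b =>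
    ((Ideal.ResidueField.mapₐ r₀ x (Algebra.ofId B S) (Ideal.LiesOver.over (P := x) (p := r₀))).commutes b).symm
  let W := r.ResidueField ⊗[r₀.ResidueField] x.ResidueField
  let φ : SA ⊗[B] S →ₐ[B] W := Algebra.TensorProduct.lift
    (((Algebra.TensorProduct.includeLeft : r.ResidueField →ₐ[r₀.ResidueField] W).restrictScalars B).comp
      (IsScalarTower.toAlgHom B SA r.ResidueField))
    (((Algebra.TensorProduct.includeRight : x.ResidueField →ₐ[r₀.ResidueField] W).restrictScalars B).comp
      (IsScalarTower.toAlgHom B S x.ResidueField)) fun _ _ => Commute.all _ _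
  obtain ⟨m, hm⟩ := Ideal.exists_maximal W
  refine ⟨m.comap φ.toRingHom, inferInstance, Ideal.ext fun a => ?_, Ideal.ext fun c => ?_⟩
  rotate_left
  · show φ ((1 : SA) ⊗ₜ[B] c) ∈ m ↔ _
    rw [Algebra.TensorProduct.lift_tmul, map_one, one_mul]
    refine ⟨fun hmem => ?_, fun hc => ?_⟩
    · by_contra hc
      have hu : IsUnit (algebraMap S x.ResidueField c) :=
        isUnit_iff_ne_zero.2 fun h0 => hc (Ideal.algebraMap_residueField_eq_zero.1 h0)
      exact hm.ne_top (Ideal.eq_top_of_isUnit_mem _ hmem
        (hu.map (Algebra.TensorProduct.includeRight : x.ResidueField →ₐ[r₀.ResidueField] W)))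
    · show (1 : r.ResidueField) ⊗ₜ[r₀.ResidueField] algebraMap S x.ResidueField c ∈ m
      rw [Ideal.algebraMap_residueField_eq_zero.2 hc, TensorProduct.tmul_zero]
      exact zero_mem _
  have ha : φ (algebraMap SA (SA ⊗[B] S) a) = algebraMap SA r.ResidueField a ⊗ₜ[r₀.ResidueField] (1 : x.ResidueField) := by
    show φ (a ⊗ₜ[B] (1 : S)) = _
    rw [Algebra.TensorProduct.lift_tmul, map_one, mul_one]
    rfl
  show φ (algebraMap SA (SA ⊗[B] S) a) ∈ m ↔ _
  rw [ha]
  refine ⟨fun hmem => ?_, fun har => ?_⟩
  · by_contra har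
    have hu : IsUnit (algebraMap SA r.ResidueField a) :=
      isUnit_iff_ne_zero.2 fun h0 => har (Ideal.algebraMap_residueField_eq_zero.1 h0)
    exact hm.ne_top (Ideal.eq_top_of_isUnit_mem _ hmem
      (hu.map (Algebra.TensorProduct.includeLeftRingHom : r.ResidueField →+* W)))
  · rw [Ideal.algebraMap_residueField_eq_zero.2 har, TensorProduct.zero_tmul]
    exact zero_mem _

variable {R : Type u} [CommRing R]

/-- The base change of `M` to `R'` is flat at all points over the closed point and over `y`. -/
def FlatOver (R : Type u) [CommRing R] {B : Type u} [CommRing B] [Algebra R B] (y : Ideal B) (M : Type u) [AddCommGroup M] [Module B M]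
    (R' : Type u) [CommRing R'] [IsLocalRing R'] [Algebra R R'] : Prop :=
  ∀ (Q : Ideal (R' ⊗[R] B)) [Q.IsPrime], Q.LiesOver (maximalIdeal R') → Q.comap (algebraMap B (R' ⊗[R] B)) = y →
    FlatCA.FlatAt R' Q ((R' ⊗[R] B) ⊗[B] M)

/-- The ideal `I` corepresents flatness at the points over `y`. -/
def IsFlatLocusIdeal [IsLocalRing R] {B : Type u} [CommRing B] [Algebra R B] (y : Ideal B) (M : Type u) [AddCommGroup M]
    [Module B M] (I : Ideal R) : Prop :=
  ∀ (R' : Type u) [CommRing R'] [IsLocalRing R'] [Algebra R R'] [IsLocalHom (algebraMap R R')],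
    FlatOver R y M R' ↔ I.map (algebraMap R R') = ⊥

/-- Flatness at the points over a pair is invariant under isomorphisms. -/
theorem flatOver_congr {B : Type u} [CommRing B] [Algebra R B] (y : Ideal B) {M M' : Type u} [AddCommGroup M]
    [Module B M] [AddCommGroup M'] [Module B M'] (e : M ≃ₗ[B] M') (R' : Type u) [CommRing R'] [IsLocalRing R']
    [Algebra R R'] : FlatOver R y M R' ↔ FlatOver R y M' R' := by
  let e' : (R' ⊗[R] B) ⊗[B] M ≃ₗ[R' ⊗[R] B] (R' ⊗[R] B) ⊗[B] M' :=
    AlgebraTensorModule.congr (LinearEquiv.refl _ _) e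
  exact ⟨fun h Q _ h1 h2 => RG4.flatAt_congr Q e' (h Q h1 h2), fun h Q _ h1 h2 => RG4.flatAt_congr Q e'.symm (h Q h1 h2)⟩

/-- Transfer along a flat algebra, in any model of the base change. -/
theorem flatOver_iff_model {S C : Type u} [CommRing S] [CommRing C] [Algebra R S] [Algebra R C] [Algebra S C]
    [IsScalarTower R S C] [Module.Flat S C] (q : Ideal S) (qC : Ideal C) [qC.IsPrime] [qC.LiesOver q]
    (N : Type u) [AddCommGroup N] [Module S N]
    (R' : Type u) [CommRing R'] [IsLocalRing R'] [Algebra R R']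
    (C' : Type u) [CommRing C'] [Algebra R' C'] [Algebra C C'] [Algebra R C'] [IsScalarTower R R' C'] [IsScalarTower R C C']
    [Algebra.IsPushout R C R' C']
    (M' : Type u) [AddCommGroup M'] [Module C' M'] [Module R' M'] [IsScalarTower R' C' M'] [Module S M']
    [Algebra S C'] [IsScalarTower S C C'] [IsScalarTower S C' M']
    (g : N →ₗ[S] M') (hg : IsBaseChange C' g) :
    FlatOver R q N R' ↔
      ∀ (Q : Ideal C') [Q.IsPrime], Q.LiesOver (maximalIdeal R') → Q.comap (algebraMap C C') = qC →
        FlatCA.FlatAt R' Q M' := by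
  let S' := R' ⊗[R] S
  haveI : Algebra.IsPushout R S R' S' := Algebra.IsPushout.symm inferInstance
  haveI : IsScalarTower R S C' := IsScalarTower.of_algebraMap_eq fun r => by
    rw [IsScalarTower.algebraMap_apply R C C', IsScalarTower.algebraMap_apply S C C', ← IsScalarTower.algebraMap_apply R S C]
  letI : Algebra S' C' := (Algebra.TensorProduct.lift (IsScalarTower.toAlgHom R R' C') (IsScalarTower.toAlgHom R S C')
    fun _ _ => Commute.all _ _).toRingHom.toAlgebra
  haveI : IsScalarTower R' S' C' := IsScalarTower.of_algebraMap_eq fun a => by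
    show _ = Algebra.TensorProduct.lift _ _ _ (a ⊗ₜ[R] (1 : S))
    simp
  haveI : IsScalarTower S S' C' := IsScalarTower.of_algebraMap_eq fun a => by
    show _ = Algebra.TensorProduct.lift _ _ _ ((1 : R') ⊗ₜ[R] a)
    simp
  haveI hpo : Algebra.IsPushout S C S' C' := by
    haveI : IsScalarTower R S' C' := IsScalarTower.of_algebraMap_eq fun r => by
      rw [IsScalarTower.algebraMap_apply R S S', ← IsScalarTower.algebraMap_apply S S' C', ← IsScalarTower.algebraMap_apply R S C']
    exact (Algebra.IsPushout.comp_iff (R := R) (S := S) (R' := R') (S' := S') (T := C) (T' := C')).1 inferInstance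
  haveI : Algebra.IsPushout S S' C C' := hpo.symm
  haveI : Module.Flat S' C' := Module.Flat.of_linearEquiv (Algebra.IsPushout.equiv S S' C C').symm.toLinearEquiv
  let e : C' ⊗[S'] (S' ⊗[S] N) ≃ₗ[C'] M' := (AlgebraTensorModule.cancelBaseChange S S' C' C' N).trans hg.equiv
  refine ⟨fun h Q _ hQm hQq => ?_, fun h Q _ hQm hQq => ?_⟩
  · let Q₀ := Q.comap (algebraMap S' C')
    haveI : Q.LiesOver Q₀ := ⟨rfl⟩
    have h0 : FlatCA.FlatAt R' Q₀ (S' ⊗[S] N) := h Q₀ ⟨by
      show _ = (Q.comap (algebraMap S' C')).comap (algebraMap R' S')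
      rw [Ideal.comap_comap, ← IsScalarTower.algebraMap_eq]
      exact hQm.over⟩ (by
      show (Q.comap (algebraMap S' C')).comap (algebraMap S S') = q
      rw [Ideal.comap_comap, ← IsScalarTower.algebraMap_eq, IsScalarTower.algebraMap_eq S C C', ← Ideal.comap_comap, hQq]
      exact (Ideal.over_def qC q).symm)
    exact RG4.flatAt_congr Q e (flatAt_of_flat_map _ Q₀ Q h0)
  · obtain ⟨P, hP, hPQ, hPC⟩ := exists_prime_over_both Q qC ((Ideal.over_def qC q).symm.trans hQq.symm)
    haveI := hP
    let θ := Algebra.IsPushout.equiv S S' C C'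
    let Q' := P.comap θ.symm.toRingEquiv.toRingHom
    have hθ : ∀ a : S', θ (algebraMap S' (S' ⊗[S] C) a) = algebraMap S' C' a := fun a => θ.commutes a
    haveI : Q'.LiesOver Q := ⟨by
      show Q = (P.comap θ.symm.toRingEquiv.toRingHom).comap (algebraMap S' C')
      rw [Ideal.comap_comap]
      refine hPQ.symm.trans (congrArg (fun f => Ideal.comap f P) (RingHom.ext fun a => ?_))
      exact (θ.symm.commutes a).symm⟩
    have h0 := h Q' ⟨by
      show _ = Q'.comap (algebraMap R' C')
      rw [IsScalarTower.algebraMap_eq R' S' C', ← Ideal.comap_comap]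
      exact hQm.over.trans (congrArg (Ideal.comap (algebraMap R' S')) (Ideal.over_def Q' Q))⟩ (by
      show (P.comap θ.symm.toRingEquiv.toRingHom).comap (algebraMap C C') = qC
      rw [Ideal.comap_comap]
      refine Eq.trans (congrArg (fun f => Ideal.comap f P) (RingHom.ext fun c => ?_)) hPC
      show θ.symm (algebraMap C C' c) = (1 : S') ⊗ₜ[S] c
      rw [AlgEquiv.symm_apply_eq]
      show algebraMap C C' c = Algebra.IsPushout.equiv S S' C C' ((1 : S') ⊗ₜ[S] c)
      simp [Algebra.IsPushout.equiv_tmul])
    exact flatAt_of_flat_map_descent _ Q Q' (RG4.flatAt_congr Q' e.symm h0)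

/-- Flatness at a prime below gives flatness at the prime above. -/
theorem flatAt_of_flatAt_comap {R B A M : Type u} [CommRing R] [CommRing B] [CommRing A] [Algebra R B] [Algebra R A]
    [Algebra B A] [AddCommGroup M] [Module A M] [Module B M] [Module R M] [IsScalarTower B A M] [IsScalarTower R A M]
    [IsScalarTower R B M] (Q : Ideal A) [Q.IsPrime] (y : Ideal B) [y.IsPrime] [Q.LiesOver y]
    (h : FlatCA.FlatAt R y M) : FlatCA.FlatAt R Q M := by
  let T := Algebra.algebraMapSubmonoid A y.primeCompl
  let f := LocalizedModule.mkLinearMap T M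
  haveI : IsLocalizedModule y.primeCompl (f.restrictScalars B) := IsLocalizedModule.restrictScalars _ _
  haveI : Module.Flat R (LocalizedModule y.primeCompl M) := h
  haveI : IsScalarTower R B (LocalizedModule T M) := IsScalarTower.of_algebraMap_smul fun r x => by
    induction x using LocalizedModule.induction_on with
    | h m t => rw [LocalizedModule.smul'_mk, LocalizedModule.smul'_mk, algebraMap_smul]
  haveI : Module.Flat R (LocalizedModule T M) := Module.Flat.of_linearEquiv
    ((IsLocalizedModule.iso y.primeCompl (f.restrictScalars B)).restrictScalars R).symm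
  refine RG4.flat_of_isLocalizedModule Q.primeCompl
    (IsLocalizedModule.liftOfLE T Q.primeCompl ?_ f (LocalizedModule.mkLinearMap Q.primeCompl M))
  rintro _ ⟨c, hc, rfl⟩ hcQ
  exact hc ((Ideal.mem_of_liesOver Q y c).2 hcQ)

/-- Transfer along a finite algebra with a single point over `y`. -/
theorem flatOver_finite {B A : Type u} [CommRing B] [CommRing A] [Algebra R B] [Algebra R A] [Algebra B A]
    [IsScalarTower R B A] [Module.Finite B A] (y : Ideal B) [y.IsPrime] (z : Ideal A) [z.IsPrime] [z.LiesOver y]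
    (huniq : ∀ (Q : Ideal A) [Q.IsPrime], Q.LiesOver y → Q = z)
    (M : Type u) [AddCommGroup M] [Module A M] [Module B M] [IsScalarTower B A M]
    (R' : Type u) [CommRing R'] [IsLocalRing R'] [Algebra R R'] : FlatOver R z M R' ↔ FlatOver R y M R' := by
  let A' := R' ⊗[R] A
  let B' := R' ⊗[R] B
  letI : Algebra B' A' := (Algebra.TensorProduct.map (AlgHom.id R R') (IsScalarTower.toAlgHom R B A)).toRingHom.toAlgebra
  letI : Algebra B A' := Algebra.compHom A' (algebraMap B A)
  haveI : IsScalarTower B A A' := IsScalarTower.of_algebraMap_eq fun _ => rfl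
  haveI : IsScalarTower B B' A' := IsScalarTower.of_algebraMap_eq fun b => by
    show (1 : R') ⊗ₜ[R] algebraMap B A b = Algebra.TensorProduct.map _ _ ((1 : R') ⊗ₜ[R] b)
    simp
  haveI : IsScalarTower R' B' A' := IsScalarTower.of_algebraMap_eq fun r => by
    show r ⊗ₜ[R] (1 : A) = Algebra.TensorProduct.map _ _ (r ⊗ₜ[R] (1 : B))
    simp
  haveI : IsScalarTower R B' A' := IsScalarTower.of_algebraMap_eq fun r => by
    rw [IsScalarTower.algebraMap_apply R R' B', ← IsScalarTower.algebraMap_apply R' B' A', ← IsScalarTower.algebraMap_apply R R' A']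
  haveI : IsScalarTower R B A' := IsScalarTower.of_algebraMap_eq fun r => by
    rw [IsScalarTower.algebraMap_apply B A A', ← IsScalarTower.algebraMap_apply R B A, ← IsScalarTower.algebraMap_apply R A A']
  haveI : Algebra.IsPushout R B R' B' := Algebra.IsPushout.symm inferInstance
  haveI : Algebra.IsPushout R A R' A' := Algebra.IsPushout.symm inferInstance
  haveI hpo : Algebra.IsPushout B A B' A' :=
    (Algebra.IsPushout.comp_iff (R := R) (S := B) (R' := R') (S' := B') (T := A) (T' := A')).1 inferInstance
  haveI : Algebra.IsPushout B B' A A' := hpo.symm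
  haveI : Module.Finite B' A' := Module.Finite.equiv (Algebra.IsPushout.equiv B B' A A').toLinearEquiv
  let MA := A' ⊗[A] M
  have hg : IsBaseChange B' ((TensorProduct.mk A A' M 1).restrictScalars B) :=
    isBaseChange_restrict (B' := B') (A' := A') _ (TensorProduct.isBaseChange A M A')
  refine ⟨fun h Q _ hQm hQy => RG4.flatAt_congr Q hg.equiv.symm (flatAt_of_forall_over (A := A') Q fun P _ hP => ?_),
    fun h P _ hPm hPz => ?_⟩
  · refine h P ⟨?_⟩ (huniq _ ⟨?_⟩)
    · show _ = P.comap (algebraMap R' A')
      rw [IsScalarTower.algebraMap_eq R' B' A', ← Ideal.comap_comap]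
      exact hQm.over.trans (congrArg (Ideal.comap _) hP.over)
    · show y = (P.comap (algebraMap A A')).comap (algebraMap B A)
      rw [Ideal.comap_comap, ← IsScalarTower.algebraMap_eq, IsScalarTower.algebraMap_eq B B' A', ← Ideal.comap_comap]
      exact hQy.symm.trans (congrArg (Ideal.comap _) hP.over)
  · let Q := P.comap (algebraMap B' A')
    haveI : P.LiesOver Q := ⟨rfl⟩
    have h0 : FlatCA.FlatAt R' Q MA := RG4.flatAt_congr Q hg.equiv (h Q ⟨by
        show _ = (P.comap (algebraMap B' A')).comap (algebraMap R' B')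
        rw [Ideal.comap_comap, ← IsScalarTower.algebraMap_eq]
        exact hPm.over⟩ (by
        show (P.comap (algebraMap B' A')).comap (algebraMap B B') = y
        rw [Ideal.comap_comap, ← IsScalarTower.algebraMap_eq, IsScalarTower.algebraMap_eq B A A', ← Ideal.comap_comap, hPz]
        exact (Ideal.over_def z y).symm))
    exact flatAt_of_flatAt_comap P Q h0

end Groth.Agent.Dev4
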