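import Groth.Agent.Lib.Dev4.FlatOverStep

/-!
# The ideal of the flat locus through one step
-/

set_option autoImplicit false
set_option maxSynthPendingDepth 3

universe u

open TensorProduct IsLocalRing

set_option backward.isDefEq.respectTransparency.types false

attribute [local instance] Algebra.TensorProduct.rightAlgebra

namespace Groth.Agent.Dev4

/-- The base change of a module in two ways. -/
theorem exists_tensorEquiv {R B : Type u} [CommRing R] [CommRing B] [Algebra R B] (R' : Type u) [CommRing R'] [Algebra R R']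
    (X : Type u) [AddCommGroup X] [Module B X] [Module R X] [IsScalarTower R B X] :
    ∃ e : (R' ⊗[R] B) ⊗[B] X ≃ₗ[B] X ⊗[R] R', ∀ x : X, e ((1 : R' ⊗[R] B) ⊗ₜ[B] x) = x ⊗ₜ[R] (1 : R') := by
  let c : (R' ⊗[R] B) ≃ₗ[B] B ⊗[R] R' :=
    { (TensorProduct.comm R R' B) with
      map_smul' := fun b z => by
        induction z using TensorProduct.induction_on with
        | zero => simp
        | add p q hp hq =>
          simp only [AddHom.toFun_eq_coe, LinearMap.coe_toAddHom, LinearEquiv.coe_coe, RingHom.id_apply] at hp hq ⊢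
          rw [smul_add, map_add, map_add, smul_add, hp, hq]
        | tmul p q =>
          show TensorProduct.comm R R' B (b • (p ⊗ₜ[R] q)) = b • (q ⊗ₜ[R] p)
          rw [show b • (p ⊗ₜ[R] q) = p ⊗ₜ[R] (b * q) by
            rw [Algebra.smul_def]
            show ((1 : R') ⊗ₜ[R] b) * (p ⊗ₜ[R] q) = _
            rw [Algebra.TensorProduct.tmul_mul_tmul, one_mul]]
          rw [TensorProduct.comm_tmul, TensorProduct.smul_tmul', smul_eq_mul] }
  refine ⟨((TensorProduct.congr c (LinearEquiv.refl B X)).trans (TensorProduct.comm B _ X)).trans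
    (AlgebraTensorModule.cancelBaseChange R B B X R'), fun x => ?_⟩
  show AlgebraTensorModule.cancelBaseChange R B B X R' (x ⊗ₜ[B] ((1 : B) ⊗ₜ[R] (1 : R'))) = _
  rw [AlgebraTensorModule.cancelBaseChange_tmul, one_smul]

/-- An element of a tensor product with a quotient vanishes exactly in the multiples of the ideal. -/
theorem tmul_one_quotient_eq_zero_iff {R M : Type u} [CommRing R] [AddCommGroup M] [Module R M] (I : Ideal R) (m : M) :
    m ⊗ₜ[R] (1 : R ⧸ I) = 0 ↔ m ∈ I • (⊤ : Submodule R M) := by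
  rw [← LinearEquiv.map_eq_zero_iff (TensorProduct.comm R M (R ⧸ I)), TensorProduct.comm_tmul,
    ← LinearEquiv.map_eq_zero_iff (TensorProduct.quotTensorEquivQuotSMul M I), ← map_one (Ideal.Quotient.mk I),
    TensorProduct.quotTensorEquivQuotSMul_mk_tmul, one_smul, Submodule.Quotient.mk_eq_zero]

/-- Multiples of an ideal vanish where the ideal does. -/
theorem tmul_one_eq_zero_of_mem_smul {R M : Type u} [CommRing R] [AddCommGroup M] [Module R M] {I : Ideal R}
    (R' : Type u) [CommRing R'] [Algebra R R'] (hI : I.map (algebraMap R R') = ⊥) {m : M}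
    (hm : m ∈ I • (⊤ : Submodule R M)) : m ⊗ₜ[R] (1 : R') = 0 := by
  induction hm using Submodule.smul_induction_on' with
  | smul c hc n _ =>
    rw [TensorProduct.smul_tmul, Algebra.smul_def, mul_one, show algebraMap R R' c = 0 from
      (Ideal.mem_bot).1 (hI ▸ Ideal.mem_map_of_mem _ hc), TensorProduct.tmul_zero]
  | add a _ b _ ha hb => rw [TensorProduct.add_tmul, ha, hb, add_zero]

/-- Flatness at the points over `y` modulo an ideal, in terms of the localisation. -/
theorem flat_quotient_localized {R B : Type u} [CommRing R] [IsLocalRing R] [CommRing B] [Algebra R B]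
    (y : Ideal B) [y.IsPrime] [y.LiesOver (maximalIdeal R)] (T : Type u) [AddCommGroup T] [Module B T] [Module R T]
    [IsScalarTower R B T] (I : Ideal R) [IsLocalRing (R ⧸ I)] [IsLocalHom (algebraMap R (R ⧸ I))]
    (h : FlatOver R y T (R ⧸ I)) : Module.Flat (R ⧸ I) ((R ⧸ I) ⊗[R] LocalizedModule y.primeCompl T) := by
  let Rb := R ⧸ I
  let Bb := Rb ⊗[R] B
  have hsurj : Function.Surjective (algebraMap B Bb) := fun z => by
    induction z using TensorProduct.induction_on with
    | zero => exact ⟨0, map_zero _⟩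
    | add p q hp hq =>
      obtain ⟨a, ha⟩ := hp
      obtain ⟨b, hb⟩ := hq
      exact ⟨a + b, by rw [map_add, ha, hb]⟩
    | tmul c b =>
      obtain ⟨c, rfl⟩ := Ideal.Quotient.mk_surjective c
      exact ⟨c • b, by
        show (1 : Rb) ⊗ₜ[R] (c • b) = _
        rw [← TensorProduct.smul_tmul, Algebra.smul_def, mul_one]; rfl⟩
  haveI hm : (maximalIdeal Rb).LiesOver (maximalIdeal R) := ⟨(IsLocalRing.maximalIdeal_comap (algebraMap R Rb)).symm⟩
  obtain ⟨Q, hQ, hQR, hQB⟩ := exists_prime_over_both (B := R) (SA := Rb) (S := B) (maximalIdeal Rb) y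
    ((Ideal.over_def y (maximalIdeal R)).symm.trans (Ideal.over_def (maximalIdeal Rb) (maximalIdeal R)))
  haveI := hQ
  haveI : Q.LiesOver y := ⟨hQB.symm⟩
  let Tb := Bb ⊗[B] T
  haveI hflat : Module.Flat Rb (LocalizedModule Q.primeCompl Tb) := h Q ⟨hQR.symm⟩ hQB
  haveI : Module.Finite B Bb := Module.Finite.of_surjective (Algebra.linearMap B Bb) hsurj
  haveI := RG4.isLocalizedModule_of_unique (M := Tb) Q y fun Q' _ hQ' =>
    Ideal.comap_injective_of_surjective _ hsurj (hQ'.over.symm.trans hQB.symm)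
  obtain ⟨e, -⟩ := exists_tensorEquiv (R := R) (B := B) Rb T
  let f₁ : Tb →ₗ[B] LocalizedModule Q.primeCompl Tb := (LocalizedModule.mkLinearMap Q.primeCompl Tb).restrictScalars B
  let f₂ : Tb →ₗ[B] LocalizedModule y.primeCompl T ⊗[R] Rb :=
    (AlgebraTensorModule.rTensor R Rb (LocalizedModule.mkLinearMap y.primeCompl T)).comp e.toLinearMap
  haveI : IsLocalizedModule y.primeCompl f₂ := inferInstance
  let E : LocalizedModule Q.primeCompl Tb ≃+ Rb ⊗[R] LocalizedModule y.primeCompl T :=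
    (IsLocalizedModule.linearEquiv y.primeCompl f₁ f₂).toAddEquiv.trans
      (TensorProduct.comm R (LocalizedModule y.primeCompl T) Rb).toAddEquiv
  have hR : ∀ (c : R) x, E (algebraMap R Rb c • x) = algebraMap R Rb c • E x := fun c x => by
    have h1 : algebraMap R Rb c • x = algebraMap R B c • x := by
      induction x using LocalizedModule.induction_on with
      | h m t => rw [LocalizedModule.smul'_mk, LocalizedModule.smul'_mk, algebraMap_smul, algebraMap_smul]
    rw [h1]
    show TensorProduct.comm R _ Rb (IsLocalizedModule.linearEquiv y.primeCompl f₁ f₂ (algebraMap R B c • x)) = _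
    rw [map_smul, algebraMap_smul, map_smul, algebraMap_smul]
    rfl
  exact Module.Flat.of_linearEquiv (M := LocalizedModule Q.primeCompl Tb)
    ({ E.symm with
      map_smul' := fun c x => by
        obtain ⟨c, rfl⟩ := Ideal.Quotient.mk_surjective c
        apply E.injective
        show E (E.symm (algebraMap R Rb c • x)) = E (algebraMap R Rb c • E.symm x)
        rw [hR, E.apply_symm_apply, E.apply_symm_apply] } :
      Rb ⊗[R] LocalizedModule y.primeCompl T ≃ₗ[Rb] LocalizedModule Q.primeCompl Tb)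

/-- Finitely many elements span the kernel up to denominators modulo `I`. -/
theorem exists_finite_kernel {R B X Y : Type u} [CommRing R] [IsLocalRing R] [CommRing B] [Algebra R B]
    [Algebra.FinitePresentation R B] (y : Ideal B) [y.IsPrime] [y.LiesOver (maximalIdeal R)]
    [AddCommGroup X] [Module B X] [Module R X] [IsScalarTower R B X] [Module.FinitePresentation B X]
    [AddCommGroup Y] [Module B Y] [Module R Y] [IsScalarTower R B Y] [Module.FinitePresentation B Y]
    (f : X →ₗ[B] Y) (I : Ideal R) [IsLocalRing (R ⧸ I)] [IsLocalHom (algebraMap R (R ⧸ I))]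
    (h : FlatOver R y (Y ⧸ LinearMap.range f) (R ⧸ I)) :
    ∃ G : Finset X, (∀ x ∈ G, ∃ s ∈ y.primeCompl, s • f x ∈ I • (⊤ : Submodule R Y)) ∧
      ∀ x : X, (∃ s ∈ y.primeCompl, s • f x ∈ I • (⊤ : Submodule R Y)) →
        ∃ t ∈ y.primeCompl, ∃ u ∈ Submodule.span B (G : Set X), t • x - u ∈ I • (⊤ : Submodule R X) := by
  classical
  let Rb := R ⧸ I
  let Bb := Rb ⊗[R] B
  have hsurj : Function.Surjective (algebraMap B Bb) := fun z => by
    induction z using TensorProduct.induction_on with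
    | zero => exact ⟨0, map_zero _⟩
    | add p q hp hq =>
      obtain ⟨a, ha⟩ := hp
      obtain ⟨b, hb⟩ := hq
      exact ⟨a + b, by rw [map_add, ha, hb]⟩
    | tmul c b =>
      obtain ⟨c, rfl⟩ := Ideal.Quotient.mk_surjective c
      exact ⟨c • b, by
        show (1 : Rb) ⊗ₜ[R] (c • b) = _
        rw [← TensorProduct.smul_tmul, Algebra.smul_def, mul_one]; rfl⟩
  haveI : (maximalIdeal Rb).LiesOver (maximalIdeal R) := ⟨(IsLocalRing.maximalIdeal_comap (algebraMap R Rb)).symm⟩
  obtain ⟨Q, hQ, hQR, hQB⟩ := exists_prime_over_both (B := R) (SA := Rb) (S := B) (maximalIdeal Rb) y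
    ((Ideal.over_def y (maximalIdeal R)).symm.trans (Ideal.over_def (maximalIdeal Rb) (maximalIdeal R)))
  haveI := hQ
  let T := Y ⧸ LinearMap.range f
  haveI : Module.FinitePresentation B T :=
    Module.finitePresentation_of_surjective (LinearMap.range f).mkQ (Submodule.mkQ_surjective _)
      (by rw [Submodule.ker_mkQ, LinearMap.range_eq_map]; exact Module.Finite.fg_top.map f)
  haveI : Algebra.FinitePresentation Rb Bb := inferInstance
  have hopen := FlatH4.isOpen_flat_localized (R := Rb) (S := Bb) (M := Bb ⊗[B] T)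
  obtain ⟨W, ⟨g, rfl⟩, hQg, hgW⟩ := PrimeSpectrum.isTopologicalBasis_basic_opens.exists_subset_of_mem_open
    (show (⟨Q, hQ⟩ : PrimeSpectrum Bb) ∈ _ from h Q ⟨hQR.symm⟩ hQB) hopen
  obtain ⟨g₀, rfl⟩ := hsurj g
  have hg₀ : g₀ ∈ y.primeCompl := fun hm => hQg (show g₀ ∈ Q.comap (algebraMap B Bb) by rwa [hQB])
  let Bf := Localization.Away (algebraMap B Bb g₀)
  haveI : Algebra.FinitePresentation Bb Bf := IsLocalization.Away.finitePresentation (algebraMap B Bb g₀)
  haveI : Algebra.FinitePresentation Rb Bf := Algebra.FinitePresentation.trans Rb Bb Bf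
  haveI : Module.Flat Rb (Bf ⊗[B] T) := Module.flat_of_isLocalized_maximal (R := Rb) (M := Bf ⊗[B] T) Bf
    (fun P => LocalizedModule P.primeCompl (Bf ⊗[B] T)) (fun P _ => LocalizedModule.mkLinearMap P.primeCompl _)
    fun P _ => by
      let Q' : PrimeSpectrum Bb := PrimeSpectrum.comap (algebraMap Bb Bf) ⟨P, inferInstance⟩
      haveI : P.LiesOver Q'.asIdeal := ⟨rfl⟩
      have hQ' : Q' ∈ (PrimeSpectrum.basicOpen (algebraMap B Bb g₀) : Set (PrimeSpectrum Bb)) := fun hm =>
        (inferInstance : P.IsMaximal).ne_top (Ideal.eq_top_of_isUnit_mem _ hm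
          (IsLocalization.Away.algebraMap_isUnit (algebraMap B Bb g₀)))
      exact RG4.flatAt_congr P (AlgebraTensorModule.cancelBaseChange B Bb Bf Bf T)
        (flatAt_of_flat_map (R := Rb) (C := Bf) (Bb ⊗[B] T) Q'.asIdeal P (hgW hQ'))
  let β : Bf ⊗[B] X →ₗ[Bf] Bf ⊗[B] Y := f.baseChange Bf
  let π : Bf ⊗[B] Y →ₗ[Bf] Bf ⊗[B] T := (LinearMap.range f).mkQ.baseChange Bf
  have hπ : Function.Surjective π := LinearMap.lTensor_surjective Bf (Submodule.mkQ_surjective _)
  have hker : (LinearMap.ker β).FG := by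
    haveI := FlatSyz.finitePresentation_ker (A := Rb) π hπ
    haveI : Module.FinitePresentation Bf (LinearMap.range β) :=
      Module.FinitePresentation.of_equiv (LinearEquiv.ofEq _ _ (LinearMap.exact_iff.1
        (show Function.Exact β π from lTensor_exact Bf (LinearMap.exact_map_mkQ_range f) (Submodule.mkQ_surjective _))))
    rw [← LinearMap.ker_rangeRestrict]
    exact Module.FinitePresentation.fg_ker β.rangeRestrict β.surjective_rangeRestrict
  -- vanishing in the localisation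
  have hzero : ∀ (M : Type u) [AddCommGroup M] [Module B M] [Module R M] [IsScalarTower R B M] (m : M),
      (1 : Bf) ⊗ₜ[B] m = 0 ↔ ∃ n : ℕ, g₀ ^ n • m ∈ I • (⊤ : Submodule R M) := by
    intro M _ _ _ _ m
    obtain ⟨e, he⟩ := exists_tensorEquiv (R := R) (B := B) Rb M
    haveI : IsLocalizedModule (Submonoid.powers (algebraMap B Bb g₀)) (TensorProduct.mk Bb Bf (Bb ⊗[B] M) 1) :=
      (isLocalizedModule_iff_isBaseChange (Submonoid.powers (algebraMap B Bb g₀)) Bf _).2
        (TensorProduct.isBaseChange Bb (Bb ⊗[B] M) Bf)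
    have h1 : AlgebraTensorModule.cancelBaseChange B Bb Bf Bf M ((1 : Bf) ⊗ₜ[Bb] ((1 : Bb) ⊗ₜ[B] m)) = (1 : Bf) ⊗ₜ[B] m := by
      rw [AlgebraTensorModule.cancelBaseChange_tmul, one_smul]
    rw [← h1, LinearEquiv.map_eq_zero_iff]
    show TensorProduct.mk Bb Bf (Bb ⊗[B] M) 1 ((1 : Bb) ⊗ₜ[B] m) = 0 ↔ _
    rw [IsLocalizedModule.eq_zero_iff (Submonoid.powers (algebraMap B Bb g₀))]
    refine ⟨fun ⟨⟨_, n, rfl⟩, hn⟩ => ⟨n, ?_⟩, fun ⟨n, hn⟩ => ⟨⟨_, n, rfl⟩, ?_⟩⟩
    · replace hn : algebraMap B Bb g₀ ^ n • ((1 : Bb) ⊗ₜ[B] m) = 0 := hn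
      rw [← map_pow, algebraMap_smul] at hn
      have := congrArg e hn
      rwa [map_smul, map_zero, he, TensorProduct.smul_tmul', tmul_one_quotient_eq_zero_iff] at this
    · show algebraMap B Bb g₀ ^ n • ((1 : Bb) ⊗ₜ[B] m) = 0
      rw [← map_pow, algebraMap_smul]
      apply e.injective
      rwa [map_smul, map_zero, he, TensorProduct.smul_tmul', tmul_one_quotient_eq_zero_iff]
  have hrep : ∀ w : Bf ⊗[B] X, ∃ (n : ℕ) (x : X), g₀ ^ n • w = (1 : Bf) ⊗ₜ[B] x := by
    intro w
    induction w using TensorProduct.induction_on with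
    | zero => exact ⟨0, 0, by simp⟩
    | add p q hp hq =>
      obtain ⟨n, x, hx⟩ := hp
      obtain ⟨k, z, hz⟩ := hq
      refine ⟨n + k, g₀ ^ k • x + g₀ ^ n • z, ?_⟩
      rw [TensorProduct.tmul_add, TensorProduct.tmul_smul, TensorProduct.tmul_smul, ← hx, ← hz, smul_add, smul_smul, smul_smul,
        ← pow_add, ← pow_add, add_comm k n]
    | tmul c x =>
      obtain ⟨⟨a, ⟨_, n, rfl⟩⟩, hc⟩ := IsLocalization.surj (Submonoid.powers (algebraMap B Bb g₀)) c
      obtain ⟨a, rfl⟩ := hsurj a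
      refine ⟨n, a • x, ?_⟩
      rw [TensorProduct.smul_tmul', ← algebraMap_smul Bb (g₀ ^ n) c, map_pow, Algebra.smul_def, mul_comm]
      rw [show c * algebraMap Bb Bf (algebraMap B Bb g₀ ^ n) = algebraMap Bb Bf (algebraMap B Bb a) from hc,
        ← IsScalarTower.algebraMap_apply B Bb Bf]
      rw [TensorProduct.tmul_smul, TensorProduct.smul_tmul', Algebra.smul_def, mul_one]
  obtain ⟨G₀, hG₀⟩ := hker
  choose n xg hxg using fun z : Bf ⊗[B] X => hrep z
  have hG : ∀ x ∈ G₀.image xg, ∃ s ∈ y.primeCompl, s • f x ∈ I • (⊤ : Submodule R Y) := by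
    intro x hx
    obtain ⟨z, hz, rfl⟩ := Finset.mem_image.1 hx
    have h1 : β z = 0 := by
      have : z ∈ LinearMap.ker β := hG₀ ▸ Submodule.subset_span hz
      exact this
    obtain ⟨k, hk⟩ := (hzero Y (f (xg z))).1 (by
      rw [show (1 : Bf) ⊗ₜ[B] f (xg z) = β ((1 : Bf) ⊗ₜ[B] xg z) from rfl, ← hxg, LinearMap.map_smul_of_tower, h1, smul_zero])
    exact ⟨g₀ ^ k, fun hm => hg₀ (‹y.IsPrime›.mem_of_pow_mem k hm), hk⟩
  refine ⟨G₀.image xg, hG, fun x ⟨s, hs, hsx⟩ => ?_⟩
  have h1 : (1 : Bf) ⊗ₜ[B] (s • x) ∈ LinearMap.ker β := by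
    show (1 : Bf) ⊗ₜ[B] f (s • x) = 0
    rw [map_smul]
    exact (hzero Y _).2 ⟨0, by simpa using hsx⟩
  have h2 : ∀ v ∈ LinearMap.ker β, ∃ k : ℕ, ∃ u ∈ Submodule.span B ((G₀.image xg : Finset X) : Set X),
      g₀ ^ k • v = (1 : Bf) ⊗ₜ[B] u := by
    intro v hv
    rw [← hG₀] at hv
    induction hv using Submodule.span_induction with
    | mem z hz => exact ⟨n z, xg z, Submodule.subset_span (Finset.mem_coe.2 (Finset.mem_image_of_mem xg hz)), hxg z⟩
    | zero => exact ⟨0, 0, zero_mem _, by simp⟩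
    | add p q _ _ hp hq =>
      obtain ⟨i, a, ha, hia⟩ := hp
      obtain ⟨j, b, hb, hjb⟩ := hq
      refine ⟨i + j, g₀ ^ j • a + g₀ ^ i • b, add_mem (Submodule.smul_mem _ _ ha) (Submodule.smul_mem _ _ hb), ?_⟩
      rw [TensorProduct.tmul_add, TensorProduct.tmul_smul, TensorProduct.tmul_smul, ← hia, ← hjb, smul_add, smul_smul,
        smul_smul, ← pow_add, ← pow_add, add_comm j i]
    | smul c p _ hp =>
      obtain ⟨i, a, ha, hia⟩ := hp
      obtain ⟨⟨b, ⟨_, j, rfl⟩⟩, hc⟩ := IsLocalization.surj (Submonoid.powers (algebraMap B Bb g₀)) c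
      obtain ⟨b, rfl⟩ := hsurj b
      refine ⟨j + i, b • a, Submodule.smul_mem _ _ ha, ?_⟩
      have hc' : g₀ ^ j • c = algebraMap B Bf b := by
        rw [← algebraMap_smul Bb (g₀ ^ j) c, map_pow, Algebra.smul_def, mul_comm, IsScalarTower.algebraMap_apply B Bb Bf]
        exact hc
      rw [pow_add, mul_smul, smul_comm (g₀ ^ i) c p, hia, ← smul_assoc, hc', algebraMap_smul, TensorProduct.tmul_smul]
  obtain ⟨k, u, hu, hku⟩ := h2 _ h1
  rw [← TensorProduct.tmul_smul, ← sub_eq_zero, ← TensorProduct.tmul_sub] at hku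
  obtain ⟨l, hl⟩ := (hzero X _).1 hku
  refine ⟨g₀ ^ l * g₀ ^ k * s, y.primeCompl.mul_mem (y.primeCompl.mul_mem
    (pow_mem hg₀ l) (pow_mem hg₀ k)) hs, g₀ ^ l • u, Submodule.smul_mem _ _ hu, ?_⟩
  rwa [mul_smul, mul_smul, ← smul_sub]

/-- The flat locus ideal through one step. -/
theorem exists_isFlatLocusIdeal_step {R B : Type u} [CommRing R] [IsLocalRing R] [CommRing B] [Algebra R B] [Algebra.Smooth R B]
    (hB : FlatCA.GeomIrredFibres R B) (y : Ideal B) [y.IsPrime] [y.LiesOver (maximalIdeal R)]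
    [((maximalIdeal R).map (algebraMap R B)).IsPrime]
    (M : Type u) [AddCommGroup M] [Module B M] [Module R M] [IsScalarTower R B M] [Module.Finite B M] {r : ℕ}
    (α : (Fin r → B) →ₗ[B] M) (hα : Function.Bijective (α.baseChange ((maximalIdeal R).map (algebraMap R B)).ResidueField))
    (IT : Ideal R) (hIT : IsFlatLocusIdeal y (M ⧸ LinearMap.range α) IT) :
    ∃ I : Ideal R, IsFlatLocusIdeal y M I ∧ (Module.FinitePresentation B M → IT.FG → I.FG) := by
  classical
  haveI : Module.Projective R B := projective_of_smooth hB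
  haveI : Module.Projective R (Fin r → B) :=
    Module.Projective.of_equiv (DirectSum.linearEquivFunOnFintype R (Fin r) (fun _ => B))
  choose J hJfg hJ using fun x : Fin r → B => exists_content (R := R) x
  let K : Set (Fin r → B) := {x | ∃ s ∈ y.primeCompl, s • α x ∈ IT • (⊤ : Submodule R M)}
  let I : Ideal R := IT ⊔ ⨆ x : K, J x.1
  have hJ' : ∀ (x : Fin r → B) (R' : Type u) [CommRing R'] [Algebra R R'],
      x ⊗ₜ[R] (1 : R') = 0 ↔ (J x).map (algebraMap R R') = ⊥ := fun x R' _ _ => by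
    rw [← hJ x R', ← LinearEquiv.map_eq_zero_iff (TensorProduct.comm R (Fin r → B) R'), TensorProduct.comm_tmul]
  have hne : ∀ (R' : Type u) [CommRing R'] [IsLocalRing R'] [Algebra R R'], IT.map (algebraMap R R') = ⊥ → IT ≠ ⊤ :=
    fun R' _ _ _ h ht => by
      rw [ht, Ideal.map_top] at h
      exact top_ne_bot h
  have hlocal : IT ≠ ⊤ → ∃ (_ : IsLocalRing (R ⧸ IT)), IsLocalHom (algebraMap R (R ⧸ IT)) := fun ht => by
    haveI : Nontrivial (R ⧸ IT) := Ideal.Quotient.nontrivial_iff.2 ht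
    exact ⟨IsLocalRing.of_surjective' (Ideal.Quotient.mk IT) Ideal.Quotient.mk_surjective,
      IsLocalHom.of_surjective _ Ideal.Quotient.mk_surjective⟩
  have hflQ : ∀ (_ : IsLocalRing (R ⧸ IT)) (_ : IsLocalHom (algebraMap R (R ⧸ IT))),
      FlatOver R y (M ⧸ LinearMap.range α) (R ⧸ IT) := fun _ _ =>
    (hIT (R ⧸ IT)).2 (Ideal.map_quotient_self IT)
  have hmain : IsFlatLocusIdeal y M I := by
    intro R' _ _ _ _
    obtain ⟨h1, h2, htf⟩ := flatOver_step hB y M α hα R'
    constructor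
    · intro h
      obtain ⟨hT, hinj⟩ := h1 h
      have hITb := (hIT R').1 hT
      rw [Ideal.map_sup, hITb, Ideal.map_iSup, bot_sup_eq, iSup_eq_bot]
      rintro ⟨x, s, hs, hsx⟩
      refine (hJ' x R').1 (htf _ s hs (hinj ?_))
      rw [map_zero, map_smul, AlgebraTensorModule.rTensor_tmul, TensorProduct.smul_tmul']
      exact tmul_one_eq_zero_of_mem_smul R' hITb hsx
    · intro h
      rw [Ideal.map_sup, sup_eq_bot_iff, Ideal.map_iSup, iSup_eq_bot] at h
      refine h2 ((hIT R').2 h.1) fun z hz => ?_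
      obtain ⟨hl, hlh⟩ := hlocal (hne R' h.1)
      haveI := hl
      haveI := hlh
      haveI := flat_quotient_localized y (M ⧸ LinearMap.range α) IT (hflQ hl hlh)
      exact exists_smul_eq_zero_of_flat_coker α y.primeCompl IT R' (fun c hc =>
        (Ideal.mem_bot).1 (h.1 ▸ Ideal.mem_map_of_mem _ hc)) (fun x hx => (hJ' x R').2 (h.2 ⟨x, hx⟩)) z hz
  refine ⟨I, hmain, fun hfp hITfg => ?_⟩
  by_cases ht : IT = ⊤
  · rw [show I = ⊤ by simp [I, ht]]
    exact Module.Finite.fg_top
  obtain ⟨hl, hlh⟩ := hlocal ht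
  haveI := hl
  haveI := hlh
  haveI : Module.FinitePresentation B (Fin r → B) := Module.FinitePresentation.pi _
  obtain ⟨G, hG, hgen⟩ := exists_finite_kernel y α IT (hflQ hl hlh)
  let I₀ := IT ⊔ G.sup J
  have hI₀fg : I₀.FG := Submodule.FG.sup hITfg (Finset.sup_induction Submodule.fg_bot (fun _ ha _ hb => Submodule.FG.sup ha hb) fun x _ => hJfg x)
  suffices hle : I ≤ I₀ by
    rw [le_antisymm hle (sup_le le_sup_left (Finset.sup_le fun x hx =>
      (le_iSup (fun x : K => J x.1) ⟨x, hG x hx⟩).trans le_sup_right))]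
    exact hI₀fg
  by_cases ht₀ : I₀ = ⊤
  · rw [ht₀]; exact le_top
  haveI : Nontrivial (R ⧸ I₀) := Ideal.Quotient.nontrivial_iff.2 ht₀
  haveI : IsLocalRing (R ⧸ I₀) := IsLocalRing.of_surjective' (Ideal.Quotient.mk I₀) Ideal.Quotient.mk_surjective
  haveI : IsLocalHom (algebraMap R (R ⧸ I₀)) := IsLocalHom.of_surjective _ Ideal.Quotient.mk_surjective
  obtain ⟨-, -, htf⟩ := flatOver_step hB y M α hα (R ⧸ I₀)
  refine sup_le le_sup_left (iSup_le fun x => ?_)
  have hITb : IT.map (algebraMap R (R ⧸ I₀)) = ⊥ :=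
    le_bot_iff.1 ((Ideal.map_mono le_sup_left).trans (Ideal.map_quotient_self I₀).le)
  obtain ⟨t, ht', u, hu, htu⟩ := hgen x.1 x.2
  have hu0 : u ⊗ₜ[R] (1 : R ⧸ I₀) = 0 := by
    clear htu
    induction hu using Submodule.span_induction with
    | mem z hz =>
      refine (hJ' z _).2 (le_bot_iff.1 ((Ideal.map_mono ?_).trans (Ideal.map_quotient_self I₀).le))
      exact (Finset.le_sup (f := J) hz).trans le_sup_right
    | zero => exact TensorProduct.zero_tmul _ _
    | add a b _ _ ha hb => rw [TensorProduct.add_tmul, ha, hb, add_zero]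
    | smul c a _ ha => rw [← TensorProduct.smul_tmul', ha, smul_zero]
  have h0 := tmul_one_eq_zero_of_mem_smul (R ⧸ I₀) hITb htu
  rw [TensorProduct.sub_tmul, hu0, sub_zero, ← TensorProduct.smul_tmul'] at h0
  have h3 := (hJ' x.1 (R ⧸ I₀)).1 (htf _ t ht' h0)
  intro c hc
  rw [← Ideal.Quotient.eq_zero_iff_mem, ← Ideal.mem_bot, ← h3]
  exact Ideal.mem_map_of_mem _ hc

end Groth.Agent.Dev4
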