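import Groth.Agent.Lib.CAlgLow.UI
import Mathlib.RingTheory.LocalRing.Module
import Mathlib.RingTheory.Flat.Stability
import Groth.Prelude.Def_FlatCA

/-!
# A map from a free module to a flat module which is injective modulo the maximal ideal
-/

set_option autoImplicit false
set_option maxSynthPendingDepth 3

universe u

open TensorProduct IsLocalRing

set_option backward.isDefEq.respectTransparency.types false

namespace Groth.Agent.Dev4

/-- Independence modulo the maximal ideal passes to the residue field of a quotient. -/
theorem li_residue {R Q k kQ M N ι : Type u} [CommRing R] [CommRing Q] [Algebra R Q] [Field k] [Field kQ] [Algebra R k]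
    [Algebra R kQ] [Algebra Q kQ] [IsScalarTower R Q kQ] [Algebra k kQ] [IsScalarTower R k kQ]
    [AddCommGroup M] [Module R M] [AddCommGroup N] [Module R N] (u : M →ₗ[R] N) (b : Module.Basis ι R M)
    (h : Function.Injective (u.lTensor k)) :
    LinearIndependent kQ (TensorProduct.mk Q kQ (Q ⊗[R] N) 1 ∘ fun i => (1 : Q) ⊗ₜ[R] u (b i)) := by
  have hbk : LinearIndependent k fun i => (1 : k) ⊗ₜ[R] u (b i) := by
    have h1 := (b.baseChange k).linearIndependent.map' (u.baseChange k) (LinearMap.ker_eq_bot.2 h)
    have he : (⇑(u.baseChange k) ∘ ⇑(b.baseChange k)) = fun i => (1 : k) ⊗ₜ[R] u (b i) := by funext i; simp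
    rw [← he]
    exact h1
  let e : kQ ⊗[k] (k ⊗[R] N) ≃ₗ[kQ] kQ ⊗[Q] (Q ⊗[R] N) :=
    (AlgebraTensorModule.cancelBaseChange R k kQ kQ N).trans (AlgebraTensorModule.cancelBaseChange R Q kQ kQ N).symm
  have h2 : LinearIndependent kQ fun i => (1 : kQ) ⊗ₜ[k] ((1 : k) ⊗ₜ[R] u (b i)) :=
    Module.Flat.linearIndependent_one_tmul hbk
  have h3 := h2.map' e.toLinearMap e.ker
  have he : (⇑e.toLinearMap ∘ fun i => (1 : kQ) ⊗ₜ[k] ((1 : k) ⊗ₜ[R] u (b i))) =
      TensorProduct.mk Q kQ (Q ⊗[R] N) 1 ∘ fun i => (1 : Q) ⊗ₜ[R] u (b i) := by funext i; simp [e]
  rw [← he]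
  exact h3

/-- Over a local ring, a map from a free module to a flat module injective modulo the maximal ideal is universally injective. -/
theorem univInj_of_free_of_injective_mod {R M N : Type u} [CommRing R] [IsLocalRing R] [AddCommGroup M] [Module R M]
    [Module.Free R M] [AddCommGroup N] [Module R N] [Module.Flat R N] (u : M →ₗ[R] N)
    (h : Function.Injective (LinearMap.lTensor (ResidueField R) u)) : FlatCA.UnivInj R u := by
  classical
  have hquot : ∀ (Q : Type u) [CommRing Q] [Algebra R Q] (_ : Function.Surjective (algebraMap R Q)),
      Function.Injective (u.lTensor Q) := by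
    intro Q _ _ hQ
    by_cases hnt : Nontrivial Q
    swap
    · haveI := not_nontrivial_iff_subsingleton.1 hnt
      haveI : Subsingleton (Q ⊗[R] M) := subsingleton_of_forall_eq 0 fun z => by
        induction z using TensorProduct.induction_on with
        | zero => rfl
        | add a b ha hb => rw [ha, hb, add_zero]
        | tmul c m => rw [Subsingleton.elim c 0, TensorProduct.zero_tmul]
      exact fun a b _ => Subsingleton.elim a b
    haveI : IsLocalRing Q := IsLocalRing.of_surjective' _ hQ
    haveI : IsLocalHom (algebraMap R Q) := hQ.isLocalHom _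
    let b := Module.Free.chooseBasis R M
    let bQ := b.baseChange Q
    let uQ := u.baseChange Q
    have hli : LinearIndependent Q fun i => uQ (bQ i) := by
      refine Module.IsLocalRing.linearIndependent_of_flat _ ?_
      letI : Algebra (ResidueField R) (ResidueField Q) := (ResidueField.map (algebraMap R Q)).toAlgebra
      haveI : IsScalarTower R (ResidueField R) (ResidueField Q) := IsScalarTower.of_algebraMap_eq fun r => by
        rw [RingHom.algebraMap_toAlgebra]; rfl
      have hbu : (fun i => uQ (bQ i)) = fun i => (1 : Q) ⊗ₜ[R] u (b i) := by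
        funext i
        simp [uQ, bQ]
      rw [hbu]
      exact li_residue (k := ResidueField R) (kQ := ResidueField Q) u b h
    have hinj : Function.Injective uQ := by
      rw [← LinearMap.ker_eq_bot]
      refine LinearMap.ker_eq_bot'.2 fun x hx => ?_
      have h0 : Finsupp.linearCombination Q (fun i => uQ (bQ i)) (bQ.repr x) = 0 := by
        rw [← hx]
        conv_rhs => rw [← bQ.linearCombination_repr x, Finsupp.apply_linearCombination]
        rfl
      rw [← bQ.repr.map_eq_zero_iff]
      exact linearIndependent_iff.1 hli _ h0
    exact hinj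
  have hinj : Function.Injective u := by
    intro x y hxy
    apply (TensorProduct.lid R M).symm.injective
    refine hquot R Function.surjective_id ?_
    simp [hxy]
  let g := (LinearMap.range u).mkQ
  have hex : Function.Exact u g := LinearMap.exact_map_mkQ_range u
  haveI : Module.Flat R (N ⧸ LinearMap.range u) := CAlgLow.flat_right_of_injective_quotient
    (fun I _ => by
      intro a b hab
      apply (TensorProduct.comm R M (R ⧸ I)).injective
      refine hquot (R ⧸ I) Ideal.Quotient.mk_surjective ?_
      have key : ∀ z, u.lTensor (R ⧸ I) (TensorProduct.comm R M (R ⧸ I) z) =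
          TensorProduct.comm R N (R ⧸ I) (u.rTensor (R ⧸ I) z) := fun z => by
        induction z using TensorProduct.induction_on with
        | zero => simp
        | add p q hp hq => simp only [map_add, hp, hq]
        | tmul p q => rfl
      rw [key, key, hab])
    hex (Submodule.mkQ_surjective _)
  intro Q _ _ a b hab
  apply (TensorProduct.comm R Q M).injective
  refine CAlgLow.ui_of_flat_coker hinj hex (Submodule.mkQ_surjective _) Q ?_
  have key : ∀ z, u.rTensor Q (TensorProduct.comm R Q M z) = TensorProduct.comm R Q N (u.lTensor Q z) := fun z => by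
    induction z using TensorProduct.induction_on with
    | zero => simp
    | add p q hp hq => simp only [map_add, hp, hq]
    | tmul p q => rfl
  rw [key, key, hab]

end Groth.Agent.Dev4
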