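import Mathlib.RingTheory.Flat.EquationalCriterion
import Mathlib.RingTheory.TensorProduct.Quotient
import Mathlib.RingTheory.LocalRing.Module
import Mathlib.RingTheory.Artinian.Module
import Mathlib.RingTheory.Flat.Stability
import Mathlib.RingTheory.Ideal.GoingUp

/-!
# Elements killed by the maximal ideal in a local ring of a finite algebra
-/

set_option autoImplicit false

universe u

open IsLocalRing TensorProduct

set_option backward.isDefEq.respectTransparency.types false

namespace Groth.Agent.Dev4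

/-- In a flat module, a vector killed by an element is a combination with coefficients killed by it. -/
theorem mem_annihilator_smul_top {R M : Type u} [CommRing R] [AddCommGroup M] [Module R M] [Module.Flat R M]
    (r : R) (z : M) (h : r • z = 0) : z ∈ (Submodule.span R {r}).annihilator • (⊤ : Submodule R M) := by
  obtain ⟨k, a, y, hy, ha⟩ := Module.Flat.isTrivialRelation_of_sum_smul_eq_zero (f := fun _ : Fin 1 => r)
    (x := fun _ : Fin 1 => z) (by simpa using h)
  have h1 := hy 0
  dsimp only at h1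
  rw [h1]
  refine Submodule.sum_mem _ fun j _ => Submodule.smul_mem_smul ?_ trivial
  rw [Submodule.mem_annihilator_span_singleton, smul_eq_mul, mul_comm]
  simpa using ha j

/-- A fibre element avoiding the other points of a finite algebra has an inverse power relation. -/
theorem exists_separating_element {T F : Type u} [CommRing T] [IsLocalRing T] [CommRing F] [Algebra T F] [Module.Finite T F]
    (σ : Ideal F) [σ.IsPrime] [σ.LiesOver (maximalIdeal T)] :
    ∃ u : F, u ∉ σ ∧ (∀ M : Ideal F, M.IsMaximal → M ≠ σ → u ∈ M) ∧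
      ∃ (k : ℕ) (w : F), u ^ k - u ^ (k + 1) * w ∈ (maximalIdeal T).map (algebraMap T F) := by
  classical
  set m := maximalIdeal T
  set mF := m.map (algebraMap T F)
  letI : Field (T ⧸ m) := Ideal.Quotient.field m
  haveI : Module.Finite T (F ⧸ mF) := Module.Finite.of_surjective (Ideal.Quotient.mkₐ T mF).toLinearMap
    Ideal.Quotient.mk_surjective
  haveI : Module.Finite (T ⧸ m) (F ⧸ mF) := Module.Finite.of_restrictScalars_finite T _ _
  haveI : IsArtinianRing (F ⧸ mF) := IsArtinianRing.of_finite (T ⧸ m) _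
  have hover : ∀ M : Ideal F, M.IsMaximal → mF ≤ M := fun M hM => by
    haveI := hM
    exact Ideal.map_le_iff_le_comap.2 (IsLocalRing.eq_maximalIdeal
      (Ideal.isMaximal_comap_of_isIntegral_of_isMaximal (R := T) M)).ge
  haveI : σ.IsMaximal := Ideal.isMaximal_of_isIntegral_of_isMaximal_comap (R := T) σ
    (by rw [← Ideal.under_def, ← Ideal.over_def σ m]; exact inferInstance)
  let t : Set (Ideal F) := {M | M.IsMaximal ∧ M ≠ σ}
  have ht : t.Finite := by
    refine Set.Finite.of_finite_image (f := Ideal.map (Ideal.Quotient.mk mF)) ?_ ?_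
    · refine (IsArtinianRing.setOf_isPrime_finite (F ⧸ mF)).subset ?_
      rintro _ ⟨M, ⟨hM, -⟩, rfl⟩
      haveI := hM
      exact Ideal.map_isPrime_of_surjective Ideal.Quotient.mk_surjective
        (by rw [Ideal.mk_ker]; exact hover M hM)
    · rintro M₁ ⟨h₁, -⟩ M₂ ⟨h₂, -⟩ h
      have := congrArg (Ideal.comap (Ideal.Quotient.mk mF)) h
      rwa [Ideal.comap_map_of_surjective _ Ideal.Quotient.mk_surjective,
        Ideal.comap_map_of_surjective _ Ideal.Quotient.mk_surjective, ← RingHom.ker_eq_comap_bot, Ideal.mk_ker,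
        sup_eq_left.2 (hover M₁ h₁), sup_eq_left.2 (hover M₂ h₂)] at this
  have hch : ∀ M : Ideal F, M ∈ t → ∃ a ∈ M, a ∉ σ := fun M hM => by
    by_contra hc
    push Not at hc
    exact hM.2 (hM.1.eq_of_le (Ideal.IsPrime.ne_top inferInstance) hc)
  choose a ha ha' using hch
  refine ⟨∏ M ∈ ht.toFinset.attach, a M.1 (ht.mem_toFinset.1 M.2), ?_, fun M hM hne => ?_, ?_⟩
  · intro h
    obtain ⟨M, -, hM⟩ := (Ideal.IsPrime.prod_mem_iff (hp := ‹σ.IsPrime›)).1 h
    exact ha' M.1 _ hM
  · exact Ideal.prod_mem M (Finset.mem_attach _ ⟨M, ht.mem_toFinset.2 ⟨hM, hne⟩⟩) (ha M _)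
  · set u := ∏ M ∈ ht.toFinset.attach, a M.1 (ht.mem_toFinset.1 M.2)
    obtain ⟨k, w, hw⟩ := IsArtinian.exists_pow_succ_smul_dvd (Ideal.Quotient.mk mF u) (1 : F ⧸ mF)
    obtain ⟨w, rfl⟩ := Ideal.Quotient.mk_surjective w
    refine ⟨k, w, (Ideal.Quotient.eq (I := mF)).1 ?_⟩
    simpa using hw.symm

/-- An element of an extended ideal lies in the extension of a finitely generated one. -/
theorem exists_fg_le_mem_map {T F : Type u} [CommRing T] [CommRing F] [Algebra T F] (m : Ideal T) (j : F)
    (h : j ∈ m.map (algebraMap T F)) : ∃ J : Ideal T, J ≤ m ∧ J.FG ∧ j ∈ J.map (algebraMap T F) := by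
  classical
  obtain ⟨s, hs, hj⟩ := Submodule.mem_span_finite_of_mem_span h
  obtain ⟨s', hs', rfl⟩ := Finset.subset_set_image_iff.1 hs
  refine ⟨Ideal.span (s' : Set T), Ideal.span_le.2 hs', ⟨s', rfl⟩, ?_⟩
  rw [Ideal.map_span, ← Finset.coe_image]
  exact hj

/-- In a flat local ring of a finite algebra over a local ring whose maximal ideal has no annihilator,
nothing nonzero is killed by the maximal ideal. -/
theorem eq_zero_of_maximalIdeal_smul {T : Type u} [CommRing T] [IsLocalRing T]
    (h0 : ∀ ω : T, (∀ q ∈ maximalIdeal T, q * ω = 0) → ω = 0)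
    (F : Type u) {P : Type u} [CommRing F] [Algebra T F] [Module.Finite T F] (σ : Ideal F) [σ.IsPrime]
    [σ.LiesOver (maximalIdeal T)] [CommRing P] [Algebra F P] [Algebra T P] [IsScalarTower T F P]
    [IsLocalization σ.primeCompl P] [Module.Flat T P] (x : P) (hx : ∀ q ∈ maximalIdeal T, q • x = 0) : x = 0 := by
  classical
  obtain ⟨u, huσ, hu, k, w, hk⟩ := exists_separating_element (T := T) σ
  obtain ⟨J, hJm, hJfg, hkJ⟩ := exists_fg_le_mem_map _ _ hk
  haveI : IsLocalRing P := IsLocalization.AtPrime.isLocalRing P σ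
  let JP := J.map (algebraMap T P)
  have hJP : JP ≤ maximalIdeal P := by
    refine Ideal.map_le_iff_le_comap.2 fun a ha => ?_
    show algebraMap T P a ∈ maximalIdeal P
    rw [IsScalarTower.algebraMap_apply T F P, IsLocalization.AtPrime.to_map_mem_maximal_iff P σ]
    exact (Ideal.mem_of_liesOver σ (maximalIdeal T) a).1 (hJm ha)
  haveI : Nontrivial (P ⧸ JP) := Ideal.Quotient.nontrivial_iff.2 (ne_top_of_le_ne_top (maximalIdeal.isMaximal P).ne_top hJP)
  -- the local ring is finite modulo `J`
  let φ : F →ₐ[T] P ⧸ JP := (Ideal.Quotient.mkₐ T JP).comp (IsScalarTower.toAlgHom T F P)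
  have hφu : ∀ s : F, s ∉ σ → IsUnit (φ s) := fun s hs =>
    (IsLocalization.map_units P (⟨s, hs⟩ : σ.primeCompl)).map (Ideal.Quotient.mk JP)
  have huw : φ u * φ w = 1 := by
    have hkP : φ (u ^ k - u ^ (k + 1) * w) = 0 := by
      show Ideal.Quotient.mk JP (algebraMap F P _) = 0
      rw [Ideal.Quotient.eq_zero_iff_mem]
      have := Ideal.mem_map_of_mem (algebraMap F P) hkJ
      rwa [Ideal.map_map, ← IsScalarTower.algebraMap_eq] at this
    rw [map_sub, map_mul, map_pow, map_pow, pow_succ, mul_assoc, sub_eq_zero] at hkP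
    exact ((hφu u huσ).pow k).mul_left_cancel ((mul_one _).trans hkP).symm
  have hsurj : Function.Surjective φ := by
    have hunit : ∀ s : F, s ∉ σ → IsUnit (φ.rangeRestrict s) := by
      intro s hs
      by_contra hnu
      obtain ⟨M, hM, hsM⟩ := exists_max_ideal_of_mem_nonunits hnu
      haveI := hM
      have hM' : (M.comap φ.rangeRestrict.toRingHom).IsMaximal :=
        Ideal.comap_isMaximal_of_surjective _ (AlgHom.rangeRestrict_surjective φ)
      by_cases hMσ : M.comap φ.rangeRestrict.toRingHom = σ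
      · exact hs (hMσ ▸ (Ideal.mem_comap.2 hsM))
      · have h1 : φ.rangeRestrict u ∈ M := hu _ hM' hMσ
        exact hM.ne_top (Ideal.eq_top_of_isUnit_mem _ h1 (IsUnit.of_mul_eq_one (φ.rangeRestrict w) (Subtype.ext huw)))
    intro z
    obtain ⟨z, rfl⟩ := Ideal.Quotient.mk_surjective z
    obtain ⟨⟨a, s⟩, has⟩ := IsLocalization.surj σ.primeCompl z
    obtain ⟨v, hv⟩ := hunit s s.2
    obtain ⟨v', hv'⟩ := AlgHom.rangeRestrict_surjective φ (↑v⁻¹ : φ.range)
    refine ⟨a * v', ?_⟩
    have h1 : φ s * φ v' = 1 := congrArg Subtype.val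
      ((congrArg₂ (· * ·) hv.symm hv').trans v.mul_inv)
    have h2 : Ideal.Quotient.mk JP z * φ s = φ a := by
      show Ideal.Quotient.mk JP z * Ideal.Quotient.mk JP (algebraMap F P s) = Ideal.Quotient.mk JP (algebraMap F P a)
      rw [← map_mul, has]
    rw [map_mul, ← h2, mul_assoc, h1, mul_one]
  haveI : Module.Finite T (P ⧸ JP) := Module.Finite.of_surjective φ.toLinearMap hsurj
  haveI : IsScalarTower T (T ⧸ J) (P ⧸ JP) := IsScalarTower.of_algebraMap_eq fun _ => rfl
  haveI : Module.Finite (T ⧸ J) (P ⧸ JP) := Module.Finite.of_restrictScalars_finite T _ _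
  haveI : Module.Flat (T ⧸ J) (P ⧸ JP) :=
    Module.Flat.of_linearEquiv (Algebra.TensorProduct.quotIdealMapEquivQuotTensor P J).toLinearEquiv
  haveI : IsLocalRing (T ⧸ J) :=
    haveI : Nontrivial (T ⧸ J) := Ideal.Quotient.nontrivial_iff.2 (ne_top_of_le_ne_top (maximalIdeal.isMaximal T).ne_top hJm)
    IsLocalRing.of_surjective' (Ideal.Quotient.mk J) Ideal.Quotient.mk_surjective
  haveI : Module.Free (T ⧸ J) (P ⧸ JP) := Module.free_of_flat_of_isLocalRing
  let b := Module.Free.chooseBasis (T ⧸ J) (P ⧸ JP)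
  choose bl hbl using fun l => Ideal.Quotient.mk_surjective (I := JP) (b l)
  choose cT hcT using fun (y : P) (l) => Ideal.Quotient.mk_surjective (I := J) (b.repr (Ideal.Quotient.mk JP y) l)
  have hdecomp : ∀ y : P, y - ∑ l, cT y l • bl l ∈ JP := fun y => by
    rw [← Ideal.Quotient.eq_zero_iff_mem, map_sub, map_sum, sub_eq_zero]
    refine (b.sum_repr _).symm.trans (Finset.sum_congr rfl fun l _ => ?_)
    rw [← hcT y l, ← hbl l]
    show Ideal.Quotient.mk J (cT y l) • Ideal.Quotient.mk JP (bl l) = Ideal.Quotient.mk JP (cT y l • bl l)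
    rw [← Ideal.Quotient.algebraMap_eq, IsScalarTower.algebraMap_smul]
    rfl
  -- elements killed by `J` have coordinates killed by `J`
  have hann : ∀ (a : T), (∀ c ∈ J, c * a = 0) → ∀ z ∈ JP, a • z = 0 := fun a ha z hz => by
    induction hz using Submodule.span_induction with
    | mem z hz =>
      obtain ⟨c, hc, rfl⟩ := hz
      rw [Algebra.smul_def, ← map_mul, mul_comm, ha c hc, map_zero]
    | zero => exact smul_zero _
    | add y z _ _ hy hz => rw [smul_add, hy, hz, add_zero]
    | smul c z _ hz => rw [smul_comm, hz, smul_zero]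
  haveI : Module.Finite T J := Module.Finite.iff_fg.2 hJfg
  have hcomp : (LinearMap.toSpanSingleton T P x) ∘ₗ (J.subtype : J →ₗ[T] T) = 0 :=
    LinearMap.ext fun c => hx c (hJm c.2)
  obtain ⟨n, A, Y, hxY, hA⟩ := Module.Flat.exists_factorization_of_comp_eq_zero_of_free hcomp
  have hAJ : ∀ i, ∀ c ∈ J, c * A 1 i = 0 := fun i c hc => by
    have := DFunLike.congr_fun (LinearMap.congr_fun hA ⟨c, hc⟩) i
    rw [LinearMap.comp_apply, show (J.subtype ⟨c, hc⟩ : T) = c • (1 : T) by simp, map_smul] at this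
    simpa using this
  let ω := fun l => ∑ i, A 1 i * cT (Y (Finsupp.single i 1)) l
  have hωJ : ∀ l, ∀ c ∈ J, c * ω l = 0 := fun l c hc => by
    rw [Finset.mul_sum]
    exact Finset.sum_eq_zero fun i _ => by rw [← mul_assoc, hAJ i c hc, zero_mul]
  have hxω : x = ∑ l, ω l • bl l := by
    have h1 : x = ∑ i, A 1 i • Y (Finsupp.single i 1) := by
      have h2 : (LinearMap.toSpanSingleton T P x) 1 = Y (A 1) := LinearMap.congr_fun hxY 1
      rw [LinearMap.toSpanSingleton_apply, one_smul] at h2
      rw [h2]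
      conv_lhs => rw [← Finsupp.univ_sum_single (A 1)]
      rw [map_sum]
      refine Finset.sum_congr rfl fun i _ => ?_
      rw [← map_smul, Finsupp.smul_single, smul_eq_mul, mul_one]
    rw [h1]
    have h3 : ∀ i, A 1 i • Y (Finsupp.single i 1) = ∑ l, (A 1 i * cT (Y (Finsupp.single i 1)) l) • bl l := fun i => by
      have := hann _ (hAJ i) _ (hdecomp (Y (Finsupp.single i 1)))
      rw [smul_sub, sub_eq_zero] at this
      rw [this, Finset.smul_sum]
      simp only [mul_smul]
    simp only [h3]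
    rw [Finset.sum_comm]
    simp only [ω, Finset.sum_smul]
  suffices ∀ l, ω l = 0 by rw [hxω]; exact Finset.sum_eq_zero fun l _ => by rw [this l, zero_smul]
  refine fun l' => h0 _ fun q hq => ?_
  have hrel : ∑ l, (q * ω l) • bl l = 0 := by
    simp only [mul_smul, ← Finset.smul_sum, ← hxω]
    exact hx q hq
  obtain ⟨d, a, y, hy, ha⟩ := Module.Flat.isTrivialRelation_of_sum_smul_eq_zero hrel
  have hδ : (if l' = l' then (1 : T) else 0) = 1 := if_pos rfl
  have hmk : ∀ l, (∑ j, a l j * cT (y j) l') - (if l = l' then (1 : T) else 0) ∈ J := fun l => by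
    rw [← Ideal.Quotient.eq]
    have h1 := congrArg (fun z => b.repr (Ideal.Quotient.mk JP z) l') (hy l)
    simp only [hbl l, Module.Basis.repr_self, Finsupp.single_apply, map_sum] at h1
    rw [map_sum, show Ideal.Quotient.mk J (if l = l' then (1 : T) else 0) = if l = l' then (1 : T ⧸ J) else 0 by split <;> simp, h1,
      Finsupp.finset_sum_apply]
    refine Finset.sum_congr rfl fun j _ => ?_
    rw [map_mul, hcT, ← Ideal.Quotient.mkₐ_eq_mk T, ← Ideal.Quotient.mkₐ_eq_mk T JP, map_smul,
      ← IsScalarTower.algebraMap_smul (T ⧸ J) (a l j), map_smul, Finsupp.smul_apply]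
    rfl
  have hsum : q * ω l' = ∑ l, q * ω l * ∑ j, a l j * cT (y j) l' := by
    have h1 : ∀ l, q * ω l * ∑ j, a l j * cT (y j) l' = q * ω l * (if l = l' then (1 : T) else 0) := fun l => by
      refine sub_eq_zero.1 ?_
      rw [← mul_sub, mul_assoc, mul_comm (ω l), hωJ l _ (hmk l), mul_zero]
    simp [h1]
  rw [hsum]
  simp only [Finset.mul_sum, ← mul_assoc]
  rw [Finset.sum_comm]
  exact Finset.sum_eq_zero fun j _ => by rw [← Finset.sum_mul, ha j, zero_mul]

end Groth.Agent.Dev4
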