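import Groth.Agent.Lib.Dev4.GeomIntProjective
import Groth.Agent.Lib.Dev4.OpenPoint
import Groth.Agent.Lib.Dev4.BaseChange
import Groth.Agent.Lib.Dev4.FlatAtTransfer
import Groth.Agent.Lib.RG4.Step

/-!
# Fibre bases over algebras with geometrically integral fibres
-/

set_option autoImplicit false

universe u

open TensorProduct IsLocalRing AlgebraicGeometry

set_option backward.isDefEq.respectTransparency.types false

attribute [local instance] Algebra.TensorProduct.rightAlgebra

namespace Groth.Agent.Dev4

variable {R S : Type u} [CommRing R] [IsLocalRing R] [CommRing S] [Algebra R S] [Algebra.FinitePresentation R S]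
  [Module.Flat R S] [hξ : ((maximalIdeal R).map (algebraMap R S)).IsPrime]

/-- Universal injectivity near the generic point of the closed fibre, geometrically integral fibres. -/
theorem univInj_localized_geomInt (hS : FlatCA.GeomIntegralFibres R S)
    {N : Type u} [AddCommGroup N] [Module S N] [Module R N] [IsScalarTower R S N] [Module.Finite S N]
    {r : ℕ} {α : (Fin r → S) →ₗ[S] N}
    (hflat : FlatCA.FlatAt R ((maximalIdeal R).map (algebraMap R S)) N)
    (hα : Function.Bijective (α.baseChange ((maximalIdeal R).map (algebraMap R S)).ResidueField)) :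
    FlatCA.UnivInj R (((LocalizedModule.mkLinearMap ((maximalIdeal R).map (algebraMap R S)).primeCompl N).comp α).restrictScalars R) := by
  classical
  set m := maximalIdeal R
  set ξ := m.map (algebraMap R S)
  obtain ⟨g, hg0, hgsm⟩ := exists_smooth_piece hS m
  haveI := isDomain_baseChange hS m.ResidueField
  have hgξ : g ∉ ξ := fun h => hg0 (by
    have hle : ξ ≤ RingHom.ker (Algebra.TensorProduct.includeRight : S →ₐ[R] m.ResidueField ⊗[R] S) :=
      Ideal.map_le_iff_le_comap.2 fun x hx => by
        show (Algebra.TensorProduct.includeRight : S →ₐ[R] m.ResidueField ⊗[R] S) (algebraMap R S x) = 0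
        rw [AlgHom.commutes, IsScalarTower.algebraMap_apply R m.ResidueField,
          Ideal.algebraMap_residueField_eq_zero.2 hx, map_zero]
    exact hle h)
  have hξo : ξ.comap (algebraMap R S) = m :=
    le_antisymm (IsLocalRing.le_maximalIdeal (Ideal.IsPrime.comap _).ne_top) Ideal.le_comap_map
  -- the image of the piece is everything
  have hopen : IsOpen (PrimeSpectrum.comap (algebraMap R S) '' ↑(PrimeSpectrum.basicOpen g)) :=
    PrimeSpectrum.isOpenMap_comap_of_hasGoingDown_of_finitePresentation _ (PrimeSpectrum.basicOpen g).isOpen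
  have hall : ∀ P : Ideal R, P.IsPrime → ∃ Q : Ideal S, Q.IsPrime ∧ Q.comap (algebraMap R S) = P ∧ g ∉ Q := by
    intro P hP
    have hspec : (⟨P, hP⟩ : PrimeSpectrum R) ⤳ ⟨m, inferInstance⟩ :=
      (PrimeSpectrum.le_iff_specializes _ _).1 (IsLocalRing.le_maximalIdeal hP.ne_top)
    obtain ⟨Q, hgQ, hQ⟩ := hspec.mem_open hopen ⟨⟨ξ, hξ⟩, hgξ, PrimeSpectrum.ext hξo⟩
    exact ⟨Q.asIdeal, Q.2, congrArg PrimeSpectrum.asIdeal hQ, hgQ⟩
  let Sg := Localization.Away g
  haveI : Algebra.Smooth R Sg := hgsm
  haveI : Module.Flat S Sg := IsLocalization.flat Sg (Submonoid.powers g)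
  haveI : GeometricallyIntegral (Spec.map (CommRingCat.ofHom (algebraMap R S))) := hS
  have hirr : FlatCA.GeomIrredFibres R S := (inferInstance : GeometricallyIrreducible (Spec.map (CommRingCat.ofHom (algebraMap R S))))
  haveI : IsLocalization.Away (1 : R) R := IsLocalization.away_of_isUnit_of_bijective R isUnit_one Function.bijective_id
  have hSg : FlatCA.GeomIrredFibres R Sg :=
    geomIrredFibres_loc (R' := R) (B' := Sg) (1 : R) g
      (by rw [Algebra.algebraMap_self, RingHom.comp_id, ← IsScalarTower.algebraMap_eq]) hirr
      fun P hP _ => hall P hP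
  -- the generic point of the piece
  have hdis : Disjoint (Submonoid.powers g : Set S) (ξ : Set S) := (Ideal.disjoint_powers_iff_notMem_of_isPrime _).2 hgξ
  have hξg : m.map (algebraMap R Sg) = ξ.map (algebraMap S Sg) := by rw [Ideal.map_map, ← IsScalarTower.algebraMap_eq]
  haveI hprime : (m.map (algebraMap R Sg)).IsPrime := by
    rw [hξg]; exact IsLocalization.isPrime_of_isPrime_disjoint (Submonoid.powers g) _ _ hξ hdis
  haveI hover : (m.map (algebraMap R Sg)).LiesOver ξ := ⟨by
    rw [hξg]; exact (IsLocalization.under_map_of_isPrime_disjoint (Submonoid.powers g) Sg hξ hdis).symm⟩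
  -- the module and the map on the piece
  let N₁ := Sg ⊗[S] N
  have hflat₁ : FlatCA.FlatAt R (m.map (algebraMap R Sg)) N₁ := flatAt_of_flat_map N ξ _ hflat
  let β : (Fin r → Sg) →ₗ[Sg] N₁ := α.baseChange Sg ∘ₗ (TensorProduct.piScalarRight S Sg Sg (Fin r)).symm.toLinearMap
  have hβ : Function.Bijective (β.baseChange (m.map (algebraMap R Sg)).ResidueField) := by
    letI : Algebra ξ.ResidueField (m.map (algebraMap R Sg)).ResidueField :=
      (Ideal.ResidueField.mapₐ ξ (m.map (algebraMap R Sg)) (Algebra.ofId S Sg) hover.over).toRingHom.toAlgebra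
    haveI : IsScalarTower S ξ.ResidueField (m.map (algebraMap R Sg)).ResidueField := IsScalarTower.of_algebraMap_eq fun s => by
      rw [RingHom.algebraMap_toAlgebra]
      exact ((Ideal.ResidueField.mapₐ ξ (m.map (algebraMap R Sg)) (Algebra.ofId S Sg) hover.over).commutes s).symm
    refine bijective_baseChange_of_square ((Algebra.linearMap S Sg).compLeft (Fin r)) (isBaseChange_pi S Sg r)
      (TensorProduct.mk S Sg N 1) (TensorProduct.isBaseChange S N Sg) α β (fun v => ?_)
      (bijective_baseChange_trans α hα)
    show α.baseChange Sg ((TensorProduct.piScalarRight S Sg Sg (Fin r)).symm fun i => algebraMap S Sg (v i)) = _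
    rw [show (fun i => algebraMap S Sg (v i)) = TensorProduct.piScalarRight S Sg Sg (Fin r) ((1 : Sg) ⊗ₜ[S] v) from
      funext fun i => by simp [Algebra.smul_def],
      LinearEquiv.symm_apply_apply, LinearMap.baseChange_tmul]
    rfl
  have hu := RG4.univInj_localized hSg hflat₁ hβ
  -- the piece is universally injective
  haveI : Module.Flat R (Fin r → S) :=
    Module.Flat.of_linearEquiv (DirectSum.linearEquivFunOnFintype R (Fin r) (fun _ => S)).symm
  haveI : Module.Flat R (Fin r → Sg) :=
    Module.Flat.of_linearEquiv (DirectSum.linearEquivFunOnFintype R (Fin r) (fun _ => Sg)).symm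
  let c : (Fin r → S) →ₗ[R] (Fin r → Sg) := (IsScalarTower.toAlgHom R S Sg).toLinearMap.compLeft (Fin r)
  haveI : IsLocalization (⊥ : Submonoid S) S := IsLocalization.self bot_le
  have hc : ∀ (Q : Type u) [AddCommGroup Q] [Module R Q], Function.Injective (c.lTensor Q) := fun Q _ _ => by
    refine FlatFibInj.injective_lTensor_of_fibres (B := S) (L := S) ⊥ c (fun p _ => ?_) Q
    haveI := isDomain_baseChange hS p.ResidueField
    obtain ⟨P, hP, hPp, hgP⟩ := hall p inferInstance
    haveI := hP
    have hgp : (1 : p.ResidueField) ⊗ₜ[R] g ≠ 0 := fun h0 => by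
      let π : p.ResidueField →ₐ[R] P.ResidueField := Ideal.ResidueField.mapₐ p P (Algebra.ofId R S) hPp.symm
      have h3 := congrArg (Algebra.TensorProduct.lift π (IsScalarTower.toAlgHom R S P.ResidueField)
        fun _ _ => Commute.all _ _) h0
      rw [Algebra.TensorProduct.lift_tmul, map_zero, map_one, one_mul] at h3
      exact hgP (Ideal.algebraMap_residueField_eq_zero.1 h3)
    -- coordinatewise
    let F := p.ResidueField ⊗[R] S
    let ψ := TensorProduct.piRight R R p.ResidueField (fun _ : Fin r => S)
    let ψ' := TensorProduct.piRight R R p.ResidueField (fun _ : Fin r => Sg)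
    have hcoord : ∀ z j, ψ' (c.lTensor p.ResidueField z) j =
        (IsScalarTower.toAlgHom R S Sg).toLinearMap.lTensor p.ResidueField (ψ z j) := fun z j => by
      induction z using TensorProduct.induction_on with
      | zero => simp
      | add a b ha hb => simp only [map_add, Pi.add_apply, ha, hb]
      | tmul a x => simp [ψ, ψ', c]
    have hinj1 : Function.Injective ((IsScalarTower.toAlgHom R S Sg).toLinearMap.lTensor p.ResidueField) := by
      obtain ⟨e, he⟩ := exists_away_baseChange (R := R) p.ResidueField g
      rw [injective_iff_map_eq_zero]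
      intro z hz
      have h1 : e ((IsScalarTower.toAlgHom R S Sg).toLinearMap.lTensor p.ResidueField z) =
          algebraMap F (Localization.Away ((1 : p.ResidueField) ⊗ₜ[R] g : F)) z := by
        clear hz
        induction z using TensorProduct.induction_on with
        | zero => simp
        | add a b ha hb => rw [map_add, map_add, ha, hb, map_add]
        | tmul a x => exact he a x
      rw [hz, map_zero] at h1
      exact IsLocalization.injective (Localization.Away ((1 : p.ResidueField) ⊗ₜ[R] g : F))
        (powers_le_nonZeroDivisors_of_noZeroDivisors hgp) (h1.symm.trans (map_zero _).symm)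
    intro a b hab
    apply ψ.injective
    funext j
    apply hinj1
    rw [← hcoord, ← hcoord, hab]
  -- compose
  let ξ' := m.map (algebraMap R Sg)
  let j : LocalizedModule ξ.primeCompl N →ₗ[S] LocalizedModule ξ'.primeCompl N₁ :=
    IsLocalizedModule.lift ξ.primeCompl (LocalizedModule.mkLinearMap ξ.primeCompl N)
      (((LocalizedModule.mkLinearMap ξ'.primeCompl N₁).restrictScalars S).comp (TensorProduct.mk S Sg N 1))
      fun s => by
        refine (Module.End.isUnit_iff _).2 ?_
        have hs' : algebraMap S Sg s ∈ ξ'.primeCompl := fun h => s.2 ((Ideal.mem_of_liesOver ξ' ξ (s : S)).2 h)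
        have h := (Module.End.isUnit_iff _).1
          (IsLocalizedModule.map_units (LocalizedModule.mkLinearMap ξ'.primeCompl N₁) ⟨_, hs'⟩)
        convert h using 1
        funext x
        show (s : S) • x = algebraMap S Sg s • x
        rw [algebraMap_smul]
  intro Q _ _
  refine Function.Injective.of_comp (f := (j.restrictScalars R).lTensor Q) ?_
  rw [← LinearMap.coe_comp, ← LinearMap.lTensor_comp]
  have heq : (j.restrictScalars R).comp (((LocalizedModule.mkLinearMap ξ.primeCompl N).comp α).restrictScalars R) =
      (((LocalizedModule.mkLinearMap ξ'.primeCompl N₁).comp β).restrictScalars R).comp c := by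
    refine LinearMap.ext fun v => ?_
    show j (LocalizedModule.mkLinearMap ξ.primeCompl N (α v)) = LocalizedModule.mkLinearMap ξ'.primeCompl N₁ (β (c v))
    rw [IsLocalizedModule.lift_apply]
    show LocalizedModule.mkLinearMap ξ'.primeCompl N₁ ((1 : Sg) ⊗ₜ[S] α v) = _
    congr 1
    show _ = α.baseChange Sg ((TensorProduct.piScalarRight S Sg Sg (Fin r)).symm fun i => algebraMap S Sg (v i))
    rw [show (fun i => algebraMap S Sg (v i)) = TensorProduct.piScalarRight S Sg Sg (Fin r) ((1 : Sg) ⊗ₜ[S] v) from
      funext fun i => by simp [Algebra.smul_def],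
      LinearEquiv.symm_apply_apply, LinearMap.baseChange_tmul]
  rw [heq, LinearMap.lTensor_comp, LinearMap.coe_comp]
  exact (hu Q).comp (hc Q)

end Groth.Agent.Dev4
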