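import Groth.Agent.Lib.Dev4.SmoothProjective
import Groth.Agent.Lib.FlatFibInj.Main
import Groth.Agent.Lib.Sep.Basic
import Mathlib.RingTheory.MvPolynomial.Localization
import Mathlib.RingTheory.Smooth.Fiber
import Mathlib.RingTheory.TensorProduct.MvPolynomial
import Mathlib.AlgebraicGeometry.Geometrically.Integral

/-!
# Flat algebras with geometrically integral fibres are projective modules
-/

set_option autoImplicit false
set_option maxSynthPendingDepth 3

universe u

open TensorProduct AlgebraicGeometry CategoryTheory

set_option backward.isDefEq.respectTransparency.types false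

namespace Groth.Agent.Dev4

theorem isDomain_baseChange {R S : Type u} [CommRing R] [CommRing S] [Algebra R S] [Algebra.FiniteType R S]
    (hS : FlatCA.GeomIntegralFibres R S) (K : Type u) [Field K] [Algebra R K] : IsDomain (K ⊗[R] S) := by
  haveI hg : GeometricallyIntegral (Spec.map (CommRingCat.ofHom (algebraMap K (K ⊗[R] S)))) :=
    MorphismProperty.of_isPullback (P := @GeometricallyIntegral)
      (isPullback_SpecMap_of_isPushout _ _ _ _ (CommRingCat.isPushout_tensorProduct R K S).flip) hS
  haveI : IsIntegral (Spec (CommRingCat.of (K ⊗[R] S))) :=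
    GeometricallyIntegral.isIntegral_of_subsingleton
      (Spec.map (CommRingCat.ofHom (algebraMap K (K ⊗[R] S))))
  exact (affine_isIntegral_iff (CommRingCat.of (K ⊗[R] S))).1 this

/-- The generic point of a geometrically integral algebra over a field is smooth. -/
theorem exists_smooth_generic {k : Type u} [Field k] (F : Type u) [CommRing F] [Algebra k F] [Algebra.FiniteType k F]
    [IsDomain F] (hred : _root_.IsReduced (AlgebraicClosure k ⊗[k] F)) :
    ∃ f : F, f ≠ 0 ∧ Algebra.Smooth k (Localization.Away f) := by
  haveI : Algebra.FinitePresentation k F := Algebra.FinitePresentation.of_finiteType.1 inferInstance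
  let L := FractionRing F
  letI : Algebra (AlgebraicClosure k ⊗[k] F) (AlgebraicClosure k ⊗[k] L) :=
    (Algebra.TensorProduct.map (AlgHom.id k (AlgebraicClosure k)) (IsScalarTower.toAlgHom k F L)).toAlgebra
  haveI : IsScalarTower (AlgebraicClosure k) (AlgebraicClosure k ⊗[k] F) (AlgebraicClosure k ⊗[k] L) :=
    IsScalarTower.of_algebraMap_eq fun x => by simp [RingHom.algebraMap_toAlgebra]
  haveI := IsLocalization.tensorProduct_tensorProduct_right k (AlgebraicClosure k) (nonZeroDivisors F) L
    (RingHom.ext fun x => by simp [RingHom.algebraMap_toAlgebra])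
  haveI : _root_.IsReduced (AlgebraicClosure k ⊗[k] L) :=
    isReduced_localizationPreserves ((nonZeroDivisors F).map
      (Algebra.TensorProduct.includeRight (R := k) (A := AlgebraicClosure k))) _ hred
  haveI : Algebra.FormallySmooth k L :=
    (Sep.formallySmooth_iff_isGeometricallyReduced k L).2 ((Algebra.isGeometricallyReduced_field_iff k L).2 inferInstance)
  haveI hbot : (⊥ : Ideal F).IsPrime := Ideal.isPrime_bot
  haveI : IsLocalization (⊥ : Ideal F).primeCompl L := by
    convert (inferInstance : IsLocalization (nonZeroDivisors F) L) using 1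
    ext x
    simp [Ideal.primeCompl, mem_nonZeroDivisors_iff_ne_zero]
  haveI : Algebra.IsSmoothAt k (⊥ : Ideal F) :=
    Algebra.FormallySmooth.of_equiv ((IsLocalization.algEquiv (⊥ : Ideal F).primeCompl L
      (Localization.AtPrime (⊥ : Ideal F))).restrictScalars k)
  obtain ⟨f, hf, hsm⟩ := Algebra.IsSmoothAt.exists_notMem_smooth k (⊥ : Ideal F)
  exact ⟨f, fun h => hf (h ▸ zero_mem _), hsm⟩

/-- Base change of a basic open piece. -/
theorem exists_away_baseChange {R S : Type u} [CommRing R] [CommRing S] [Algebra R S] (K : Type u) [CommRing K]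
    [Algebra R K] (g : S) :
    ∃ e : K ⊗[R] Localization.Away g ≃ₐ[K] Localization.Away ((1 : K) ⊗ₜ[R] g),
      ∀ (x : K) (a : S), e (x ⊗ₜ algebraMap S (Localization.Away g) a) =
        algebraMap (K ⊗[R] S) (Localization.Away ((1 : K) ⊗ₜ[R] g)) (x ⊗ₜ a) := by
  haveI : IsLocalization ((Submonoid.powers g).map (Algebra.TensorProduct.includeRight (R := R) (A := K)))
      (Localization.Away ((1 : K) ⊗ₜ[R] g)) := by
    rw [Submonoid.map_powers]
    exact (inferInstance : IsLocalization (Submonoid.powers ((1 : K) ⊗ₜ[R] g)) (Localization.Away ((1 : K) ⊗ₜ[R] g)))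
  exact ⟨IsLocalization.tensorProductEquivOfMapIncludeRight R K (Submonoid.powers g) (Localization.Away g) _,
    fun x a => IsLocalization.tensorProductEquivOfMapIncludeRight_tmul (R := R) (S := K) S (Submonoid.powers g) _ _ x a⟩

/-- A smooth piece meeting a given fibre. -/
theorem exists_smooth_piece {R S : Type u} [CommRing R] [CommRing S] [Algebra R S] [Algebra.FinitePresentation R S]
    [Module.Flat R S] (hS : FlatCA.GeomIntegralFibres R S) (p : Ideal R) [p.IsPrime] :
    ∃ g : S, (1 : p.ResidueField) ⊗ₜ[R] g ≠ 0 ∧ Algebra.Smooth R (Localization.Away g) := by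
  set k := p.ResidueField
  let F := k ⊗[R] S
  haveI : IsDomain F := isDomain_baseChange hS k
  haveI := isDomain_baseChange hS (AlgebraicClosure k)
  have hred : _root_.IsReduced (AlgebraicClosure k ⊗[k] F) :=
    isReduced_of_injective
      (Algebra.TensorProduct.cancelBaseChange R k (AlgebraicClosure k) (AlgebraicClosure k) S)
      (AlgEquiv.injective _)
  obtain ⟨f, hf, hfsm⟩ := exists_smooth_generic F hred
  obtain ⟨r, hr, b, hb⟩ := Ideal.Fiber.exists_smul_eq_one_tmul p f
  have hr0 : algebraMap R k r ≠ 0 := fun h => hr (Ideal.algebraMap_residueField_eq_zero.1 h)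
  have hb0 : (1 : k) ⊗ₜ[R] b ≠ 0 := by
    rw [← hb, Algebra.smul_def, IsScalarTower.algebraMap_apply R k F]
    exact mul_ne_zero (fun h => hr0 ((map_eq_zero _).1 h)) hf
  haveI : Algebra.FinitePresentation k F := inferInstanceAs (Algebra.FinitePresentation k (k ⊗[R] S))
  haveI : Algebra.Smooth k (Localization.Away ((1 : k) ⊗ₜ[R] b)) := by
    refine Algebra.basicOpen_subset_smoothLocus_iff_smooth.1
      (le_trans ?_ (Algebra.basicOpen_subset_smoothLocus_iff_smooth.2 hfsm))
    intro x hx hxf
    refine hx ?_
    rw [← hb, Algebra.smul_def]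
    exact Ideal.mul_mem_left _ _ hxf
  haveI : Algebra.FinitePresentation R (Localization.Away b) :=
    haveI := IsLocalization.Away.finitePresentation (S := Localization.Away b) b
    Algebra.FinitePresentation.trans R S _
  haveI : Module.Flat R (Localization.Away b) :=
    haveI : Module.Flat S (Localization.Away b) := IsLocalization.flat _ (Submonoid.powers b)
    Module.Flat.trans R S _
  haveI : Algebra.FormallySmooth p.ResidueField (p.Fiber (Localization.Away b)) :=
    Algebra.FormallySmooth.of_equiv (exists_away_baseChange k b).choose.symm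
  let q : Ideal S := RingHom.ker (Algebra.TensorProduct.includeRight : S →ₐ[R] F)
  haveI hq : q.IsPrime := RingHom.ker_isPrime _
  have hqp : q.comap (algebraMap R S) = p := by
    ext x
    rw [Ideal.mem_comap, RingHom.mem_ker, AlgHom.commutes, IsScalarTower.algebraMap_apply R k F, map_eq_zero]
    exact Ideal.algebraMap_residueField_eq_zero
  have hbq : b ∉ q := fun h => hb0 h
  obtain ⟨⟨q', hq'⟩, hq'q⟩ : (⟨q, hq⟩ : PrimeSpectrum S) ∈
      Set.range (PrimeSpectrum.comap (algebraMap S (Localization.Away b))) := by
    rw [PrimeSpectrum.localization_away_comap_range (Localization.Away b) b]; exact hbq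
  have hq'S : q'.comap (algebraMap S (Localization.Away b)) = q := congrArg PrimeSpectrum.asIdeal hq'q
  haveI := hq'
  haveI : q'.LiesOver p := ⟨by
    rw [Ideal.under, IsScalarTower.algebraMap_eq R S (Localization.Away b), ← Ideal.comap_comap, hq'S, hqp]⟩
  haveI : Algebra.IsSmoothAt R q' := Algebra.IsSmoothAt.of_formallySmooth_fiber p q'
  have hmem : (⟨q, hq⟩ : PrimeSpectrum S) ∈ Algebra.smoothLocus R S := by
    rw [← hq'q]
    show (⟨q', hq'⟩ : PrimeSpectrum (Localization.Away b)) ∈
      PrimeSpectrum.comap (algebraMap S (Localization.Away b)) ⁻¹' Algebra.smoothLocus R S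
    rw [Algebra.smoothLocus_comap_of_isLocalization (R := R) b]
    assumption
  haveI : Algebra.IsSmoothAt R q := hmem
  obtain ⟨g, hg, hgs⟩ := Algebra.IsSmoothAt.exists_notMem_smooth R q
  exact ⟨g, fun h => hg h, hgs⟩

/-- A universally injective map to a smooth algebra with geometrically irreducible fibres. -/
theorem exists_univInj_smooth {R S : Type u} [CommRing R] [CommRing S] [Algebra R S] [Algebra.FinitePresentation R S]
    [Module.Flat R S] (hS : FlatCA.GeomIntegralFibres R S) :
    ∃ (T : Type u) (_ : CommRing T) (_ : Algebra R T) (u : S →ₗ[R] T),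
      Algebra.Smooth R T ∧ FlatCA.GeomIrredFibres R T ∧ FlatCA.UnivInj R u := by
  classical
  choose g hg0 hgs using fun p : PrimeSpectrum R => exists_smooth_piece hS p.asIdeal
  have hopen : ∀ p : PrimeSpectrum R,
      IsOpen (PrimeSpectrum.comap (algebraMap R S) '' ↑(PrimeSpectrum.basicOpen (g p))) := fun p =>
    PrimeSpectrum.isOpenMap_comap_of_hasGoingDown_of_finitePresentation _ (PrimeSpectrum.basicOpen (g p)).isOpen
  have hgen : ∀ (p : PrimeSpectrum R) (x : S), (1 : p.asIdeal.ResidueField) ⊗ₜ[R] x ≠ 0 →
      p ∈ PrimeSpectrum.comap (algebraMap R S) '' ↑(PrimeSpectrum.basicOpen x) := fun p x hx => by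
    haveI := isDomain_baseChange hS p.asIdeal.ResidueField
    refine ⟨⟨RingHom.ker (Algebra.TensorProduct.includeRight : S →ₐ[R] p.asIdeal.ResidueField ⊗[R] S),
      RingHom.ker_isPrime _⟩, hx, ?_⟩
    apply PrimeSpectrum.ext
    ext r
    rw [PrimeSpectrum.comap_asIdeal, Ideal.mem_comap, RingHom.mem_ker, AlgHom.commutes,
      IsScalarTower.algebraMap_apply R p.asIdeal.ResidueField, map_eq_zero]
    exact Ideal.algebraMap_residueField_eq_zero
  obtain ⟨t, ht⟩ := isCompact_univ.elim_finite_subcover _ hopen fun p _ =>
    Set.mem_iUnion.2 ⟨p, hgen p (g p) (hg0 p)⟩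
  let P := MvPolynomial t S
  let G : P := ∑ i : t, MvPolynomial.C (g i.1) * MvPolynomial.X i
  let T := Localization.Away G
  have hcoeff : ∀ i : t, G.coeff (Finsupp.single i 1) = g i.1 := fun i => by
    show MvPolynomial.coeff _ (∑ j : t, MvPolynomial.C (g j.1) * MvPolynomial.X j) = _
    rw [MvPolynomial.coeff_sum, Finset.sum_eq_single i]
    · rw [MvPolynomial.coeff_C_mul, MvPolynomial.coeff_X', if_pos rfl, mul_one]
    · intro j _ hj
      rw [MvPolynomial.coeff_C_mul, MvPolynomial.coeff_X',
        if_neg (fun h => hj (Finsupp.single_left_injective one_ne_zero h)), mul_zero]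
    · exact fun h => absurd (Finset.mem_univ i) h
  haveI : Algebra.FinitePresentation R P := Algebra.FinitePresentation.trans R S P
  haveI : Algebra.Smooth R T := by
    refine Algebra.basicOpen_subset_smoothLocus_iff_smooth.1 fun Q hQ => ?_
    obtain ⟨i, hi⟩ : ∃ i : t, MvPolynomial.C (g i.1) ∉ Q.asIdeal := by
      by_contra! hc
      exact hQ (sum_mem fun i _ => Ideal.mul_mem_right _ _ (hc i))
    haveI := hgs i.1
    letI : Algebra P (MvPolynomial t (Localization.Away (g i.1))) :=
      (MvPolynomial.map (algebraMap S (Localization.Away (g i.1)))).toAlgebra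
    haveI : IsScalarTower R P (MvPolynomial t (Localization.Away (g i.1))) :=
      IsScalarTower.of_algebraMap_eq fun r => by
        show MvPolynomial.C (algebraMap R (Localization.Away (g i.1)) r) =
          MvPolynomial.map (algebraMap S (Localization.Away (g i.1))) (MvPolynomial.C (algebraMap R S r))
        rw [MvPolynomial.map_C, ← IsScalarTower.algebraMap_apply]
    haveI : IsLocalization.Away (MvPolynomial.C (g i.1) : P) (MvPolynomial t (Localization.Away (g i.1))) := by
      have := MvPolynomial.isLocalization (σ := t) (M := Submonoid.powers (g i.1)) (S := Localization.Away (g i.1))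
      rw [Submonoid.map_powers] at this
      exact this
    haveI : Algebra.Smooth (Localization.Away (g i.1)) (MvPolynomial t (Localization.Away (g i.1))) :=
      ⟨inferInstance, inferInstance⟩
    haveI : Algebra.Smooth R (MvPolynomial t (Localization.Away (g i.1))) :=
      Algebra.Smooth.comp R (Localization.Away (g i.1)) _
    haveI : Algebra.Smooth R (Localization.Away (MvPolynomial.C (g i.1) : P)) :=
      Algebra.Smooth.of_equiv ((IsLocalization.algEquiv (Submonoid.powers (MvPolynomial.C (g i.1) : P))
        (MvPolynomial t (Localization.Away (g i.1))) _).restrictScalars R)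
    exact (Algebra.basicOpen_subset_smoothLocus_iff_smooth (f := (MvPolynomial.C (g i.1) : P))).2 ‹_› hi
  let u : S →ₗ[R] T := (IsScalarTower.toAlgHom R S T).toLinearMap
  have key : ∀ (K : Type u) [Field K] [Algebra R K],
      Function.Injective (u.lTensor K) ∧ IsDomain (K ⊗[R] T) := by
    intro K _ _
    haveI := isDomain_baseChange hS K
    let ρ := MvPolynomial.rTensorAlgEquiv (σ := t) (R := R) (S := K) (N := S)
    haveI : IsDomain (K ⊗[R] P) := ρ.toMulEquiv.isDomain _
    have hρ : ∀ (x : K) (q : P) (d : t →₀ ℕ), (ρ (x ⊗ₜ q)).coeff d = x ⊗ₜ q.coeff d :=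
      MvPolynomial.coeff_rTensorAlgEquiv_tmul
    have hG : (1 : K) ⊗ₜ[R] G ≠ 0 := by
      let p : PrimeSpectrum R := ⟨RingHom.ker (algebraMap R K), RingHom.ker_isPrime _⟩
      haveI : p.asIdeal.IsPrime := p.isPrime
      obtain ⟨q, hq, Q, hQ, hQp⟩ := Set.mem_iUnion₂.1 (ht (Set.mem_univ p))
      intro hG
      have h1 : (1 : K) ⊗ₜ[R] g q = 0 := by
        rw [← hcoeff ⟨q, hq⟩, ← hρ 1 G, hG, map_zero, MvPolynomial.coeff_zero]
      let ι : p.asIdeal.ResidueField →ₐ[R] K := Ideal.ResidueField.liftₐ p.asIdeal (Algebra.ofId R K)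
        (fun r hr => hr) (fun r hr => isUnit_iff_ne_zero.2 fun h => hr h)
      have h2 : (1 : p.asIdeal.ResidueField) ⊗ₜ[R] g q = 0 :=
        Module.Flat.rTensor_preserves_injective_linearMap (M := S) ι.toLinearMap ι.toRingHom.injective
          (by rw [LinearMap.rTensor_tmul, map_zero, AlgHom.toLinearMap_apply, map_one]; exact h1)
      have hQp' : Q.asIdeal.comap (algebraMap R S) = p.asIdeal := congrArg PrimeSpectrum.asIdeal hQp
      haveI : Q.asIdeal.LiesOver p.asIdeal := ⟨hQp'.symm⟩
      let π : p.asIdeal.ResidueField →ₐ[R] Q.asIdeal.ResidueField :=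
        Ideal.ResidueField.mapₐ p.asIdeal Q.asIdeal (Algebra.ofId R S) hQp'.symm
      have h3 := congrArg (Algebra.TensorProduct.lift π (IsScalarTower.toAlgHom R S Q.asIdeal.ResidueField)
        fun _ _ => Commute.all _ _) h2
      rw [Algebra.TensorProduct.lift_tmul, map_zero, map_one, one_mul] at h3
      exact hQ (Ideal.algebraMap_residueField_eq_zero.1 h3)
    haveI hTd : IsDomain (Localization.Away ((1 : K) ⊗ₜ[R] G)) :=
      IsLocalization.isDomain_of_le_nonZeroDivisors _ (powers_le_nonZeroDivisors_of_noZeroDivisors hG)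
    obtain ⟨e, he⟩ := exists_away_baseChange (R := R) K G
    refine ⟨fun x y hxy => ?_, e.toMulEquiv.isDomain _⟩
    have hu : ∀ z : K ⊗[R] S, e (u.lTensor K z) = algebraMap (K ⊗[R] P) (Localization.Away ((1 : K) ⊗ₜ[R] G))
        ((IsScalarTower.toAlgHom R S P).toLinearMap.lTensor K z) := fun z => by
      induction z using TensorProduct.induction_on with
      | zero => simp
      | add a b ha hb => simp only [map_add, ha, hb]
      | tmul a s =>
        rw [LinearMap.lTensor_tmul, LinearMap.lTensor_tmul, AlgHom.toLinearMap_apply, ← he]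
        exact congrArg (fun w => e (a ⊗ₜ[R] w)) (IsScalarTower.algebraMap_apply S P T s)
    have h1 := (hu x).symm.trans ((congrArg e hxy).trans (hu y))
    have h2 := IsLocalization.injective (Localization.Away ((1 : K) ⊗ₜ[R] G))
      (powers_le_nonZeroDivisors_of_noZeroDivisors hG) h1
    have h3 : Function.LeftInverse ((MvPolynomial.aeval (R := S) (fun _ : t => (0 : S))).restrictScalars R).toLinearMap
        (IsScalarTower.toAlgHom R S P).toLinearMap := fun s => by
      show MvPolynomial.aeval (R := S) (fun _ : t => (0 : S)) (MvPolynomial.C s) = s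
      exact MvPolynomial.aeval_C _ _
    have h4 : ((MvPolynomial.aeval (R := S) (fun _ : t => (0 : S))).restrictScalars R).toLinearMap ∘ₗ
        (IsScalarTower.toAlgHom R S P).toLinearMap = LinearMap.id := LinearMap.ext h3
    have h5 := congrArg (((MvPolynomial.aeval (R := S) (fun _ : t => (0 : S))).restrictScalars R).toLinearMap.lTensor K) h2
    rwa [← LinearMap.lTensor_comp_apply, ← LinearMap.lTensor_comp_apply, h4, LinearMap.lTensor_id] at h5
  refine ⟨T, inferInstance, inferInstance, u, inferInstance, ⟨fun K _ k Z fst snd hZ => ?_⟩, fun Q _ _ => ?_⟩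
  · letI : Algebra R K := (Spec.preimage k).hom.toAlgebra
    haveI := (key K).2
    rw [show k = Spec.map (CommRingCat.ofHom (algebraMap R K)) from (Spec.map_preimage k).symm] at hZ
    have h2 := isPullback_SpecMap_of_isPushout _ _ _ _ (CommRingCat.isPushout_tensorProduct R K T)
    let i : Z ≅ Spec (CommRingCat.of (K ⊗[R] T)) := hZ.isoIsPullback _ _ h2.flip
    haveI : Nonempty Z := ⟨i.inv (Classical.arbitrary (PrimeSpectrum (K ⊗[R] T)))⟩
    haveI : PreirreducibleSpace Z := i.hom.homeomorph.isOpenEmbedding.preirreducibleSpace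
    exact ⟨inferInstance⟩
  · haveI : IsLocalization (⊥ : Submonoid S) S := IsLocalization.self bot_le
    haveI : Module.Flat R T := inferInstance
    exact FlatFibInj.injective_lTensor_of_fibres (⊥ : Submonoid S) (L := S) u (fun p _ => (key p.ResidueField).1) Q

/-- Flat finitely presented algebras with geometrically integral fibres are projective. -/
theorem projective_of_geomIntegral {R S : Type u} [CommRing R] [CommRing S] [Algebra R S]
    [Algebra.FinitePresentation R S] [Module.Flat R S] (hS : FlatCA.GeomIntegralFibres R S) :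
    Module.Projective R S := by
  obtain ⟨T, _, _, u, hT, hTi, hu⟩ := exists_univInj_smooth hS
  haveI : Module.Projective R T := projective_of_smooth hTi
  have hMLT : CAlg.IsMittagLeffler R T := ((S0584.result R T).1 inferInstance).2.1
  have hcg : CAlg.IsCountablyGenerated R S := by
    obtain ⟨n, f, hf⟩ := Algebra.FiniteType.iff_quotient_mvPolynomial''.1 (inferInstance : Algebra.FiniteType R S)
    refine ⟨f '' Set.range (MvPolynomial.basisMonomials (Fin n) R), (Set.countable_range _).image _, ?_⟩
    change Submodule.span R (f.toLinearMap '' _) = ⊤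
    rw [Submodule.span_image, (MvPolynomial.basisMonomials (Fin n) R).span_eq, Submodule.map_top]
    exact LinearMap.range_eq_top.2 hf
  exact CAlgLow.projective_of_flat_mittagLeffler_countablyGenerated
    (CAlgLow.isMittagLeffler_of_ui (RG4.universallyInjective_of_univInj hu) hMLT) hcg

end Groth.Agent.Dev4
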