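import Groth.Agent.Lib.FlatH4.NoethApprox
import Groth.Agent.S1295
import Mathlib.LinearAlgebra.TensorProduct.Finiteness
import Mathlib.RingTheory.Polynomial.Basic

/-!
# The underlying module of a finitely presented module comes from a noetherian ring
-/

set_option autoImplicit false
set_option maxSynthPendingDepth 3

universe u

open TensorProduct

set_option backward.isDefEq.respectTransparency.types false

attribute [local instance] Algebra.TensorProduct.rightAlgebra

namespace Groth.Agent.Dev4

/-- A finitely presented module over a finitely presented algebra is, over the base, the base change of a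
module over a noetherian ring. -/
theorem exists_noetherian_ground {A C M : Type u} [CommRing A] [CommRing C] [Algebra A C] [Algebra.FinitePresentation A C]
    [AddCommGroup M] [Module C M] [Module A M] [IsScalarTower A C M] [Module.FinitePresentation C M] :
    ∃ (A₀ M₀ : Type u) (_ : CommRing A₀) (_ : Algebra A₀ A) (_ : AddCommGroup M₀) (_ : Module A₀ M₀),
      IsNoetherianRing A₀ ∧ Nonempty (A ⊗[A₀] M₀ ≃ₗ[A] M) := by
  classical
  obtain ⟨R, B₀, _, _, _, _, hR, hB₀, ⟨e⟩⟩ := FlatH4.exists_approx A C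
  haveI := hR
  haveI : IsNoetherianRing R := Algebra.FiniteType.isNoetherianRing ℤ R
  obtain ⟨m, K, eM, hK⟩ := Module.FinitePresentation.exists_fin C M
  obtain ⟨b, w, hw⟩ := Submodule.fg_iff_exists_fin_generating_family.1 hK
  choose S hS using fun c : Fin b × Fin m => TensorProduct.exists_finset (e.symm (w c.1 c.2))
  let ι := (c : Fin b × Fin m) × ↥(S c)
  let A₁ := MvPolynomial ι R
  let v : ι → A := fun i => i.2.1.1
  letI : Algebra A₁ A := (MvPolynomial.aeval v).toRingHom.toAlgebra
  haveI : IsScalarTower R A₁ A := IsScalarTower.of_algebraMap_eq fun r => ((MvPolynomial.aeval v).commutes r).symm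
  let B₁ := A₁ ⊗[R] B₀
  letI : Algebra A₁ C := Algebra.compHom C (algebraMap A₁ A)
  haveI : IsScalarTower A₁ A C := IsScalarTower.of_algebraMap_eq fun _ => rfl
  let ρ : B₁ →+* C := e.toRingEquiv.toRingHom.comp
    (Algebra.TensorProduct.map (IsScalarTower.toAlgHom R A₁ A) (AlgHom.id R B₀)).toRingHom
  letI : Algebra B₁ C := ρ.toAlgebra
  haveI : IsScalarTower A₁ B₁ C := IsScalarTower.of_algebraMap_eq fun a => by
    show algebraMap A C (algebraMap A₁ A a) = e (algebraMap A₁ A a ⊗ₜ[R] (AlgHom.id R B₀ 1))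
    rw [AlgHom.id_apply, ← e.commutes]
    rfl
  letI : Algebra R C := Algebra.compHom C (algebraMap R A)
  haveI : IsScalarTower R A C := IsScalarTower.of_algebraMap_eq fun _ => rfl
  letI : Algebra B₀ C := (e.toRingEquiv.toRingHom.comp
    (Algebra.TensorProduct.includeRight : B₀ →ₐ[R] A ⊗[R] B₀).toRingHom).toAlgebra
  haveI : IsScalarTower R B₀ C := IsScalarTower.of_algebraMap_eq fun r => by
    show algebraMap A C (algebraMap R A r) = e ((1 : A) ⊗ₜ[R] algebraMap R B₀ r)
    rw [← e.commutes, Algebra.TensorProduct.tmul_one_eq_one_tmul r |>.symm]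
    rfl
  haveI : IsScalarTower B₀ B₁ C := IsScalarTower.of_algebraMap_eq fun c => by
    show e ((1 : A) ⊗ₜ[R] c) = e (Algebra.TensorProduct.map (IsScalarTower.toAlgHom R A₁ A) (AlgHom.id R B₀) ((1 : A₁) ⊗ₜ[R] c))
    simp
  haveI : IsScalarTower R A₁ C := IsScalarTower.of_algebraMap_eq fun r => by
    show algebraMap A C (algebraMap R A r) = algebraMap A C (algebraMap A₁ A (algebraMap R A₁ r))
    rw [← IsScalarTower.algebraMap_apply R A₁ A]
  haveI : IsScalarTower R B₁ C := IsScalarTower.of_algebraMap_eq fun r => by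
    rw [IsScalarTower.algebraMap_apply R A₁ B₁, ← IsScalarTower.algebraMap_apply A₁ B₁ C, ← IsScalarTower.algebraMap_apply R A₁ C]
  haveI : Algebra.IsPushout R A B₀ C := Algebra.IsPushout.of_equiv e (RingHom.ext fun _ => rfl)
  haveI : Algebra.IsPushout A₁ A B₁ C :=
    (Algebra.IsPushout.comp_iff (R := R) (S := A₁) (R' := B₀) (S' := B₁) (T := A) (T' := C)).1 inferInstance
  letI : Module B₁ M := Module.compHom M (algebraMap B₁ C)
  haveI : IsScalarTower B₁ C M := IsScalarTower.of_algebraMap_smul fun _ _ => rfl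
  let w₁ : Fin b → Fin m → B₁ := fun c a =>
    ∑ i : ↥(S (c, a)), (MvPolynomial.X (⟨(c, a), i⟩ : ι) : A₁) ⊗ₜ[R] i.1.2
  have hw₁ : ∀ c a, algebraMap B₁ C (w₁ c a) = w c a := fun c a => by
    rw [show w c a = e (e.symm (w c a)) from (e.apply_symm_apply _).symm, hS (c, a)]
    show e (Algebra.TensorProduct.map (IsScalarTower.toAlgHom R A₁ A) (AlgHom.id R B₀) (w₁ c a)) = _
    congr 1
    rw [map_sum, ← Finset.sum_coe_sort (S (c, a))]
    refine Finset.sum_congr rfl fun i _ => ?_
    rw [Algebra.TensorProduct.map_tmul, AlgHom.id_apply]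
    exact congrArg (· ⊗ₜ[R] i.1.2) (MvPolynomial.aeval_X v (⟨(c, a), i⟩ : ι))
  let π : (Fin m → C) →ₗ[C] M := eM.symm.toLinearMap.comp K.mkQ
  have hπk : LinearMap.ker π = Submodule.span C (Set.range fun c a => algebraMap B₁ C (w₁ c a)) := by
    simp only [hw₁]
    rw [show LinearMap.ker π = K by ext x; simp [π, Submodule.Quotient.mk_eq_zero]]
    exact hw.symm
  obtain ⟨f₁, hf₁⟩ := S1295.isBaseChange_quotient (B₁ := B₁) w₁ π (eM.symm.surjective.comp K.mkQ_surjective) hπk
  exact ⟨A₁, (Fin m → B₁) ⧸ Submodule.span B₁ (Set.range w₁), inferInstance, inferInstance, inferInstance, inferInstance,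
    inferInstance, ⟨(Algebra.IsPushout.cancelBaseChange A₁ A B₁ C _).symm.trans (hf₁.equiv.restrictScalars A)⟩⟩

end Groth.Agent.Dev4
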