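import Groth.Agent.Lib.Dev4.Henselian
import Groth.Agent.Lib.Dev4.BaseChange
import Groth.Agent.Lib.Dev4.FlatOverIdeal
import Groth.Agent.Lib.Hens.Henselization
import Groth.Agent.Lib.CAlgLow.UI
import Mathlib.RingTheory.Localization.LocalizationLocalization
import Mathlib.RingTheory.Flat.Stability
import Mathlib.Algebra.Module.FinitePresentation

/-!
# The local ring over a henselisation
-/

set_option autoImplicit false
set_option maxSynthPendingDepth 3

universe u

open TensorProduct IsLocalRing

set_option backward.isDefEq.respectTransparency.types false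

attribute [local instance] Algebra.TensorProduct.rightAlgebra

namespace Groth.Agent.Dev4

/-- A local ring at a prime over the closed point receives a local homomorphism. -/
theorem isLocalHom_atPrime {R S : Type u} [CommRing R] [IsLocalRing R] [CommRing S] [Algebra R S] (Q : Ideal S)
    [Q.IsPrime] (h : Q.comap (algebraMap R S) = maximalIdeal R) :
    IsLocalHom (algebraMap R (Localization.AtPrime Q)) := by
  refine ⟨fun x hx => ?_⟩
  rw [IsScalarTower.algebraMap_apply R S (Localization.AtPrime Q), IsLocalization.AtPrime.isUnit_to_map_iff _ Q] at hx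
  by_contra hnx
  exact hx (h.ge ((IsLocalRing.mem_maximalIdeal x).2 hnx) :)

/-- A flat local homomorphism to a localised base change is faithfully flat. -/
theorem faithfullyFlat_atPrime {A H B : Type u} [CommRing A] [CommRing H] [Algebra A H] [Module.Flat A H] [CommRing B]
    [IsLocalRing B] [Algebra A B] (Q : Ideal (H ⊗[A] B)) [Q.IsPrime]
    (h : Q.comap (algebraMap B (H ⊗[A] B)) = maximalIdeal B) :
    Module.FaithfullyFlat B (Localization.AtPrime Q) := by
  haveI : Algebra.IsPushout A B H (H ⊗[A] B) := Algebra.IsPushout.symm inferInstance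
  haveI : Module.Flat B (H ⊗[A] B) :=
    Module.Flat.of_linearEquiv (Algebra.IsPushout.equiv A B H (H ⊗[A] B)).symm.toLinearEquiv
  haveI : Module.Flat B (Localization.AtPrime Q) := Module.Flat.trans B (H ⊗[A] B) _
  haveI : IsLocalHom (algebraMap B (Localization.AtPrime Q)) := isLocalHom_atPrime Q h
  exact Module.FaithfullyFlat.of_flat_of_isLocalHom

/-- The module over the base change is the base change of the module. -/
theorem isBaseChange_tensor {A : Type u} [CommRing A] (H : Type u) [CommRing H] [Algebra A H] {B : Type u} [CommRing B]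
    [Algebra A B] (N : Type u) [AddCommGroup N] [Module B N] [Module A N] [IsScalarTower A B N] :
    IsBaseChange H ((TensorProduct.mk B (H ⊗[A] B) N 1).restrictScalars A) := by
  haveI : Algebra.IsPushout A B H (H ⊗[A] B) := Algebra.IsPushout.symm inferInstance
  haveI : Algebra.IsPushout A H B (H ⊗[A] B) := Algebra.IsPushout.symm inferInstance
  exact isBaseChange_restrict (B' := H) (A' := H ⊗[A] B) _ (TensorProduct.isBaseChange B N (H ⊗[A] B))

/-- Tensoring with a flat algebra preserves injectivity after tensoring with a map of modules over the base. -/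
theorem lTensor_injective_tensor {A B C : Type u} [CommRing A] [CommRing B] [CommRing C] [Algebra A B] [Algebra B C]
    [Algebra A C] [IsScalarTower A B C] [Module.Flat B C] (N : Type u) [AddCommGroup N] [Module B N] [Module A N]
    [IsScalarTower A B N] {X Y : Type u} [AddCommGroup X] [Module A X] [AddCommGroup Y] [Module A Y] (j : X →ₗ[A] Y)
    (hj : Function.Injective (j.lTensor N)) : Function.Injective (j.lTensor (C ⊗[B] N)) := by
  let j' : N ⊗[A] X →ₗ[B] N ⊗[A] Y := AlgebraTensorModule.lTensor B N j
  have key : ∀ z, AlgebraTensorModule.assoc A B B C N Y (j.lTensor (C ⊗[B] N) z) =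
      j'.lTensor C (AlgebraTensorModule.assoc A B B C N X z) := fun z => by
    induction z using TensorProduct.induction_on with
    | zero => simp
    | add a b ha hb => simp only [map_add, ha, hb]
    | tmul x i =>
      induction x using TensorProduct.induction_on with
      | zero => simp
      | add a b ha hb => simp only [TensorProduct.add_tmul, map_add, ha, hb]
      | tmul c n => rfl
  intro x y hxy
  refine (AlgebraTensorModule.assoc A B B C N X).injective
    (Module.Flat.lTensor_preserves_injective_linearMap (M := C) j' hj ?_)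
  rw [← key, ← key, hxy]

/-- The localised base change is universally injective over the base. -/
theorem universallyInjective_toPoint {A H B : Type u} [CommRing A] [CommRing H] [Algebra A H] [Module.Flat A H] [CommRing B]
    [IsLocalRing B] [Algebra A B] (Q : Ideal (H ⊗[A] B)) [Q.IsPrime]
    (h : Q.comap (algebraMap B (H ⊗[A] B)) = maximalIdeal B) (N : Type u) [AddCommGroup N] [Module B N] [Module A N]
    [IsScalarTower A B N] :
    ∃ ι : N →ₗ[A] Localization.AtPrime Q ⊗[H ⊗[A] B] ((H ⊗[A] B) ⊗[B] N),
      CAlgX.UniversallyInjective A ι ∧ ∀ n, ι n = 1 ⊗ₜ (1 ⊗ₜ n) := by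
  let C := Localization.AtPrime Q
  haveI : Module.FaithfullyFlat B C := faithfullyFlat_atPrime Q h
  haveI : IsScalarTower A B C := IsScalarTower.of_algebraMap_eq fun a => by
    rw [IsScalarTower.algebraMap_apply A (H ⊗[A] B) C, IsScalarTower.algebraMap_apply A B (H ⊗[A] B),
      ← IsScalarTower.algebraMap_apply B (H ⊗[A] B) C]
  let e := (AlgebraTensorModule.cancelBaseChange B (H ⊗[A] B) C C N).symm.restrictScalars A
  refine ⟨e.toLinearMap ∘ₗ (TensorProduct.mk B C N 1).restrictScalars A, fun X _ _ => ?_, fun n => ?_⟩
  · rw [LinearMap.rTensor_comp, LinearMap.coe_comp]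
    exact (e.rTensor X).injective.comp (universallyInjective_mk (A := A) (B := B) (C := C) N X)
  · show (AlgebraTensorModule.cancelBaseChange B (H ⊗[A] B) C C N).symm (1 ⊗ₜ[B] n) = _
    exact AlgebraTensorModule.cancelBaseChange_symm_tmul B (H ⊗[A] B) C (1 : C) n

/-- The local ring of the base change of an algebra of essentially finite presentation. -/
theorem essFinitePresentation_atPrime {A H B : Type u} [CommRing A] [CommRing H] [Algebra A H] [CommRing B] [Algebra A B]
    (hB : FlatCA.EssFinitePresentation A B) (Q : Ideal (H ⊗[A] B)) [Q.IsPrime] :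
    FlatCA.EssFinitePresentation H (Localization.AtPrime Q) := by
  obtain ⟨S, _, _, _, _, W, hS, hW⟩ := hB
  haveI := hS
  haveI := hW
  let SH := H ⊗[A] S
  let BH := H ⊗[A] B
  letI : Algebra SH BH := (Algebra.TensorProduct.map (AlgHom.id A H) (IsScalarTower.toAlgHom A S B)).toRingHom.toAlgebra
  letI : Algebra S BH := Algebra.compHom BH (algebraMap S B)
  haveI : IsScalarTower S B BH := IsScalarTower.of_algebraMap_eq fun _ => rfl
  haveI : IsScalarTower S SH BH := IsScalarTower.of_algebraMap_eq fun b => by
    show (1 : H) ⊗ₜ[A] algebraMap S B b = Algebra.TensorProduct.map _ _ ((1 : H) ⊗ₜ[A] b)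
    simp
  haveI : IsScalarTower H SH BH := IsScalarTower.of_algebraMap_eq fun r => by
    show r ⊗ₜ[A] (1 : B) = Algebra.TensorProduct.map _ _ (r ⊗ₜ[A] (1 : S))
    simp
  haveI : IsScalarTower A SH BH := IsScalarTower.of_algebraMap_eq fun r => by
    rw [IsScalarTower.algebraMap_apply A H SH, ← IsScalarTower.algebraMap_apply H SH BH, ← IsScalarTower.algebraMap_apply A H BH]
  haveI : IsScalarTower A S BH := IsScalarTower.of_algebraMap_eq fun r => by
    rw [IsScalarTower.algebraMap_apply S B BH, ← IsScalarTower.algebraMap_apply A S B, ← IsScalarTower.algebraMap_apply A B BH]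
  haveI : Algebra.IsPushout A S H SH := Algebra.IsPushout.symm inferInstance
  haveI : Algebra.IsPushout A B H BH := Algebra.IsPushout.symm inferInstance
  haveI hpo : Algebra.IsPushout S B SH BH :=
    (Algebra.IsPushout.comp_iff (R := A) (S := S) (R' := H) (S' := SH) (T := B) (T' := BH)).1 inferInstance
  haveI : IsLocalization (Algebra.algebraMapSubmonoid SH W) BH :=
    (Algebra.isLocalization_iff_isPushout W B).2 hpo.symm
  haveI : IsScalarTower H SH (Localization.AtPrime Q) := IsScalarTower.of_algebraMap_eq fun r => by
    rw [IsScalarTower.algebraMap_apply SH BH (Localization.AtPrime Q), ← IsScalarTower.algebraMap_apply H SH BH,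
      ← IsScalarTower.algebraMap_apply H BH (Localization.AtPrime Q)]
  haveI := IsLocalization.isLocalization_isLocalization_atPrime_isLocalization
    (Algebra.algebraMapSubmonoid SH W) (T := Localization.AtPrime Q) Q
  exact ⟨SH, inferInstance, inferInstance, inferInstance, inferInstance, (Q.comap (algebraMap SH BH)).primeCompl,
    inferInstance, this⟩

end Groth.Agent.Dev4
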