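import Groth.Agent.Lib.Dev4.WeakAssTensor
import Groth.Agent.Lib.Dev4.Point
import Groth.Agent.Lib.Dev4.Covering

/-!
# Impurities as data in fibres over fields
-/

set_option autoImplicit false
set_option maxSynthPendingDepth 3

universe u

open TensorProduct

set_option backward.isDefEq.respectTransparency.types false

attribute [local instance] Algebra.TensorProduct.rightAlgebra

namespace Groth.Agent.Dev4

variable (A B N : Type u) [CommRing A] [CommRing B] [Algebra A B] [AddCommGroup N] [Module B N] [Module A N]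
  [IsScalarTower A B N]

/-- The action of `κ ⊗ B` on `κ ⊗ N`. -/
noncomputable def fibAct (κ : Type u) [CommRing κ] [Algebra A κ] :
    κ ⊗[A] B →ₗ[A] Module.End A (κ ⊗[A] N) :=
  (TensorProduct.homTensorHomMap (σ₁₂ := RingHom.id A) κ N κ N).comp
    (TensorProduct.map (LinearMap.mul A κ) (Algebra.lsmul A A N).toLinearMap)

@[simp]
theorem fibAct_tmul (κ : Type u) [CommRing κ] [Algebra A κ] (c : κ) (b : B) (d : κ) (n : N) :
    fibAct A B N κ (c ⊗ₜ[A] b) (d ⊗ₜ[A] n) = (c * d) ⊗ₜ[A] (b • n) := rfl

variable {A B N}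

/-- The action is natural in the coefficient ring. -/
theorem fibAct_natural {κ₀ κ : Type u} [CommRing κ₀] [Algebra A κ₀] [CommRing κ] [Algebra A κ] (ι : κ₀ →ₐ[A] κ)
    (x : κ₀ ⊗[A] B) (y : κ₀ ⊗[A] N) :
    ι.toLinearMap.rTensor N (fibAct A B N κ₀ x y) = fibAct A B N κ (ι.toLinearMap.rTensor B x) (ι.toLinearMap.rTensor N y) := by
  induction x using TensorProduct.induction_on with
  | zero => simp
  | add u v hu hv => simp only [map_add, LinearMap.add_apply, hu, hv]
  | tmul c b =>
    induction y using TensorProduct.induction_on with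
    | zero => simp
    | add u v hu hv => simp only [map_add, hu, hv]
    | tmul d n => simp

variable (A B N)

/-- Reduction of `A' ⊗ X` to the residue field at a prime of `A'`. -/
noncomputable def redMap {A' : Type u} [CommRing A'] [Algebra A A'] (I : Ideal A') [I.IsPrime] (X : Type u) [AddCommGroup X]
    [Module A X] : A' ⊗[A] X →ₗ[A] I.ResidueField ⊗[A] X :=
  (IsScalarTower.toAlgHom A A' I.ResidueField).toLinearMap.rTensor X

theorem redMap_tmul {A' : Type u} [CommRing A'] [Algebra A A'] (I : Ideal A') [I.IsPrime] (X : Type u) [AddCommGroup X]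
    [Module A X] (g : A') (x : X) : redMap A I X (g ⊗ₜ[A] x) = algebraMap A' I.ResidueField g ⊗ₜ[A] x := rfl

/-- An impurity recorded in fibres: a function equal to a unit at `t` and killing a nonzero section at `t'`. -/
def HasDatum {A' : Type u} [CommRing A'] [Algebra A A'] (t' t : Ideal A') [t'.IsPrime] [t.IsPrime] : Prop :=
  ∃ (a : A' ⊗[A] B) (s : A') (n : A' ⊗[A] N), s ∉ t ∧ redMap A t B a = redMap A t B (s ⊗ₜ[A] 1) ∧
    redMap A t' N n ≠ 0 ∧ fibAct A B N t'.ResidueField (redMap A t' B a) (redMap A t' N n) = 0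

variable {A B N}

/-- The fibre of a base change. -/
theorem exists_fibre_equiv {A' B' N' : Type u} [CommRing A'] [CommRing B'] [Algebra A A'] [Algebra B B'] [Algebra A' B']
    [Algebra A B'] [IsScalarTower A B B'] [IsScalarTower A A' B'] [Algebra.IsPushout A B A' B'] [AddCommGroup N']
    [Module B' N'] [Module B N'] [IsScalarTower B B' N'] [Module A' N'] [IsScalarTower A' B' N']
    (f : N →ₗ[B] N') (hf : IsBaseChange B' f) (κ : Type u) [CommRing κ] [Algebra A κ] [Algebra A' κ] [IsScalarTower A A' κ] :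
    ∃ E : κ ⊗[A] N ≃+ N' ⊗[A'] κ, (∀ (c : κ) (n : N), E (c ⊗ₜ[A] n) = f n ⊗ₜ[A'] c) ∧
      ∀ (g : A') (b : B) (y : κ ⊗[A] N),
        E (fibAct A B N κ (algebraMap A' κ g ⊗ₜ[A] b) y) = (algebraMap A' B' g * algebraMap B B' b) • E y := by
  haveI : Algebra.IsPushout A A' B B' := Algebra.IsPushout.symm inferInstance
  let eN : A' ⊗[A] N ≃ₗ[A'] N' :=
    (Algebra.IsPushout.cancelBaseChange A A' B B' N).symm.trans (hf.equiv.restrictScalars A')
  let E : κ ⊗[A] N ≃+ N' ⊗[A'] κ :=
    (((AlgebraTensorModule.cancelBaseChange A A' A' κ N).symm.trans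
      (TensorProduct.congr (LinearEquiv.refl A' κ) eN)).trans (TensorProduct.comm A' κ N')).toAddEquiv
  have hE : ∀ (c : κ) (n : N), E (c ⊗ₜ[A] n) = f n ⊗ₜ[A'] c := fun c n => by
    have h1 : eN ((1 : A') ⊗ₜ[A] n) = f n := by
      show hf.equiv ((Algebra.IsPushout.cancelBaseChange A A' B B' N).symm ((1 : A') ⊗ₜ[A] n)) = _
      rw [Algebra.IsPushout.cancelBaseChange_symm_tmul, map_one, hf.equiv_tmul, one_smul]
    simp [E, h1]
  refine ⟨E, hE, fun g b y => ?_⟩
  induction y using TensorProduct.induction_on with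
  | zero => simp
  | add u v hu hv => simp only [map_add, smul_add, hu, hv]
  | tmul c n =>
    rw [fibAct_tmul, hE, hE, TensorProduct.smul_tmul', mul_smul, algebraMap_smul, algebraMap_smul, map_smul f b n,
      TensorProduct.smul_tmul g (b • f n) c, Algebra.smul_def]

/-- The algebra isomorphism to a model turns the action into scalar multiplication. -/
theorem fibre_equiv_act {A' B' N' : Type u} [CommRing A'] [CommRing B'] [Algebra A A'] [Algebra B B'] [Algebra A' B']
    [Algebra A B'] [IsScalarTower A B B'] [IsScalarTower A A' B'] [Algebra.IsPushout A A' B B'] [AddCommGroup N']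
    [Module B' N'] [Module A' N'] [IsScalarTower A' B' N'] (I : Ideal A') [I.IsPrime]
    (E : I.ResidueField ⊗[A] N ≃+ N' ⊗[A'] I.ResidueField)
    (hE : ∀ (g : A') (b : B) (y : I.ResidueField ⊗[A] N),
      E (fibAct A B N I.ResidueField (algebraMap A' I.ResidueField g ⊗ₜ[A] b) y) = (algebraMap A' B' g * algebraMap B B' b) • E y)
    (a : A' ⊗[A] B) (y : I.ResidueField ⊗[A] N) :
    E (fibAct A B N I.ResidueField (redMap A I B a) y) = Algebra.IsPushout.equiv A A' B B' a • E y := by
  induction a using TensorProduct.induction_on with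
  | zero => simp
  | add u v hu hv => simp only [map_add, LinearMap.add_apply, add_smul, hu, hv]
  | tmul g b => rw [redMap_tmul, hE, Algebra.IsPushout.equiv_tmul]

/-- An impurity gives a datum. -/
theorem hasDatum_of_isImpurity [Algebra.FiniteType A B] [Module.Finite B N] {p : Ideal A} [p.IsPrime]
    {A' B' N' : Type u} [CommRing A'] [CommRing B'] [Algebra A A'] [Algebra B B'] [Algebra A' B']
    [Algebra A B'] [IsScalarTower A B B'] [IsScalarTower A A' B'] [AddCommGroup N']
    [Module B' N'] [Module B N'] [IsScalarTower B B' N'] [Module A' N'] [IsScalarTower A' B' N']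
    {f : N →ₗ[B] N'} {t' t : Ideal A'} [t'.IsPrime] [t.IsPrime] {P : Ideal B'} [P.IsPrime]
    (h : FlatCA.IsImpurity A B N p A' B' N' f t' t P) : HasDatum A B N t' t := by
  obtain ⟨hpo, hbc, -, -, hPt, hass, hno⟩ := h
  haveI := hPt
  haveI := hpo
  haveI : Algebra.IsPushout A A' B B' := Algebra.IsPushout.symm hpo
  let e := Algebra.IsPushout.equiv A A' B B'
  haveI : Algebra.FiniteType A' B' := Algebra.FiniteType.of_surjective e.toAlgHom e.surjective
  haveI : Module.Finite B' N' := Module.Finite.equiv hbc.equiv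
  -- the closure misses the fibre over `t`
  obtain ⟨a, ha, s, hs, m, hm, ham⟩ : ∃ a ∈ P, ∃ s ∉ t, ∃ m ∈ t.map (algebraMap A' B'), a + m = algebraMap A' B' s := by
    have hdis : ¬ Disjoint ((P ⊔ t.map (algebraMap A' B') : Ideal B') : Set B')
        ((Algebra.algebraMapSubmonoid B' t.primeCompl : Submonoid B') : Set B') := fun hdis => by
      obtain ⟨P', hP', hle, hd⟩ := Ideal.exists_le_prime_disjoint _ _ hdis
      refine hno P' (le_sup_left.trans hle) ⟨le_antisymm (Ideal.map_le_iff_le_comap.1 (le_sup_right.trans hle)) ?_⟩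
      intro c hc
      by_contra hct
      exact Set.disjoint_left.1 hd (show algebraMap A' B' c ∈ P' from hc) ⟨c, hct, rfl⟩
    obtain ⟨_, hy, s, hs, rfl⟩ := Set.not_disjoint_iff.1 hdis
    obtain ⟨a, ha, m, hm, ham⟩ := Submodule.mem_sup.1 hy
    exact ⟨a, ha, s, hs, m, hm, ham⟩
  -- a nonzero section of the fibre over `t'` killed by `a`
  obtain ⟨w, hw⟩ := (fiberIdeal_mem_associatedPrimes_iff t' N' P).1 hass
  obtain ⟨σ, hσ, k, hk⟩ := hw.1 a ha
  classical
  have hex : ∃ k : ℕ, (σ * a ^ k) • w = 0 := ⟨k, hk⟩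
  obtain ⟨z, hz0, haz⟩ : ∃ z : N' ⊗[A'] t'.ResidueField, z ≠ 0 ∧ a • z = 0 := by
    have h0 := Nat.find_spec hex
    rcases hj : Nat.find hex with _ | j
    · rw [hj, pow_zero, mul_one] at h0
      exact absurd (hw.2 σ h0) hσ
    · rw [hj] at h0
      exact ⟨(σ * a ^ j) • w, Nat.find_min hex (by omega),
        by rw [← mul_smul, ← mul_assoc, mul_comm a σ, mul_assoc, ← pow_succ', h0]⟩
  obtain ⟨E, hE₁, hE⟩ := exists_fibre_equiv (A := A) (B := B) (A' := A') (B' := B') (N' := N') f hbc t'.ResidueField
  -- clear the denominator of the section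
  obtain ⟨c, hc, n, hn⟩ : ∃ (c : A') (_ : c ∉ t') (n : A' ⊗[A] N),
      redMap A t' N n = E.symm (algebraMap A' B' c • z) := by
    generalize z = z'
    induction z' using TensorProduct.induction_on with
    | zero => exact ⟨1, fun h => ‹t'.IsPrime›.ne_top ((Ideal.eq_top_iff_one t').2 h), 0, by simp⟩
    | add u v hu hv =>
      obtain ⟨c₁, hc₁, n₁, hn₁⟩ := hu
      obtain ⟨c₂, hc₂, n₂, hn₂⟩ := hv
      refine ⟨c₁ * c₂, fun h => (‹t'.IsPrime›.mem_or_mem h).elim hc₁ hc₂, c₂ • n₁ + c₁ • n₂, ?_⟩
      have key : ∀ (c : A') (n : A' ⊗[A] N), E (redMap A t' N (c • n)) = algebraMap A' B' c • E (redMap A t' N n) := by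
        intro c n
        induction n using TensorProduct.induction_on with
        | zero => simp
        | add x y hx hy => simp only [smul_add, map_add, hx, hy]
        | tmul g x =>
          rw [TensorProduct.smul_tmul', redMap_tmul, redMap_tmul, hE₁, hE₁, algebraMap_smul, smul_eq_mul, map_mul,
            TensorProduct.smul_tmul', TensorProduct.smul_tmul, Algebra.smul_def]
      rw [AddEquiv.eq_symm_apply, map_add, map_add, key, key, hn₁, hn₂, E.apply_symm_apply, E.apply_symm_apply,
        ← mul_smul, ← mul_smul, ← map_mul, ← map_mul, mul_comm c₂ c₁, smul_add]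
    | tmul x r =>
      obtain ⟨y, hy⟩ : ∃ y : t'.ResidueField ⊗[A] N, E y = x ⊗ₜ[A'] r := ⟨E.symm _, E.apply_symm_apply _⟩
      rw [← hy]
      clear hy
      induction y using TensorProduct.induction_on with
      | zero => exact ⟨1, fun h => ‹t'.IsPrime›.ne_top ((Ideal.eq_top_iff_one t').2 h), 0, by simp⟩
      | add u v hu hv =>
        obtain ⟨c₁, hc₁, n₁, hn₁⟩ := hu
        obtain ⟨c₂, hc₂, n₂, hn₂⟩ := hv
        refine ⟨c₁ * c₂, fun h => (‹t'.IsPrime›.mem_or_mem h).elim hc₁ hc₂, c₂ • n₁ + c₁ • n₂, ?_⟩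
        have key : ∀ (c : A') (n : A' ⊗[A] N), E (redMap A t' N (c • n)) = algebraMap A' B' c • E (redMap A t' N n) := by
          intro c n
          induction n using TensorProduct.induction_on with
          | zero => simp
          | add x y hx hy => simp only [smul_add, map_add, hx, hy]
          | tmul g x =>
            rw [TensorProduct.smul_tmul', redMap_tmul, redMap_tmul, hE₁, hE₁, algebraMap_smul, smul_eq_mul, map_mul,
              TensorProduct.smul_tmul', TensorProduct.smul_tmul, Algebra.smul_def]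
        rw [AddEquiv.eq_symm_apply, map_add, map_add, key, key, hn₁, hn₂, E.apply_symm_apply, E.apply_symm_apply,
          ← mul_smul, ← mul_smul, ← map_mul, ← map_mul, mul_comm c₂ c₁, map_add E u v, smul_add]
      | tmul q m' =>
        obtain ⟨g, d, hd, rfl⟩ := IsFractionRing.div_surjective (A := A' ⧸ t') q
        obtain ⟨g, rfl⟩ := Ideal.Quotient.mk_surjective g
        obtain ⟨d, rfl⟩ := Ideal.Quotient.mk_surjective d
        have hdt : d ∉ t' := fun h => nonZeroDivisors.ne_zero hd (Ideal.Quotient.eq_zero_iff_mem.2 h)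
        refine ⟨d, hdt, g ⊗ₜ[A] m', ?_⟩
        rw [AddEquiv.eq_symm_apply, redMap_tmul, hE₁, hE₁, algebraMap_smul, TensorProduct.smul_tmul',
          TensorProduct.smul_tmul, Algebra.smul_def]
        congr 1
        have hd0 : algebraMap A' t'.ResidueField d ≠ 0 := fun h => hdt (Ideal.algebraMap_residueField_eq_zero.1 h)
        show _ = algebraMap A' t'.ResidueField d * (algebraMap A' t'.ResidueField g / algebraMap A' t'.ResidueField d)
        rw [mul_div_cancel₀ _ hd0]
  have hcP : algebraMap A' B' c ∉ P := fun h => hc ((Ideal.mem_of_liesOver P t' c).2 h)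
  refine ⟨e.symm a, s, n, hs, ?_, fun h0 => ?_, E.injective ?_⟩
  · -- equal to `s` in the fibre over `t`
    let φ : B' →+* t.ResidueField ⊗[A] B :=
      (Algebra.TensorProduct.map (IsScalarTower.toAlgHom A A' t.ResidueField) (AlgHom.id A B)).toRingHom.comp
        e.symm.toRingEquiv.toRingHom
    have hφ : ∀ x, φ x = redMap A t B (e.symm x) := fun x => by
      show Algebra.TensorProduct.map (IsScalarTower.toAlgHom A A' t.ResidueField) (AlgHom.id A B) (e.symm x) = _
      generalize e.symm x = y
      induction y using TensorProduct.induction_on with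
      | zero => simp
      | add u v hu hv => simp only [map_add, hu, hv]
      | tmul g b => rfl
    have hker : t.map (algebraMap A' B') ≤ RingHom.ker φ := Ideal.map_le_iff_le_comap.2 fun c hc => by
      show φ (algebraMap A' B' c) = 0
      rw [hφ, e.symm.commutes]
      show redMap A t B (c ⊗ₜ[A] (1 : B)) = 0
      rw [redMap_tmul, Ideal.algebraMap_residueField_eq_zero.2 hc, TensorProduct.zero_tmul]
    have h1 : φ a = φ (algebraMap A' B' s) := by rw [← ham, map_add, RingHom.mem_ker.1 (hker hm), add_zero]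
    rw [hφ, hφ, e.symm.commutes] at h1
    exact h1
  · -- nonzero
    rw [hn, map_eq_zero_iff _ E.symm.injective] at h0
    obtain ⟨u, hu⟩ : IsUnit (algebraMap A' t'.ResidueField c) :=
      (isUnit_iff_ne_zero).2 fun h => hc (Ideal.algebraMap_residueField_eq_zero.1 h)
    let μ : N' ⊗[A'] t'.ResidueField →ₗ[A'] N' ⊗[A'] t'.ResidueField :=
      LinearMap.lTensor N' (LinearMap.mulLeft A' (↑u⁻¹ : t'.ResidueField))
    have hμ : ∀ y, μ (algebraMap A' B' c • y) = y := fun y => by
      induction y using TensorProduct.induction_on with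
      | zero => simp
      | add a b ha hb => simp only [smul_add, map_add, ha, hb]
      | tmul x r =>
        rw [algebraMap_smul, TensorProduct.smul_tmul', TensorProduct.smul_tmul, Algebra.smul_def, ← hu]
        show x ⊗ₜ[A'] ((↑u⁻¹ : t'.ResidueField) * (↑u * r)) = _
        rw [Units.inv_mul_cancel_left]
    exact hz0 (by rw [← hμ z, h0, map_zero])
  · rw [fibre_equiv_act t' E hE, e.apply_symm_apply, hn, E.apply_symm_apply, ← mul_smul, mul_comm, mul_smul, haz,
      smul_zero, map_zero]

/-- A datum gives an impurity on the standard model. -/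
theorem hasImpurity_of_hasDatum [Algebra.FiniteType A B] [Module.Finite B N] {p : Ideal A} [p.IsPrime]
    {A' : Type u} [CommRing A'] [Algebra A A'] (t' t : Ideal A') [t'.IsPrime] [t.IsPrime] (hle : t' ≤ t)
    (htp : t.LiesOver p) (h : HasDatum A B N t' t) :
    ∃ (P : Ideal (A' ⊗[A] B)) (_ : P.IsPrime),
      FlatCA.IsImpurity A B N p A' (A' ⊗[A] B) ((A' ⊗[A] B) ⊗[B] N) (TensorProduct.mk B (A' ⊗[A] B) N 1) t' t P := by
  obtain ⟨a, s, n, hs, hat, hn, han⟩ := h
  let B' := A' ⊗[A] B
  let N' := B' ⊗[B] N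
  haveI hpo : Algebra.IsPushout A B A' B' := Algebra.IsPushout.symm inferInstance
  have hbc := TensorProduct.isBaseChange B N B'
  obtain ⟨E, -, hE⟩ := exists_fibre_equiv (A := A) (B := B) (A' := A') (B' := B') (N' := N') (TensorProduct.mk B B' N 1) hbc t'.ResidueField
  have he : Algebra.IsPushout.equiv A A' B B' a = a := by
    clear hat han
    induction a using TensorProduct.induction_on with
    | zero => simp
    | add u v hu hv => rw [map_add, hu, hv]
    | tmul g b =>
      rw [Algebra.IsPushout.equiv_tmul]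
      show (g ⊗ₜ[A] (1 : B)) * ((1 : A') ⊗ₜ[A] b) = g ⊗ₜ[A] b
      rw [Algebra.TensorProduct.tmul_mul_tmul, mul_one, one_mul]
  have hz : E (redMap A t' N n) ≠ 0 := fun h => hn ((map_eq_zero_iff _ E.injective).1 h)
  have haz : a • E (redMap A t' N n) = 0 := by
    rw [← he, ← fibre_equiv_act t' E hE, han, map_zero]
  haveI : Algebra.FiniteType A' B' := inferInstance
  obtain ⟨r, hr, hrt, hrass, hann⟩ := exists_assoc_of_ne_zero (R := A') (S := B') N' t' hz
  haveI := hr
  refine ⟨r, hr, hpo, hbc, hle, htp, hrt, hrass, fun P' hP' hle' hover => ?_⟩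
  haveI := hP'
  haveI := hover
  let π : t.ResidueField →ₐ[A'] P'.ResidueField :=
    Ideal.ResidueField.mapₐ t P' (Algebra.ofId A' B') (Ideal.LiesOver.over (P := P') (p := t))
  let Φ : t.ResidueField ⊗[A] B →ₐ[A] P'.ResidueField :=
    Algebra.TensorProduct.lift (π.restrictScalars A) (IsScalarTower.toAlgHom A B P'.ResidueField) fun _ _ => Commute.all _ _
  have hΦ : ∀ y : B', Φ (redMap A t B y) = algebraMap B' P'.ResidueField y := fun y => by
    induction y using TensorProduct.induction_on with
    | zero => simp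
    | add u v hu hv => simp only [map_add, hu, hv]
    | tmul g b =>
      rw [redMap_tmul, Algebra.TensorProduct.lift_tmul]
      show π (algebraMap A' t.ResidueField g) * algebraMap B P'.ResidueField b = _
      rw [π.commutes, IsScalarTower.algebraMap_apply A' B' P'.ResidueField, IsScalarTower.algebraMap_apply B B' P'.ResidueField,
        ← map_mul]
      congr 1
      show (g ⊗ₜ[A] (1 : B)) * ((1 : A') ⊗ₜ[A] b) = g ⊗ₜ[A] b
      rw [Algebra.TensorProduct.tmul_mul_tmul, mul_one, one_mul]
  have h1 := congrArg Φ hat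
  rw [hΦ, hΦ, Ideal.algebraMap_residueField_eq_zero.2 (hle' (hann a haz))] at h1
  exact hs ((Ideal.mem_of_liesOver P' t s).2 (Ideal.algebraMap_residueField_eq_zero.1 h1.symm))

/-- Data descend along maps of coefficient rings containing them. -/
theorem hasDatum_descend {A₀ A' : Type u} [CommRing A₀] [Algebra A A₀] [CommRing A'] [Algebra A A'] (φ : A₀ →ₐ[A] A')
    (t₀' t₀ : Ideal A₀) [t₀'.IsPrime] [t₀.IsPrime] (t' t : Ideal A') [t'.IsPrime] [t.IsPrime]
    (h' : t₀' = t'.comap φ.toRingHom) (h : t₀ = t.comap φ.toRingHom)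
    {a : A₀ ⊗[A] B} {s : A₀} {n : A₀ ⊗[A] N} (hs : φ s ∉ t)
    (hat : redMap A t B (φ.toLinearMap.rTensor B a) = redMap A t B (φ s ⊗ₜ[A] 1))
    (hn : redMap A t' N (φ.toLinearMap.rTensor N n) ≠ 0)
    (han : fibAct A B N t'.ResidueField (redMap A t' B (φ.toLinearMap.rTensor B a))
      (redMap A t' N (φ.toLinearMap.rTensor N n)) = 0) : HasDatum A B N t₀' t₀ := by
  have key : ∀ (I₀ : Ideal A₀) [I₀.IsPrime] (I : Ideal A') [I.IsPrime], I₀ = I.comap φ.toRingHom →
      ∃ ι : I₀.ResidueField →ₐ[A] I.ResidueField, ∀ (X : Type u) [AddCommGroup X] [Module A X],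
        Function.Injective (ι.toLinearMap.rTensor X) ∧
        ∀ x : A₀ ⊗[A] X, ι.toLinearMap.rTensor X (redMap A I₀ X x) = redMap A I X (φ.toLinearMap.rTensor X x) := by
    intro I₀ _ I _ hI
    let ι : I₀.ResidueField →ₐ[A] I.ResidueField := Ideal.ResidueField.mapₐ I₀ I φ hI
    refine ⟨ι, fun X _ _ => ⟨?_, fun x => ?_⟩⟩
    · letI : Algebra I₀.ResidueField I.ResidueField := ι.toRingHom.toAlgebra
      haveI : IsScalarTower A I₀.ResidueField I.ResidueField := IsScalarTower.of_algebraMap_eq fun c => (ι.commutes c).symm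
      obtain ⟨ρ, hρ⟩ := (IsScalarTower.toAlgHom I₀.ResidueField I₀.ResidueField I.ResidueField).toLinearMap
        |>.exists_leftInverse_of_injective (LinearMap.ker_eq_bot.2 ι.toRingHom.injective)
      refine Function.LeftInverse.injective (g := (ρ.restrictScalars A).rTensor X) fun y => ?_
      rw [← LinearMap.comp_apply, ← LinearMap.rTensor_comp,
        show (ρ.restrictScalars A).comp ι.toLinearMap = LinearMap.id from LinearMap.ext fun c => LinearMap.congr_fun hρ c,
        LinearMap.rTensor_id, LinearMap.id_apply]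
    · induction x using TensorProduct.induction_on with
      | zero => simp
      | add u v hu hv => simp only [map_add, hu, hv]
      | tmul g y =>
        rw [redMap_tmul, LinearMap.rTensor_tmul, LinearMap.rTensor_tmul, redMap_tmul]
        congr 1
        exact Ideal.ResidueField.map_algebraMap ..
  obtain ⟨ι, hι⟩ := key t₀ t h
  obtain ⟨ι', hι'⟩ := key t₀' t' h'
  refine ⟨a, s, n, fun hs' => hs (by rw [h] at hs'; exact hs'), (hι B).1 ?_, fun h0 => hn ?_, (hι' N).1 ?_⟩
  · rw [(hι B).2, (hι B).2, hat, LinearMap.rTensor_tmul]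
    rfl
  · rw [← (hι' N).2, h0, map_zero]
  · rw [map_zero, fibAct_natural, (hι' B).2, (hι' N).2, han]

end Groth.Agent.Dev4
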