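import Groth.Agent.Lib.Dev4.ImpurityDatum
import Groth.Agent.Lib.SchDom.Alg
import Mathlib.RingTheory.Jacobson.Ring

/-!
# Moving impurities between coefficient rings
-/

set_option autoImplicit false
set_option maxSynthPendingDepth 3

universe u

open TensorProduct

set_option backward.isDefEq.respectTransparency.types false

attribute [local instance] Algebra.TensorProduct.rightAlgebra

namespace Groth.Agent.Dev4

variable {A B N : Type u} [CommRing A] [CommRing B] [Algebra A B] [AddCommGroup N] [Module B N] [Module A N]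
  [IsScalarTower A B N]

/-- A datum only involves finitely many coefficients. -/
theorem exists_finset_hasDatum {A' : Type u} [CommRing A'] [Algebra A A'] (t' t : Ideal A') [t'.IsPrime] [t.IsPrime]
    (h : HasDatum A B N t' t) :
    ∃ G : Finset A', ∀ (A₀ : Type u) [CommRing A₀] [Algebra A A₀] (φ : A₀ →ₐ[A] A'), (G : Set A') ⊆ Set.range φ →
      ∀ (t₀' t₀ : Ideal A₀) [t₀'.IsPrime] [t₀.IsPrime], t₀' = t'.comap φ.toRingHom → t₀ = t.comap φ.toRingHom →
        HasDatum A B N t₀' t₀ := by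
  classical
  obtain ⟨a, s, n, hs, hat, hn, han⟩ := h
  obtain ⟨k, ga, xa, rfl⟩ := TensorProduct.exists_sum_tmul_eq a
  obtain ⟨l, gn, xn, rfl⟩ := TensorProduct.exists_sum_tmul_eq n
  refine ⟨insert s (Finset.univ.image ga ∪ Finset.univ.image gn), fun A₀ _ _ φ hG t₀' t₀ _ _ h' h => ?_⟩
  obtain ⟨s₀, hs₀⟩ := hG (show s ∈ _ by simp)
  choose ga₀ hga₀ using fun i => hG (show ga i ∈ _ by simp)
  choose gn₀ hgn₀ using fun i => hG (show gn i ∈ _ by simp)
  refine hasDatum_descend φ t₀' t₀ t' t h' h (a := ∑ i, ga₀ i ⊗ₜ[A] xa i) (s := s₀) (n := ∑ i, gn₀ i ⊗ₜ[A] xn i)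
    (by rw [hs₀]; exact hs) ?_ ?_ ?_
  · simpa [map_sum, hs₀, hga₀] using hat
  · simpa [map_sum, hgn₀] using hn
  · simpa [map_sum, hga₀, hgn₀] using han

/-- Elements vanishing at a point vanish at its specialisations avoiding one function. -/
theorem exists_redMap_eq_zero {A' X : Type u} [CommRing A'] [Algebra A A'] [AddCommGroup X] [Module A X]
    (t : Ideal A') [t.IsPrime] (x : A' ⊗[A] X) (hx : redMap A t X x = 0) :
    ∃ d : A', d ∉ t ∧ ∀ (u : Ideal A') [u.IsPrime], t ≤ u → d ∉ u → redMap A u X x = 0 := by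
  let θ : ∀ (u : Ideal A') [u.IsPrime], (A' ⊗[A] X) ⊗[A'] u.ResidueField ≃ₗ[A'] u.ResidueField ⊗[A] X := fun u _ =>
    (TensorProduct.comm A' (A' ⊗[A] X) u.ResidueField).trans (AlgebraTensorModule.cancelBaseChange A A' A' u.ResidueField X)
  have hθ : ∀ (u : Ideal A') [u.IsPrime] (y : A' ⊗[A] X), θ u (y ⊗ₜ[A'] 1) = redMap A u X y := fun u _ y => by
    induction y using TensorProduct.induction_on with
    | zero => simp
    | add v w hv hw => simp only [TensorProduct.add_tmul, map_add, hv, hw]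
    | tmul g m => simp [θ, redMap_tmul, Algebra.smul_def]
  have h0 : x ⊗ₜ[A'] (1 : t.ResidueField) = 0 := (θ t).injective (by rw [hθ, hx, map_zero])
  obtain ⟨d, hd, hdx⟩ := exists_smul_mem_of_tmul_one_eq_zero t (A' ⊗[A] X) h0
  refine ⟨d, hd, fun u _ hu hdu => ?_⟩
  have h1 := tmul_one_eq_zero_of_mem (R := A') u (A' ⊗[A] X) (Submodule.smul_mono_left hu hdx)
  rw [← TensorProduct.smul_tmul'] at h1
  rw [← hθ u x]
  obtain ⟨v, hv⟩ : IsUnit (algebraMap A' u.ResidueField d) :=
    isUnit_iff_ne_zero.2 fun h => hdu (Ideal.algebraMap_residueField_eq_zero.1 h)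
  have h2 := congrArg (θ u) h1
  rw [map_smul, map_zero, ← algebraMap_smul u.ResidueField d (θ u (x ⊗ₜ[A'] 1)), ← hv] at h2
  exact (smul_eq_zero_iff_eq v).1 h2

/-- The upper point of a datum moves to specialisations avoiding one function. -/
theorem exists_move_upper {A' : Type u} [CommRing A'] [Algebra A A'] (t' t : Ideal A') [t'.IsPrime] [t.IsPrime]
    (h : HasDatum A B N t' t) :
    ∃ g : A', g ∉ t ∧ ∀ (u : Ideal A') [u.IsPrime], t ≤ u → g ∉ u → HasDatum A B N t' u := by
  obtain ⟨a, s, n, hs, hat, hn, han⟩ := h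
  obtain ⟨d, hd, hdu⟩ := exists_redMap_eq_zero t (a - s ⊗ₜ[A] (1 : B)) (by rw [map_sub, hat, sub_self])
  refine ⟨s * d, fun h => (‹t.IsPrime›.mem_or_mem h).elim hs hd, fun u _ hu hg => ?_⟩
  refine ⟨a, s, n, fun h => hg (u.mul_mem_right d h), ?_, hn, han⟩
  have := hdu u hu fun h => hg (u.mul_mem_left s h)
  rwa [map_sub, sub_eq_zero] at this

/-- Over a Noetherian ring the lower point of a datum moves to specialisations avoiding one function. -/
theorem exists_move_lower [Algebra.FiniteType A B] [Module.Finite B N] {A' : Type u} [CommRing A'] [Algebra A A']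
    [IsNoetherianRing A'] (t' t : Ideal A') [t'.IsPrime] [t.IsPrime] (h : HasDatum A B N t' t) :
    ∃ g : A', g ∉ t' ∧ ∀ (u : Ideal A') [u.IsPrime], t' ≤ u → g ∉ u → HasDatum A B N u t := by
  obtain ⟨a, s, n, hs, hat, hn, han⟩ := h
  let y : A' ⊗[A] N := fibAct A B N A' a n
  have hy : ∀ (u : Ideal A') [u.IsPrime],
      redMap A u N y = fibAct A B N u.ResidueField (redMap A u B a) (redMap A u N n) := fun u _ =>
    fibAct_natural (IsScalarTower.toAlgHom A A' u.ResidueField) a n
  obtain ⟨d, hd, hdu⟩ := exists_redMap_eq_zero t' y (by rw [hy, han])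
  -- the section stays nonzero near `t'`
  obtain ⟨g, hg, hgu⟩ : ∃ g : A', g ∉ t' ∧ ∀ (u : Ideal A') [u.IsPrime], t' ≤ u → g ∉ u → redMap A u N n ≠ 0 := by
    letI : Module (A' ⊗[A] B) (A' ⊗[A] N) := FlatH4.tensorModule A A' B N
    haveI : IsScalarTower A' (A' ⊗[A] B) (A' ⊗[A] N) := FlatH4.tensorModule_isScalarTower A A' B N
    haveI : Module.Finite (A' ⊗[A] B) (A' ⊗[A] N) := FlatH4.tensorModule_finite A A' B N
    obtain ⟨f, hf, hfree⟩ := SchDom.exists_generic_free (R := A') (S := A' ⊗[A] B) (M := A' ⊗[A] N) t'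
    let D := A' ⧸ t'
    let L := Localization.Away (Ideal.Quotient.mk t' f)
    let b := Module.Free.chooseBasis L (L ⊗[A'] (A' ⊗[A] N))
    have hθ : ∀ (u : Ideal A') [u.IsPrime] (y : A' ⊗[A] N),
        AlgebraTensorModule.cancelBaseChange A A' A' u.ResidueField N ((1 : u.ResidueField) ⊗ₜ[A'] y) = redMap A u N y :=
      fun u _ y => by
        induction y using TensorProduct.induction_on with
        | zero => simp
        | add v w hv hw => simp only [TensorProduct.tmul_add, map_add, hv, hw]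
        | tmul g m => simp [redMap_tmul, Algebra.smul_def]
    have hlift : ∀ (u : Ideal A') [u.IsPrime], t' ≤ u → f ∉ u →
        ∃ π : L →+* u.ResidueField, π.comp (algebraMap A' L) = algebraMap A' u.ResidueField := by
      intro u _ hu hfu
      let π₀ : D →+* u.ResidueField := Ideal.Quotient.lift t' (algebraMap A' u.ResidueField)
        fun x hx => Ideal.algebraMap_residueField_eq_zero.2 (hu hx)
      have hunit : IsUnit (π₀ (Ideal.Quotient.mk t' f)) := by
        show IsUnit (algebraMap A' u.ResidueField f)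
        exact isUnit_iff_ne_zero.2 fun h => hfu (Ideal.algebraMap_residueField_eq_zero.1 h)
      refine ⟨IsLocalization.Away.lift (Ideal.Quotient.mk t' f) hunit, RingHom.ext fun x => ?_⟩
      rw [RingHom.comp_apply, IsScalarTower.algebraMap_apply A' D L, IsLocalization.Away.lift_eq]
      rfl
    -- a nonzero coordinate
    obtain ⟨i, hi⟩ : ∃ i, b.repr ((1 : L) ⊗ₜ[A'] n) i ≠ 0 := by
      by_contra hc
      push Not at hc
      have h0 : (1 : L) ⊗ₜ[A'] n = 0 := b.repr.injective (by rw [map_zero]; exact Finsupp.ext hc)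
      obtain ⟨π, hπ⟩ := hlift t' le_rfl hf
      let π' : L →ₗ[A'] t'.ResidueField :=
        { toFun := π, map_add' := map_add π, map_smul' := fun c x => by
            rw [Algebra.smul_def, map_mul, RingHom.id_apply, Algebra.smul_def, ← hπ]; rfl }
      have h1 := congrArg (π'.rTensor (A' ⊗[A] N)) h0
      rw [map_zero, LinearMap.rTensor_tmul] at h1
      refine hn ?_
      rw [← hθ t' n, show (1 : t'.ResidueField) = π' 1 from (map_one π).symm, h1, map_zero]
    obtain ⟨⟨c, ⟨_, k, rfl⟩⟩, hc⟩ := IsLocalization.surj (Submonoid.powers (Ideal.Quotient.mk t' f))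
      (b.repr ((1 : L) ⊗ₜ[A'] n) i)
    obtain ⟨c, rfl⟩ := Ideal.Quotient.mk_surjective c
    have hc0 : c ∉ t' := fun hc' => hi (by
      rw [Ideal.Quotient.eq_zero_iff_mem.2 hc', map_zero] at hc
      exact (IsLocalization.map_units L (⟨_, k, rfl⟩ : Submonoid.powers (Ideal.Quotient.mk t' f))).mul_left_eq_zero.1 hc)
    refine ⟨f * c, fun h => (‹t'.IsPrime›.mem_or_mem h).elim hf hc0, fun u _ hu hg h0 => ?_⟩
    obtain ⟨π, hπ⟩ := hlift u hu fun h => hg (u.mul_mem_right c h)
    letI : Algebra L u.ResidueField := π.toAlgebra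
    haveI : IsScalarTower A' L u.ResidueField := IsScalarTower.of_algebraMap_eq fun x => (RingHom.congr_fun hπ x).symm
    have h1 : (1 : u.ResidueField) ⊗ₜ[A'] n = 0 := by
      apply (AlgebraTensorModule.cancelBaseChange A A' A' u.ResidueField N).injective
      rw [hθ, h0, map_zero]
    have h2 : (1 : u.ResidueField) ⊗ₜ[L] ((1 : L) ⊗ₜ[A'] n) = 0 := by
      apply (AlgebraTensorModule.cancelBaseChange A' L L u.ResidueField (A' ⊗[A] N)).injective
      rw [map_zero, AlgebraTensorModule.cancelBaseChange_tmul, one_smul, h1]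
    let coord : L ⊗[A'] (A' ⊗[A] N) →ₗ[L] L := (Finsupp.lapply i).comp b.repr.toLinearMap
    have h3 := congrArg (TensorProduct.rid L u.ResidueField) (congrArg (coord.baseChange u.ResidueField) h2)
    rw [LinearMap.baseChange_tmul, map_zero, map_zero, TensorProduct.rid_tmul, Algebra.smul_def, mul_one] at h3
    have h4 := congrArg π hc
    change π (coord (1 ⊗ₜ[A'] n)) = 0 at h3
    rw [map_mul, show π (b.repr ((1 : L) ⊗ₜ[A'] n) i) = 0 from h3, zero_mul] at h4
    refine hg (u.mul_mem_left f (Ideal.algebraMap_residueField_eq_zero.1 ?_))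
    rw [← hπ, RingHom.comp_apply, IsScalarTower.algebraMap_apply A' D L]
    exact h4.symm
  refine ⟨g * d, fun h => (‹t'.IsPrime›.mem_or_mem h).elim hg hd, fun u _ hu hgd => ?_⟩
  exact ⟨a, s, n, hs, hat, hgu u hu fun h => hgd (u.mul_mem_right d h),
    by rw [← hy]; exact hdu u hu fun h => hgd (u.mul_mem_left g h)⟩

/-- An impurity over a ring gives one over a polynomial ring at a closed point of the fibre. -/
theorem exists_fp_closedPoint {p : Ideal A} [p.IsPrime] {A' : Type u} [CommRing A'] [Algebra A A']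
    (t' t : Ideal A') [t'.IsPrime] [t.IsPrime] (hle : t' ≤ t) (htp : t.LiesOver p) (h : HasDatum A B N t' t) :
    ∃ (A₀ : Type u) (_ : CommRing A₀) (_ : Algebra A A₀) (u' u : Ideal A₀) (_ : u'.IsPrime) (_ : u.IsPrime),
      Algebra.FinitePresentation A A₀ ∧ u' ≤ u ∧ u.LiesOver p ∧ (FlatCA.fiberIdeal p u).IsMaximal ∧
      HasDatum A B N u' u := by
  classical
  obtain ⟨G, hG⟩ := exists_finset_hasDatum t' t h
  let A₀ := MvPolynomial {x // x ∈ G} A
  let φ : A₀ →ₐ[A] A' := MvPolynomial.aeval fun x => (x : A')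
  let t₀' := t'.comap φ.toRingHom
  let t₀ := t.comap φ.toRingHom
  haveI : t₀'.IsPrime := inferInstanceAs (t'.comap φ.toRingHom).IsPrime
  haveI : t₀.IsPrime := inferInstanceAs (t.comap φ.toRingHom).IsPrime
  have h₀ : HasDatum A B N t₀' t₀ := hG A₀ φ (fun x hx => ⟨MvPolynomial.X ⟨x, hx⟩, MvPolynomial.aeval_X _ _⟩) t₀' t₀ rfl rfl
  obtain ⟨g, hg, hgu⟩ := exists_move_upper t₀' t₀ h₀
  haveI : t₀.LiesOver p := ⟨by
    show p = (t.comap φ.toRingHom).comap (algebraMap A A₀)
    rw [Ideal.comap_comap, AlgHom.toRingHom_eq_coe, φ.comp_algebraMap]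
    exact htp.over⟩
  let y := PrimeSpectrum.primesOverOrderIsoFiber A A₀ p ⟨t₀, inferInstance, inferInstance⟩
  have hy : y.asIdeal.comap (algebraMap A₀ (p.Fiber A₀)) = t₀ := congrArg Subtype.val
    ((PrimeSpectrum.primesOverOrderIsoFiber A A₀ p).symm_apply_apply ⟨t₀, inferInstance, inferInstance⟩)
  haveI : IsJacobsonRing (p.Fiber A₀) := isJacobsonRing_of_finiteType (A := p.ResidueField)
  obtain ⟨m, hm, hym, hgm⟩ : ∃ m : Ideal (p.Fiber A₀), m.IsMaximal ∧ y.asIdeal ≤ m ∧ algebraMap A₀ _ g ∉ m := by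
    by_contra hc
    push Not at hc
    refine hg ?_
    rw [← hy, Ideal.mem_comap, ← IsJacobsonRing.out ‹IsJacobsonRing (p.Fiber A₀)› (y.2.isRadical), Ideal.jacobson, Submodule.mem_sInf]
    exact fun m hm => hc m hm.2 hm.1
  let u := m.comap (algebraMap A₀ (p.Fiber A₀))
  haveI : u.IsPrime := (hm.isPrime).comap _
  let z : PrimeSpectrum (p.Fiber A₀) := ⟨m, hm.isPrime⟩
  haveI : u.LiesOver p := ((PrimeSpectrum.primesOverOrderIsoFiber A A₀ p).symm z).2.2
  have hu : t₀ ≤ u := by rw [← hy]; exact Ideal.comap_mono hym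
  refine ⟨A₀, inferInstance, inferInstance, t₀', u, inferInstance, inferInstance, inferInstance,
    (Ideal.comap_mono hle).trans hu, inferInstance, ?_, hgu u hu hgm⟩
  have hmu : m = FlatCA.fiberIdeal p u := by
    refine le_antisymm (fun f hf => ?_) (Ideal.map_le_iff_le_comap.2 le_rfl)
    obtain ⟨c, hc, a, ha⟩ := CI2.FibAss.fib_frac p f
    obtain ⟨v, hv⟩ := CI2.FibAss.isUnit_inc (S := A₀) p hc
    have hfa : f = (↑v⁻¹ : p.Fiber A₀) * CI2.FibAss.inc p a := by rw [← ha, ← hv, Units.inv_mul_cancel_left]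
    have ha' : a ∈ u := by
      show CI2.FibAss.inc p a ∈ m
      rw [← ha]; exact m.mul_mem_left _ hf
    rw [hfa]
    exact Ideal.mul_mem_left _ _ (Ideal.mem_map_of_mem _ ha')
  rw [← hmu]
  exact hm

end Groth.Agent.Dev4
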