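import Groth.Agent.Lib.Dev4.ImpurityDescent
import Groth.Agent.Lib.Dev4.WeakAssTensorIff
import Groth.Agent.Lib.Dev4.Free
import Mathlib.RingTheory.Ideal.KrullsHeightTheorem
import Mathlib.RingTheory.ZariskisMainTheorem
import Mathlib.RingTheory.Filtration

/-!
# Impurities over Noetherian rings can be cut down to quasi-finite base changes
-/

set_option autoImplicit false
set_option maxSynthPendingDepth 3

universe u

open TensorProduct IsLocalRing

set_option backward.isDefEq.respectTransparency.types false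

attribute [local instance] Algebra.TensorProduct.rightAlgebra

namespace Groth.Agent.Dev4

/-- A closed and minimal point of a fibre is a quasi-finite point. -/
theorem quasiFiniteAt_of_isolated {R S : Type u} [CommRing R] [CommRing S] [Algebra R S] [Algebra.FiniteType R S]
    (p : Ideal R) [p.IsPrime] (q : Ideal S) [q.IsPrime] [q.LiesOver p]
    (hup : ∀ q' : Ideal S, q'.IsPrime → q'.LiesOver p → q ≤ q' → q' = q)
    (hdown : ∀ q' : Ideal S, q'.IsPrime → q'.LiesOver p → q' ≤ q → q' = q) : Algebra.QuasiFiniteAt R q := by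
  classical
  obtain rfl : p = q.comap (algebraMap R S) := Ideal.over_def q p
  set p := q.comap (algebraMap R S) with hpdef
  haveI : IsNoetherianRing (p.Fiber S) := Algebra.FiniteType.isNoetherianRing p.ResidueField (p.Fiber S)
  let e := PrimeSpectrum.primesOverOrderIsoFiber R S p
  let z := e ⟨q, inferInstance, inferInstance⟩
  have hz : ∀ w : PrimeSpectrum (p.Fiber S), z ≤ w ∨ w ≤ z → w = z := by
    intro w hw
    refine e.symm.injective ?_
    rw [e.symm_apply_apply]
    refine Subtype.ext ?_
    rcases hw with hw | hw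
    · exact hup _ (e.symm w).2.1 (e.symm w).2.2 (Subtype.coe_le_coe.2 (by simpa [z] using e.symm.monotone hw : (⟨q, inferInstance, inferInstance⟩ : p.primesOver S) ≤ e.symm w))
    · exact hdown _ (e.symm w).2.1 (e.symm w).2.2 (Subtype.coe_le_coe.2 (by simpa [z] using e.symm.monotone hw : e.symm w ≤ (⟨q, inferInstance, inferInstance⟩ : p.primesOver S)))
  have hopen : IsOpen ({z} : Set (PrimeSpectrum (p.Fiber S))) := by
    let T := ((⊥ : Ideal (p.Fiber S)).finite_minimalPrimes_of_isNoetherianRing).toFinset.erase z.asIdeal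
    have hset : ({z} : Set (PrimeSpectrum (p.Fiber S))) = (PrimeSpectrum.zeroLocus ((T.inf id : Ideal (p.Fiber S)) : Set (p.Fiber S)))ᶜ := by
      ext w
      rw [Set.mem_singleton_iff, Set.mem_compl_iff, PrimeSpectrum.mem_zeroLocus, SetLike.coe_subset_coe]
      refine ⟨?_, fun hw => ?_⟩
      · rintro rfl hle
        obtain ⟨m, hm, hmz⟩ := z.2.inf_le'.1 hle
        obtain ⟨hne, hmem⟩ := Finset.mem_erase.1 hm
        have hmp : m.IsPrime := ((Set.Finite.mem_toFinset _).1 hmem).1.1
        exact hne (congrArg PrimeSpectrum.asIdeal (hz ⟨m, hmp⟩ (Or.inr hmz)))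
      · obtain ⟨m, hm, hmw⟩ := Ideal.exists_minimalPrimes_le (bot_le : ⊥ ≤ w.asIdeal)
        by_cases hmz : m = z.asIdeal
        · exact hz w (Or.inl (show z.asIdeal ≤ w.asIdeal by rw [← hmz]; exact hmw))
        · exact absurd ((Finset.inf_le (f := id) (Finset.mem_erase.2 ⟨hmz, (Set.Finite.mem_toFinset _).2 hm⟩)).trans hmw) hw
    rw [hset]
    exact (PrimeSpectrum.isClosed_zeroLocus _).isOpen_compl
  refine (Algebra.quasiFiniteAt_iff_isOpen_singleton_fiber (R := R) (⟨q, inferInstance⟩ : PrimeSpectrum S)).2 ?_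
  let h := PrimeSpectrum.preimageHomeomorphFiber R S (PrimeSpectrum.comap (algebraMap R S) ⟨q, inferInstance⟩)
  rw [← h.isOpen_image, Set.image_singleton]
  exact hopen

variable {A B N : Type u} [CommRing A] [CommRing B] [Algebra A B] [AddCommGroup N] [Module B N] [Module A N]
  [IsScalarTower A B N]

/-- Data are transported along maps of coefficient rings. -/
theorem hasDatum_map {A₀ A' : Type u} [CommRing A₀] [Algebra A A₀] [CommRing A'] [Algebra A A'] (φ : A₀ →ₐ[A] A')
    (t₀' t₀ : Ideal A₀) [t₀'.IsPrime] [t₀.IsPrime] (t' t : Ideal A') [t'.IsPrime] [t.IsPrime]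
    (h' : t₀' = t'.comap φ.toRingHom) (h : t₀ = t.comap φ.toRingHom) (hd : HasDatum A B N t₀' t₀) :
    HasDatum A B N t' t := by
  obtain ⟨a, s, n, hs, hat, hn, han⟩ := hd
  have key : ∀ (I₀ : Ideal A₀) [I₀.IsPrime] (I : Ideal A') [I.IsPrime], I₀ = I.comap φ.toRingHom →
      ∃ ι : I₀.ResidueField →ₐ[A] I.ResidueField, ∀ (X : Type u) [AddCommGroup X] [Module A X],
        Function.Injective (ι.toLinearMap.rTensor X) ∧
        ∀ x : A₀ ⊗[A] X, ι.toLinearMap.rTensor X (redMap A I₀ X x) = redMap A I X (φ.toLinearMap.rTensor X x) := by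
    intro I₀ _ I _ hI
    let ι : I₀.ResidueField →ₐ[A] I.ResidueField := Ideal.ResidueField.mapₐ I₀ I φ hI
    refine ⟨ι, fun X _ _ => ⟨?_, fun x => ?_⟩⟩
    · letI : Algebra I₀.ResidueField I.ResidueField := ι.toRingHom.toAlgebra
      haveI : IsScalarTower A I₀.ResidueField I.ResidueField := IsScalarTower.of_algebraMap_eq fun c => (ι.commutes c).symm
      obtain ⟨ρ, hρ⟩ := (IsScalarTower.toAlgHom I₀.ResidueField I₀.ResidueField I.ResidueField).toLinearMap
        |>.exists_leftInverse_of_injective (LinearMap.ker_eq_bot.2 ι.toRingHom.injective)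
      refine Function.LeftInverse.injective (g := (ρ.restrictScalars A).rTensor X) fun y => ?_
      rw [← LinearMap.comp_apply, ← LinearMap.rTensor_comp,
        show (ρ.restrictScalars A).comp ι.toLinearMap = LinearMap.id from LinearMap.ext fun c => LinearMap.congr_fun hρ c,
        LinearMap.rTensor_id, LinearMap.id_apply]
    · induction x using TensorProduct.induction_on with
      | zero => simp
      | add u v hu hv => simp only [map_add, hu, hv]
      | tmul g y =>
        rw [redMap_tmul, LinearMap.rTensor_tmul, LinearMap.rTensor_tmul, redMap_tmul]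
        congr 1
        exact Ideal.ResidueField.map_algebraMap ..
  obtain ⟨ι, hι⟩ := key t₀ t h
  obtain ⟨ι', hι'⟩ := key t₀' t' h'
  refine ⟨φ.toLinearMap.rTensor B a, φ s, φ.toLinearMap.rTensor N n, fun hs' => hs (by rw [h]; exact hs'), ?_,
    fun h0 => hn ((hι' N).1 ?_), ?_⟩
  · rw [← (hι B).2, hat, (hι B).2, LinearMap.rTensor_tmul]
    rfl
  · rw [(hι' N).2, h0, map_zero]
  · rw [← (hι' B).2, ← (hι' N).2, ← fibAct_natural, han, map_zero]

/-- There is no datum inside a single fibre. -/
theorem not_liesOver_of_hasDatum {A₀ : Type u} [CommRing A₀] [Algebra A A₀] [IsNoetherianRing A₀] (p : Ideal A) [p.IsPrime]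
    (u' u : Ideal A₀) [u'.IsPrime] [u.IsPrime] (hle : u' ≤ u) (hup : u.LiesOver p) (hd : HasDatum A B N u' u) :
    ¬ u'.LiesOver p := by
  intro hu'p
  classical
  let D := A₀ ⧸ u'
  let P : Ideal D := u.map (Ideal.Quotient.mk u')
  haveI : P.IsPrime := Ideal.map_isPrime_of_surjective Ideal.Quotient.mk_surjective (by rwa [Ideal.mk_ker])
  let R := Localization.AtPrime P
  let φ : A₀ →ₐ[A] R := (IsScalarTower.toAlgHom A D R).comp (Ideal.Quotient.mkₐ A u')
  have hinj : Function.Injective (algebraMap D R) :=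
    IsLocalization.injective R P.primeCompl_le_nonZeroDivisors
  have h0 : u' = (⊥ : Ideal R).comap φ.toRingHom := by
    ext x
    refine ⟨fun hx => ?_, fun hx => ?_⟩
    · show algebraMap D R (Ideal.Quotient.mk u' x) = 0
      rw [Ideal.Quotient.eq_zero_iff_mem.2 hx, map_zero]
    · exact Ideal.Quotient.eq_zero_iff_mem.1 (hinj (by rw [map_zero]; exact hx))
  have h1 : u = (maximalIdeal R).comap φ.toRingHom := by
    show u = (maximalIdeal R).comap ((algebraMap D R).comp (Ideal.Quotient.mk u'))
    rw [← Ideal.comap_comap, show (maximalIdeal R).comap (algebraMap D R) = P from Localization.AtPrime.comap_maximalIdeal,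
      Ideal.comap_map_of_surjective _ Ideal.Quotient.mk_surjective]
    exact (sup_eq_left.2 (by show RingHom.ker (Ideal.Quotient.mk u') ≤ u; rwa [Ideal.mk_ker])).symm
  haveI : (⊥ : Ideal R).IsPrime := Ideal.isPrime_bot
  obtain ⟨a, s, n, hs, hat, hn, han⟩ := hasDatum_map φ u' u (⊥ : Ideal R) (maximalIdeal R) h0 h1 hd
  -- the module is free over the local domain
  let g : A →+* R := algebraMap A R
  have hAR : ∀ c : A, algebraMap A R c = algebraMap D R (Ideal.Quotient.mk u' (algebraMap A A₀ c)) := fun c => by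
    rw [IsScalarTower.algebraMap_apply A D R]; rfl
  let ρ : p.ResidueField →+* R := Ideal.ResidueField.lift p g
    (fun c hc => by
      show g c = 0
      rw [show g c = _ from hAR c, Ideal.Quotient.eq_zero_iff_mem.2 ((Ideal.mem_of_liesOver u' p c).1 hc), map_zero])
    (fun c hc => by
      show IsUnit (g c)
      rw [show g c = _ from hAR c]
      refine IsLocalization.map_units R (⟨_, fun h => hc ?_⟩ : P.primeCompl)
      refine (Ideal.mem_of_liesOver u p c).2 ?_
      have h2 : Ideal.Quotient.mk u' (algebraMap A A₀ c) ∈ u.map (Ideal.Quotient.mk u') := h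
      rw [← Ideal.mem_comap, Ideal.comap_map_of_surjective _ Ideal.Quotient.mk_surjective,
        sup_eq_left.2 (show Ideal.comap (Ideal.Quotient.mk u') ⊥ ≤ u by rw [← RingHom.ker_eq_comap_bot, Ideal.mk_ker]; exact hle)] at h2
      exact h2)
  letI : Algebra p.ResidueField R := ρ.toAlgebra
  haveI : IsScalarTower A p.ResidueField R := IsScalarTower.of_algebraMap_eq fun c =>
    (Ideal.ResidueField.lift_algebraMap _ _ _ _ _).symm
  haveI : Module.Free R (R ⊗[A] N) :=
    Module.Free.of_equiv (AlgebraTensorModule.cancelBaseChange A p.ResidueField R R N)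
  haveI : Module.Flat R (R ⊗[A] N) := inferInstance
  let M := R ⊗[A] N
  let θ : ∀ (v : Ideal R) [v.IsPrime] (X : Type u) [AddCommGroup X] [Module A X],
      (R ⊗[A] X) ⊗[R] v.ResidueField ≃ₗ[R] v.ResidueField ⊗[A] X := fun v _ X _ _ =>
    (TensorProduct.comm R (R ⊗[A] X) v.ResidueField).trans (AlgebraTensorModule.cancelBaseChange A R R v.ResidueField X)
  have hθ : ∀ (v : Ideal R) [v.IsPrime] (X : Type u) [AddCommGroup X] [Module A X] (y : R ⊗[A] X),
      θ v X (y ⊗ₜ[R] 1) = redMap A v X y := fun v _ X _ _ y => by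
    induction y using TensorProduct.induction_on with
    | zero => simp
    | add v w hv hw => simp only [TensorProduct.add_tmul, map_add, hv, hw]
    | tmul g m => simp [θ, redMap_tmul, Algebra.smul_def]
  let b := Module.Free.chooseBasis R M
  -- exactly killed in the ring
  have han' : fibAct A B N R a n = 0 := by
    have h2 : redMap A (⊥ : Ideal R) N (fibAct A B N R a n) = 0 :=
      (fibAct_natural (IsScalarTower.toAlgHom A R (⊥ : Ideal R).ResidueField) a n).trans han
    have h3 : (fibAct A B N R a n) ⊗ₜ[R] (1 : (⊥ : Ideal R).ResidueField) = 0 :=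
      (θ ⊥ N).injective (by rw [hθ, h2, map_zero])
    obtain ⟨d, hd, hdy⟩ := exists_smul_mem_of_tmul_one_eq_zero (⊥ : Ideal R) M h3
    rw [Submodule.bot_smul, Submodule.mem_bot] at hdy
    apply b.repr.injective
    ext i
    have h4 := congrArg (fun y => b.repr y i) hdy
    simp only [map_smul, map_zero, Finsupp.smul_apply, Finsupp.zero_apply, smul_eq_mul, mul_eq_zero] at h4
    rw [map_zero, Finsupp.zero_apply]
    exact h4.resolve_left fun h => hd (by simp [h])
  -- the difference to a unit lies in the maximal ideal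
  obtain ⟨d, hd, hdx⟩ := exists_smul_mem_of_tmul_one_eq_zero (maximalIdeal R) (R ⊗[A] B)
    (x := a - s ⊗ₜ[A] (1 : B)) ((θ (maximalIdeal R) B).injective (by rw [hθ, map_sub, hat, sub_self, map_zero]))
  have hx : a - s ⊗ₜ[A] (1 : B) ∈ maximalIdeal R • (⊤ : Submodule R (R ⊗[A] B)) := by
    obtain ⟨e, he⟩ : IsUnit d := IsLocalRing.notMem_maximalIdeal.1 hd
    have := Submodule.smul_mem _ (↑e⁻¹ : R) hdx
    rwa [← he, smul_smul, Units.inv_mul, one_smul] at this
  have hlin : ∀ (c : R) (x : R ⊗[A] B) (y : M), fibAct A B N R (c • x) y = c • fibAct A B N R x y := fun c x y => by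
    induction x using TensorProduct.induction_on with
    | zero => simp
    | add v w hv hw => simp only [smul_add, map_add, LinearMap.add_apply, hv, hw]
    | tmul g m =>
      induction y using TensorProduct.induction_on with
      | zero => simp
      | add v w hv hw => simp only [map_add, smul_add, hv, hw]
      | tmul h k => simp [TensorProduct.smul_tmul', mul_assoc]
  have hlin' : ∀ (x : R ⊗[A] B) (c : R) (y : M), fibAct A B N R x (c • y) = c • fibAct A B N R x y := fun x c y => by
    induction x using TensorProduct.induction_on with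
    | zero => simp
    | add v w hv hw => simp only [smul_add, map_add, LinearMap.add_apply, hv, hw]
    | tmul g m =>
      induction y using TensorProduct.induction_on with
      | zero => simp
      | add v w hv hw => simp only [map_add, smul_add, hv, hw]
      | tmul h k => rw [TensorProduct.smul_tmul', fibAct_tmul, fibAct_tmul, TensorProduct.smul_tmul', smul_eq_mul, smul_eq_mul, mul_left_comm]
  have hsy : ∀ y : M, fibAct A B N R (s ⊗ₜ[A] (1 : B)) y = s • y := fun y => by
    induction y using TensorProduct.induction_on with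
    | zero => simp
    | add v w hv hw => simp only [map_add, smul_add, hv, hw]
    | tmul h k => rw [fibAct_tmul, one_smul, TensorProduct.smul_tmul', smul_eq_mul]
  have hpow : ∀ j : ℕ, n ∈ (maximalIdeal R) ^ j • (⊤ : Submodule R M) := fun j => by
    induction j with
    | zero => simp
    | succ j ih =>
      have h2 : ∀ x ∈ maximalIdeal R • (⊤ : Submodule R (R ⊗[A] B)),
          fibAct A B N R x n ∈ (maximalIdeal R) ^ (j + 1) • (⊤ : Submodule R M) := fun x hx => by
        induction hx using Submodule.smul_induction_on' with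
        | smul c hc w _ =>
          rw [hlin, pow_succ', Submodule.mul_smul]
          refine Submodule.smul_mem_smul hc ?_
          have h3 : n ∈ (maximalIdeal R) ^ j • (⊤ : Submodule R M) := ih
          generalize n = y at h3
          induction h3 using Submodule.smul_induction_on' with
          | smul e he z _ => rw [hlin']; exact Submodule.smul_mem_smul he Submodule.mem_top
          | add v _ w' _ hv hw => rw [map_add]; exact add_mem hv hw
        | add v _ w _ hv hw => rw [map_add, LinearMap.add_apply]; exact add_mem hv hw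
      have h4 := h2 _ hx
      rw [map_sub, LinearMap.sub_apply, han', hsy, zero_sub, Submodule.neg_mem_iff] at h4
      obtain ⟨e, he⟩ : IsUnit s := IsLocalRing.notMem_maximalIdeal.1 hs
      have := Submodule.smul_mem _ (↑e⁻¹ : R) h4
      rwa [← he, smul_smul, Units.inv_mul, one_smul] at this
  refine hn ?_
  suffices n = 0 by rw [this, map_zero]
  apply b.repr.injective
  ext i
  rw [map_zero, Finsupp.zero_apply]
  have h5 : ∀ j : ℕ, b.repr n i ∈ (maximalIdeal R) ^ j := fun j => by
    have h6 := Submodule.mem_map_of_mem (f := (Finsupp.lapply i).comp b.repr.toLinearMap) (hpow j)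
    rw [Submodule.map_smul''] at h6
    have h7 : b.repr n i ∈ (maximalIdeal R) ^ j • (⊤ : Submodule R R) := Submodule.smul_mono le_rfl le_top h6
    rwa [smul_eq_mul, Ideal.mul_top] at h7
  haveI : IsNoetherianRing R := IsLocalization.isNoetherianRing P.primeCompl R inferInstance
  have h8 := Ideal.iInf_pow_eq_bot_of_isDomain (maximalIdeal R) (Ideal.IsPrime.ne_top inferInstance)
  exact (Submodule.mem_bot R).1 (h8 ▸ (Submodule.mem_iInf _).2 h5)

/-- A prime of dimension one below a given prime avoiding a given function. -/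
theorem exists_prime_covBy {S : Type u} [CommRing S] [IsNoetherianRing S] (q' q : Ideal S) [q'.IsPrime] [q.IsPrime]
    (hle : q' ≤ q) (h : S) (hq' : h ∉ q') (hq : h ∈ q) :
    ∃ r : Ideal S, r.IsPrime ∧ q' ≤ r ∧ r ≤ q ∧ h ∉ r ∧ ∀ r' : Ideal S, r'.IsPrime → r ≤ r' → r' ≤ q → r' = r ∨ r' = q := by
  classical
  obtain ⟨r, ⟨hr, hq'r, hrq, hhr⟩, hmax⟩ := (inferInstance : WellFoundedGT (Ideal S)).wf.has_min
    {r | r.IsPrime ∧ q' ≤ r ∧ r ≤ q ∧ h ∉ r} ⟨q', inferInstance, le_rfl, hle, hq'⟩
  haveI := hr
  refine ⟨r, hr, hq'r, hrq, hhr, fun r' hr' hle' hle'q => ?_⟩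
  by_contra hc
  push Not at hc
  obtain ⟨hne, hneq⟩ := hc
  -- strictly intermediate primes contain `h`
  have hint : ∀ v : Ideal S, v.IsPrime → r < v → v ≤ q → h ∈ v := fun v hv hlt hvq => by
    by_contra hhv
    exact hmax v ⟨hv, hq'r.trans hlt.le, hvq, hhv⟩ hlt
  let D := S ⧸ r
  let π := Ideal.Quotient.mk r
  haveI : (q.map π).IsPrime := Ideal.map_isPrime_of_surjective Ideal.Quotient.mk_surjective (by rwa [Ideal.mk_ker])
  haveI : (r'.map π).IsPrime := Ideal.map_isPrime_of_surjective Ideal.Quotient.mk_surjective (by rwa [Ideal.mk_ker])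
  have hcm : ∀ v : Ideal S, r ≤ v → (v.map π).comap π = v := fun v hv => by
    rw [Ideal.comap_map_of_surjective _ Ideal.Quotient.mk_surjective]
    exact sup_eq_left.2 (show RingHom.ker π ≤ v by rwa [Ideal.mk_ker])
  have hbot : r'.map π ≠ ⊥ := fun hb => hne (le_antisymm (fun x hx => by
    rw [← hcm r' hle', hb] at hx
    exact Ideal.Quotient.eq_zero_iff_mem.1 hx) hle')
  have hlt : r'.map π < q.map π := lt_of_le_of_ne (Ideal.map_mono hle'q) fun he => hneq (by
    rw [← hcm r' hle', he, hcm q (hle'.trans hle'q)])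
  let X := ((Ideal.span {π h}).finite_minimalPrimes_of_isNoetherianRing).toFinset.filter fun v => ¬ q.map π ≤ v
  have hsub : ((q.map π : Ideal D) : Set D) ⊆ ⋃ v ∈ ((insert ⊥ X : Finset (Ideal D)) : Set (Ideal D)), (v : Set D) := by
    intro x hx
    rw [Set.mem_iUnion₂]
    by_cases hx0 : x = 0
    · exact ⟨⊥, by simp, by simp [hx0]⟩
    obtain ⟨v, hv, hvq⟩ := Ideal.exists_minimalPrimes_le (I := Ideal.span {x}) (J := q.map π)
      ((Ideal.span_singleton_le_iff_mem _).2 hx)
    haveI := hv.1.1
    have hht : v.height ≤ 1 := Ideal.height_le_one_of_isPrincipal_of_mem_minimalPrimes _ _ hv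
    have hxv : x ∈ v := hv.1.2 (Ideal.mem_span_singleton_self x)
    have hvne : v ≠ ⊥ := fun hb => hx0 (by rwa [hb, Ideal.mem_bot] at hxv)
    have hvne' : ¬ q.map π ≤ v := fun hle'' => by
      have hq1 : (q.map π).height ≤ 1 := (Ideal.height_mono hle'').trans hht
      have h1 := Ideal.height_strict_mono_of_isPrime (lt_of_le_of_ne bot_le (Ne.symm hbot))
      have h2 := Ideal.height_strict_mono_of_isPrime hlt
      have h3 : (r'.map π).height < 1 := lt_of_lt_of_le h2 hq1
      rw [ENat.lt_one_iff_eq_zero] at h3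
      rw [h3] at h1
      exact not_lt_zero h1
    have hhv : π h ∈ v := hint (v.comap π) inferInstance (lt_of_le_of_ne (fun y hy => by
        show π y ∈ v
        rw [Ideal.Quotient.eq_zero_iff_mem.2 hy]; exact v.zero_mem) fun he => hvne (by
          rw [← Ideal.map_comap_of_surjective π Ideal.Quotient.mk_surjective v, ← he]
          exact Ideal.map_quotient_self r))
      ((Ideal.comap_mono hvq).trans (hcm q hrq).le)
    obtain ⟨w, hw, hwv⟩ := Ideal.exists_minimalPrimes_le (I := Ideal.span {π h}) (J := v)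
      ((Ideal.span_singleton_le_iff_mem _).2 hhv)
    have hwv' : w = v := by
      by_contra hne'
      haveI := hw.1.1
      have hwb : w ≠ ⊥ := fun hb => hhr (Ideal.Quotient.eq_zero_iff_mem.1 (by
        have := hw.1.2 (Ideal.mem_span_singleton_self (π h))
        rwa [hb, Ideal.mem_bot] at this))
      have h1 := Ideal.height_strict_mono_of_isPrime (lt_of_le_of_ne bot_le (Ne.symm hwb))
      have h2 := lt_of_lt_of_le (Ideal.height_strict_mono_of_isPrime (lt_of_le_of_ne hwv hne')) hht
      rw [ENat.lt_one_iff_eq_zero] at h2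
      rw [h2] at h1
      exact not_lt_zero h1
    exact ⟨v, Finset.mem_coe.2 (Finset.mem_insert_of_mem (Finset.mem_filter.2
      ⟨(Set.Finite.mem_toFinset _).2 (hwv' ▸ hw), hvne'⟩)), hxv⟩
  obtain ⟨v, hv, hqv⟩ := (Ideal.subset_union_prime ⊥ ⊥ fun v hv _ _ => by
    rcases Finset.mem_insert.1 hv with rfl | hv
    · exact Ideal.isPrime_bot
    · exact ((Set.Finite.mem_toFinset _).1 (Finset.mem_filter.1 hv).1).1.1).1 hsub
  rcases Finset.mem_insert.1 hv with rfl | hv
  · exact hbot (le_bot_iff.1 (hlt.le.trans hqv))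
  · exact (Finset.mem_filter.1 hv).2 hqv

/-- Over a Noetherian base a datum gives one with quasi-finite upper point. -/
theorem exists_quasiFinite [IsNoetherianRing A] [Algebra.FiniteType A B] [Module.Finite B N] {p : Ideal A} [p.IsPrime]
    {A' : Type u} [CommRing A'] [Algebra A A'] (t' t : Ideal A') [t'.IsPrime] [t.IsPrime] (hle : t' ≤ t)
    (htp : t.LiesOver p) (hd : HasDatum A B N t' t) :
    ∃ (A₁ : Type u) (_ : CommRing A₁) (_ : Algebra A A₁) (v' v : Ideal A₁) (_ : v'.IsPrime) (_ : v.IsPrime),
      Algebra.FiniteType A A₁ ∧ Algebra.QuasiFiniteAt A v ∧ v' ≤ v ∧ v.LiesOver p ∧ HasDatum A B N v' v := by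
  obtain ⟨A₀, _, _, u', u, _, _, hfp, hle₀, hup, hmax, hd₀⟩ := exists_fp_closedPoint (p := p) t' t hle htp hd
  haveI := hfp
  haveI := hup
  haveI : IsNoetherianRing A₀ := Algebra.FiniteType.isNoetherianRing A A₀
  obtain ⟨g, hg, hgu⟩ := exists_move_lower u' u hd₀
  have hnot := not_liesOver_of_hasDatum p u' u hle₀ hup hd₀
  obtain ⟨e, hep, heu'⟩ : ∃ e ∈ p, algebraMap A A₀ e ∉ u' := by
    by_contra hc
    push Not at hc
    exact hnot ⟨le_antisymm (fun x hx => hc x hx) fun x hx => (Ideal.mem_of_liesOver u p x).2 (hle₀ hx)⟩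
  obtain ⟨r, hr, hu'r, hru, hgr, hcov⟩ := exists_prime_covBy u' u hle₀ (g * algebraMap A A₀ e)
    (fun h => (‹u'.IsPrime›.mem_or_mem h).elim hg heu') (u.mul_mem_left g ((Ideal.mem_of_liesOver u p e).1 hep))
  haveI := hr
  have hd₁ := hgu r hu'r fun h => hgr (r.mul_mem_right _ h)
  let A₁ := A₀ ⧸ r
  let π := Ideal.Quotient.mkₐ A r
  let v := u.map π.toRingHom
  have hker : RingHom.ker π.toRingHom ≤ u := by
    show RingHom.ker (Ideal.Quotient.mk r) ≤ u
    rwa [Ideal.mk_ker]
  haveI : v.IsPrime := Ideal.map_isPrime_of_surjective Ideal.Quotient.mk_surjective hker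
  haveI : (⊥ : Ideal A₁).IsPrime := Ideal.isPrime_bot
  have hv : v.comap π.toRingHom = u := by
    show (u.map π.toRingHom).comap π.toRingHom = u
    rw [Ideal.comap_map_of_surjective π.toRingHom Ideal.Quotient.mk_surjective]
    exact sup_eq_left.2 hker
  have hr' : r = (⊥ : Ideal A₁).comap π.toRingHom := (Ideal.mk_ker (I := r)).symm
  have hover : ∀ w : Ideal A₁, w.LiesOver p ↔ (w.comap π.toRingHom).LiesOver p := fun w => by
    constructor <;> intro h <;> refine ⟨?_⟩
    · show p = (w.comap π.toRingHom).comap (algebraMap A A₀)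
      rw [Ideal.comap_comap, AlgHom.toRingHom_eq_coe, π.comp_algebraMap]; exact h.over
    · show p = w.comap (algebraMap A A₁)
      rw [← π.comp_algebraMap, ← Ideal.comap_comap]; exact h.over
  haveI : v.LiesOver p := (hover v).2 (by rw [hv]; exact hup)
  refine ⟨A₁, inferInstance, inferInstance, ⊥, v, inferInstance, inferInstance, inferInstance, ?_, bot_le, inferInstance,
    hasDatum_map π r u ⊥ v hr' hv.symm hd₁⟩
  refine quasiFiniteAt_of_isolated p v (fun w hw hwp hle' => ?_) (fun w hw hwp hle' => ?_)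
  · have h1 : u ≤ w.comap π.toRingHom := hv ▸ Ideal.comap_mono hle'
    have h2 : (w.comap π.toRingHom).LiesOver p := (hover w).1 hwp
    obtain ⟨x, hx⟩ := RG4.exists_fiber_point p (w.comap π.toRingHom)
    have h3 : FlatCA.fiberIdeal p u ≤ x.asIdeal := Ideal.map_le_iff_le_comap.2 (h1.trans hx.ge)
    have h4 := hmax.eq_of_le x.2.ne_top h3
    refine Ideal.comap_injective_of_surjective π.toRingHom Ideal.Quotient.mk_surjective
      (le_antisymm ?_ (Ideal.comap_mono hle'))
    rw [hv, ← hx, ← comap_fiberIdeal p u, h4]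
    exact le_rfl
  · have h1 : (w.comap π.toRingHom) ≤ u := hv ▸ Ideal.comap_mono hle'
    haveI : (w.comap π.toRingHom).LiesOver p := (hover w).1 hwp
    have h2 : r ≤ w.comap π.toRingHom := hr'.le.trans (Ideal.comap_mono bot_le)
    refine Ideal.comap_injective_of_surjective π.toRingHom Ideal.Quotient.mk_surjective ?_
    rcases hcov _ inferInstance h2 h1 with h | h
    · refine absurd ?_ hgr
      rw [← h]
      exact (w.comap π.toRingHom).mul_mem_left g ((Ideal.mem_of_liesOver (w.comap π.toRingHom) p e).1 hep)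
    · rw [h, hv]

end Groth.Agent.Dev4
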