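import Groth.Agent.Lib.Dev4.ImpurityNoetherian
import Mathlib.RingTheory.Etale.QuasiFinite
import Mathlib.RingTheory.Ideal.GoingDown
import Mathlib.RingTheory.Ideal.GoingUp

/-!
# Impurities at quasi-finite points come from elementary étale neighbourhoods
-/

set_option autoImplicit false
set_option maxSynthPendingDepth 3

universe u

open TensorProduct

set_option backward.isDefEq.respectTransparency.types false

attribute [local instance] Algebra.TensorProduct.rightAlgebra

namespace Groth.Agent.Dev4

variable {A B N : Type u} [CommRing A] [CommRing B] [Algebra A B] [AddCommGroup N] [Module B N] [Module A N]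
  [IsScalarTower A B N]

/-- The action is multiplicative. -/
theorem fibAct_mul {κ : Type u} [CommRing κ] [Algebra A κ] (x y : κ ⊗[A] B) (z : κ ⊗[A] N) :
    fibAct A B N κ (x * y) z = fibAct A B N κ x (fibAct A B N κ y z) := by
  induction x using TensorProduct.induction_on with
  | zero => simp
  | add u v hu hv => simp only [add_mul, map_add, LinearMap.add_apply, hu, hv]
  | tmul c b =>
    induction y using TensorProduct.induction_on with
    | zero => simp
    | add u v hu hv => simp only [mul_add, map_add, LinearMap.add_apply, hu, hv]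
    | tmul c' b' =>
      induction z using TensorProduct.induction_on with
      | zero => simp
      | add u v hu hv => simp only [map_add, hu, hv]
      | tmul d m => simp [mul_assoc, mul_smul]

/-- A datum at a point finite over an elementary neighbourhood and alone over its point moves down to it. -/
theorem hasDatum_of_finite {R' C : Type u} [CommRing R'] [CommRing C] [Algebra A R'] [Algebra A C] [Algebra R' C]
    [IsScalarTower A R' C] [Module.Finite R' C] (t₁ Q : Ideal C) [t₁.IsPrime] [Q.IsPrime] (P : Ideal R') [P.IsPrime]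
    [hQP : Q.LiesOver P] (huniq : ∀ Q' : Ideal C, Q'.IsPrime → Q'.LiesOver P → Q' = Q) (hd : HasDatum A B N t₁ Q) :
    HasDatum A B N (t₁.comap (algebraMap R' C)) P := by
  classical
  obtain ⟨a, s, n, hs, hat, hn, han⟩ := hd
  let w := t₁.comap (algebraMap R' C)
  haveI : t₁.LiesOver w := ⟨rfl⟩
  let z := redMap A t₁ N n
  let φ : R' ⊗[A] B →ₐ[A] C ⊗[A] B :=
    Algebra.TensorProduct.map (IsScalarTower.toAlgHom A R' C) (AlgHom.id A B)
  let π : C ⊗[A] B →ₐ[A] t₁.ResidueField ⊗[A] B :=
    Algebra.TensorProduct.map (IsScalarTower.toAlgHom A C t₁.ResidueField) (AlgHom.id A B)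
  have hπ : ∀ x, π x = redMap A t₁ B x := fun x => by
    induction x using TensorProduct.induction_on with
    | zero => simp
    | add u v hu hv => simp only [map_add, hu, hv]
    | tmul c b => rfl
  let J : Ideal (C ⊗[A] B) :=
    { carrier := {x | fibAct A B N t₁.ResidueField (π x) z = 0}
      zero_mem' := by simp
      add_mem' := fun {x y} hx hy => by
        show fibAct A B N t₁.ResidueField (π (x + y)) z = 0
        rw [map_add, map_add, LinearMap.add_apply,
          show fibAct A B N t₁.ResidueField (π x) z = 0 from hx, show fibAct A B N t₁.ResidueField (π y) z = 0 from hy, add_zero]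
      smul_mem' := fun c x hx => by
        show fibAct A B N t₁.ResidueField (π (c * x)) z = 0
        rw [map_mul, fibAct_mul, show fibAct A B N t₁.ResidueField (π x) z = 0 from hx, map_zero] }
  have haJ : a ∈ J := by show fibAct A B N t₁.ResidueField (π a) z = 0; rw [hπ]; exact han
  letI : Algebra (R' ⊗[A] B) (C ⊗[A] B) := φ.toRingHom.toAlgebra
  haveI hint : Algebra.IsIntegral (R' ⊗[A] B) (C ⊗[A] B) := ⟨fun x => by
    induction x using TensorProduct.induction_on with
    | zero => exact isIntegral_zero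
    | add u v hu hv => exact hu.add hv
    | tmul c b =>
      rw [show c ⊗ₜ[A] b = (c ⊗ₜ[A] (1 : B)) * ((1 : C) ⊗ₜ[A] b) by
        rw [Algebra.TensorProduct.tmul_mul_tmul, mul_one, one_mul]]
      refine IsIntegral.mul ?_ ?_
      · obtain ⟨f, hf, hf0⟩ := (Algebra.IsIntegral.isIntegral (R := R') c)
        refine ⟨f.map (algebraMap R' (R' ⊗[A] B)), hf.map _, ?_⟩
        rw [Polynomial.eval₂_map]
        have hcomp : (algebraMap (R' ⊗[A] B) (C ⊗[A] B)).comp (algebraMap R' (R' ⊗[A] B)) =
            (Algebra.TensorProduct.includeLeftRingHom : C →+* C ⊗[A] B).comp (algebraMap R' C) := by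
          ext r
          show φ (r ⊗ₜ[A] (1 : B)) = algebraMap R' C r ⊗ₜ[A] (1 : B)
          simp [φ]
        rw [hcomp]
        have h1 := Polynomial.hom_eval₂ f (algebraMap R' C) (Algebra.TensorProduct.includeLeftRingHom : C →+* C ⊗[A] B) c
        rw [hf0, map_zero] at h1
        exact h1.symm
      · have : (1 : C) ⊗ₜ[A] b = algebraMap (R' ⊗[A] B) (C ⊗[A] B) ((1 : R') ⊗ₜ[A] b) := by
          show _ = φ ((1 : R') ⊗ₜ[A] b)
          simp [φ]
        rw [this]
        exact isIntegral_algebraMap⟩
  let I : Ideal (R' ⊗[A] B) := J.comap (algebraMap (R' ⊗[A] B) (C ⊗[A] B))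
  obtain ⟨b, hb, s', hs', m, hm, hbm⟩ : ∃ b ∈ I, ∃ s' ∉ P, ∃ m ∈ P.map (algebraMap R' (R' ⊗[A] B)),
      b + m = algebraMap R' (R' ⊗[A] B) s' := by
    have hdis : ¬ Disjoint ((I ⊔ P.map (algebraMap R' (R' ⊗[A] B)) : Ideal (R' ⊗[A] B)) : Set (R' ⊗[A] B))
        ((Algebra.algebraMapSubmonoid (R' ⊗[A] B) P.primeCompl : Submonoid (R' ⊗[A] B)) : Set (R' ⊗[A] B)) := fun hdis => by
      obtain ⟨P₂, hP₂, hle, hd⟩ := Ideal.exists_le_prime_disjoint _ _ hdis
      haveI := hP₂
      obtain ⟨Q₂, hJQ, hQ₂, hQ₂P⟩ := Ideal.exists_ideal_over_prime_of_isIntegral P₂ J (le_sup_left.trans hle)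
      haveI := hQ₂
      let Q' := Q₂.comap (algebraMap C (C ⊗[A] B))
      haveI hQ'P : Q'.LiesOver P := ⟨by
        refine le_antisymm (fun r hr => ?_) (fun r hr => ?_)
        · show algebraMap C (C ⊗[A] B) (algebraMap R' C r) ∈ Q₂
          have h1 : algebraMap R' (R' ⊗[A] B) r ∈ Q₂.comap (algebraMap (R' ⊗[A] B) (C ⊗[A] B)) := by
            rw [hQ₂P]; exact hle (Ideal.mem_sup_right (Ideal.mem_map_of_mem _ hr))
          have h2 : φ (algebraMap R' (R' ⊗[A] B) r) ∈ Q₂ := h1
          simpa [φ] using h2
        · by_contra hrP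
          refine Set.disjoint_left.1 hd (show algebraMap R' (R' ⊗[A] B) r ∈ P₂ from ?_) ⟨r, hrP, rfl⟩
          rw [← hQ₂P]
          show φ (algebraMap R' (R' ⊗[A] B) r) ∈ Q₂
          have h2 : algebraMap C (C ⊗[A] B) (algebraMap R' C r) ∈ Q₂ := hr
          simpa [φ] using h2⟩
      have hQ' : Q' = Q := huniq Q' inferInstance hQ'P
      haveI : Q₂.LiesOver Q := ⟨hQ'.symm⟩
      let ψ : Q.ResidueField →ₐ[C] Q₂.ResidueField :=
        Ideal.ResidueField.mapₐ Q Q₂ (Algebra.ofId C (C ⊗[A] B)) (Ideal.LiesOver.over (P := Q₂) (p := Q))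
      let Φ : Q.ResidueField ⊗[A] B →ₐ[A] Q₂.ResidueField :=
        Algebra.TensorProduct.lift (ψ.restrictScalars A) (IsScalarTower.toAlgHom A B Q₂.ResidueField) fun _ _ => Commute.all _ _
      have hΦ : ∀ y : C ⊗[A] B, Φ (redMap A Q B y) = algebraMap (C ⊗[A] B) Q₂.ResidueField y := fun y => by
        induction y using TensorProduct.induction_on with
        | zero => simp
        | add u v hu hv => simp only [map_add, hu, hv]
        | tmul g b =>
          rw [redMap_tmul, Algebra.TensorProduct.lift_tmul]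
          show ψ (algebraMap C Q.ResidueField g) * algebraMap B Q₂.ResidueField b = _
          rw [ψ.commutes, IsScalarTower.algebraMap_apply C (C ⊗[A] B) Q₂.ResidueField,
            IsScalarTower.algebraMap_apply B (C ⊗[A] B) Q₂.ResidueField, ← map_mul]
          congr 1
          show (g ⊗ₜ[A] (1 : B)) * ((1 : C) ⊗ₜ[A] b) = g ⊗ₜ[A] b
          rw [Algebra.TensorProduct.tmul_mul_tmul, mul_one, one_mul]
      have h1 := congrArg Φ hat
      rw [hΦ, hΦ, Ideal.algebraMap_residueField_eq_zero.2 (hJQ haJ)] at h1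
      exact hs ((Ideal.mem_of_liesOver Q₂ Q s).2 (Ideal.algebraMap_residueField_eq_zero.1 h1.symm))
    obtain ⟨_, hy, s', hs', rfl⟩ := Set.not_disjoint_iff.1 hdis
    obtain ⟨b, hb, m, hm, hbm⟩ := Submodule.mem_sup.1 hy
    exact ⟨b, hb, s', hs', m, hm, hbm⟩
  -- a coordinate of the section
  let ι : w.ResidueField →ₐ[A] t₁.ResidueField :=
    Ideal.ResidueField.mapₐ w t₁ (IsScalarTower.toAlgHom A R' C) rfl
  letI : Algebra w.ResidueField t₁.ResidueField := ι.toRingHom.toAlgebra
  haveI : IsScalarTower A w.ResidueField t₁.ResidueField := IsScalarTower.of_algebraMap_eq fun c => (ι.commutes c).symm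
  let bas := Module.Free.chooseBasis w.ResidueField t₁.ResidueField
  let lam : Module.Free.ChooseBasisIndex w.ResidueField t₁.ResidueField → (t₁.ResidueField →ₗ[A] w.ResidueField) :=
    fun i => ((Finsupp.lapply i).comp bas.repr.toLinearMap).restrictScalars A
  obtain ⟨i, hi⟩ : ∃ i, (lam i).rTensor N z ≠ 0 := by
    by_contra hc
    push Not at hc
    refine hn ?_
    let e : t₁.ResidueField ⊗[A] N ≃ₗ[A] Module.Free.ChooseBasisIndex w.ResidueField t₁.ResidueField →₀ (w.ResidueField ⊗[A] N) :=
      (TensorProduct.congr (bas.repr.restrictScalars A) (LinearEquiv.refl A N)).trans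
        (TensorProduct.finsuppLeft A A w.ResidueField N _)
    have he : ∀ (y : t₁.ResidueField ⊗[A] N) i, e y i = (lam i).rTensor N y := fun y i => by
      induction y using TensorProduct.induction_on with
      | zero => simp
      | add u v hu hv => simp only [map_add, Finsupp.add_apply, hu, hv]
      | tmul c m => simp [e, lam, TensorProduct.finsuppLeft_apply_tmul_apply]
    exact e.injective (by rw [map_zero]; exact Finsupp.ext fun i => (he z i).trans (hc i))
  have hnat : ∀ (x : w.ResidueField ⊗[A] B) (y : t₁.ResidueField ⊗[A] N),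
      fibAct A B N w.ResidueField x ((lam i).rTensor N y) =
        (lam i).rTensor N (fibAct A B N t₁.ResidueField (ι.toLinearMap.rTensor B x) y) := fun x y => by
    induction x using TensorProduct.induction_on with
    | zero => simp
    | add u v hu hv => simp only [map_add, LinearMap.add_apply, hu, hv]
    | tmul c m =>
      induction y using TensorProduct.induction_on with
      | zero => simp
      | add u v hu hv => simp only [map_add, hu, hv]
      | tmul d k =>
        rw [LinearMap.rTensor_tmul, LinearMap.rTensor_tmul, fibAct_tmul, fibAct_tmul, LinearMap.rTensor_tmul]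
        congr 1
        show c * bas.repr d i = bas.repr (ι c * d) i
        rw [show ι c * d = c • d from (Algebra.smul_def c d).symm, map_smul, Finsupp.smul_apply, smul_eq_mul]
  have hkill : fibAct A B N w.ResidueField (redMap A w B b) ((lam i).rTensor N z) = 0 := by
    rw [hnat]
    have h1 : ι.toLinearMap.rTensor B (redMap A w B b) = π (φ b) := by
      clear hb hbm
      induction b using TensorProduct.induction_on with
      | zero => simp
      | add u v hu hv => simp only [map_add, hu, hv]
      | tmul r m =>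
        rw [redMap_tmul, LinearMap.rTensor_tmul, hπ]
        show ι (algebraMap R' w.ResidueField r) ⊗ₜ[A] m = redMap A t₁ B (algebraMap R' C r ⊗ₜ[A] m)
        rw [redMap_tmul]
        congr 1
        exact Ideal.ResidueField.map_algebraMap ..
    have h2 : fibAct A B N t₁.ResidueField (π (φ b)) z = 0 := hb
    rw [h1, h2, map_zero]
  -- clear the denominator
  obtain ⟨c, hc, n₀, hn₀⟩ : ∃ (c : R') (_ : c ∉ w) (n₀ : R' ⊗[A] N),
      redMap A w N n₀ = fibAct A B N w.ResidueField (algebraMap R' w.ResidueField c ⊗ₜ[A] (1 : B)) ((lam i).rTensor N z) := by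
    have h1w : (1 : R') ∉ w := fun h => (inferInstance : w.IsPrime).ne_top ((Ideal.eq_top_iff_one w).2 h)
    generalize (lam i).rTensor N z = y
    induction y using TensorProduct.induction_on with
    | zero => exact ⟨1, h1w, 0, by simp⟩
    | add u v hu hv =>
      obtain ⟨c₁, hc₁, n₁, hn₁⟩ := hu
      obtain ⟨c₂, hc₂, n₂, hn₂⟩ := hv
      refine ⟨c₁ * c₂, fun h => ((inferInstance : w.IsPrime).mem_or_mem h).elim hc₁ hc₂,
        fibAct A B N R' (c₂ ⊗ₜ[A] (1 : B)) n₁ + fibAct A B N R' (c₁ ⊗ₜ[A] (1 : B)) n₂, ?_⟩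
      have key : ∀ (c : R') (y : R' ⊗[A] N), redMap A w N (fibAct A B N R' (c ⊗ₜ[A] (1 : B)) y) =
          fibAct A B N w.ResidueField (algebraMap R' w.ResidueField c ⊗ₜ[A] (1 : B)) (redMap A w N y) := fun c y =>
        (fibAct_natural (IsScalarTower.toAlgHom A R' w.ResidueField) (c ⊗ₜ[A] (1 : B)) y).trans (by rw [LinearMap.rTensor_tmul]; rfl)
      rw [map_add, map_add, key, key, hn₁, hn₂, ← fibAct_mul, ← fibAct_mul, Algebra.TensorProduct.tmul_mul_tmul,
        Algebra.TensorProduct.tmul_mul_tmul, ← map_mul, ← map_mul, mul_one, mul_comm c₂ c₁]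
    | tmul q k =>
      obtain ⟨g, d, hd, rfl⟩ := IsFractionRing.div_surjective (A := R' ⧸ w) q
      obtain ⟨g, rfl⟩ := Ideal.Quotient.mk_surjective g
      obtain ⟨d, rfl⟩ := Ideal.Quotient.mk_surjective d
      have hdt : d ∉ w := fun h => nonZeroDivisors.ne_zero hd (Ideal.Quotient.eq_zero_iff_mem.2 h)
      refine ⟨d, hdt, g ⊗ₜ[A] k, ?_⟩
      rw [redMap_tmul, fibAct_tmul, one_smul]
      congr 1
      have hd0 : algebraMap R' w.ResidueField d ≠ 0 := fun h => hdt (Ideal.algebraMap_residueField_eq_zero.1 h)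
      show _ = algebraMap R' w.ResidueField d * (algebraMap R' w.ResidueField g / algebraMap R' w.ResidueField d)
      rw [mul_div_cancel₀ _ hd0]
  refine ⟨b, s', n₀, hs', ?_, fun h0 => hi ?_, ?_⟩
  · let ψ : R' ⊗[A] B →ₐ[A] P.ResidueField ⊗[A] B :=
      Algebra.TensorProduct.map (IsScalarTower.toAlgHom A R' P.ResidueField) (AlgHom.id A B)
    have hψ : ∀ x, ψ x = redMap A P B x := fun x => by
      induction x using TensorProduct.induction_on with
      | zero => simp
      | add u v hu hv => simp only [map_add, hu, hv]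
      | tmul g k => rfl
    have hker : P.map (algebraMap R' (R' ⊗[A] B)) ≤ RingHom.ker ψ := Ideal.map_le_iff_le_comap.2 fun r hr => by
      show ψ (r ⊗ₜ[A] (1 : B)) = 0
      rw [hψ, redMap_tmul, Ideal.algebraMap_residueField_eq_zero.2 hr, TensorProduct.zero_tmul]
    have h1 : ψ b = ψ (algebraMap R' (R' ⊗[A] B) s') := by rw [← hbm, map_add, RingHom.mem_ker.1 (hker hm), add_zero]
    rw [hψ, hψ] at h1
    exact h1
  · obtain ⟨v, hv⟩ : IsUnit (algebraMap R' w.ResidueField c) :=
      isUnit_iff_ne_zero.2 fun h => hc (Ideal.algebraMap_residueField_eq_zero.1 h)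
    have h1 := congrArg (fibAct A B N w.ResidueField ((↑v⁻¹ : w.ResidueField) ⊗ₜ[A] (1 : B))) (hn₀.symm.trans h0)
    rw [map_zero, ← fibAct_mul, Algebra.TensorProduct.tmul_mul_tmul, ← hv, Units.inv_mul, mul_one] at h1
    refine Eq.trans ?_ h1
    generalize (lam i).rTensor N z = y
    induction y using TensorProduct.induction_on with
    | zero => simp
    | add u v hu hv => simp only [map_add, ← hu, ← hv]
    | tmul g k => simp
  · rw [hn₀, ← fibAct_mul, mul_comm, fibAct_mul, hkill, map_zero]

/-- A datum at a quasi-finite point gives one on an elementary étale neighbourhood. -/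
theorem exists_etaleNhd_datum {p : Ideal A} [p.IsPrime] {A' : Type u} [CommRing A'] [Algebra A A'] [Algebra.FiniteType A A']
    (t' t : Ideal A') [t'.IsPrime] [t.IsPrime] [t.LiesOver p] [Algebra.QuasiFiniteAt A t] (hle : t' ≤ t)
    (hd : HasDatum A B N t' t) :
    ∃ (R' : Type u) (_ : CommRing R') (_ : Algebra A R') (w P : Ideal R') (_ : w.IsPrime) (_ : P.IsPrime),
      FlatCA.IsEtaleNhd A R' p P ∧ w ≤ P ∧ HasDatum A B N w P := by
  obtain ⟨R', _, _, _, P, _, hPp, e, he, P', _, hP'P, hP't, heP', hκ, hfin, huniq⟩ :=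
    Algebra.exists_etale_isIdempotentElem_forall_liesOver_eq p t
  let S := R' ⊗[A] A'
  let C := Localization.Away e
  have hdis : Disjoint (Submonoid.powers e : Set S) (P' : Set S) := (Ideal.disjoint_powers_iff_notMem_of_isPrime _).2 heP'
  let Q : Ideal C := P'.map (algebraMap S C)
  haveI : Q.IsPrime := IsLocalization.isPrime_of_isPrime_disjoint (Submonoid.powers e) _ _ ‹P'.IsPrime› hdis
  haveI : Q.LiesOver P' := IsLocalization.liesOver_map_of_isPrime_disjoint (.powers e) _ hdis
  haveI : Q.LiesOver P := Ideal.LiesOver.trans Q P' P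
  have huniq' : ∀ Q' : Ideal C, Q'.IsPrime → Q'.LiesOver P → Q' = Q := fun Q' hQ' hQ'P => by
    haveI := hQ'
    haveI : (Q'.comap (algebraMap S C)).LiesOver P := ⟨by
      show P = (Q'.comap (algebraMap S C)).comap (algebraMap R' S)
      rw [Ideal.comap_comap, ← IsScalarTower.algebraMap_eq]
      exact hQ'P.over⟩
    have h1 := huniq (Q'.comap (algebraMap S C)) inferInstance inferInstance fun h =>
      hQ'.ne_top (Ideal.eq_top_of_isUnit_mem _ h (IsLocalization.Away.algebraMap_isUnit e))
    rw [← IsLocalization.map_under (Submonoid.powers e) C Q']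
    exact congrArg (Ideal.map _) h1
  haveI : Algebra.Etale A' S :=
    Algebra.Etale.of_equiv (Algebra.IsPushout.equiv A A' R' S (h := Algebra.IsPushout.symm inferInstance))
  haveI : Module.Flat A' S := inferInstance
  haveI : Module.Flat S C := IsLocalization.flat C (Submonoid.powers e)
  haveI : IsScalarTower A' S C := inferInstance
  haveI : Module.Flat A' C := Module.Flat.trans A' S C
  haveI : Q.LiesOver t := ⟨by
    show t = Q.comap (algebraMap A' C)
    rw [IsScalarTower.algebraMap_eq A' S C, ← Ideal.comap_comap, show Q.comap (algebraMap S C) = P' from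
      IsLocalization.under_map_of_isPrime_disjoint (Submonoid.powers e) C ‹P'.IsPrime› hdis]
    exact hP't.symm⟩
  obtain ⟨t₁, ht₁Q, ht₁, ht₁t'⟩ := Ideal.exists_ideal_le_liesOver_of_le (p := t') (q := t) Q hle
  haveI := ht₁
  haveI : IsScalarTower A A' C := IsScalarTower.of_algebraMap_eq fun c => by
    rw [IsScalarTower.algebraMap_apply A' S C, ← IsScalarTower.algebraMap_apply A A' S, ← IsScalarTower.algebraMap_apply A S C]
  have hd₁ := hasDatum_map (IsScalarTower.toAlgHom A A' C) t' t t₁ Q ht₁t'.over (Ideal.over_def Q t) hd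
  refine ⟨R', inferInstance, inferInstance, t₁.comap (algebraMap R' C), P, inferInstance, inferInstance,
    ⟨inferInstance, hPp, hκ⟩, ?_, hasDatum_of_finite t₁ Q P huniq' hd₁⟩
  rw [Ideal.over_def Q P]
  exact Ideal.comap_mono ht₁Q

end Groth.Agent.Dev4
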