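import Groth.Agent.Lib.Dev4.CdaFlat
import Groth.Agent.Lib.Dev4.SmoothProjective
import Groth.Agent.Lib.RG4.MLNoeth
import Groth.Agent.Lib.RG4.Step
import Groth.Agent.Lib.CAlgLow.ProjCrit

/-!
# Flat points with a complete dévissage have Mittag-Leffler local modules
-/

set_option autoImplicit false
set_option maxSynthPendingDepth 3

universe u

open TensorProduct IsLocalRing

set_option backward.isDefEq.respectTransparency.types false

namespace Groth.Agent.Dev4

/-- Local rings of smooth algebras with geometrically irreducible fibres are Mittag-Leffler at points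
over the closed point. -/
theorem isML_localized_smooth {R B : Type u} [CommRing R] [IsLocalRing R] [CommRing B] [Algebra R B] [Algebra.Smooth R B]
    (hB : FlatCA.GeomIrredFibres R B) (y : Ideal B) [y.IsPrime] [y.LiesOver (maximalIdeal R)] (r : ℕ) :
    CAlg.IsMittagLeffler R (LocalizedModule y.primeCompl (Fin r → B)) := by
  have hle : (maximalIdeal R).map (algebraMap R B) ≤ y :=
    Ideal.map_le_iff_le_comap.2 (Ideal.LiesOver.over (P := y) (p := maximalIdeal R)).le
  haveI : ((maximalIdeal R).map (algebraMap R B)).IsPrime :=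
    RG4.isPrime_map_maximalIdeal (RG4.isDomain_fiber_of_smooth hB _)
  set P := (maximalIdeal R).map (algebraMap R B)
  let F := Fin r → B
  haveI : Module.Flat R F := Module.Flat.of_linearEquiv (DirectSum.linearEquivFunOnFintype R (Fin r) (fun _ => B)).symm
  haveI : Module.Projective R B := projective_of_smooth hB
  haveI : Module.Projective R F := Module.Projective.of_equiv (DirectSum.linearEquivFunOnFintype R (Fin r) (fun _ => B))
  let ι := LocalizedModule.mkLinearMap y.primeCompl F
  let ιP := LocalizedModule.mkLinearMap P.primeCompl F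
  have hα : Function.Bijective ((LinearMap.id : F →ₗ[B] F).baseChange P.ResidueField) := by
    rw [LinearMap.baseChange_id]; exact Function.bijective_id
  have hP : FlatCA.FlatAt R P F := RG4.flat_of_isLocalizedModule P.primeCompl ιP
  have huP := RG4.univInj_localized hB hP hα
  have hsP : ∀ s : y.primeCompl, (s : B) ∈ P.primeCompl := fun s h => s.2 (hle h)
  let l := IsLocalizedModule.lift y.primeCompl ι ιP (fun s => IsLocalizedModule.map_units ιP (⟨(s : B), hsP s⟩ : P.primeCompl))
  have hl : l.restrictScalars R ∘ₗ ι.restrictScalars R = (ιP.comp LinearMap.id).restrictScalars R := by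
    rw [← LinearMap.restrictScalars_comp, IsLocalizedModule.lift_comp, LinearMap.comp_id]
  have hu : FlatCA.UnivInj R (ι.restrictScalars R) := fun Q _ _ => by
    refine Function.Injective.of_comp (f := (l.restrictScalars R).lTensor Q) ?_
    rw [← LinearMap.coe_comp, ← LinearMap.lTensor_comp, hl]
    exact huP Q
  have hu' := RG4.universallyInjective_of_univInj hu
  intro ι' Q _ _
  rw [injective_iff_map_eq_zero]
  intro z hz
  haveI : IsLocalizedModule y.primeCompl (AlgebraTensorModule.rTensor R (∀ i, Q i) ι) := inferInstance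
  obtain ⟨⟨z₀, s⟩, hs⟩ := IsLocalizedModule.surj y.primeCompl (AlgebraTensorModule.rTensor R (∀ i, Q i) ι) z
  let g : LocalizedModule y.primeCompl F →ₗ[R] LocalizedModule y.primeCompl F :=
    ((s : B) • (LinearMap.id : LocalizedModule y.primeCompl F →ₗ[B] LocalizedModule y.primeCompl F)).restrictScalars R
  have hgb : Function.Bijective g := by
    have h' := (Module.End.isUnit_iff _).1 (IsLocalizedModule.map_units ι s)
    exact h'
  have hsz : ∀ w : LocalizedModule y.primeCompl F ⊗[R] (∀ i, Q i), g.rTensor (∀ i, Q i) w = (s : B) • w := fun w => by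
    induction w using TensorProduct.induction_on with
    | zero => simp
    | add a b ha hb => simp only [map_add, smul_add, ha, hb]
    | tmul x q => rfl
  have h1 : g.rTensor (∀ i, Q i) z = (ι.restrictScalars R).rTensor (∀ i, Q i) z₀ := (hsz z).trans hs
  have h0 : z₀ = 0 := by
    refine CAlgLow.isMittagLeffler_of_projective ι' Q (funext fun i => ?_)
    rw [map_zero, Pi.zero_apply]
    refine hu' (Q i) ?_
    rw [map_zero, ← CAlgLow.piRightHom_rTensor, ← h1, CAlgLow.piRightHom_rTensor, hz, Pi.zero_apply, map_zero]
  refine (LinearEquiv.ofBijective g hgb |>.rTensor (∀ i, Q i)).injective ?_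
  rw [map_zero]
  show g.rTensor (∀ i, Q i) z = 0
  rw [h1, h0, map_zero]

/-- Localising at the only prime over a prime does not change being Mittag-Leffler. -/
theorem isML_of_unique {R B A M : Type u} [CommRing R] [CommRing B] [CommRing A] [Algebra R B] [Algebra R A]
    [Algebra B A] [IsScalarTower R B A] [Algebra.IsIntegral B A] [AddCommGroup M] [Module A M] [Module B M]
    [Module R M] [IsScalarTower B A M] [IsScalarTower R A M] [IsScalarTower R B M] (qA : Ideal A) [qA.IsPrime]
    (qB : Ideal B) [qB.IsPrime] [qA.LiesOver qB] (huniq : ∀ (Q : Ideal A) [Q.IsPrime], Q.LiesOver qB → Q = qA) :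
    CAlg.IsMittagLeffler R (LocalizedModule qA.primeCompl M) ↔ CAlg.IsMittagLeffler R (LocalizedModule qB.primeCompl M) := by
  haveI := RG4.isLocalizedModule_of_unique (M := M) qA qB huniq
  haveI : IsScalarTower R B (LocalizedModule qA.primeCompl M) := IsScalarTower.of_algebraMap_smul fun x y => by
    rw [← algebraMap_smul A (algebraMap R B x) y, ← IsScalarTower.algebraMap_apply, algebraMap_smul]
  let e := (IsLocalizedModule.iso qB.primeCompl
    ((LocalizedModule.mkLinearMap qA.primeCompl M).restrictScalars B)).restrictScalars R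
  exact ⟨CAlgLow.isMittagLeffler_congr e, CAlgLow.isMittagLeffler_congr e.symm⟩

theorem isML_localized_congr {R S M M' : Type u} [CommRing R] [CommRing S] [Algebra R S] [AddCommGroup M] [Module S M]
    [Module R M] [IsScalarTower R S M] [AddCommGroup M'] [Module S M'] [Module R M'] [IsScalarTower R S M']
    (q : Ideal S) [q.IsPrime] (e : M ≃ₗ[S] M') (h : CAlg.IsMittagLeffler R (LocalizedModule q.primeCompl M)) :
    CAlg.IsMittagLeffler R (LocalizedModule q.primeCompl M') := by
  let e' : LocalizedModule q.primeCompl M ≃ₗ[S] LocalizedModule q.primeCompl M' :=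
    IsLocalizedModule.iso q.primeCompl (LocalizedModule.mkLinearMap q.primeCompl M' ∘ₗ e.toLinearMap)
  exact CAlgLow.isMittagLeffler_congr (e'.symm.restrictScalars R) h

/-- A flat point with a complete dévissage has a Mittag-Leffler local module. -/
theorem isML_of_cda {R S : Type u} [CommRing R] [IsLocalRing R] [CommRing S] [Algebra R S]
    (N : Type u) [AddCommGroup N] [Module S N] [Module R N] [IsScalarTower R S N] (q : Ideal S) [q.IsPrime]
    [q.LiesOver (maximalIdeal R)] (hcd : FlatCA.HasCompleteDevissageAt R S N (maximalIdeal R) q)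
    (h : FlatCA.FlatAt R q N) : CAlg.IsMittagLeffler R (LocalizedModule q.primeCompl N) := by
  obtain ⟨D, ⟨DA⟩⟩ := hcd
  set m := maximalIdeal R
  haveI : ∀ i, (DA.qB i).IsPrime := DA.hqB
  haveI : ∀ i, (DA.qA i).IsPrime := DA.hqA
  haveI : ∀ i, (DA.qB i).LiesOver m := DA.overB
  haveI : ∀ i, (DA.qA i).LiesOver (DA.qB i) := DA.overA
  haveI hRAM : ∀ i, IsScalarTower R (D.A i) (D.M i) := fun i => IsScalarTower.of_algebraMap_smul fun x y => by
    rw [IsScalarTower.algebraMap_apply R (D.B i) (D.A i), algebraMap_smul, algebraMap_smul]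
  haveI hRB'M : ∀ i, IsScalarTower R (D.B i) (D.M (i + 1)) := fun i => IsScalarTower.of_algebraMap_smul fun x y => by
    rw [← algebraMap_smul (D.A (i + 1)) (algebraMap R (D.B i) x) y, ← IsScalarTower.algebraMap_apply, algebraMap_smul]
  haveI hRSM : IsScalarTower R S (D.M 0) := IsScalarTower.of_algebraMap_smul fun x y => by
    rw [← algebraMap_smul (D.A 0) (algebraMap R S x) y, ← IsScalarTower.algebraMap_apply, algebraMap_smul]
  have key : ∀ j i, i + j + 1 = D.n → FlatCA.FlatAt R (DA.qB i) (D.M i) →
      CAlg.IsMittagLeffler R (LocalizedModule (DA.qB i).primeCompl (D.M i)) := by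
    intro j
    induction j using Nat.strong_induction_on with
    | h j ih =>
      intro i hi hflat
      have hin : i < D.n := by omega
      haveI := D.smooth i hin
      haveI := D.finiteBA i hin
      haveI := D.finiteM i hin
      haveI : Module.Finite (D.B i) (D.M i) := Module.Finite.trans (D.A i) (D.M i)
      haveI : (m.map (algebraMap R (D.B i))).IsPrime :=
        RG4.isPrime_map_maximalIdeal (RG4.isDomain_fiber_of_smooth (D.geomIrred i hin) _)
      obtain ⟨hu, hTflat⟩ := RG4.univInj_and_flatAt_coker (D.geomIrred i hin) (DA.qB i) hflat (D.α i) (D.fibreIso i hin)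
      let T := (DA.qB i).primeCompl
      have hTml : CAlg.IsMittagLeffler R (LocalizedModule T (D.M i ⧸ LinearMap.range (D.α i))) := by
        by_cases hlast : i + 1 < D.n
        · have hsurj := D.surjBA' i hlast
          haveI : Module.Finite (D.B i) (D.A (i + 1)) :=
            Module.Finite.of_surjective (Algebra.linearMap (D.B i) (D.A (i + 1))) hsurj
          haveI : (DA.qA (i + 1)).LiesOver (DA.qB i) := ⟨(DA.qStep i hlast).symm⟩
          haveI := D.finiteBA (i + 1) hlast
          have huniq : ∀ (Q : Ideal (D.A (i + 1))) [Q.IsPrime], Q.LiesOver (DA.qB i) → Q = DA.qA (i + 1) :=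
            fun Q _ hQ => Ideal.comap_injective_of_surjective _ hsurj (hQ.over.symm.trans (DA.qStep i hlast).symm)
          have h2 := (RG4.flatAt_iff_of_unique (DA.qA (i + 1)) (DA.qB i) huniq).2
            (RG4.flatAt_congr (DA.qB i) (D.isoCoker i hlast) hTflat)
          exact isML_localized_congr (DA.qB i) (D.isoCoker i hlast).symm
            ((isML_of_unique (DA.qA (i + 1)) (DA.qB i) huniq).1
              ((isML_of_unique (DA.qA (i + 1)) (DA.qB (i + 1)) fun Q _ hQ => DA.uniq (i + 1) hlast Q hQ).2
                (ih (j - 1) (by omega) (i + 1) (by omega)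
                  ((RG4.flatAt_iff_of_unique (DA.qA (i + 1)) (DA.qB (i + 1))
                    fun Q _ hQ => DA.uniq (i + 1) hlast Q hQ).1 h2))))
        · obtain rfl : i = D.n - 1 := by omega
          haveI : Subsingleton (D.M (D.n - 1) ⧸ LinearMap.range (D.α (D.n - 1))) := by
            rw [Submodule.Quotient.subsingleton_iff, LinearMap.range_eq_top]; exact D.cokerLast
          haveI : Subsingleton (LocalizedModule T (D.M (D.n - 1) ⧸ LinearMap.range (D.α (D.n - 1)))) := inferInstance
          exact CAlgLow.isMittagLeffler_of_projective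
      have hex : Function.Exact (LocalizedModule.map T (D.α i)) (LocalizedModule.map T (LinearMap.range (D.α i)).mkQ) :=
        LocalizedModule.map_exact T (D.α i) (LinearMap.range (D.α i)).mkQ (LinearMap.exact_map_mkQ_range (D.α i))
      exact CAlgLow.isMittagLeffler_extension
        (f := (LocalizedModule.map T (D.α i)).restrictScalars R)
        (g := (LocalizedModule.map T (LinearMap.range (D.α i)).mkQ).restrictScalars R)
        (RG4.universallyInjective_of_univInj (RG4.univInj_localizedModule_map T hu))
        (LocalizedModule.map_surjective T _ (Submodule.mkQ_surjective _))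
        ((LinearMap.exact_iff (f := (LocalizedModule.map T (D.α i)).restrictScalars R)
          (g := (LocalizedModule.map T (LinearMap.range (D.α i)).mkQ).restrictScalars R)).1 hex).symm
        (isML_localized_smooth (D.geomIrred i hin) (DA.qB i) (D.r i)) hTml
  have h0 : 0 < D.n := D.pos
  haveI := D.finiteBA 0 h0
  haveI := D.smooth 0 h0
  haveI : Module.Finite S (D.A 0) := Module.Finite.of_surjective (Algebra.linearMap S (D.A 0)) D.surjSA
  haveI : (DA.qA 0).LiesOver q := ⟨DA.q0.symm⟩
  have huniq0 : ∀ (Q : Ideal (D.A 0)) [Q.IsPrime], Q.LiesOver q → Q = DA.qA 0 := fun Q _ hQ =>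
    Ideal.comap_injective_of_surjective _ D.surjSA (hQ.over.symm.trans DA.q0.symm)
  have h1 := (RG4.flatAt_iff_of_unique (DA.qA 0) q huniq0).2 (RG4.flatAt_congr q D.isoN h)
  exact isML_localized_congr q D.isoN.symm ((isML_of_unique (DA.qA 0) q huniq0).1
    ((isML_of_unique (DA.qA 0) (DA.qB 0) fun Q _ hQ => DA.uniq 0 h0 Q hQ).2
      (key (D.n - 1) 0 (by omega)
        ((RG4.flatAt_iff_of_unique (DA.qA 0) (DA.qB 0) fun Q _ hQ => DA.uniq 0 h0 Q hQ).1 h1))))

end Groth.Agent.Dev4
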