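import Groth.Prelude.Def_FlatCA
import Mathlib.RingTheory.Flat.Basic
import Mathlib.RingTheory.Ideal.Quotient.Noetherian
import Mathlib.RingTheory.Ideal.AssociatedPrime.Basic
import Mathlib.RingTheory.LocalRing.ResidueField.Fiber
import Mathlib.RingTheory.LocalRing.ResidueField.Ideal
import Mathlib.LinearAlgebra.TensorProduct.Quotient
import Mathlib.LinearAlgebra.TensorProduct.Pi

/-!
# Points which are not associated to the fibre module
-/

set_option autoImplicit false

universe u

open TensorProduct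

attribute [local instance] Algebra.TensorProduct.rightAlgebra

namespace Groth.Agent.Dev4

/-- The fibre module over `p` has no socle at `y`. -/
def NoAssAt {R B : Type u} [CommRing R] [CommRing B] (p : Ideal R) (y : Ideal B) (M : Type u) [AddCommGroup M]
    [Module B M] [Module R M] : Prop :=
  ∀ x : M, (∀ a ∈ y, ∃ s : B, s ∉ y ∧ (s * a) • x ∈ p • (⊤ : Submodule R M)) →
    ∃ s : B, s ∉ y ∧ s • x ∈ p • (⊤ : Submodule R M)

theorem smul_mem_smul_top {R B M : Type u} [CommRing R] [CommRing B] [Algebra R B] [AddCommGroup M] [Module B M]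
    [Module R M] [IsScalarTower R B M] (p : Ideal R) (b : B) {x : M} (hx : x ∈ p • (⊤ : Submodule R M)) :
    b • x ∈ p • (⊤ : Submodule R M) := by
  induction hx using Submodule.smul_induction_on' with
  | smul r hr n _ => rw [smul_comm]; exact Submodule.smul_mem_smul hr Submodule.mem_top
  | add a _ c _ ha hc => rw [smul_add]; exact add_mem ha hc

theorem mem_smul_top_iff {R B M : Type u} [CommRing R] [CommRing B] [Algebra R B] [AddCommGroup M] [Module B M]
    [Module R M] [IsScalarTower R B M] (p : Ideal R) (x : M) :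
    x ∈ p • (⊤ : Submodule R M) ↔ x ∈ p.map (algebraMap R B) • (⊤ : Submodule B M) := by
  refine ⟨fun h => ?_, fun h => ?_⟩
  · induction h using Submodule.smul_induction_on' with
    | smul r hr n _ =>
      rw [← algebraMap_smul B r n]
      exact Submodule.smul_mem_smul (Ideal.mem_map_of_mem _ hr) Submodule.mem_top
    | add a _ c _ ha hc => exact add_mem ha hc
  · induction h using Submodule.smul_induction_on' with
    | smul r hr n _ =>
      induction hr using Submodule.span_induction generalizing n with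
      | mem y hy =>
        obtain ⟨r', hr', rfl⟩ := hy
        rw [algebraMap_smul]
        exact Submodule.smul_mem_smul hr' Submodule.mem_top
      | zero => rw [zero_smul]; exact zero_mem _
      | add a c _ _ ha hc => rw [add_smul]; exact add_mem (ha n trivial) (hc n trivial)
      | smul b a _ ha => rw [smul_eq_mul, mul_smul]; exact smul_mem_smul_top p b (ha n trivial)
    | add a _ c _ ha hc => exact add_mem ha hc

/-- Elements vanishing in the fibre. -/
theorem exists_smul_mem_of_tmul_eq_zero {R Y : Type u} [CommRing R] [AddCommGroup Y] [Module R Y] (p : Ideal R) [p.IsPrime]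
    (x : Y) (hx : (1 : p.ResidueField) ⊗ₜ[R] x = 0) : ∃ c : R, c ∉ p ∧ c • x ∈ p • (⊤ : Submodule R Y) := by
  let A := R ⧸ p
  let e : p.ResidueField ⊗[A] (A ⊗[R] Y) ≃ₗ[p.ResidueField] p.ResidueField ⊗[R] Y :=
    AlgebraTensorModule.cancelBaseChange R A p.ResidueField p.ResidueField Y
  have h0 : TensorProduct.mk A p.ResidueField (A ⊗[R] Y) 1 ((1 : A) ⊗ₜ[R] x) = 0 := by
    apply e.injective
    rw [map_zero]
    show e ((1 : p.ResidueField) ⊗ₜ[A] ((1 : A) ⊗ₜ[R] x)) = 0
    rw [AlgebraTensorModule.cancelBaseChange_tmul, one_smul]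
    exact hx
  haveI : IsLocalizedModule (nonZeroDivisors A) (TensorProduct.mk A p.ResidueField (A ⊗[R] Y) 1) :=
    (isLocalizedModule_iff_isBaseChange (nonZeroDivisors A) p.ResidueField _).2
      (TensorProduct.isBaseChange A (A ⊗[R] Y) p.ResidueField)
  obtain ⟨⟨c, hc⟩, hcx⟩ := IsLocalizedModule.exists_of_eq (S := nonZeroDivisors A)
    (f := TensorProduct.mk A p.ResidueField (A ⊗[R] Y) 1) (h0.trans (map_zero _).symm)
  obtain ⟨c, rfl⟩ := Ideal.Quotient.mk_surjective c
  refine ⟨c, fun h => nonZeroDivisors.ne_zero hc (Ideal.Quotient.eq_zero_iff_mem.2 h), ?_⟩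
  simp only [Submonoid.smul_def, smul_zero] at hcx
  rw [TensorProduct.smul_tmul', smul_eq_mul, mul_one] at hcx
  have h1 := congrArg (TensorProduct.quotTensorEquivQuotSMul Y p) hcx
  rw [map_zero, TensorProduct.quotTensorEquivQuotSMul_mk_tmul, Submodule.Quotient.mk_eq_zero] at h1
  exact h1

/-- Finitely many elements generating a prime near a point of the fibre. -/
theorem exists_gens {R S : Type u} [CommRing R] [CommRing S] [Algebra R S] [Algebra.FiniteType R S]
    (p : Ideal R) [p.IsPrime] (q : Ideal S) [q.IsPrime] [q.LiesOver p] :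
    ∃ (k : ℕ) (a : Fin k → S), (∀ i, a i ∈ q) ∧
      q.map (algebraMap S (p.Fiber S)) ≤ (Ideal.span (Set.range a)).map (algebraMap S (p.Fiber S)) ∧
      ∀ b ∈ q, ∃ t : S, t ∉ q ∧ t * b ∈ Ideal.span (Set.range a) ⊔ p.map (algebraMap R S) := by
  classical
  haveI : IsNoetherianRing (p.Fiber S) := Algebra.FiniteType.isNoetherianRing p.ResidueField (p.Fiber S)
  obtain ⟨G, hGq, hGspan⟩ : ∃ G : Finset S, (G : Set S) ⊆ q ∧
      q.map (algebraMap S (p.Fiber S)) ≤ Ideal.map (algebraMap S (p.Fiber S)) (Ideal.span G) := by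
    have hfg : (Ideal.span ((algebraMap S (p.Fiber S)) '' q)).FG := IsNoetherian.noetherian _
    obtain ⟨t, ht, hspan⟩ := Submodule.fg_span_iff_fg_span_finset_subset _ |>.1 hfg
    obtain ⟨G, hGq, rfl⟩ := Finset.subset_set_image_iff.1 ht
    refine ⟨G, hGq, ?_⟩
    rw [Ideal.map_span, ← Finset.coe_image]
    exact hspan.le
  refine ⟨G.card, fun i => (G.equivFin.symm i : S), fun i => hGq (G.equivFin.symm i).2, ?_⟩
  have hspan : Ideal.span (Set.range fun i => (G.equivFin.symm i : S)) = Ideal.span (G : Set S) := by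
    congr 1
    ext x
    exact ⟨fun ⟨i, hi⟩ => hi ▸ (G.equivFin.symm i).2, fun hx => ⟨G.equivFin ⟨x, hx⟩, by simp⟩⟩
  rw [hspan]
  refine ⟨hGspan, fun b hb => ?_⟩
  let I : Ideal S := Ideal.span (G : Set S)
  have hmem : algebraMap S (p.Fiber S) b ∈ I.map (algebraMap S (p.Fiber S)) := hGspan (Ideal.mem_map_of_mem _ hb)
  obtain ⟨w, hw, c₁, hc₁, hcw⟩ : ∃ w ∈ I, ∃ c : R, c ∉ p ∧
      c • algebraMap S (p.Fiber S) b = algebraMap S (p.Fiber S) w := by
    generalize algebraMap S (p.Fiber S) b = β at hmem ⊢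
    induction hmem using Submodule.span_induction with
    | mem y hy =>
      obtain ⟨w, hw, rfl⟩ := hy
      exact ⟨w, hw, 1, fun h => ‹p.IsPrime›.ne_top ((Ideal.eq_top_iff_one p).2 h), one_smul _ _⟩
    | zero => exact ⟨0, zero_mem _, 1, fun h => ‹p.IsPrime›.ne_top ((Ideal.eq_top_iff_one p).2 h), by simp⟩
    | add y z _ _ hy hz =>
      obtain ⟨v, hv, c, hc, hcv⟩ := hy
      obtain ⟨w, hw, d, hd, hdw⟩ := hz
      refine ⟨algebraMap R S d * v + algebraMap R S c * w, add_mem (I.mul_mem_left _ hv) (I.mul_mem_left _ hw),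
        c * d, fun h => (‹p.IsPrime›.mem_or_mem h).elim hc hd, ?_⟩
      rw [smul_add, mul_comm c d, mul_smul, hcv, mul_comm d c, mul_smul, hdw, map_add, map_mul, map_mul,
        ← IsScalarTower.algebraMap_apply, ← IsScalarTower.algebraMap_apply, ← Algebra.smul_def, ← Algebra.smul_def]
    | smul y z _ hz =>
      obtain ⟨v, hv, c, hc, hcv⟩ := hz
      obtain ⟨d, hd, s, hs⟩ := Ideal.Fiber.exists_smul_eq_one_tmul p y
      refine ⟨s * v, I.mul_mem_left _ hv, d * c, fun h => (‹p.IsPrime›.mem_or_mem h).elim hd hc, ?_⟩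
      rw [smul_eq_mul, map_mul, ← hcv, show algebraMap S (p.Fiber S) s = (1 : p.ResidueField) ⊗ₜ[R] s from rfl, ← hs,
        smul_mul_smul_comm]
  have h0 : (1 : p.ResidueField) ⊗ₜ[R] (c₁ • b - w) = 0 := by
    rw [TensorProduct.tmul_sub, TensorProduct.tmul_smul, sub_eq_zero]
    exact hcw
  obtain ⟨c₂, hc₂, h2⟩ := exists_smul_mem_of_tmul_eq_zero p _ h0
  refine ⟨algebraMap R S (c₂ * c₁), fun h => ?_, ?_⟩
  · exact (‹p.IsPrime›.mem_or_mem ((Ideal.mem_of_liesOver q p (c₂ * c₁)).2 h)).elim hc₂ hc₁
  · rw [← Algebra.smul_def, mul_smul, show c₂ • c₁ • b = c₂ • (c₁ • b - w) + c₂ • w by rw [smul_sub, sub_add_cancel]]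
    refine add_mem (Ideal.mem_sup_right ?_) (Ideal.mem_sup_left ?_)
    · have := (mem_smul_top_iff (B := S) p _).1 h2
      rwa [Ideal.smul_eq_mul, Ideal.mul_top] at this
    · rw [Algebra.smul_def]; exact I.mul_mem_left _ hw

/-- A point whose fibre ideal is not associated has no socle. -/
theorem noAssAt_of_notMem_associatedPrimes {R S : Type u} [CommRing R] [CommRing S] [Algebra R S] [Algebra.FiniteType R S]
    (N : Type u) [AddCommGroup N] [Module S N] [Module R N] [IsScalarTower R S N]
    (p : Ideal R) [p.IsPrime] (q : Ideal S) [q.IsPrime] [q.LiesOver p]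
    (hne : (FlatCA.fiberIdeal p q).IsPrime)
    (h : FlatCA.fiberIdeal p q ∉ associatedPrimes (p.Fiber S) (FlatCA.fiberMod p S N)) : NoAssAt p q N := by
  classical
  intro x hx
  by_contra hc
  push Not at hc
  obtain ⟨k, a, haq, hspan, -⟩ := exists_gens p q
  choose s hs hsx using fun i => hx (a i) (haq i)
  let x' := (∏ i, s i) • x
  have hσ : ∏ i, s i ∉ q := fun h => by
    obtain ⟨i, -, hi⟩ := (Ideal.IsPrime.prod_mem_iff).1 h; exact hs i hi
  let z : p.Fiber S ⊗[S] N := (1 : p.Fiber S) ⊗ₜ[S] x'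
  -- comparison with the reduction of `N`
  let g₀ : p.ResidueField →+ S →+ N →+ p.ResidueField ⊗[R] N :=
    AddMonoidHom.mk' (fun k => AddMonoidHom.mk' (fun b => AddMonoidHom.mk' (fun n => k ⊗ₜ[R] (b • n))
        (fun m m' => by simp [smul_add, TensorProduct.tmul_add]))
      (fun b b' => AddMonoidHom.ext fun m => by simp [add_smul, TensorProduct.tmul_add]))
      (fun k k' => AddMonoidHom.ext fun b => AddMonoidHom.ext fun m => by simp [TensorProduct.add_tmul])
  let g₁ : p.Fiber S →+ N →+ p.ResidueField ⊗[R] N :=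
    TensorProduct.liftAddHom g₀ fun r k b => AddMonoidHom.ext fun m => by
      show (r • k) ⊗ₜ[R] (b • m) = k ⊗ₜ[R] ((r • b) • m)
      rw [smul_assoc, TensorProduct.smul_tmul]
  let ν : p.Fiber S ⊗[S] N →+ p.ResidueField ⊗[R] N :=
    TensorProduct.liftAddHom g₁ fun b' f m => by
      induction f using TensorProduct.induction_on with
      | zero => simp
      | add x y hx hy => rw [smul_add, map_add, AddMonoidHom.add_apply, hx, hy, map_add, AddMonoidHom.add_apply]
      | tmul k b =>
        rw [Algebra.smul_def]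
        show g₁ (((1 : p.ResidueField) ⊗ₜ[R] b') * (k ⊗ₜ[R] b)) m = _
        rw [Algebra.TensorProduct.tmul_mul_tmul, one_mul]
        show k ⊗ₜ[R] ((b' * b) • m) = k ⊗ₜ[R] (b • b' • m)
        rw [mul_comm, mul_smul]
  have hν : ∀ w : S, ν (algebraMap S (p.Fiber S) w • z) = (1 : p.ResidueField) ⊗ₜ[R] (w • x') := fun w => by
    show ν ((algebraMap S (p.Fiber S) w * 1) ⊗ₜ[S] x') = _
    rw [mul_one]; rfl
  have hzero : ∀ w : S, algebraMap S (p.Fiber S) w • z = 0 → ∃ c : R, c ∉ p ∧ c • w • x' ∈ p • (⊤ : Submodule R N) :=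
    fun w hw => exists_smul_mem_of_tmul_eq_zero p _ (by rw [← hν w, hw, map_zero])
  have hpz : ∀ n ∈ p • (⊤ : Submodule R N), (1 : p.Fiber S) ⊗ₜ[S] n = 0 := by
    intro n hn
    induction hn using Submodule.smul_induction_on' with
    | smul r hr n _ =>
      rw [← algebraMap_smul S r n, ← TensorProduct.smul_tmul, Algebra.smul_def, mul_one]
      rw [show algebraMap S (p.Fiber S) (algebraMap R S r) = 0 by
        show (1 : p.ResidueField) ⊗ₜ[R] algebraMap R S r = 0
        rw [Algebra.algebraMap_eq_smul_one, ← TensorProduct.smul_tmul, Algebra.smul_def,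
          mul_one, Ideal.algebraMap_residueField_eq_zero.2 hr, TensorProduct.zero_tmul], TensorProduct.zero_tmul]
    | add a _ c _ ha hc => rw [TensorProduct.tmul_add, ha, hc, add_zero]
  have ha0 : ∀ i, algebraMap S (p.Fiber S) (a i) • z = 0 := fun i => by
    have h1 : a i • x' ∈ p • (⊤ : Submodule R N) := by
      show a i • (∏ j, s j) • x ∈ _
      rw [← Finset.mul_prod_erase _ _ (Finset.mem_univ i), smul_smul, show a i * (s i * ∏ j ∈ Finset.univ.erase i, s j) =
        (∏ j ∈ Finset.univ.erase i, s j) * (s i * a i) by ring, mul_smul]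
      exact smul_mem_smul_top p _ (hsx i)
    show (algebraMap S (p.Fiber S) (a i) * 1) ⊗ₜ[S] x' = 0
    rw [← Algebra.smul_def, TensorProduct.smul_tmul]
    exact hpz _ h1
  have hle : ∀ f ∈ FlatCA.fiberIdeal p q, f • z = 0 := by
    intro f hf
    have hf' : f ∈ (Ideal.span (Set.range a)).map (algebraMap S (p.Fiber S)) := hspan hf
    rw [Ideal.map_span, ← Set.range_comp] at hf'
    obtain ⟨c, rfl⟩ := (Ideal.mem_span_range_iff_exists_fun).1 hf'
    rw [Finset.sum_smul]
    exact Finset.sum_eq_zero fun i _ => by rw [mul_smul, Function.comp_apply, ha0 i, smul_zero]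
  have hge : ∀ f : p.Fiber S, f • z = 0 → f ∈ FlatCA.fiberIdeal p q := by
    intro f hf
    obtain ⟨d, hd, t, hdt⟩ := Ideal.Fiber.exists_smul_eq_one_tmul p f
    have hdt' : algebraMap S (p.Fiber S) t = algebraMap R (p.Fiber S) d * f := by rw [← Algebra.smul_def, hdt]; rfl
    by_cases htq : t ∈ q
    · have hu : IsUnit (algebraMap R (p.Fiber S) d) := by
        rw [IsScalarTower.algebraMap_apply R p.ResidueField (p.Fiber S)]
        exact (isUnit_iff_ne_zero.2 fun h => hd (Ideal.algebraMap_residueField_eq_zero.1 h)).map _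
      refine (Ideal.unit_mul_mem_iff_mem _ hu).1 (hdt' ▸ ?_)
      exact Ideal.mem_map_of_mem _ htq
    · exfalso
      obtain ⟨c, hcp, hct⟩ := hzero t (by rw [hdt', mul_smul, hf, smul_zero])
      rw [← algebraMap_smul S c (t • x'), ← mul_smul, ← mul_smul] at hct
      exact hc _ (fun hmem => (‹q.IsPrime›.mem_or_mem hmem).elim (fun h1 => (‹q.IsPrime›.mem_or_mem h1).elim
        (fun h2 => hcp ((Ideal.mem_of_liesOver q p c).2 h2)) htq) hσ) hct
  let z' : FlatCA.fiberMod p S N := z
  refine h ⟨hne, z', ?_⟩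
  have : Submodule.colon (⊥ : Submodule (p.Fiber S) (FlatCA.fiberMod p S N)) {z'} = FlatCA.fiberIdeal p q := by
    ext f
    exact Submodule.mem_colon_singleton.trans ((Submodule.mem_bot _).trans ⟨hge f, hle f⟩)
  rw [this]
  exact (hne.isRadical.radical).symm

/-- No socle along a flat map which does not enlarge the closed point of the base. -/
theorem noAssAt_of_flat {R S C L : Type u} [CommRing R] [CommRing S] [CommRing C] [CommRing L] [Algebra R S]
    [Algebra.FiniteType R S] [Algebra S C] [Algebra R C] [IsScalarTower R S C] [Module.Flat S C]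
    [Algebra R L] [Algebra L C] [IsScalarTower R L C]
    (N : Type u) [AddCommGroup N] [Module S N] [Module R N] [IsScalarTower R S N]
    (p : Ideal R) [p.IsPrime] (q : Ideal S) [q.IsPrime] [q.LiesOver p] (qC : Ideal C) [qC.IsPrime] [qC.LiesOver q]
    (m : Ideal L) (hm : p.map (algebraMap R L) = m) (h : NoAssAt p q N)
    {X : Type u} [AddCommGroup X] [Module C X] [Module L X] [IsScalarTower L C X] (e : C ⊗[S] N ≃ₗ[C] X) :
    NoAssAt m qC X := by
  classical
  letI : Module R X := Module.compHom X (algebraMap R C)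
  haveI : IsScalarTower R C X := IsScalarTower.of_algebraMap_smul fun _ _ => rfl
  -- both ideals cut out the same submodule
  have hmR : ∀ x : X, x ∈ m • (⊤ : Submodule L X) ↔ x ∈ p • (⊤ : Submodule R X) := by
    haveI : IsScalarTower R L X := IsScalarTower.of_algebraMap_smul fun r x => by
      rw [← algebraMap_smul C (algebraMap R L r) x, ← IsScalarTower.algebraMap_apply, algebraMap_smul]
    intro x
    rw [← hm, mem_smul_top_iff (B := L) p x]
  intro x hx
  obtain ⟨k, a, haq, -, hgen⟩ := exists_gens p q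
  let W : Submodule S N := p.map (algebraMap R S) • ⊤
  let ψ : N →ₗ[S] (Fin k → N ⧸ W) := LinearMap.pi fun i => W.mkQ.comp (a i • LinearMap.id)
  have hK : ∀ n ∈ LinearMap.ker ψ, ∃ s : S, s ∉ q ∧ s • n ∈ W := by
    intro n hn
    have hn' : ∀ i, a i • n ∈ W := fun i => (Submodule.Quotient.mk_eq_zero W).1 (congrFun hn i)
    obtain ⟨s, hs, hsn⟩ := h n fun b hb => by
      obtain ⟨t, ht, htb⟩ := hgen b hb
      refine ⟨t, ht, (mem_smul_top_iff (B := S) p _).2 ?_⟩
      obtain ⟨u, hu, v, hv, huv⟩ := Submodule.mem_sup.1 htb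
      rw [← huv, add_smul]
      refine W.add_mem ?_ (Submodule.smul_mem_smul hv Submodule.mem_top)
      obtain ⟨c, rfl⟩ := (Ideal.mem_span_range_iff_exists_fun).1 hu
      rw [Finset.sum_smul]
      exact sum_mem fun i _ => by rw [mul_smul]; exact W.smul_mem _ (hn' i)
    exact ⟨s, hs, (mem_smul_top_iff (B := S) p _).1 hsn⟩
  choose s hs hsx using fun i => hx (algebraMap S C (a i)) ((Ideal.mem_of_liesOver qC q (a i)).1 (haq i))
  let x' := (∏ i, s i) • x
  have hσ : ∏ i, s i ∉ qC := fun h => by
    obtain ⟨i, -, hi⟩ := (Ideal.IsPrime.prod_mem_iff).1 h; exact hs i hi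
  -- killed by the generators
  have hker : LinearMap.lTensor C ψ (e.symm x') = 0 := by
    apply (TensorProduct.piRight S S C (fun _ : Fin k => N ⧸ W)).injective
    rw [map_zero]
    funext i
    have h1 : algebraMap S C (a i) • x' ∈ p • (⊤ : Submodule R X) := by
      rw [← hmR]
      show algebraMap S C (a i) • (∏ j, s j) • x ∈ _
      rw [← Finset.mul_prod_erase _ _ (Finset.mem_univ i), smul_smul, show algebraMap S C (a i) *
        (s i * ∏ j ∈ Finset.univ.erase i, s j) = (∏ j ∈ Finset.univ.erase i, s j) * (s i * algebraMap S C (a i)) by ring,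
        mul_smul]
      exact smul_mem_smul_top m _ (hsx i)
    have h2 : ∀ w : X, w ∈ p • (⊤ : Submodule R X) → LinearMap.lTensor C W.mkQ (e.symm w) = 0 := by
      intro w hw
      induction hw using Submodule.smul_induction_on' with
      | smul r hr n _ =>
        rw [← algebraMap_smul C r n, map_smul, IsScalarTower.algebraMap_apply R S C, algebraMap_smul]
        generalize e.symm n = z
        induction z using TensorProduct.induction_on with
        | zero => rw [smul_zero, map_zero]
        | add z z' hz hz' => rw [smul_add, map_add, hz, hz', add_zero]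
        | tmul c n =>
          rw [← TensorProduct.tmul_smul, LinearMap.lTensor_tmul, Submodule.mkQ_apply,
            (Submodule.Quotient.mk_eq_zero W).2 (Submodule.smul_mem_smul (Ideal.mem_map_of_mem _ hr) Submodule.mem_top),
            TensorProduct.tmul_zero]
      | add u _ v _ hu hv => rw [map_add, map_add, hu, hv, add_zero]
    have h3 := h2 _ h1
    rw [map_smul, algebraMap_smul] at h3
    rw [Pi.zero_apply, ← h3]
    generalize e.symm x' = z
    induction z using TensorProduct.induction_on with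
    | zero => simp
    | add z z' hz hz' => rw [map_add, map_add, Pi.add_apply, hz, hz', smul_add, map_add]
    | tmul c n =>
      rw [LinearMap.lTensor_tmul, TensorProduct.piRight_apply, TensorProduct.piRightHom_tmul, ← TensorProduct.tmul_smul,
        LinearMap.lTensor_tmul]
      rfl
  obtain ⟨w, hw⟩ := ((Module.Flat.lTensor_exact C (LinearMap.exact_subtype_ker_map ψ)) (e.symm x')).1 hker
  have hkill : ∃ t : S, t ∉ q ∧ algebraMap S C t • e ((LinearMap.lTensor C (LinearMap.ker ψ).subtype) w) ∈
      m • (⊤ : Submodule L X) := by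
    clear hw
    induction w using TensorProduct.induction_on with
    | zero => exact ⟨1, fun h => ‹q.IsPrime›.ne_top ((Ideal.eq_top_iff_one q).2 h), by simp⟩
    | add u v hu hv =>
      obtain ⟨t, ht, htu⟩ := hu
      obtain ⟨t', ht', htv⟩ := hv
      refine ⟨t * t', fun h => (‹q.IsPrime›.mem_or_mem h).elim ht ht', ?_⟩
      rw [map_add, map_add, smul_add, map_mul]
      refine add_mem ?_ ?_
      · rw [mul_comm, mul_smul]; exact smul_mem_smul_top m _ htu
      · rw [mul_smul]; exact smul_mem_smul_top m _ htv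
    | tmul c n =>
      obtain ⟨t, ht, htn⟩ := hK n.1 n.2
      refine ⟨t, ht, ?_⟩
      rw [LinearMap.lTensor_tmul, Submodule.subtype_apply, ← map_smul, algebraMap_smul, ← TensorProduct.tmul_smul, hmR]
      generalize t • (n : N) = v at htn
      clear ht
      induction htn using Submodule.smul_induction_on' with
      | smul r hr n' _ =>
        induction hr using Submodule.span_induction generalizing n' with
        | mem y hy =>
          obtain ⟨r', hr', rfl⟩ := hy
          rw [TensorProduct.tmul_smul, ← algebraMap_smul C (algebraMap R S r'), map_smul, ← IsScalarTower.algebraMap_apply,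
            algebraMap_smul]
          exact Submodule.smul_mem_smul hr' Submodule.mem_top
        | zero => rw [zero_smul, TensorProduct.tmul_zero, map_zero]; exact zero_mem _
        | add a b _ _ ha hb => rw [add_smul, TensorProduct.tmul_add, map_add]; exact add_mem (ha n' trivial) (hb n' trivial)
        | smul b a _ ha =>
          rw [smul_eq_mul, mul_smul, TensorProduct.tmul_smul, ← algebraMap_smul C b, map_smul]
          exact smul_mem_smul_top p _ (ha n' trivial)
      | add u _ v _ hu hv => rw [TensorProduct.tmul_add, map_add]; exact add_mem hu hv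
  obtain ⟨t, ht, htx⟩ := hkill
  rw [hw, LinearEquiv.apply_symm_apply, ← mul_smul] at htx
  exact ⟨_, fun hmem => (‹qC.IsPrime›.mem_or_mem hmem).elim (fun h1 => ht ((Ideal.mem_of_liesOver qC q t).2 h1)) hσ, htx⟩

/-- No socle passes to closed subschemes. -/
theorem noAssAt_of_surjective {R B A : Type u} [CommRing R] [CommRing B] [CommRing A] [Algebra B A]
    (hsurj : Function.Surjective (algebraMap B A)) {p : Ideal R} (y : Ideal B) (Q : Ideal A) [Q.LiesOver y]
    {M : Type u} [AddCommGroup M] [Module B M] [Module A M] [IsScalarTower B A M] [Module R M]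
    (h : NoAssAt p y M) : NoAssAt p Q M := by
  intro x hx
  obtain ⟨s, hs, hsx⟩ := h x fun a ha => by
    obtain ⟨s, hs, hsx⟩ := hx (algebraMap B A a) ((Ideal.mem_of_liesOver Q y a).1 ha)
    obtain ⟨s, rfl⟩ := hsurj s
    exact ⟨s, fun h => hs ((Ideal.mem_of_liesOver Q y s).1 h), by rwa [← algebraMap_smul A (s * a), map_mul]⟩
  exact ⟨algebraMap B A s, fun h => hs ((Ideal.mem_of_liesOver Q y s).2 h), by rwa [algebraMap_smul]⟩

/-- No socle passes to isomorphic modules. -/
theorem noAssAt_congr {R B : Type u} [CommRing R] [CommRing B] [Algebra R B] {p : Ideal R} {y : Ideal B}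
    {M M' : Type u} [AddCommGroup M] [Module B M] [Module R M] [IsScalarTower R B M]
    [AddCommGroup M'] [Module B M'] [Module R M'] [IsScalarTower R B M'] (e : M ≃ₗ[B] M') (h : NoAssAt p y M) :
    NoAssAt p y M' := by
  have he : ∀ w : M, e w ∈ p • (⊤ : Submodule R M') ↔ w ∈ p • (⊤ : Submodule R M) := fun w => by
    rw [show e w = (e.restrictScalars R).toLinearMap w from rfl, ← Submodule.mem_comap]
    rw [show (p • (⊤ : Submodule R M')).comap (e.restrictScalars R).toLinearMap = p • (⊤ : Submodule R M) by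
      rw [← Submodule.map_top (e.restrictScalars R).toLinearMap |>.trans (LinearMap.range_eq_top.2 e.surjective),
        ← Submodule.map_smul'', Submodule.comap_map_eq_of_injective (by exact e.injective)]]
  intro x hx
  obtain ⟨s, hs, hsx⟩ := h (e.symm x) fun a ha => by
    obtain ⟨s, hs, hsx⟩ := hx a ha
    exact ⟨s, hs, (he _).1 (by rwa [map_smul, LinearEquiv.apply_symm_apply])⟩
  exact ⟨s, hs, by simpa using (he _).2 hsx⟩

/-- No socle descends along finite maps with a single point over the point. -/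
theorem noAssAt_of_unique {R B A : Type u} [CommRing R] [CommRing B] [CommRing A] [Algebra R B] [Algebra R A]
    [Algebra B A] [IsScalarTower R B A] [Algebra.IsIntegral B A] {p : Ideal R}
    [IsNoetherianRing (A ⧸ p.map (algebraMap R A))] (Q : Ideal A) [Q.IsPrime] (y : Ideal B) [y.IsPrime] [Q.LiesOver y]
    (huniq : ∀ (Q' : Ideal A) [Q'.IsPrime], Q'.LiesOver y → Q' = Q)
    {M : Type u} [AddCommGroup M] [Module B M] [Module A M] [IsScalarTower B A M] [Module R M] [IsScalarTower R A M]
    (h : NoAssAt p Q M) : NoAssAt p y M := by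
  intro x hx
  by_contra hc
  push Not at hc
  let J : Ideal A :=
    { carrier := {a | ∃ b : B, b ∉ y ∧ algebraMap B A b • a • x ∈ p • (⊤ : Submodule R M)}
      zero_mem' := ⟨1, fun h => ‹y.IsPrime›.ne_top ((Ideal.eq_top_iff_one y).2 h), by simp⟩
      add_mem' := fun {u v} ⟨b, hb, hu⟩ ⟨c, hc', hv⟩ => ⟨b * c, fun h => (‹y.IsPrime›.mem_or_mem h).elim hb hc', by
        rw [add_smul, smul_add, map_mul]
        refine add_mem ?_ ?_
        · rw [mul_comm, mul_smul]; exact smul_mem_smul_top p _ hu
        · rw [mul_smul]; exact smul_mem_smul_top p _ hv⟩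
      smul_mem' := fun a u ⟨b, hb, hu⟩ => ⟨b, hb, by
        rw [smul_eq_mul, mul_smul, smul_comm]; exact smul_mem_smul_top p a hu⟩ }
  have hJp : p.map (algebraMap R A) ≤ J := Ideal.map_le_iff_le_comap.2 fun r hr =>
    ⟨1, fun h => ‹y.IsPrime›.ne_top ((Ideal.eq_top_iff_one y).2 h), by
      rw [map_one, one_smul, algebraMap_smul]; exact Submodule.smul_mem_smul hr Submodule.mem_top⟩
  have hJy : ∀ b ∈ y, algebraMap B A b ∈ J := fun b hb => by
    obtain ⟨s, hs, hsx⟩ := hx b hb
    exact ⟨s, hs, by rwa [← mul_smul, ← map_mul, algebraMap_smul]⟩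
  have h1 : (1 : A) ∉ J := fun ⟨b, hb, h1⟩ => hc b hb (by rwa [one_smul, algebraMap_smul] at h1)
  -- a maximal colon ideal
  let π := Ideal.Quotient.mk (p.map (algebraMap R A))
  obtain ⟨_, ⟨r, hr, rfl⟩, hmax⟩ := set_has_maximal_iff_noetherian.2
    (inferInstance : IsNoetherian (A ⧸ p.map (algebraMap R A)) (A ⧸ p.map (algebraMap R A)))
    {I | ∃ r : A, r ∉ J ∧ I = (Submodule.colon J {r}).map π} ⟨_, 1, h1, rfl⟩
  let P : Ideal A := Submodule.colon J {r}
  have hPm : ∀ {a : A}, a ∈ P ↔ a * r ∈ J := fun {a} => Submodule.mem_colon_singleton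
  have hP : P.IsPrime := by
    refine ⟨fun htop => hr (by simpa using hPm.1 ((Ideal.eq_top_iff_one P).1 htop)), fun {u v} huv => ?_⟩
    by_contra hne
    push Not at hne
    have hur : u * r ∉ J := fun h => hne.1 (hPm.2 h)
    have hle : P ≤ Submodule.colon J {u * r} := fun w hw => Submodule.mem_colon_singleton.2 (by
      rw [smul_eq_mul, ← mul_assoc, mul_comm w u, mul_assoc]; exact J.mul_mem_left _ (hPm.1 hw))
    have hv : v ∈ Submodule.colon J {u * r} := Submodule.mem_colon_singleton.2 (by
      rw [smul_eq_mul, ← mul_assoc, mul_comm v u]; exact hPm.1 huv)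
    have heq := hmax _ ⟨u * r, hur, rfl⟩
    apply heq
    refine lt_of_le_of_ne (Ideal.map_mono hle) fun he => hne.2 ?_
    have hvm : π v ∈ P.map π := he ▸ Ideal.mem_map_of_mem π hv
    obtain ⟨v', hv', hvv⟩ := (Ideal.mem_map_iff_of_surjective π Ideal.Quotient.mk_surjective).1 hvm
    have hd : v - v' ∈ P := hPm.2 (J.mul_mem_right _ (hJp ((Ideal.Quotient.eq).1 hvv.symm)))
    simpa using P.add_mem hd hv'
  haveI := hP
  have hPy : P.LiesOver y := ⟨le_antisymm (fun b hb => hPm.2 (J.mul_mem_right _ (hJy b hb))) fun b hb => by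
    by_contra hby
    obtain ⟨b', hb', hb''⟩ := hPm.1 hb
    exact hr ⟨b' * b, fun h => (‹y.IsPrime›.mem_or_mem h).elim hb' hby, by
      rwa [mul_smul, ← mul_smul (algebraMap B A b'), ← mul_smul, ← map_mul, mul_smul] at hb''⟩⟩
  have hPQ : P = Q := huniq P hPy
  obtain ⟨s, hs, hsx⟩ := h (r • x) fun a ha => by
    obtain ⟨b, hb, hbx⟩ := hPm.1 (hPQ.ge ha)
    refine ⟨algebraMap B A b, fun h' => hb ((Ideal.mem_of_liesOver Q y b).2 h'), ?_⟩
    rwa [mul_smul, ← mul_smul a r x]
  refine hs (hPQ.le (hPm.2 ⟨1, fun h => ‹y.IsPrime›.ne_top ((Ideal.eq_top_iff_one y).2 h), ?_⟩))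
  rwa [map_one, one_smul, mul_smul]

end Groth.Agent.Dev4
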