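import Groth.Agent.Lib.Dev4.DevissageSplit
import Groth.Agent.Lib.Dev4.FlatAtTransfer
import Groth.Agent.Lib.Dev4.Free
import Groth.Agent.Lib.Dev4.Glue
import Groth.Agent.Lib.FlatH4.FlatLocusFP
import Groth.Agent.Lib.FlatH4.FlatComp
import Groth.Agent.S1252
import Groth.Agent.S1254

/-!
# Projective pieces near a flat point
-/

set_option autoImplicit false
set_option maxSynthPendingDepth 3

universe u

open TensorProduct

set_option backward.isDefEq.respectTransparency.types false

namespace Groth.Agent.Dev4

/-- Projectivity of a piece cut out by an element of the base. -/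
theorem projective_away_piece {R' S' X : Type u} [CommRing R'] [CommRing S'] [Algebra R' S'] [AddCommGroup X] [Module S' X]
    [Module R' X] [IsScalarTower R' S' X] (f : R')
    [Algebra (Localization.Away f) (Localization.Away (algebraMap R' S' f))]
    [IsScalarTower R' (Localization.Away f) (Localization.Away (algebraMap R' S' f))]
    (h : Module.Projective (Localization.Away f) (LocalizedModule (Submonoid.powers f) X)) :
    Module.Projective (Localization.Away f) (Localization.Away (algebraMap R' S' f) ⊗[S'] X) := by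
  haveI := h
  obtain ⟨e₁⟩ := exists_localized_restrict (B := S') f X
  obtain ⟨e₂⟩ := exists_localizedEquiv (Submonoid.powers (algebraMap R' S' f)) (Localization.Away (algebraMap R' S' f)) X
  let e : LocalizedModule (Submonoid.powers f) X ≃ₗ[R'] Localization.Away (algebraMap R' S' f) ⊗[S'] X :=
    e₁.trans (e₂.restrictScalars R')
  exact Module.Projective.of_equiv (LinearEquiv.extendScalarsOfIsLocalization (Submonoid.powers f) (Localization.Away f) e)

/-- Near a flat point, after étale neighbourhoods the module is projective over the base. -/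
theorem exists_projective_piece {R S : Type u} [CommRing R] [CommRing S] [Algebra R S] [Algebra.FinitePresentation R S]
    (N : Type u) [AddCommGroup N] [Module S N] [Module R N] [IsScalarTower R S N] [Module.FinitePresentation S N]
    (p : Ideal R) [p.IsPrime] (q : Ideal S) [q.IsPrime] [q.LiesOver p] (hflat : FlatCA.FlatAt R q N) :
    ∃ (R' S' : Type u) (_ : CommRing R') (_ : CommRing S') (_ : Algebra R R') (_ : Algebra S S') (_ : Algebra R' S')
      (_ : Algebra R S') (_ : IsScalarTower R R' S') (_ : IsScalarTower R S S')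
      (p' : Ideal R') (q' : Ideal S') (_ : p'.IsPrime) (_ : q'.IsPrime),
      FlatCA.IsEtaleNhd R R' p p' ∧ FlatCA.IsEtaleNhd S S' q q' ∧ q'.LiesOver p' ∧
      Module.Projective R' (S' ⊗[S] N) := by
  classical
  by_cases hq : (⟨q, ‹_›⟩ : PrimeSpectrum S) ∈ Module.support S N
  swap
  · rw [Module.support_eq_zeroLocus, PrimeSpectrum.mem_zeroLocus, Set.not_subset] at hq
    obtain ⟨g, hg, hgq⟩ := hq
    obtain ⟨_, _, p', _, q', _, hqp', _, hR, hS⟩ :=
      exists_piece p q 1 g (fun h => ‹p.IsPrime›.ne_top ((Ideal.eq_top_iff_one p).2 h)) hgq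
        (by rw [map_one]; exact one_dvd g)
    haveI : Subsingleton (Localization.Away g ⊗[S] N) := subsingleton_of_forall_eq 0 fun z => by
      induction z using TensorProduct.induction_on with
      | zero => rfl
      | add a b ha hb => rw [ha, hb, add_zero]
      | tmul c n =>
        obtain ⟨v, hv⟩ := IsLocalization.Away.algebraMap_isUnit (S := Localization.Away g) g
        have : c = g • (c * ((v⁻¹ : (Localization.Away g)ˣ) : Localization.Away g)) := by
          rw [Algebra.smul_def, ← hv, mul_left_comm, Units.mul_inv, mul_one]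
        rw [this, TensorProduct.smul_tmul, Module.mem_annihilator.1 hg n, TensorProduct.tmul_zero]
    exact ⟨Localization.Away (1 : R), Localization.Away g, inferInstance, inferInstance, inferInstance, inferInstance,
      inferInstance, inferInstance, inferInstance, inferInstance, p', q', inferInstance, inferInstance, hR, hS, hqp',
      inferInstance⟩
  have hopen := FlatH4.isOpen_flat_localized (R := R) (S := S) (M := N)
  obtain ⟨_, ⟨g, rfl⟩, hgq, hgsub⟩ := PrimeSpectrum.isTopologicalBasis_basic_opens.exists_subset_of_mem_open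
    (show (⟨q, ‹_›⟩ : PrimeSpectrum S) ∈ _ from hflat) hopen
  obtain ⟨_, _, _, _, q₁, _, _, _, -, hS₁⟩ := exists_piece p q 1 g
    (fun h => ‹p.IsPrime›.ne_top ((Ideal.eq_top_iff_one p).2 h)) hgq (by rw [map_one]; exact one_dvd g)
  let S₁ := Localization.Away g
  let N₁ := S₁ ⊗[S] N
  haveI : q₁.LiesOver p := Ideal.LiesOver.trans q₁ q p
  haveI : Algebra.FinitePresentation R S₁ :=
    haveI := IsLocalization.Away.finitePresentation (S := S₁) g
    Algebra.FinitePresentation.trans R S S₁
  haveI : Module.Flat S S₁ := IsLocalization.flat S₁ (Submonoid.powers g)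
  haveI : Module.Flat R N₁ := Module.flat_of_isLocalized_maximal (R := R) (M := N₁) S₁ (fun P => LocalizedModule P.primeCompl N₁) (fun P _ => LocalizedModule.mkLinearMap P.primeCompl N₁) fun P _ => by
    let Q : PrimeSpectrum S := PrimeSpectrum.comap (algebraMap S S₁) ⟨P, inferInstance⟩
    have hQ : Q ∈ (PrimeSpectrum.basicOpen g : Set (PrimeSpectrum S)) := by
      have : Q ∈ Set.range (PrimeSpectrum.comap (algebraMap S S₁)) := ⟨_, rfl⟩
      rwa [PrimeSpectrum.localization_away_comap_range S₁ g] at this
    haveI : P.LiesOver Q.asIdeal := ⟨rfl⟩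
    exact flatAt_of_flat_map (R := R) (C := S₁) N Q.asIdeal P (hgsub hQ)
  have hq₁ : (⟨q₁, ‹_›⟩ : PrimeSpectrum S₁) ∈ Module.support S₁ N₁ := by
    refine (FlatPur25.mem_support_baseChange_iff (B := S) (C := S₁) (M := N) ⟨q₁, ‹_›⟩).2 ?_
    convert hq using 1
    exact PrimeSpectrum.ext (Ideal.over_def q₁ q).symm
  obtain ⟨R', S', _, _, _, _, _, _, _, _, p', q', _, _, hR, hS, hqp, hcd⟩ :=
    S1252.result (R := R) (S := S₁) N₁ p q₁ (exists_fibre_support_point N₁ p q₁ hq₁)
  haveI := hR.1
  haveI := hS.1
  haveI : Algebra.FinitePresentation R S' := Algebra.FinitePresentation.trans R S₁ S'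
  haveI : Algebra.FinitePresentation R' S' :=
    Algebra.FinitePresentation.of_restrict_scalars_finitePresentation R R' S'
  haveI : Module.Flat R (S' ⊗[S₁] N₁) := FlatH4.flat_tensor_of_flat
  haveI : Module.Flat R' (S' ⊗[S₁] N₁) := Algebra.FormallyUnramified.flat_of_restrictScalars R R' (S' ⊗[S₁] N₁)
  obtain ⟨D, ⟨-⟩⟩ := hcd (S' ⊗[S₁] N₁) _ (TensorProduct.isBaseChange S₁ N₁ S')
  obtain ⟨f, hf, hproj, -⟩ := S1254.result (R := R') (S := S') (S' ⊗[S₁] N₁) p' D
  have hfq : algebraMap R' S' f ∉ q' := fun h => hf ((Ideal.mem_of_liesOver q' p' f).2 h)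
  obtain ⟨_, _, p'', _, q'', _, hqp'', _, hR'', hS''⟩ := exists_piece p' q' f (algebraMap R' S' f) hf hfq dvd_rfl
  let R'' := Localization.Away f
  let S'' := Localization.Away (algebraMap R' S' f)
  haveI hP := projective_away_piece (R' := R') (S' := S') (X := S' ⊗[S₁] N₁) f hproj
  letI : Algebra S S' := ((algebraMap S₁ S').comp (algebraMap S S₁)).toAlgebra
  haveI : IsScalarTower S S₁ S' := IsScalarTower.of_algebraMap_eq fun _ => rfl
  haveI : IsScalarTower S S' S'' := inferInstance
  haveI : IsScalarTower R S S' := IsScalarTower.of_algebraMap_eq fun r => by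
    rw [IsScalarTower.algebraMap_apply S S₁ S', ← IsScalarTower.algebraMap_apply R S S₁,
      ← IsScalarTower.algebraMap_apply R S₁ S']
  haveI : IsScalarTower R S S'' := IsScalarTower.of_algebraMap_eq fun r => by
    rw [IsScalarTower.algebraMap_apply S S' S'', ← IsScalarTower.algebraMap_apply R S S',
      ← IsScalarTower.algebraMap_apply R S' S'']
  haveI : IsScalarTower R R'' S'' := IsScalarTower.of_algebraMap_eq fun r => by
    rw [IsScalarTower.algebraMap_apply R R' R'', ← IsScalarTower.algebraMap_apply R' R'' S'',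
      IsScalarTower.algebraMap_apply R' S' S'', ← IsScalarTower.algebraMap_apply R R' S',
      ← IsScalarTower.algebraMap_apply R S' S'']
  let e₁ : S' ⊗[S₁] N₁ ≃ₗ[S'] S' ⊗[S] N := AlgebraTensorModule.cancelBaseChange S S₁ S' S' N
  let e : S'' ⊗[S'] (S' ⊗[S₁] N₁) ≃ₗ[S''] S'' ⊗[S] N :=
    (LinearEquiv.baseChange S' S'' _ _ e₁).trans (AlgebraTensorModule.cancelBaseChange S S' S'' S'' N)
  exact ⟨R'', S'', inferInstance, inferInstance, inferInstance, inferInstance, inferInstance, inferInstance,
    inferInstance, inferInstance, p'', q'', inferInstance, inferInstance,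
    isEtaleNhd_trans p p' p'' hR hR'', isEtaleNhd_trans q q' q'' (isEtaleNhd_trans q q₁ q' hS₁ hS) hS'', hqp'',
    Module.Projective.of_equiv (e.restrictScalars R'')⟩

theorem projective_restrictScalars {L C X : Type u} [CommRing L] [CommRing C] [Algebra L C] [AddCommGroup X] [Module C X]
    [Module L X] [IsScalarTower L C X] [Module.Projective L X] : Module.Projective L (RestrictScalars L C X) :=
  Module.Projective.of_equiv
    ({ (RestrictScalars.addEquiv L C X).symm with
       map_smul' := fun l x => by
         show (RestrictScalars.addEquiv L C X).symm (l • x) = l • (RestrictScalars.addEquiv L C X).symm x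
         apply (RestrictScalars.addEquiv L C X).injective
         rw [AddEquiv.apply_symm_apply, RestrictScalars.addEquiv_map_smul, AddEquiv.apply_symm_apply, algebraMap_smul] } :
      X ≃ₗ[L] RestrictScalars L C X)

end Groth.Agent.Dev4
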