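import Groth.Agent.Lib.Dev4.PureProjective
import Groth.Agent.Lib.Dev4.PureCover
import Groth.Agent.Lib.Dev4.Point
import Groth.Agent.Lib.CAlgLow.ProjCrit
import Groth.Agent.Lib.AdeqA.FamDescent
import Mathlib.RingTheory.Ideal.GoingDown

/-!
# Pure flat modules of finite presentation are projective
-/

set_option autoImplicit false
set_option maxSynthPendingDepth 3

universe u

open TensorProduct

set_option backward.isDefEq.respectTransparency.types false

attribute [local instance] Algebra.TensorProduct.rightAlgebra

namespace Groth.Agent.Dev4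

/-- Near a point along which it is pure, a flat module of finite presentation is projective after an étale base change. -/
theorem exists_nhd_projective_of_isPureAlong {R S : Type u} [CommRing R] [CommRing S] [Algebra R S]
    [Algebra.FinitePresentation R S] (N : Type u) [AddCommGroup N] [Module S N] [Module R N] [IsScalarTower R S N]
    [Module.FinitePresentation S N] [Module.Flat R N] (p : Ideal R) [p.IsPrime] (hp : FlatCA.IsPureAlong R S N p) :
    ∃ (A : Type u) (_ : CommRing A) (_ : Algebra R A) (P : Ideal A) (_ : P.IsPrime), FlatCA.IsEtaleNhd R A p P ∧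
      Module.Projective A (A ⊗[R] N) := by
  classical
  obtain ⟨R', S', _, _, _, _, _, _, _, _, p', _, hR, hS, hcov, hP⟩ :=
    exists_projective_cover (R := R) (S := S) N p (fun q => by
      intro _ _
      exact RG4.flat_of_isLocalizedModule (R := R) q.primeCompl (LocalizedModule.mkLinearMap q.primeCompl N))
  haveI := hR.1
  obtain ⟨hp', hκ⟩ := hR.2
  haveI := hp'
  haveI := hS
  haveI := hP
  let B := S ⊗[R] R'
  haveI : Algebra.IsPushout R R' S B := Algebra.IsPushout.symm inferInstance
  letI : Algebra B S' := (Algebra.TensorProduct.lift (IsScalarTower.toAlgHom R S S') (IsScalarTower.toAlgHom R R' S')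
    fun _ _ => Commute.all _ _).toRingHom.toAlgebra
  haveI : IsScalarTower S B S' := IsScalarTower.of_algebraMap_eq fun s => by
    show _ = Algebra.TensorProduct.lift _ _ _ (s ⊗ₜ (1 : R'))
    simp
  haveI : IsScalarTower R' B S' := IsScalarTower.of_algebraMap_eq fun r => by
    show _ = Algebra.TensorProduct.lift _ _ _ ((1 : S) ⊗ₜ r)
    simp
  haveI : Algebra.Etale S B := inferInstance
  haveI : Algebra.Etale B S' := Algebra.Etale.of_restrictScalars S B S'
  haveI : Algebra.FinitePresentation R' B :=
    Algebra.FinitePresentation.equiv ({ (Algebra.TensorProduct.comm R R' S).toRingEquiv with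
      commutes' := fun r => by simp [RingHom.algebraMap_toAlgebra] } : (R' ⊗[R] S) ≃ₐ[R'] B)
  let N'' := B ⊗[S] N
  let eN : N'' ≃ₗ[R'] R' ⊗[R] N := Algebra.IsPushout.cancelBaseChange R R' S B N
  haveI : Module.Flat R' N'' := Module.Flat.of_linearEquiv eN
  haveI : Module.Projective R' (S' ⊗[B] N'') :=
    Module.Projective.of_equiv ((AlgebraTensorModule.cancelBaseChange S B S' S' N).restrictScalars R').symm
  obtain ⟨f, hf, hproj⟩ := exists_projective_away (R := R') (B := B) N'' S' p' fun t _ r _ _ htp hw => by
    -- the closure meets the fibre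
    obtain ⟨P', hP', hrP, hP'p⟩ : ∃ P' : Ideal B, P'.IsPrime ∧ r ≤ P' ∧ P'.LiesOver p' := by
      by_contra hc
      push Not at hc
      exact hp R' B N'' (TensorProduct.mk S B N 1) t p' r hR
        ⟨inferInstance, TensorProduct.isBaseChange S N B, htp, hp', inferInstance,
          (fiberIdeal_mem_associatedPrimes_iff t N'' r).2 hw, fun P' hP' hle hover => hc P' hP' hle hover⟩
    haveI := hP'p
    let q := P'.comap (algebraMap S B)
    haveI hqp : q.LiesOver p := ⟨by
      show p = (P'.comap (algebraMap S B)).comap (algebraMap R S)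
      rw [Ideal.comap_comap, ← IsScalarTower.algebraMap_eq, IsScalarTower.algebraMap_eq R R' B, ← Ideal.comap_comap]
      exact hp'.over.trans (congrArg (fun I : Ideal R' => I.comap (algebraMap R R')) hP'p.over)⟩
    obtain ⟨q', hq', hq'q, hq'p⟩ := hcov q hqp
    haveI := hq'p
    haveI : (q'.comap (algebraMap B S')).LiesOver p' := ⟨by
      show p' = (q'.comap (algebraMap B S')).comap (algebraMap R' B)
      rw [Ideal.comap_comap, ← IsScalarTower.algebraMap_eq]
      exact hq'p.over⟩
    have hpt : q'.comap (algebraMap B S') = P' := prime_ext (R := R) (R' := R') (B := S) hκ _ _ (by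
      rw [Ideal.comap_comap, ← IsScalarTower.algebraMap_eq]
      exact hq'q)
    haveI : q'.LiesOver P' := ⟨hpt.symm⟩
    obtain ⟨x, -, hx, hxr⟩ := Ideal.exists_ideal_le_liesOver_of_le (p := r) (q := P') q' hrP
    exact ⟨x, hx, hxr.over.symm⟩
  haveI : p'.LiesOver p' := ⟨(Ideal.comap_id p').symm⟩
  obtain ⟨_, _, p'', _, _, _, _, _, hR'', -⟩ := exists_piece (B := R') p' p' f f hf hf dvd_rfl
  refine ⟨Localization.Away f, inferInstance, inferInstance, p'', inferInstance, isEtaleNhd_trans p p' p'' hR hR'', ?_⟩
  haveI := hproj
  let j : N →ₗ[R] N'' := (TensorProduct.mk S B N 1).restrictScalars R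
  have hj : IsBaseChange R' j := IsBaseChange.of_equiv eN.symm fun n => by
    show eN.symm ((1 : R') ⊗ₜ[R] n) = (1 : B) ⊗ₜ[S] n
    rw [Algebra.IsPushout.cancelBaseChange_symm_tmul, map_one]
  have hloc : IsBaseChange (Localization.Away f) (LocalizedModule.mkLinearMap (Submonoid.powers f) N'') :=
    (isLocalizedModule_iff_isBaseChange (Submonoid.powers f) (Localization.Away f) _).1 inferInstance
  exact Module.Projective.of_equiv (hj.comp hloc).equiv.symm

/-- Near a point along which it is pure, a flat module of finite presentation is projective after an étale base change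
(forgetting the residue field). -/
theorem exists_projective_of_isPureAlong {R S : Type u} [CommRing R] [CommRing S] [Algebra R S]
    [Algebra.FinitePresentation R S] (N : Type u) [AddCommGroup N] [Module S N] [Module R N] [IsScalarTower R S N]
    [Module.FinitePresentation S N] [Module.Flat R N] (p : Ideal R) [p.IsPrime] (hp : FlatCA.IsPureAlong R S N p) :
    ∃ (A : Type u) (_ : CommRing A) (_ : Algebra R A) (P : Ideal A), Algebra.Etale R A ∧ P.IsPrime ∧
      P.comap (algebraMap R A) = p ∧ Module.Projective A (A ⊗[R] N) := by
  obtain ⟨A, _, _, P, hP, ⟨het, hl, -⟩, hproj⟩ := exists_nhd_projective_of_isPureAlong N p hp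
  exact ⟨A, inferInstance, inferInstance, P, het, hP, hl.over.symm, hproj⟩

/-- A product of projective modules is projective over the product ring. -/
theorem projective_pi_module {ι : Type} [Finite ι] (C : ι → Type u) [∀ i, CommRing (C i)] (Y : ι → Type u)
    [∀ i, AddCommGroup (Y i)] [∀ i, Module (C i) (Y i)] [∀ i, Module.Projective (C i) (Y i)] :
    Module.Projective (∀ i, C i) (∀ i, Y i) := by
  classical
  haveI := Fintype.ofFinite ι
  choose s hs using fun i => Module.projective_def.1 (inferInstance : Module.Projective (C i) (Y i))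
  let emb : ∀ i, (Y i →₀ C i) →+ ((Σ i, Y i) →₀ ∀ i, C i) := fun i =>
    Finsupp.liftAddHom fun k => (Finsupp.singleAddHom (⟨i, k⟩ : Σ i, Y i)).comp (AddMonoidHom.single C i)
  have hemb : ∀ i (z : ∀ i, C i) (v : Y i →₀ C i), emb i (z i • v) = z • emb i v := fun i z v => by
    induction v using Finsupp.induction_linear with
    | zero => simp
    | add a b ha hb => simp only [smul_add, map_add, ha, hb]
    | single k c =>
      simp only [emb, Finsupp.smul_single, smul_eq_mul, Finsupp.liftAddHom_apply_single, AddMonoidHom.comp_apply,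
        Finsupp.singleAddHom_apply, AddMonoidHom.single_apply]
      congr 1
      funext j
      rcases eq_or_ne j i with rfl | h
      · simp
      · simp [Pi.single_eq_of_ne h]
  let σ : (∀ i, Y i) →ₗ[∀ i, C i] ((Σ i, Y i) →₀ ∀ i, C i) :=
    { toFun := fun y => ∑ i, emb i (s i (y i))
      map_add' := fun y y' => by simp only [Pi.add_apply, map_add, Finset.sum_add_distrib]
      map_smul' := fun z y => by
        rw [RingHom.id_apply, Finset.smul_sum]
        refine Finset.sum_congr rfl fun i _ => ?_
        rw [← hemb]
        exact congrArg _ (map_smul (s i) (z i) (y i)) }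
  let v : (Σ i, Y i) → ∀ i, Y i := fun k => Pi.single k.1 k.2
  have hv : ∀ i (w : Y i →₀ C i), Finsupp.linearCombination (∀ i, C i) v (emb i w) =
      Pi.single i (Finsupp.linearCombination (C i) id w) := fun i w => by
    induction w using Finsupp.induction_linear with
    | zero => simp
    | add a b ha hb => simp only [map_add, ha, hb, Pi.single_add]
    | single k c =>
      simp only [emb, Finsupp.liftAddHom_apply_single, AddMonoidHom.comp_apply, Finsupp.singleAddHom_apply,
        AddMonoidHom.single_apply, Finsupp.linearCombination_single, id_eq, v]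
      funext j
      rcases eq_or_ne j i with rfl | h
      · simp
      · simp [Pi.single_eq_of_ne h]
  refine Module.Projective.of_split σ (Finsupp.linearCombination (∀ i, C i) v) (LinearMap.ext fun y => ?_)
  show Finsupp.linearCombination (∀ i, C i) v (∑ i, emb i (s i (y i))) = y
  rw [map_sum]
  simp only [hv, hs _ (y _)]
  exact Finset.univ_sum_single y

/-- A pure flat module of finite presentation is projective over the base. -/
theorem projective_of_isPure {R S : Type u} [CommRing R] [CommRing S] [Algebra R S] [Algebra.FinitePresentation R S]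
    (N : Type u) [AddCommGroup N] [Module S N] [Module R N] [IsScalarTower R S N] [Module.FinitePresentation S N]
    [Module.Flat R N] (hN : FlatCA.IsPure R S N) : Module.Projective R N := by
  classical
  choose A iA iRA P het hP hPp hproj using fun p : PrimeSpectrum R =>
    exists_projective_of_isPureAlong N p.asIdeal (hN p.asIdeal)
  -- finitely many pieces cover the base
  let U : PrimeSpectrum R → Set (PrimeSpectrum R) := fun p => Set.range (PrimeSpectrum.comap (algebraMap R (A p)))
  have hU : ∀ p, IsOpen (U p) := fun p => by
    haveI := het p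
    show IsOpen (Set.range _)
    rw [← Set.image_univ]
    exact PrimeSpectrum.isOpenMap_comap_of_hasGoingDown_of_finitePresentation _ isOpen_univ
  obtain ⟨t, ht⟩ := (isCompact_univ (X := PrimeSpectrum R)).elim_finite_subcover U hU
    fun p _ => Set.mem_iUnion.2 ⟨p, ⟨⟨P p, hP p⟩, PrimeSpectrum.ext (hPp p)⟩⟩
  let e : Fin t.card ≃ {p // p ∈ t} := t.equivFin.symm
  let C : Fin t.card → Type u := fun i => A (e i).1
  haveI : ∀ i, Algebra.Etale R (C i) := fun i => het (e i).1
  haveI : Module.FaithfullyFlat R (∀ i, C i) := AdeqA.faithfullyFlat_pi C fun x => by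
    obtain ⟨p, hp, hpx⟩ := Set.mem_iUnion₂.1 (ht (Set.mem_univ x))
    obtain ⟨i, hi⟩ := e.surjective ⟨p, hp⟩
    exact ⟨i, by
      have hval : (e i).1 = p := congrArg Subtype.val hi
      show x ∈ U (e i).1
      rw [hval]
      exact hpx⟩
  obtain ⟨g, hg, -⟩ := exists_piTensor (S := R) C N
  haveI : ∀ i, Module.Projective (C i) (C i ⊗[R] N) := fun i => hproj (e i).1
  haveI : Module.Projective (∀ j, C j) (∀ i, C i ⊗[R] N) := projective_pi_module C fun i => C i ⊗[R] N
  haveI : Module.Projective (∀ j, C j) ((∀ i, C i) ⊗[R] N) :=
    Module.Projective.of_equiv (LinearEquiv.ofBijective g hg).symm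
  exact CAlgLow.projective_of_faithfullyFlat (S := ∀ i, C i)

end Groth.Agent.Dev4
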