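import Groth.Agent.Lib.Dev4.PurePoint
import Groth.Agent.Lib.Dev4.PureSpread
import Groth.Agent.Lib.Dev4.GeomBasic
import Groth.Agent.Lib.Dev4.Lift
import Groth.Agent.Lib.Dev4.Free
import Groth.Agent.Lib.AdeqA.FamDescent
import Groth.Agent.Lib.Dev4.PiTensor
import Mathlib.RingTheory.Etale.QuasiFinite
import Mathlib.RingTheory.Spectrum.Prime.Chevalley
import Mathlib.RingTheory.Ideal.GoingDown

/-!
# Quasi-finite algebras without impurities are finite
-/

set_option autoImplicit false
set_option maxSynthPendingDepth 3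

universe u

open TensorProduct

set_option backward.isDefEq.respectTransparency.types false

attribute [local instance] Algebra.TensorProduct.rightAlgebra

namespace Groth.Agent.Dev4

/-- Points over generalisations specialise to the fibre, after every elementary étale neighbourhood. -/
def SpecialisesAfterNhd (R C : Type u) [CommRing R] [CommRing C] [Algebra R C] (p : Ideal R) [p.IsPrime] : Prop :=
  ∀ (A : Type u) [CommRing A] [Algebra R A] (t' t : Ideal A) [t'.IsPrime] [t.IsPrime], FlatCA.IsEtaleNhd R A p t →
    t' ≤ t → ∀ Q : Ideal (A ⊗[R] C), Q.IsPrime → Q.LiesOver t' → ∃ Q' : Ideal (A ⊗[R] C), Q'.IsPrime ∧ Q ≤ Q' ∧ Q'.LiesOver t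

/-- The trivial elementary étale neighbourhood. -/
theorem isEtaleNhd_refl {A : Type u} [CommRing A] (p : Ideal A) [p.IsPrime] : FlatCA.IsEtaleNhd A A p p := by
  refine ⟨inferInstance, ⟨rfl⟩, ?_⟩
  convert Function.bijective_id using 1
  exact congrArg DFunLike.coe (Ideal.ResidueField.algHom_ext (g := AlgHom.id A p.ResidueField) (Subsingleton.elim _ _))

/-- Near a point without impurities a quasi-finite algebra becomes finite after an étale base change. -/
theorem exists_finite_after_nhd (n : ℕ) : ∀ (R C : Type u) [CommRing R] [CommRing C] [Algebra R C] [Algebra.FiniteType R C]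
    [Algebra.QuasiFinite R C] (p : Ideal R) [p.IsPrime], (p.primesOver C).ncard ≤ n → SpecialisesAfterNhd R C p →
    ∃ (A : Type u) (_ : CommRing A) (_ : Algebra R A) (P : Ideal A) (_ : P.IsPrime), FlatCA.IsEtaleNhd R A p P ∧
      Module.Finite A (A ⊗[R] C) := by
  induction n with
  | zero =>
    intro R C _ _ _ _ _ p _ hn hsp
    have hemp : p.primesOver C = ∅ := (Set.ncard_eq_zero (Algebra.QuasiFinite.finite_primesOver p)).1 (Nat.le_zero.1 hn)
    obtain ⟨f, hf, hfx⟩ := exists_tube (R := R) (B := C) p ∅ isOpen_empty fun x hx => by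
      exfalso
      let φ : R ⊗[R] C →ₐ[R] C := (Algebra.TensorProduct.lid R C).toAlgHom
      obtain ⟨Q', hQ', -, hQ'p⟩ := hsp R (x.asIdeal.comap (algebraMap R C)) p (isEtaleNhd_refl p) hx
        (x.asIdeal.comap φ) inferInstance ⟨by
          show x.asIdeal.comap (algebraMap R C) = (x.asIdeal.comap φ.toRingHom).comap (algebraMap R (R ⊗[R] C))
          rw [Ideal.comap_comap, AlgHom.toRingHom_eq_coe, φ.comp_algebraMap]⟩
      let ι : C →ₐ[R] R ⊗[R] C := Algebra.TensorProduct.includeRight
      have : Q'.comap ι.toRingHom ∈ p.primesOver C := ⟨inferInstance, ⟨by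
        show p = (Q'.comap ι.toRingHom).comap (algebraMap R C)
        rw [Ideal.comap_comap, AlgHom.toRingHom_eq_coe, ι.comp_algebraMap]
        exact hQ'p.over⟩⟩
      rw [hemp] at this
      exact this
    have hnil : IsNilpotent (algebraMap R C f) := by
      rw [nilpotent_iff_mem_prime]
      intro J hJ
      by_contra h
      exact (hfx ⟨J, hJ⟩ h).elim
    obtain ⟨k, hk⟩ := hnil
    haveI : Subsingleton (Localization.Away f ⊗[R] C) := subsingleton_of_forall_eq 0 fun z => by
      induction z using TensorProduct.induction_on with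
      | zero => rfl
      | add a b ha hb => rw [ha, hb, add_zero]
      | tmul a c =>
        obtain ⟨u, hu⟩ := (IsLocalization.Away.algebraMap_isUnit (S := Localization.Away f) f).pow k
        have h1 : a = (f ^ k) • ((↑u⁻¹ : Localization.Away f) * a) := by
          rw [Algebra.smul_def, map_pow, ← hu, Units.mul_inv_cancel_left]
        rw [h1, TensorProduct.smul_tmul, Algebra.smul_def, map_pow, hk, zero_mul, TensorProduct.tmul_zero]
    have hdis : Disjoint (Submonoid.powers f : Set R) (p : Set R) := (Ideal.disjoint_powers_iff_notMem_of_isPrime _).2 hf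
    haveI : (p.map (algebraMap R (Localization.Away f))).IsPrime :=
      IsLocalization.isPrime_of_isPrime_disjoint (Submonoid.powers f) _ _ ‹_› hdis
    haveI : (p.map (algebraMap R (Localization.Away f))).LiesOver p :=
      IsLocalization.liesOver_map_of_isPrime_disjoint (.powers f) _ hdis
    exact ⟨Localization.Away f, inferInstance, inferInstance, p.map (algebraMap R (Localization.Away f)), inferInstance,
      isEtaleNhd_away f p _, inferInstance⟩
  | succ n ih =>
    intro R C _ _ _ _ _ p _ hn hsp
    rcases (p.primesOver C).eq_empty_or_nonempty with hemp | ⟨q, hqp, hq⟩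
    · exact ih R C p (by rw [hemp, Set.ncard_empty]; exact Nat.zero_le _) hsp
    haveI := hqp
    haveI := hq
    obtain ⟨R', _, _, _, P, _, hPp, e, he, P', _, hP'P, hP'q, heP', hκ, hfin, -⟩ :=
      Algebra.exists_etale_isIdempotentElem_forall_liesOver_eq p q
    have hR : FlatCA.IsEtaleNhd R R' p P := ⟨inferInstance, hPp, hκ⟩
    let C' := R' ⊗[R] C
    let J : Ideal C' := Ideal.span {e}
    let C₂ := C' ⧸ J
    haveI : Algebra.FiniteType R' C₂ :=
      Algebra.FiniteType.of_surjective (Ideal.Quotient.mkₐ R' J) (Ideal.Quotient.mkₐ_surjective R' J)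
    haveI : Algebra.QuasiFinite R' C₂ :=
      Algebra.QuasiFinite.of_surjective_algHom (Ideal.Quotient.mkₐ R' J) (Ideal.Quotient.mkₐ_surjective R' J)
    let π : C →+* C₂ := (Ideal.Quotient.mk J).comp (algebraMap C C')
    have hup : ∀ Q : Ideal C₂, Q ∈ P.primesOver C₂ →
        (Q.comap (Ideal.Quotient.mk J)).IsPrime ∧ (Q.comap (Ideal.Quotient.mk J)).LiesOver P := fun Q hQ => by
      haveI := hQ.1
      haveI := hQ.2
      exact ⟨inferInstance, ⟨by
        show P = (Q.comap (Ideal.Quotient.mk J)).comap (algebraMap R' C')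
        rw [Ideal.comap_comap]
        exact hQ.2.over⟩⟩
    have hcount : (P.primesOver C₂).ncard ≤ n := by
      have hle : (P.primesOver C₂).ncard ≤ (p.primesOver C \ {q}).ncard := by
        refine Set.ncard_le_ncard_of_injOn (fun Q => Q.comap π) (fun Q hQ => ?_) (fun Q hQ Q₁ hQ₁ h => ?_)
          ((Algebra.QuasiFinite.finite_primesOver p).diff)
        · obtain ⟨hQp, hQP⟩ := hup Q hQ
          haveI := hQp
          haveI := hQP
          refine ⟨⟨inferInstanceAs (((Q.comap (Ideal.Quotient.mk J)).comap (algebraMap C C'))).IsPrime, ⟨?_⟩⟩, fun h => heP' ?_⟩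
          · show p = ((Q.comap (Ideal.Quotient.mk J)).comap (algebraMap C C')).comap (algebraMap R C)
            rw [Ideal.comap_comap (algebraMap R C), ← IsScalarTower.algebraMap_eq R C C', IsScalarTower.algebraMap_eq R R' C',
              ← Ideal.comap_comap]
            exact hPp.over.trans (congrArg (Ideal.comap (algebraMap R R')) hQP.over)
          · rw [← prime_ext (R := R) (R' := R') (B := C) hκ (Q.comap (Ideal.Quotient.mk J)) P'
              ((Set.mem_singleton_iff.1 h).trans hP'q.symm)]
            show Ideal.Quotient.mk J e ∈ Q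
            rw [Ideal.Quotient.eq_zero_iff_mem.2 (Ideal.mem_span_singleton_self e)]
            exact Q.zero_mem
        · obtain ⟨hQp, hQP⟩ := hup Q hQ
          obtain ⟨hQp₁, hQP₁⟩ := hup Q₁ hQ₁
          haveI := hQp
          haveI := hQP
          haveI := hQp₁
          haveI := hQP₁
          exact Ideal.comap_injective_of_surjective _ Ideal.Quotient.mk_surjective
            (prime_ext (R := R) (R' := R') (B := C) hκ (Q.comap (Ideal.Quotient.mk J)) (Q₁.comap (Ideal.Quotient.mk J)) h)
      have := Set.ncard_diff_singleton_add_one (s := p.primesOver C) (a := q) ⟨hqp, hq⟩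
        (Algebra.QuasiFinite.finite_primesOver p)
      omega
    have hsp₂ : SpecialisesAfterNhd R' C₂ P := by
      intro A _ _ t' t _ _ hA hle Q hQ hQt
      letI : Algebra R A := ((algebraMap R' A).comp (algebraMap R R')).toAlgebra
      haveI : IsScalarTower R R' A := IsScalarTower.of_algebraMap_eq fun _ => rfl
      let ψ : A ⊗[R] C →ₐ[A] A ⊗[R'] C₂ :=
        (Algebra.TensorProduct.map (AlgHom.id A A) (Ideal.Quotient.mkₐ R' J)).comp
          (Algebra.TensorProduct.cancelBaseChange R R' A A C).symm.toAlgHom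
      have hψ : Function.Surjective ψ :=
        (LinearMap.lTensor_surjective A
          (g := (Ideal.Quotient.mkₐ R' J).toLinearMap) (Ideal.Quotient.mkₐ_surjective R' J)).comp
          (Algebra.TensorProduct.cancelBaseChange R R' A A C).symm.surjective
      haveI := hQ
      haveI := hQt
      obtain ⟨Q', hQ', hQQ', hQ't⟩ := hsp A t' t (isEtaleNhd_trans p P t hR hA) hle (Q.comap ψ.toRingHom) inferInstance ⟨by
        show t' = (Q.comap ψ.toRingHom).comap (algebraMap A _)
        rw [Ideal.comap_comap, AlgHom.toRingHom_eq_coe, ψ.comp_algebraMap]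
        exact hQt.over⟩
      have hker : RingHom.ker ψ.toRingHom ≤ Q' := (Ideal.comap_mono bot_le).trans hQQ'
      haveI := hQ'
      refine ⟨Q'.map ψ.toRingHom, Ideal.map_isPrime_of_surjective hψ hker, ?_, ⟨?_⟩⟩
      · rw [← Ideal.map_comap_of_surjective ψ.toRingHom hψ Q]
        exact Ideal.map_mono hQQ'
      · show t = (Q'.map ψ.toRingHom).comap (algebraMap A _)
        rw [← ψ.comp_algebraMap, ← Ideal.comap_comap]
        show t = ((Q'.map ψ.toRingHom).comap ψ.toRingHom).comap _
        rw [Ideal.comap_map_of_surjective ψ.toRingHom hψ, sup_eq_left.2 (show Ideal.comap ψ.toRingHom ⊥ ≤ Q' from hker)]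
        exact hQ't.over
    obtain ⟨A, _, _, t, _, hA, hfin₂⟩ := ih R' C₂ P hcount hsp₂
    letI : Algebra R A := ((algebraMap R' A).comp (algebraMap R R')).toAlgebra
    haveI : IsScalarTower R R' A := IsScalarTower.of_algebraMap_eq fun _ => rfl
    refine ⟨A, inferInstance, inferInstance, t, inferInstance, isEtaleNhd_trans p P t hR hA, ?_⟩
    -- the algebra splits along the idempotent
    let C₁ := Localization.Away e
    let g : C' →ₗ[R'] C₁ × C₂ :=
      (IsScalarTower.toAlgHom R' C' C₁).toLinearMap.prod (Ideal.Quotient.mkₐ R' J).toLinearMap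
    have hg : Function.Bijective g := by
      refine ⟨(injective_iff_map_eq_zero g).2 fun x hx => ?_, fun y => ?_⟩
      · obtain ⟨⟨_, k, rfl⟩, hk⟩ := (IsLocalization.map_eq_zero_iff (Submonoid.powers e) C₁ x).1 (congrArg Prod.fst hx)
        obtain ⟨y, rfl⟩ := Ideal.mem_span_singleton'.1 (Ideal.Quotient.eq_zero_iff_mem.1 (congrArg Prod.snd hx))
        simp only [] at hk
        rw [mul_left_comm, ← pow_succ, he.pow_succ_eq] at hk
        exact hk
      · obtain ⟨y₁, y₂⟩ := y
        obtain ⟨⟨a, ⟨_, k, rfl⟩⟩, ha⟩ := IsLocalization.surj (Submonoid.powers e) y₁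
        obtain ⟨b, rfl⟩ := Ideal.Quotient.mk_surjective y₂
        have he1 : algebraMap C' C₁ e = 1 := by
          have hu : IsUnit (algebraMap C' C₁ e) := IsLocalization.Away.algebraMap_isUnit e
          exact hu.mul_left_cancel (by rw [mul_one, ← map_mul, he.eq])
        refine ⟨e * a + (1 - e) * b, Prod.ext ?_ ?_⟩
        · show algebraMap C' C₁ (e * a + (1 - e) * b) = y₁
          simp only [] at ha
          rw [map_pow, he1, one_pow, mul_one] at ha
          rw [map_add, map_mul, map_mul, map_sub, map_one, he1, sub_self, zero_mul, one_mul, add_zero, ha]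
        · show Ideal.Quotient.mk J (e * a + (1 - e) * b) = Ideal.Quotient.mk J b
          rw [Ideal.Quotient.mk_eq_mk_iff_sub_mem]
          exact Ideal.mem_span_singleton'.2 ⟨a - b, by ring⟩
    haveI : Module.Finite A (A ⊗[R'] C₁) := inferInstance
    haveI := hfin₂
    haveI : Module.Finite A (A ⊗[R'] C') :=
      Module.Finite.equiv ((AlgebraTensorModule.congr (LinearEquiv.refl A A) (LinearEquiv.ofBijective g hg)).trans
        (TensorProduct.prodRight R' A A C₁ C₂)).symm
    exact Module.Finite.equiv (AlgebraTensorModule.cancelBaseChange R R' A A C)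

/-- A quasi-finite algebra without impurities is finite. -/
theorem finite_of_specialisesAfterNhd {R C : Type u} [CommRing R] [CommRing C] [Algebra R C] [Algebra.FiniteType R C]
    [Algebra.QuasiFinite R C] (h : ∀ (p : Ideal R) [p.IsPrime], SpecialisesAfterNhd R C p) : Module.Finite R C := by
  classical
  choose A iA iRA P hP hnhd hfin using fun p : PrimeSpectrum R =>
    exists_finite_after_nhd _ R C p.asIdeal le_rfl (h p.asIdeal)
  let U : PrimeSpectrum R → Set (PrimeSpectrum R) := fun p => Set.range (PrimeSpectrum.comap (algebraMap R (A p)))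
  have hU : ∀ p, IsOpen (U p) := fun p => by
    haveI := (hnhd p).1
    show IsOpen (Set.range _)
    rw [← Set.image_univ]
    exact PrimeSpectrum.isOpenMap_comap_of_hasGoingDown_of_finitePresentation _ isOpen_univ
  obtain ⟨t, ht⟩ := (isCompact_univ (X := PrimeSpectrum R)).elim_finite_subcover U hU fun p _ =>
    Set.mem_iUnion.2 ⟨p, ⟨⟨P p, hP p⟩, PrimeSpectrum.ext (hnhd p).2.choose.over.symm⟩⟩
  let e : Fin t.card ≃ {p // p ∈ t} := t.equivFin.symm
  let D : Fin t.card → Type u := fun i => A (e i).1
  haveI : ∀ i, Algebra.Etale R (D i) := fun i => (hnhd (e i).1).1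
  haveI : Module.FaithfullyFlat R (∀ i, D i) := AdeqA.faithfullyFlat_pi D fun x => by
    obtain ⟨p, hp, hpx⟩ := Set.mem_iUnion₂.1 (ht (Set.mem_univ x))
    obtain ⟨i, hi⟩ := e.surjective ⟨p, hp⟩
    exact ⟨i, by
      have hval : (e i).1 = p := congrArg Subtype.val hi
      show x ∈ U (e i).1
      rw [hval]
      exact hpx⟩
  haveI : ∀ i, Module.Finite (D i) (D i ⊗[R] C) := fun i => hfin (e i).1
  choose k s hs using fun i => Module.Finite.exists_fin (R := D i) (M := D i ⊗[R] C)
  choose l a b hb using fun i (j : Fin (k i)) => TensorProduct.exists_sum_tmul_eq (s i j)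
  let f : ((Σ i, Σ j : Fin (k i), Fin (l i j)) → R) →ₗ[R] C :=
    Fintype.linearCombination R fun x => b x.1 x.2.1 x.2.2
  refine Module.Finite.of_surjective f (LinearMap.range_eq_top.1 ?_)
  let X := C ⧸ LinearMap.range f
  let π : C →ₗ[R] X := (LinearMap.range f).mkQ
  haveI hsub : ∀ i, Subsingleton (D i ⊗[R] X) := fun i => subsingleton_of_forall_eq 0 fun z => by
    obtain ⟨w, rfl⟩ := LinearMap.lTensor_surjective (D i) (g := π) (Submodule.mkQ_surjective _) z
    have hw : w ∈ Submodule.span (D i) (Set.range (s i)) := (hs i) ▸ Submodule.mem_top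
    change AlgebraTensorModule.lTensor (D i) (D i) π w = 0
    induction hw using Submodule.span_induction with
    | mem y hy =>
      obtain ⟨j, rfl⟩ := hy
      rw [hb i j, map_sum]
      refine Finset.sum_eq_zero fun m _ => ?_
      rw [AlgebraTensorModule.lTensor_tmul, show π (b i j m) = 0 from (Submodule.Quotient.mk_eq_zero _).2
        ⟨Pi.single ⟨i, j, m⟩ 1, by simp [f, Fintype.linearCombination_apply_single]⟩, TensorProduct.tmul_zero]
    | zero => exact map_zero _
    | add u v _ _ hu hv => rw [map_add, hu, hv, add_zero]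
    | smul c u _ hu => rw [map_smul, hu, smul_zero]
  obtain ⟨g, hg, -⟩ := exists_piTensor (S := R) D X
  haveI : Subsingleton ((∀ i, D i) ⊗[R] X) := hg.1.subsingleton
  haveI : Subsingleton X := by
    by_contra hX
    haveI := not_subsingleton_iff_nontrivial.1 hX
    exact not_subsingleton_iff_nontrivial.2 (Module.FaithfullyFlat.lTensor_nontrivial R (∀ i, D i) X) inferInstance
  exact Submodule.Quotient.subsingleton_iff.1 inferInstance

/-- Below a point of the support in a fibre there is an associated point of that fibre. -/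
theorem exists_assoc_le {R S : Type u} [CommRing R] [CommRing S] [Algebra R S] [Algebra.FiniteType R S]
    (N : Type u) [AddCommGroup N] [Module S N] [Module R N] [IsScalarTower R S N] [Module.Finite S N]
    (p : Ideal R) [p.IsPrime] (q : Ideal S) [q.IsPrime] [q.LiesOver p]
    (hq : (⟨q, ‹_›⟩ : PrimeSpectrum S) ∈ Module.support S N) :
    ∃ r : Ideal S, r.IsPrime ∧ r.LiesOver p ∧ r ≤ q ∧
      FlatCA.fiberIdeal p r ∈ associatedPrimes (p.Fiber S) (FlatCA.fiberMod p S N) := by
  haveI : IsNoetherianRing (p.Fiber S) := Algebra.FiniteType.isNoetherianRing p.ResidueField (p.Fiber S)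
  haveI : Module.Finite (p.Fiber S) (FlatCA.fiberMod p S N) :=
    inferInstanceAs (Module.Finite (p.Fiber S) ((p.Fiber S) ⊗[S] N))
  obtain ⟨x, hx, hxq⟩ := exists_fibre_support_point N p q hq
  rw [Module.support_eq_zeroLocus, PrimeSpectrum.mem_zeroLocus, SetLike.coe_subset_coe] at hx
  obtain ⟨m, hm, hmx⟩ := Ideal.exists_minimalPrimes_le hx
  have hass := Module.associatedPrimes.minimalPrimes_annihilator_subset_associatedPrimes (p.Fiber S) (FlatCA.fiberMod p S N) hm
  let y : PrimeSpectrum (p.Fiber S) := ⟨m, hm.1.1⟩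
  let r := y.asIdeal.comap (algebraMap S (p.Fiber S))
  haveI : r.IsPrime := y.2.comap _
  haveI : r.LiesOver p := ((PrimeSpectrum.primesOverOrderIsoFiber R S p).symm y).2.2
  have hmr : m = FlatCA.fiberIdeal p r := eq_fiberIdeal p r y rfl
  refine ⟨r, inferInstance, inferInstance, fun b hb => ?_, hmr ▸ hass⟩
  rw [← comap_fiberIdeal p q, ← hxq]
  exact hmx hb

end Groth.Agent.Dev4
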