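import Groth.Agent.Lib.Dev4.ProjectiveLocal
import Groth.Agent.Lib.Dev4.ProjectivePure
import Groth.Agent.Lib.Dev4.PurePoint
import Groth.Agent.Lib.Dev4.FlatOver
import Mathlib.RingTheory.Unramified.LocalRing

/-!
# Open pieces avoiding no associated point of a projective fibre are pure
-/

set_option autoImplicit false
set_option maxSynthPendingDepth 3

universe u

open TensorProduct IsLocalRing

set_option backward.isDefEq.respectTransparency.types false

attribute [local instance] Algebra.TensorProduct.rightAlgebra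

namespace Groth.Agent.Dev4

/-- Associated points lift along étale maps. -/
theorem isWk_lift_unramified {B C X Y : Type u} [CommRing B] [CommRing C] [Algebra B C] [Algebra.FormallyUnramified B C]
    [Algebra.EssFiniteType B C] [Module.Flat B C] [AddCommGroup X] [Module B X] [AddCommGroup Y] [Module C Y] [Module B Y]
    [IsScalarTower B C Y] (j : X →ₗ[B] Y) (hj : IsBaseChange C j)
    (r : Ideal B) [r.IsPrime] (x : Ideal C) [x.IsPrime] [x.LiesOver r] {w : X} (hw : IsWk r w) :
    IsWk x (j w) := by
  classical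
  refine ⟨fun a ha => ?_, fun c hc => ?_⟩
  · letI := Localization.AtPrime.algebraOfLiesOver r x
    have hmax : r.map (algebraMap B (Localization.AtPrime x)) = maximalIdeal (Localization.AtPrime x) :=
      ((Algebra.isUnramifiedAt_iff_map_eq B r x).1 inferInstance).2
    have hmem : algebraMap C (Localization.AtPrime x) a ∈ (r.map (algebraMap B C)).map (algebraMap C (Localization.AtPrime x)) := by
      rw [Ideal.map_map, ← IsScalarTower.algebraMap_eq, hmax, ← Localization.AtPrime.map_eq_maximalIdeal]
      exact Ideal.mem_map_of_mem _ ha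
    obtain ⟨σ, hσ, hσa⟩ := (IsLocalization.algebraMap_mem_map_algebraMap_iff x.primeCompl _ _ _).1 hmem
    suffices h : ∀ z ∈ r.map (algebraMap B C), ∃ τ : C, τ ∉ x ∧ ∃ k : ℕ, (τ * z ^ k) • j w = 0 by
      obtain ⟨τ, hτ, k, hk⟩ := h _ hσa
      refine ⟨τ * σ ^ k, fun h' => ?_, k, by rw [mul_assoc, ← mul_pow]; exact hk⟩
      rcases ‹x.IsPrime›.mem_or_mem h' with h' | h'
      · exact hτ h'
      · exact hσ (‹x.IsPrime›.mem_of_pow_mem k h')
    intro z hz
    clear hσa hmem
    induction hz using Submodule.span_induction with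
    | mem y hy =>
      obtain ⟨b, hb, rfl⟩ := hy
      obtain ⟨s, hs, k, hk⟩ := hw.1 b hb
      refine ⟨algebraMap B C s, fun h => hs ((Ideal.mem_of_liesOver x r s).2 h), k, ?_⟩
      rw [← map_pow, ← map_mul, algebraMap_smul, ← map_smul, hk, map_zero]
    | zero => exact ⟨1, fun h => ‹x.IsPrime›.ne_top ((Ideal.eq_top_iff_one x).2 h), 1, by simp⟩
    | add u v _ _ hu hv =>
      obtain ⟨τ, hτ, k, hk⟩ := hu
      obtain ⟨τ', hτ', l, hl⟩ := hv
      refine ⟨τ * τ', fun h => (‹x.IsPrime›.mem_or_mem h).elim hτ hτ', k + l, ?_⟩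
      have hmem' : (τ * τ') * (u + v) ^ (k + l) ∈
          Submodule.annihilator (Submodule.span C {j w}) := by
        rw [add_pow, Finset.mul_sum]
        refine Ideal.sum_mem _ fun i hi => ?_
        rw [Submodule.mem_annihilator_span_singleton]
        rcases le_or_gt k i with h | h
        · obtain ⟨d, rfl⟩ := Nat.exists_eq_add_of_le h
          rw [show τ * τ' * (u ^ (k + d) * v ^ (k + l - (k + d)) * ((k + l).choose (k + d) : C)) =
            (τ' * u ^ d * v ^ (k + l - (k + d)) * ((k + l).choose (k + d) : C)) * (τ * u ^ k) by ring, mul_smul, hk, smul_zero]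
        · obtain ⟨d, hd⟩ := Nat.exists_eq_add_of_le (show l ≤ k + l - i by omega)
          rw [hd, show τ * τ' * (u ^ i * v ^ (l + d) * ((k + l).choose i : C)) =
            (τ * u ^ i * v ^ d * ((k + l).choose i : C)) * (τ' * v ^ l) by ring, mul_smul, hl, smul_zero]
      exact (Submodule.mem_annihilator_span_singleton _ _).1 hmem'
    | smul c v _ hv =>
      obtain ⟨τ, hτ, k, hk⟩ := hv
      exact ⟨τ, hτ, k, by rw [smul_eq_mul, mul_pow, mul_left_comm, mul_smul, hk, smul_zero]⟩
  · let e := hj.equiv
    let t := LinearMap.toSpanSingleton B X w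
    have ht : Function.Exact (LinearMap.ker t).subtype t := LinearMap.exact_subtype_ker_map t
    have h0 : t.lTensor C (c ⊗ₜ[B] (1 : B)) = 0 := by
      apply e.injective
      rw [map_zero, LinearMap.lTensor_tmul, IsBaseChange.equiv_tmul]
      simpa [t] using hc
    obtain ⟨z, hz⟩ := ((Module.Flat.lTensor_exact C ht) _).1 h0
    have h1 := congrArg (TensorProduct.rid B C) hz
    rw [TensorProduct.rid_tmul, one_smul] at h1
    rw [← h1]
    clear hz h0 h1
    induction z using TensorProduct.induction_on with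
    | zero => simp
    | add a b ha hb => rw [map_add, map_add]; exact add_mem ha hb
    | tmul d b =>
      rw [LinearMap.lTensor_tmul, Submodule.subtype_apply, TensorProduct.rid_tmul, Algebra.smul_def]
      exact x.mul_mem_right _ ((Ideal.mem_of_liesOver x r _).1 (hw.2 _ b.2))

/-- An associated point of a fibre lies below an associated point of each more special fibre met by
its closure at a flat point. -/
theorem exists_assoc_above {R S : Type u} [CommRing R] [CommRing S] [Algebra R S] [Algebra.FiniteType R S]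
    (N : Type u) [AddCommGroup N] [Module S N] [Module R N] [IsScalarTower R S N] [Module.Finite S N]
    (t' t : Ideal R) [t'.IsPrime] [t.IsPrime] (x q : Ideal S) [x.IsPrime] [q.IsPrime] [q.LiesOver t]
    (hxq : x ≤ q) (hflat : FlatCA.FlatAt R q N) {w : N ⊗[R] t'.ResidueField} (hw : IsWk x w) :
    ∃ a : Ideal S, a.IsPrime ∧ x ≤ a ∧ a.LiesOver t ∧ ∃ v : N ⊗[R] t.ResidueField, IsWk a v := by
  by_contra hne
  push Not at hne
  obtain ⟨c, hc, hca⟩ := exists_mem_notMem_assoc (R := R) N t x fun r hr hrt ⟨v, hv⟩ hle => hne r hr hle hrt v hv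
  obtain ⟨σ, hσ, k, hk⟩ := hw.1 c hc
  obtain ⟨s, hs, hsv⟩ := regular_of_fibre N t q hflat (fun _ : Fin 1 => c ^ k)
    (fun v hv => eq_zero_of_smul_eq_zero (R := R) N t (fun r hr hrt hwk h => hca r hr hrt hwk (hr.mem_of_pow_mem k h)) v (hv 0))
    t'.ResidueField (σ • w) (fun _ => by rw [← mul_smul, mul_comm]; exact hk)
  rw [← mul_smul] at hsv
  exact hs (hxq ((‹x.IsPrime›.mem_or_mem (hw.2 _ hsv)).resolve_right hσ))

/-- An open piece of the image of an étale piece with projective module is pure along a fibre as soon as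
it misses no associated point of that fibre. -/
theorem isPureAlong_away {A B C B₁ : Type u} [CommRing A] [CommRing B] [CommRing C] [CommRing B₁]
    [Algebra A B] [Algebra.FiniteType A B] [Algebra B C] [Algebra A C] [IsScalarTower A B C] [Algebra.Etale B C]
    (N : Type u) [AddCommGroup N] [Module B N] [Module A N] [IsScalarTower A B N] [Module.Finite B N]
    [Module.Projective A (C ⊗[B] N)] (g : B) [Algebra B B₁] [IsLocalization.Away g B₁] [Algebra A B₁]
    [IsScalarTower A B B₁]
    (hcov : ∀ Q : Ideal B, Q.IsPrime → g ∉ Q → ∃ x : Ideal C, x.IsPrime ∧ x.comap (algebraMap B C) = Q)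
    (p : Ideal A) [p.IsPrime] (hinj : ∀ v : (C ⊗[B] N) ⊗[A] p.ResidueField, algebraMap B C g • v = 0 → v = 0) :
    FlatCA.IsPureAlong A B₁ (B₁ ⊗[B] N) p := by
  intro A' B' N' _ _ _ _ _ _ _ _ _ _ _ _ _ _ f t' t _ _ r _ hnhd himp
  obtain ⟨hpo, hbc, htt, htp, hr, hass, hno⟩ := himp
  haveI := hr
  haveI := hpo
  haveI := htp
  let T : Submonoid B := Submonoid.powers g
  haveI : IsLocalization T B₁ := inferInstanceAs (IsLocalization.Away g B₁)
  let B0 := A' ⊗[A] B
  haveI : Algebra.IsPushout A A' B B0 := inferInstance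
  haveI : Algebra.IsPushout A B A' B0 := Algebra.IsPushout.symm inferInstance
  letI : Algebra B B' := Algebra.compHom B' (algebraMap B B₁)
  haveI : IsScalarTower B B₁ B' := IsScalarTower.of_algebraMap_eq fun _ => rfl
  haveI : IsScalarTower A B B' := IsScalarTower.of_algebraMap_eq fun a => by
    rw [IsScalarTower.algebraMap_apply A B₁ B', IsScalarTower.algebraMap_apply A B B₁, ← IsScalarTower.algebraMap_apply B B₁ B']
  let φ : B0 →ₐ[A'] B' := Algebra.TensorProduct.lift (Algebra.ofId A' B') (IsScalarTower.toAlgHom A B B')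
    fun _ _ => Commute.all _ _
  letI : Algebra B0 B' := φ.toRingHom.toAlgebra
  haveI : IsScalarTower A' B0 B' := IsScalarTower.of_algebraMap_eq fun a => (φ.commutes a).symm
  haveI : IsScalarTower B B0 B' := IsScalarTower.of_algebraMap_eq fun b => by
    show _ = φ ((1 : A') ⊗ₜ[A] b)
    refine Eq.symm ((Algebra.TensorProduct.lift_tmul _ _ _ _ _).trans ?_)
    rw [map_one, one_mul]
    rfl
  haveI : IsScalarTower A B0 B' := IsScalarTower.of_algebraMap_eq fun a => by
    rw [IsScalarTower.algebraMap_apply A A' B', IsScalarTower.algebraMap_apply A A' B0,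
      ← IsScalarTower.algebraMap_apply A' B0 B']
  haveI hpo' : Algebra.IsPushout B B₁ B0 B' :=
    (Algebra.IsPushout.comp_iff (R := A) (S := B) (R' := A') (S' := B0) (T := B₁) (T' := B')).1 inferInstance
  haveI : Algebra.IsPushout B B0 B₁ B' := hpo'.symm
  haveI : IsLocalization (Algebra.algebraMapSubmonoid B0 T) B' :=
    (Algebra.isLocalization_iff_isPushout T B₁).2 inferInstance
  -- the modules
  let N0 := B0 ⊗[B] N
  letI : Module B N' := Module.compHom N' (algebraMap B B₁)
  haveI : IsScalarTower B B₁ N' := IsScalarTower.of_algebraMap_smul fun _ _ => rfl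
  haveI : IsScalarTower B B' N' := IsScalarTower.of_algebraMap_smul fun b n => by
    rw [IsScalarTower.algebraMap_apply B B₁ B', algebraMap_smul]; rfl
  letI : Module B0 N' := Module.compHom N' (algebraMap B0 B')
  haveI : IsScalarTower B0 B' N' := IsScalarTower.of_algebraMap_smul fun _ _ => rfl
  haveI : IsScalarTower B B0 N' := IsScalarTower.of_algebraMap_smul fun b n => by
    show algebraMap B0 B' (algebraMap B B0 b) • n = b • n
    rw [← IsScalarTower.algebraMap_apply, algebraMap_smul]
  haveI : IsScalarTower A' B0 N' := IsScalarTower.of_algebraMap_smul fun a n => by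
    show algebraMap B0 B' (algebraMap A' B0 a) • n = a • n
    rw [← IsScalarTower.algebraMap_apply, algebraMap_smul]
  let f₀ : N →ₗ[B] N' := (f.restrictScalars B).comp (TensorProduct.mk B B₁ N 1)
  have hf₀ : IsBaseChange B' f₀ := (TensorProduct.isBaseChange B N B₁).comp hbc
  let j : N0 →ₗ[B0] N' := (TensorProduct.isBaseChange B N B0).lift f₀
  have hj : IsBaseChange B' j := IsBaseChange.of_comp (TensorProduct.isBaseChange B N B0) (h := j) (by
    have : (j.restrictScalars B).comp (TensorProduct.mk B B0 N 1) = f₀ := IsBaseChange.lift_comp _ _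
    rw [this]; exact hf₀)
  haveI : IsLocalizedModule (Algebra.algebraMapSubmonoid B0 T) j :=
    (isLocalizedModule_iff_isBaseChange (Algebra.algebraMapSubmonoid B0 T) B' j).2 hj
  let r₀ := r.comap (algebraMap B0 B')
  haveI : r.LiesOver r₀ := ⟨rfl⟩
  haveI : r₀.LiesOver t' := ⟨by
    show t' = (r.comap (algebraMap B0 B')).comap (algebraMap A' B0)
    rw [Ideal.comap_comap, ← IsScalarTower.algebraMap_eq]; exact Ideal.over_def r t'⟩
  haveI : Algebra.FiniteType A' B0 := inferInstance
  haveI : Algebra.FiniteType A' B' := by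
    haveI : IsLocalization.Away (algebraMap B B0 g) B' := by
      show IsLocalization (Submonoid.powers (algebraMap B B0 g)) B'
      rw [← Algebra.algebraMapSubmonoid_powers]; infer_instance
    haveI : Algebra.FiniteType B0 B' :=
      haveI : Algebra.FinitePresentation B0 B' := IsLocalization.Away.finitePresentation (algebraMap B B0 g)
      inferInstance
    exact Algebra.FiniteType.trans (S := B0) inferInstance inferInstance
  obtain ⟨w, hw⟩ := (fiberIdeal_mem_associatedPrimes_iff t' N' r).1 hass
  obtain ⟨w₀, hw₀⟩ := exists_isWk_of_map (Algebra.algebraMapSubmonoid B0 T)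
    (AlgebraTensorModule.rTensor A' t'.ResidueField j) r₀ r hw
  have hgr : g ∉ r₀.comap (algebraMap B B0) := fun h => by
    refine (inferInstance : r.IsPrime).ne_top (Ideal.eq_top_of_isUnit_mem _
      (show algebraMap B0 B' (algebraMap B B0 g) ∈ r from h) ?_)
    exact IsLocalization.map_units B' (⟨_, Algebra.mem_algebraMapSubmonoid_of_mem (⟨g, Submonoid.mem_powers g⟩ : T)⟩ :
      Algebra.algebraMapSubmonoid B0 T)
  obtain ⟨xC, hxC, hxr⟩ := hcov _ inferInstance hgr
  haveI := hxC
  -- the étale piece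
  let C0 := B0 ⊗[B] C
  obtain ⟨x, hx, hxr₀, -⟩ := exists_prime_over_both (B := B) (SA := B0) (S := C) r₀ xC (by rw [hxr])
  haveI := hx
  haveI : x.LiesOver r₀ := ⟨hxr₀.symm⟩
  haveI : x.LiesOver t' := Ideal.LiesOver.trans x r₀ t'
  let P' := C0 ⊗[B0] N0
  let i₀ : N0 ⊗[A'] t'.ResidueField →ₗ[B0] P' ⊗[A'] t'.ResidueField :=
    AlgebraTensorModule.rTensor A' t'.ResidueField (TensorProduct.mk B0 C0 N0 1)
  have hi₀ : IsBaseChange C0 i₀ := by
    refine IsBaseChange.of_equiv ((AlgebraTensorModule.assoc A' B0 C0 C0 N0 t'.ResidueField).symm) fun z => ?_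
    induction z using TensorProduct.induction_on with
    | zero => simp
    | add a b ha hb => rw [TensorProduct.tmul_add, map_add, map_add, ha, hb]
    | tmul n c => rfl
  have hwx := isWk_lift_unramified i₀ hi₀ r₀ x hw₀
  let P := C ⊗[B] N
  haveI : Module.Flat A P := inferInstance
  let kbc : P' ≃ₗ[A'] A' ⊗[A] P :=
    ((AlgebraTensorModule.cancelBaseChange B B0 C0 C0 N).restrictScalars A').trans
      (((AlgebraTensorModule.assoc B B B0 B0 C N).restrictScalars A').trans
        (Algebra.IsPushout.cancelBaseChange A A' B B0 P))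
  haveI : Module.Projective A' P' := Module.Projective.of_equiv kbc.symm
  obtain ⟨q, hq, hxq, hqt⟩ := exists_specialization_of_projective P' t' t htt x hwx
  haveI := hq
  haveI := hqt
  have hflat : FlatCA.FlatAt A' q P' :=
    RG4.flat_of_isLocalizedModule (R := A') q.primeCompl (LocalizedModule.mkLinearMap q.primeCompl P')
  haveI : Algebra.FiniteType A' C0 := Algebra.FiniteType.trans (S := B0) inferInstance inferInstance
  obtain ⟨a, ha, hxa, hat, v, hv⟩ := exists_assoc_above (R := A') P' t' t x q hxq hflat hwx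
  haveI := ha
  haveI := hat
  -- the fibres over `t` and `p` agree
  have hga : algebraMap B C0 g ∈ a := by
    by_contra h
    let a₀ := a.comap (algebraMap B0 C0)
    have hdis : Disjoint ((Algebra.algebraMapSubmonoid B0 T : Submonoid B0) : Set B0) (a₀ : Set B0) := by
      refine Set.disjoint_left.2 fun y hy hya => ?_
      obtain ⟨_, ⟨n, rfl⟩, rfl⟩ := hy
      refine h (‹a.IsPrime›.mem_of_pow_mem n ?_)
      rw [← map_pow, IsScalarTower.algebraMap_apply B B0 C0]
      exact hya
    haveI hm : (a₀.map (algebraMap B0 B')).IsPrime :=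
      IsLocalization.isPrime_of_isPrime_disjoint (Algebra.algebraMapSubmonoid B0 T) _ _ inferInstance hdis
    refine hno (a₀.map (algebraMap B0 B')) ?_ ⟨?_⟩
    · rw [← IsLocalization.map_comap (Algebra.algebraMapSubmonoid B0 T) B' r]
      exact Ideal.map_mono ((Ideal.over_def x r₀).trans_le (Ideal.comap_mono hxa))
    · show t = (a₀.map (algebraMap B0 B')).comap (algebraMap A' B')
      rw [IsScalarTower.algebraMap_eq A' B0 B', ← Ideal.comap_comap,
        show (a₀.map (algebraMap B0 B')).comap (algebraMap B0 B') = a₀ from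
          IsLocalization.under_map_of_isPrime_disjoint (Algebra.algebraMapSubmonoid B0 T) B' inferInstance hdis,
        Ideal.comap_comap, ← IsScalarTower.algebraMap_eq]
      exact Ideal.over_def a t
  obtain ⟨-, ht, hκ⟩ := hnhd
  let eκ : p.ResidueField ≃ₐ[A] t.ResidueField := AlgEquiv.ofBijective _ hκ
  let Φ : P' ⊗[A'] t.ResidueField ≃ₗ[A] P ⊗[A] p.ResidueField :=
    ((TensorProduct.congr kbc (LinearEquiv.refl A' t.ResidueField)).trans
      (TensorProduct.comm A' (A' ⊗[A] P) t.ResidueField)).restrictScalars A |>.trans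
      (((AlgebraTensorModule.cancelBaseChange A A' A' t.ResidueField P).restrictScalars A).trans
        ((TensorProduct.comm A t.ResidueField P).trans
          (TensorProduct.congr (LinearEquiv.refl A P) eκ.symm.toLinearEquiv)))
  have hΦ' : ∀ y, Φ.symm (algebraMap B C g • y) = algebraMap B C0 g • Φ.symm y := fun y => by
    induction y using TensorProduct.induction_on with
    | zero => simp
    | add a b ha hb => simp only [smul_add, map_add, ha, hb]
    | tmul m k =>
      induction m using TensorProduct.induction_on with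
      | zero => simp
      | add a b ha hb => simp only [TensorProduct.add_tmul, smul_add, map_add, ha, hb]
      | tmul c n =>
        simp only [TensorProduct.smul_tmul', smul_eq_mul]
        simp [Φ, kbc]
        simp only [TensorProduct.smul_tmul']
        congr 1
  have hΦ : ∀ z, Φ (algebraMap B C0 g • z) = algebraMap B C g • Φ z := fun z => Φ.symm.injective (by
    rw [hΦ', LinearEquiv.symm_apply_apply, LinearEquiv.symm_apply_apply])
  obtain ⟨σ, hσ, k, hk⟩ := hv.1 _ hga
  refine hσ (hv.2 σ (Φ.injective (by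
    rw [map_zero]
    suffices ∀ k : ℕ, Φ ((algebraMap B C0 g ^ k) • σ • v) = 0 → Φ (σ • v) = 0 from this k (by
      rw [← mul_smul, mul_comm, hk, map_zero])
    intro k
    induction k with
    | zero => simp
    | succ k ih => intro h; rw [pow_succ', mul_smul, hΦ] at h; exact ih (hinj _ h))))

/-- An open piece of the image of an étale piece through a given point missing no associated point of
a fibre of the piece. -/
theorem exists_good_element {A B C : Type u} [CommRing A] [CommRing B] [CommRing C] [Algebra A B]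
    [Algebra.FiniteType A B] [Algebra B C] [Algebra A C] [IsScalarTower A B C] [Algebra.Etale B C]
    (N : Type u) [AddCommGroup N] [Module B N] [Module A N] [IsScalarTower A B N] [Module.Finite B N]
    (p : Ideal A) [p.IsPrime] (x₀ : Ideal C) [x₀.IsPrime] :
    ∃ g : B, g ∉ x₀.comap (algebraMap B C) ∧
      (∀ Q : Ideal B, Q.IsPrime → g ∉ Q → ∃ x : Ideal C, x.IsPrime ∧ x.comap (algebraMap B C) = Q) ∧
      ∀ v : (C ⊗[B] N) ⊗[A] p.ResidueField, algebraMap B C g • v = 0 → v = 0 := by
  classical
  let V := Set.range (PrimeSpectrum.comap (algebraMap B C))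
  have hV : IsOpen V := by
    show IsOpen (Set.range _)
    rw [← Set.image_univ]
    exact PrimeSpectrum.isOpenMap_comap_of_hasGoingDown_of_finitePresentation _ isOpen_univ
  obtain ⟨Z, hZ⟩ := (PrimeSpectrum.isClosed_iff_zeroLocus _).1 hV.isClosed_compl
  let P := C ⊗[B] N
  haveI : Algebra.FiniteType A C := Algebra.FiniteType.trans (S := B) inferInstance inferInstance
  haveI : IsNoetherianRing (p.Fiber C) := Algebra.FiniteType.isNoetherianRing p.ResidueField (p.Fiber C)
  haveI : Module.Finite (p.Fiber C) (FlatCA.fiberMod p C P) :=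
    inferInstanceAs (Module.Finite (p.Fiber C) ((p.Fiber C) ⊗[C] P))
  have hfin := associatedPrimes.finite (p.Fiber C) (FlatCA.fiberMod p C P)
  let f : Ideal (p.Fiber C) → Ideal B := fun a => (a.comap (CI2.FibAss.inc (S := C) p)).comap (algebraMap B C)
  let F := insert (x₀.comap (algebraMap B C)) (hfin.toFinset.image f)
  have hF : ∀ r ∈ F, r.IsPrime ∧ ∃ x : Ideal C, x.IsPrime ∧ x.comap (algebraMap B C) = r := fun r hr => by
    rcases Finset.mem_insert.1 hr with rfl | hr
    · exact ⟨inferInstance, x₀, inferInstance, rfl⟩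
    · obtain ⟨a, ha, rfl⟩ := Finset.mem_image.1 hr
      haveI := (hfin.mem_toFinset.1 ha).isPrime
      haveI : (a.comap (CI2.FibAss.inc (S := C) p)).IsPrime :=
        inferInstanceAs (a.comap (CI2.FibAss.inc (S := C) p)).IsPrime
      exact ⟨inferInstanceAs ((a.comap (CI2.FibAss.inc (S := C) p)).comap (algebraMap B C)).IsPrime, _,
        inferInstance, rfl⟩
  obtain ⟨g, hgZ, hgF⟩ : ∃ g ∈ Ideal.span Z, ∀ r ∈ F, g ∉ r := by
    by_contra hc
    push Not at hc
    obtain ⟨r, hr, hZr⟩ := (Ideal.subset_union_prime ⊥ ⊥ (fun r hr _ _ => (hF r hr).1)).1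
      (show (Ideal.span Z : Set B) ⊆ ⋃ r ∈ (F : Set (Ideal B)), (r : Set B) from fun z hz => by
        obtain ⟨r, hr, hzr⟩ := hc z hz
        exact Set.mem_iUnion₂.2 ⟨r, hr, hzr⟩)
    obtain ⟨hrp, x, hx, hxr⟩ := hF r hr
    have hmem : (⟨r, hrp⟩ : PrimeSpectrum B) ∈ V := ⟨⟨x, hx⟩, PrimeSpectrum.ext hxr⟩
    have : (⟨r, hrp⟩ : PrimeSpectrum B) ∈ Vᶜ := by
      rw [hZ, PrimeSpectrum.mem_zeroLocus]
      exact fun z hz => hZr (Ideal.subset_span hz)
    exact this hmem
  refine ⟨g, hgF _ (Finset.mem_insert_self _ _), fun Q hQ hgQ => ?_, fun v hv => ?_⟩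
  · have : (⟨Q, hQ⟩ : PrimeSpectrum B) ∈ V := by
      by_contra hc
      have h2 : (⟨Q, hQ⟩ : PrimeSpectrum B) ∈ PrimeSpectrum.zeroLocus Z := hZ ▸ hc
      exact hgQ ((Ideal.span_le.2 ((PrimeSpectrum.mem_zeroLocus _ _).1 h2)) hgZ)
    obtain ⟨x, hx⟩ := this
    exact ⟨x.asIdeal, x.2, congrArg PrimeSpectrum.asIdeal hx⟩
  · refine eq_zero_of_smul_eq_zero (R := A) (S := C) P p (fun r hr hrp hwk hgr => ?_) v hv
    haveI := hr
    haveI := hrp
    refine hgF _ (Finset.mem_insert_of_mem (Finset.mem_image.2
      ⟨FlatCA.fiberIdeal p r, hfin.mem_toFinset.2 ((fiberIdeal_mem_associatedPrimes_iff p P r).2 hwk), rfl⟩)) ?_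
    show g ∈ ((FlatCA.fiberIdeal p r).comap (CI2.FibAss.inc (S := C) p)).comap (algebraMap B C)
    rw [comap_fiberIdeal p r]
    exact hgr

/-- Such an open piece is flat over the base. -/
theorem flat_away_of_covered {A B C B₁ : Type u} [CommRing A] [CommRing B] [CommRing C] [CommRing B₁]
    [Algebra A B] [Algebra B C] [Algebra A C] [IsScalarTower A B C] [Module.Flat B C]
    (N : Type u) [AddCommGroup N] [Module B N] [Module A N] [IsScalarTower A B N]
    [Module.Flat A (C ⊗[B] N)] (g : B) [Algebra B B₁] [IsLocalization.Away g B₁] [Algebra A B₁]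
    [IsScalarTower A B B₁]
    (hcov : ∀ Q : Ideal B, Q.IsPrime → g ∉ Q → ∃ x : Ideal C, x.IsPrime ∧ x.comap (algebraMap B C) = Q) :
    Module.Flat A (B₁ ⊗[B] N) := by
  haveI : Module.Flat B B₁ := IsLocalization.flat B₁ (Submonoid.powers g)
  refine Module.flat_of_isLocalized_maximal (R := A) (M := B₁ ⊗[B] N) B₁
    (fun P => LocalizedModule P.primeCompl (B₁ ⊗[B] N)) (fun P _ => LocalizedModule.mkLinearMap P.primeCompl (B₁ ⊗[B] N))
    fun P _ => ?_
  let Q : PrimeSpectrum B := PrimeSpectrum.comap (algebraMap B B₁) ⟨P, inferInstance⟩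
  have hgQ : g ∉ Q.asIdeal := fun h => ‹P.IsMaximal›.ne_top (Ideal.eq_top_of_isUnit_mem _ h
    (IsLocalization.Away.algebraMap_isUnit (S := B₁) g))
  obtain ⟨x, hx, hxQ⟩ := hcov Q.asIdeal Q.2 hgQ
  haveI := hx
  haveI : x.LiesOver Q.asIdeal := ⟨hxQ.symm⟩
  haveI : P.LiesOver Q.asIdeal := ⟨rfl⟩
  exact flatAt_of_flat_map (R := A) (C := B₁) N Q.asIdeal P (flatAt_of_flat_map_descent (C := C) N Q.asIdeal x
    (RG4.flat_of_isLocalizedModule (R := A) x.primeCompl (LocalizedModule.mkLinearMap x.primeCompl (C ⊗[B] N))))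

end Groth.Agent.Dev4
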