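import Groth.Agent.Lib.Dev4.PureSpread
import Groth.Agent.Lib.Dev4.ProjPiece
import Groth.Agent.Lib.CAlgLow.CountableML
import Groth.Agent.Lib.RG4.MLNoeth
import Groth.Agent.S0584

/-!
# Projectivity from coverings of associated fibre points
-/

set_option autoImplicit false
set_option maxSynthPendingDepth 3

universe u

open TensorProduct

set_option backward.isDefEq.respectTransparency.types false

namespace Groth.Agent.Dev4

/-- Universal injectivity over a ring and over its localisations. -/
theorem univInj_of_isLocalization {R A X Y : Type u} [CommRing R] [CommRing A] [Algebra R A] (T : Submonoid R)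
    [IsLocalization T A] [AddCommGroup X] [Module R X] [Module A X] [IsScalarTower R A X] [AddCommGroup Y] [Module R Y]
    [Module A Y] [IsScalarTower R A Y] (f : X →ₗ[A] Y) (h : FlatCA.UnivInj R (f.restrictScalars R)) :
    FlatCA.UnivInj A f := by
  intro Q _ _
  letI : Module R Q := Module.compHom Q (algebraMap R A)
  haveI : IsScalarTower R A Q := IsScalarTower.of_algebraMap_smul fun _ _ => rfl
  let eX := IsLocalization.moduleTensorEquiv T A Q X
  let eY := IsLocalization.moduleTensorEquiv T A Q Y
  have key : ∀ z, eY (f.lTensor Q z) = (f.restrictScalars R).lTensor Q (eX z) := fun z => by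
    induction z using TensorProduct.induction_on with
    | zero => simp
    | add a b ha hb => simp only [map_add, ha, hb]
    | tmul q x => rfl
  intro x y hxy
  apply eX.injective
  refine h Q ?_
  rw [← key, ← key, hxy]

/-- A finite module over a finite type algebra is countably generated over the base. -/
theorem isCountablyGenerated_of_finite {R B : Type u} [CommRing R] [CommRing B] [Algebra R B] [Algebra.FiniteType R B]
    (N : Type u) [AddCommGroup N] [Module B N] [Module R N] [IsScalarTower R B N] [Module.Finite B N] :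
    CAlg.IsCountablyGenerated R N := by
  obtain ⟨n, φ, hφ⟩ := Algebra.FiniteType.iff_quotient_mvPolynomial''.1 ‹Algebra.FiniteType R B›
  obtain ⟨k, π, hπ⟩ := Module.Finite.exists_fin' B N
  let g : (Fin k → MvPolynomial (Fin n) R) →ₗ[R] N := (π.restrictScalars R).comp (φ.toLinearMap.compLeft (Fin k))
  have hg : Function.Surjective g := hπ.comp fun v => ⟨fun i => (hφ (v i)).choose, funext fun i => (hφ (v i)).choose_spec⟩
  let b := Pi.basis fun _ : Fin k => MvPolynomial.basisMonomials (Fin n) R
  refine ⟨g '' Set.range b, (Set.countable_range _).image _, ?_⟩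
  rw [Submodule.span_image, b.span_eq, Submodule.map_top]
  exact LinearMap.range_eq_top.2 hg

variable {R B : Type u} [CommRing R] [CommRing B] [Algebra R B] [Algebra.FinitePresentation R B]
  (N : Type u) [AddCommGroup N] [Module B N] [Module R N] [IsScalarTower R B N] [Module.FinitePresentation B N]
  [Module.Flat R N]

/-- Projectivity near a point from an étale piece covering the associated points over its generalisations. -/
theorem exists_projective_away (C : Type u) [CommRing C] [Algebra B C] [Algebra R C] [IsScalarTower R B C]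
    [Algebra.Etale B C] [Module.Projective R (C ⊗[B] N)] (p : Ideal R) [p.IsPrime]
    (h : ∀ (t : Ideal R) [t.IsPrime] (r : Ideal B) [r.IsPrime] [r.LiesOver t], t ≤ p →
      (∃ w : N ⊗[R] t.ResidueField, IsWk r w) → ∃ x : Ideal C, x.IsPrime ∧ x.comap (algebraMap B C) = r) :
    ∃ f : R, f ∉ p ∧ Module.Projective (Localization.Away f) (LocalizedModule (Submonoid.powers f) N) := by
  classical
  let V := Set.range (PrimeSpectrum.comap (algebraMap B C))
  have hV : IsOpen V := by
    show IsOpen (Set.range _)
    rw [← Set.image_univ]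
    exact PrimeSpectrum.isOpenMap_comap_of_hasGoingDown_of_finitePresentation _ isOpen_univ
  obtain ⟨f, hf, hcov⟩ := exists_covered_away N V hV (isCompact_range (PrimeSpectrum.continuous_comap _)) p
    fun t _ r _ _ htp hw => by
      obtain ⟨x, hx, hxr⟩ := h t r htp hw
      exact ⟨⟨x, hx⟩, PrimeSpectrum.ext hxr⟩
  refine ⟨f, hf, ?_⟩
  let T := Submonoid.powers (algebraMap R B f)
  let Bf := Localization T
  let Rf := Localization.Away f
  haveI : IsLocalization.Away (algebraMap R B f) Bf := inferInstanceAs (IsLocalization T Bf)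
  haveI : Algebra.FiniteType R Bf :=
    haveI : Algebra.FinitePresentation B Bf := IsLocalization.Away.finitePresentation (algebraMap R B f)
    haveI := Algebra.FinitePresentation.trans R B Bf
    inferInstance
  let Nf := Bf ⊗[B] N
  let Cf := Bf ⊗[B] C
  haveI : IsLocalizedModule T (TensorProduct.mk B Bf N 1) :=
    (isLocalizedModule_iff_isBaseChange T Bf _).2 (TensorProduct.isBaseChange B N Bf)
  haveI : Module.Flat R Nf := RG4.flat_of_isLocalizedModule T (TensorProduct.mk B Bf N 1)
  have hu : FlatCA.UnivInj R ((TensorProduct.mk Bf Cf Nf 1).restrictScalars R) := by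
    refine univInj_mk_of_fibres Nf fun t r _ _ _ hass => ?_
    obtain ⟨w, hw⟩ := (fiberIdeal_mem_associatedPrimes_iff t Nf r).1 hass
    let r₀ := r.comap (algebraMap B Bf)
    haveI : r.LiesOver r₀ := ⟨rfl⟩
    haveI : r₀.LiesOver t := ⟨by
      rw [Ideal.LiesOver.over (P := r) (p := t)]
      show r.comap (algebraMap R Bf) = (r.comap (algebraMap B Bf)).comap (algebraMap R B)
      rw [Ideal.comap_comap, ← IsScalarTower.algebraMap_eq]⟩
    obtain ⟨x, hx⟩ := hcov t r₀ (fun hft => by
        refine (inferInstance : r.IsPrime).ne_top (Ideal.eq_top_of_isUnit_mem _ ?_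
          (IsLocalization.map_units Bf (⟨_, Submonoid.mem_powers _⟩ : T)))
        show algebraMap R B f ∈ r₀
        exact (Ideal.mem_of_liesOver r₀ t f).1 hft)
      (exists_isWk_of_map T (AlgebraTensorModule.rTensor R t.ResidueField (TensorProduct.mk B Bf N 1)) r₀ r hw)
    -- lift to the base change
    let π : Bf →ₐ[B] r.ResidueField := IsScalarTower.toAlgHom B Bf r.ResidueField
    have hxr : x.asIdeal.comap (algebraMap B C) = r₀ := congrArg PrimeSpectrum.asIdeal hx
    haveI : x.asIdeal.LiesOver r₀ := ⟨hxr.symm⟩
    have hdis : Disjoint ((Algebra.algebraMapSubmonoid C T : Submonoid C) : Set C) (x.asIdeal : Set C) := by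
      refine Set.disjoint_left.2 fun c hc hcx => ?_
      obtain ⟨b, hb, rfl⟩ := hc
      have hbr : b ∈ r₀ := by rw [← hxr]; exact hcx
      exact (inferInstance : r.IsPrime).ne_top (Ideal.eq_top_of_isUnit_mem _ hbr
        (IsLocalization.map_units Bf (⟨b, hb⟩ : T)))
    letI : Algebra C Cf := Algebra.TensorProduct.rightAlgebra
    haveI : IsLocalization (Algebra.algebraMapSubmonoid C T) Cf := inferInstance
    refine ⟨x.asIdeal.map (algebraMap C Cf),
      IsLocalization.isPrime_of_isPrime_disjoint (Algebra.algebraMapSubmonoid C T) Cf _ x.2 hdis, ?_⟩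
    rw [← IsLocalization.map_comap T Bf r]
    rw [← IsLocalization.map_comap T Bf ((x.asIdeal.map (algebraMap C Cf)).comap (algebraMap Bf Cf))]
    congr 1
    simp only [Ideal.under_def]
    rw [Ideal.comap_comap]
    have hcompat : (algebraMap Bf Cf).comp (algebraMap B Bf) = (algebraMap C Cf).comp (algebraMap B C) := by
      ext b
      show algebraMap Bf Cf (algebraMap B Bf b) = (Algebra.TensorProduct.includeRight : C →ₐ[B] Cf) (algebraMap B C b)
      rw [AlgHom.commutes, ← IsScalarTower.algebraMap_apply]
    rw [hcompat, ← Ideal.comap_comap,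
      show (x.asIdeal.map (algebraMap C Cf)).comap (algebraMap C Cf) = x.asIdeal from
        IsLocalization.under_map_of_isPrime_disjoint (Algebra.algebraMapSubmonoid C T) Cf x.2 hdis, hxr]
  -- structures over the localised base
  letI : Algebra Rf Bf := (IsLocalization.Away.lift f (g := algebraMap R Bf)
    (by rw [IsScalarTower.algebraMap_apply R B Bf]; exact IsLocalization.map_units Bf (⟨_, Submonoid.mem_powers _⟩ : T))).toAlgebra
  haveI : IsScalarTower R Rf Bf := IsScalarTower.of_algebraMap_eq fun r => by
    rw [RingHom.algebraMap_toAlgebra, IsLocalization.Away.lift_eq]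
  let X := C ⊗[B] N
  haveI : IsLocalizedModule T (TensorProduct.mk B Bf X 1) :=
    (isLocalizedModule_iff_isBaseChange T Bf _).2 (TensorProduct.isBaseChange B X Bf)
  haveI : IsLocalizedModule (Submonoid.powers f) ((TensorProduct.mk B Bf X 1).restrictScalars R) :=
    IsLocalizedModule.restrictScalars_powers _ _
  haveI : Module.Projective Rf (Bf ⊗[B] X) :=
    Module.projective_of_isLocalizedModule (Submonoid.powers f) ((TensorProduct.mk B Bf X 1).restrictScalars R)
  let Φ : Cf ⊗[Bf] Nf ≃ₗ[Bf] Bf ⊗[B] X :=
    ((AlgebraTensorModule.cancelBaseChange B Bf Cf Cf N).restrictScalars Bf).trans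
      (AlgebraTensorModule.assoc B B Bf Bf C N)
  let u : Nf →ₗ[Bf] Bf ⊗[B] X := Φ.toLinearMap.comp (TensorProduct.mk Bf Cf Nf 1)
  have hu' : FlatCA.UnivInj R ((u.restrictScalars Rf).restrictScalars R) := by
    intro Q _ _
    have : ((u.restrictScalars Rf).restrictScalars R).lTensor Q =
        ((Φ.restrictScalars R).toLinearMap.lTensor Q).comp (((TensorProduct.mk Bf Cf Nf 1).restrictScalars R).lTensor Q) := by
      rw [← LinearMap.lTensor_comp]; rfl
    rw [this, LinearMap.coe_comp]
    exact (LinearEquiv.lTensor Q (Φ.restrictScalars R)).injective.comp (hu Q)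
  have huf := univInj_of_isLocalization (Submonoid.powers f) (u.restrictScalars Rf) hu'
  have hML : CAlg.IsMittagLeffler Rf (Bf ⊗[B] X) := ((S0584.result Rf (Bf ⊗[B] X)).1 inferInstance).2.1
  haveI : Module.Flat Rf Nf := (Module.flat_iff_of_isLocalization Rf (Submonoid.powers f) Nf).2 inferInstance
  haveI : Algebra.FiniteType Rf Bf := Algebra.FiniteType.of_restrictScalars_finiteType R Rf Bf
  haveI : Module.Projective Rf Nf := CAlgLow.projective_of_flat_mittagLeffler_countablyGenerated
    (CAlgLow.isMittagLeffler_of_ui (RG4.universallyInjective_of_univInj huf) hML) (isCountablyGenerated_of_finite (B := Bf) Nf)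
  haveI : IsLocalizedModule (Submonoid.powers f) ((TensorProduct.mk B Bf N 1).restrictScalars R) :=
    IsLocalizedModule.restrictScalars_powers _ _
  exact Module.Projective.of_equiv (LinearEquiv.extendScalarsOfIsLocalization (Submonoid.powers f) Rf
    (IsLocalizedModule.iso (Submonoid.powers f) ((TensorProduct.mk B Bf N 1).restrictScalars R))).symm

end Groth.Agent.Dev4
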