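import Groth.Agent.Lib.Dev4.FreePoint

/-!
# Refining étale neighbourhoods and moving local data along them
-/

set_option autoImplicit false

universe u

open TensorProduct IsLocalRing

set_option backward.isDefEq.respectTransparency.types false

attribute [local instance] Algebra.TensorProduct.rightAlgebra

namespace Groth.Agent.Dev4

/-- Finitely many elementary étale neighbourhoods have a common refinement. -/
theorem exists_refinement {R : Type u} [CommRing R] (p : Ideal R) [p.IsPrime] :
    ∀ (n : ℕ) (Ri : Fin n → Type u) [∀ i, CommRing (Ri i)] [∀ i, Algebra R (Ri i)] (pi : ∀ i, Ideal (Ri i))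
      [∀ i, (pi i).IsPrime], (∀ i, FlatCA.IsEtaleNhd R (Ri i) p (pi i)) →
      ∃ (R'' : Type u) (_ : CommRing R'') (_ : Algebra R R'') (p'' : Ideal R'') (_ : p''.IsPrime)
        (φ : ∀ i, Ri i →ₐ[R] R''), FlatCA.IsEtaleNhd R R'' p p'' ∧
          ∀ i, p''.comap (φ i) = pi i := by
  intro n
  induction n with
  | zero =>
    intro Ri _ _ pi _ _
    refine ⟨R, inferInstance, inferInstance, p, inferInstance, fun i => i.elim0,
      ⟨inferInstance, ⟨(Ideal.comap_id p).symm⟩, ?_⟩, fun i => i.elim0⟩
    exact (RingHom.surjectiveOnStalks_of_surjective (fun x => ⟨x, rfl⟩ : Function.Surjective (algebraMap R R))).residueFieldMap_bijective p p _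
  | succ n ih =>
    intro Ri _ _ pi _ hn
    obtain ⟨A, _, _, a, _, φ, hA, hφ⟩ := ih (fun i => Ri i.succ) (fun i => pi i.succ) fun i => hn i.succ
    obtain ⟨-, hl, hκ⟩ := id (hn 0)
    haveI := hl
    haveI := hA.2.1
    let R'' := Ri 0 ⊗[R] A
    obtain ⟨b, hb, hb0, hbA⟩ := exists_prime_over (B := A) (B' := R'') hκ a
    haveI := hb0
    haveI := hbA
    refine ⟨R'', inferInstance, inferInstance, b, hb,
      Fin.cons (α := fun i => Ri i →ₐ[R] R'') Algebra.TensorProduct.includeLeft
        (fun i => Algebra.TensorProduct.includeRight.comp (φ i)),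
      isEtaleNhd_trans p a b hA (isEtaleNhd_bc (hn 0) a b), fun i => ?_⟩
    refine Fin.cases ?_ (fun j => ?_) i
    · rw [Fin.cons_zero]
      exact hb0.over.symm
    · rw [Fin.cons_succ]
      show b.comap ((algebraMap A R'').comp (φ j).toRingHom) = _
      rw [← Ideal.comap_comap, show b.comap (algebraMap A R'') = a from hbA.over.symm]
      exact hφ j

/-- A local piece moved to a larger base. -/
theorem exists_moved_piece {R S L L' SA SA' C : Type u} [CommRing R] [CommRing S] [Algebra R S] [CommRing L] [CommRing L']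
    [CommRing SA] [CommRing SA'] [CommRing C] [Algebra R L] [Algebra R L'] [Algebra L L'] [IsScalarTower R L L']
    [Algebra R SA] [Algebra S SA] [Algebra L SA] [IsScalarTower R S SA] [IsScalarTower R L SA] [Algebra.IsPushout R S L SA]
    [Algebra R SA'] [Algebra S SA'] [Algebra L' SA'] [IsScalarTower R S SA'] [IsScalarTower R L' SA']
    [Algebra.IsPushout R S L' SA'] [Algebra SA C] [Algebra L C] [IsScalarTower L SA C] [Algebra S C] [IsScalarTower S SA C]
    [Algebra.Etale SA C] (m : Ideal L) [m.IsPrime] (m' : Ideal L') [m'.IsPrime] [hmm : m'.LiesOver m]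
    (hκ : Function.Bijective (Ideal.ResidueField.mapₐ m m' (Algebra.ofId L L') hmm.over))
    (N : Type u) [AddCommGroup N] [Module S N] (hfree : Module.Free L (RestrictScalars L C (C ⊗[S] N)))
    (huniq : ∀ (Q₁ Q₂ : Ideal SA) [Q₁.IsPrime] [Q₂.IsPrime], Q₁.LiesOver m → Q₂.LiesOver m →
      Q₁.comap (algebraMap S SA) = Q₂.comap (algebraMap S SA) → Q₁ = Q₂) :
    ∃ (C' : Type u) (_ : CommRing C') (_ : Algebra SA' C') (_ : Algebra L' C') (_ : IsScalarTower L' SA' C')
      (_ : Algebra S C') (_ : IsScalarTower S SA' C'),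
      Algebra.Etale SA' C' ∧ Module.Free L' (RestrictScalars L' C' (C' ⊗[S] N)) ∧
      (Algebra.FinitePresentation L C → Module.FinitePresentation C (C ⊗[S] N) →
        Algebra.FinitePresentation L' C' ∧ Module.FinitePresentation C' (C' ⊗[S] N)) ∧
      ∀ (x : Ideal C) [x.IsPrime] (Q' : Ideal SA') [Q'.IsPrime], x.LiesOver m → Q'.LiesOver m' →
        Q'.comap (algebraMap S SA') = x.comap (algebraMap S C) →
        ∃ x' : Ideal C', x'.IsPrime ∧ x'.comap (algebraMap S C') = x.comap (algebraMap S C) ∧ x'.LiesOver m' := by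
  letI : Algebra L SA' := Algebra.compHom SA' (algebraMap L L')
  haveI : IsScalarTower L L' SA' := IsScalarTower.of_algebraMap_eq fun _ => rfl
  haveI : IsScalarTower R L SA' := IsScalarTower.of_algebraMap_eq fun r => by
    rw [IsScalarTower.algebraMap_apply L L' SA', ← IsScalarTower.algebraMap_apply R L L', ← IsScalarTower.algebraMap_apply]
  let φ : SA →ₐ[R] SA' := Algebra.pushoutDesc SA (IsScalarTower.toAlgHom R S SA') (IsScalarTower.toAlgHom R L SA')
    fun _ _ => mul_comm _ _
  letI : Algebra SA SA' := φ.toRingHom.toAlgebra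
  haveI : IsScalarTower S SA SA' := IsScalarTower.of_algebraMap_eq fun s =>
    (Algebra.pushoutDesc_left SA (IsScalarTower.toAlgHom R S SA') (IsScalarTower.toAlgHom R L SA') _ s).symm
  haveI : IsScalarTower L SA SA' := IsScalarTower.of_algebraMap_eq fun l =>
    (Algebra.pushoutDesc_right SA (IsScalarTower.toAlgHom R S SA') (IsScalarTower.toAlgHom R L SA') _ l).symm
  haveI : Algebra.IsPushout R L S SA := Algebra.IsPushout.symm inferInstance
  haveI : Algebra.IsPushout R L' S SA' := Algebra.IsPushout.symm inferInstance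
  haveI hp₁ : Algebra.IsPushout L L' SA SA' :=
    (Algebra.IsPushout.comp_iff (R := R) (S := L) (R' := S) (S' := SA) (T := L') (T' := SA')).1 inferInstance
  let C' := SA' ⊗[SA] C
  haveI : Algebra.IsPushout SA SA' C C' := inferInstance
  haveI : IsScalarTower L' SA' C' := inferInstance
  haveI : IsScalarTower S SA' C' := inferInstance
  haveI : IsScalarTower L L' C' := IsScalarTower.of_algebraMap_eq fun l => by
    rw [IsScalarTower.algebraMap_apply L' SA' C', ← IsScalarTower.algebraMap_apply L L' SA', ← IsScalarTower.algebraMap_apply]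
  haveI : IsScalarTower L C C' := IsScalarTower.of_algebraMap_eq fun l => by
    rw [IsScalarTower.algebraMap_apply L SA C, ← IsScalarTower.algebraMap_apply SA C C',
      IsScalarTower.algebraMap_apply SA SA' C', ← IsScalarTower.algebraMap_apply L SA SA', ← IsScalarTower.algebraMap_apply]
  haveI : IsScalarTower S C C' := IsScalarTower.of_algebraMap_eq fun s => by
    rw [IsScalarTower.algebraMap_apply S SA C, ← IsScalarTower.algebraMap_apply SA C C',
      IsScalarTower.algebraMap_apply SA SA' C', ← IsScalarTower.algebraMap_apply S SA SA', ← IsScalarTower.algebraMap_apply]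
  haveI : Algebra.IsPushout L SA L' SA' := Algebra.IsPushout.symm inferInstance
  haveI : Algebra.IsPushout SA C SA' C' := Algebra.IsPushout.symm inferInstance
  haveI : Algebra.IsPushout L C L' C' :=
    (Algebra.IsPushout.comp_iff (R := L) (S := SA) (R' := L') (S' := SA') (T := C) (T' := C')).2 inferInstance
  haveI hpC : Algebra.IsPushout L L' C C' := Algebra.IsPushout.symm inferInstance
  haveI := hfree
  haveI : Module.Free L (C ⊗[S] N) := free_of_restrictScalars (C := C)
  let e₁ : C' ⊗[C] (C ⊗[S] N) ≃ₗ[C'] C' ⊗[S] N := AlgebraTensorModule.cancelBaseChange S C C' C' N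
  let e₂ := Algebra.IsPushout.cancelBaseChange L L' C C' (C ⊗[S] N)
  haveI : Module.Free L' (C' ⊗[C] (C ⊗[S] N)) := Module.Free.of_equiv e₂.symm
  haveI : Module.Free L' (C' ⊗[S] N) := Module.Free.of_equiv (e₁.restrictScalars L')
  refine ⟨C', inferInstance, inferInstance, inferInstance, inferInstance, inferInstance, inferInstance, inferInstance,
    free_restrictScalars, fun h₁ h₂ => ⟨?_, ?_⟩, fun x _ Q' _ hx hQ' hQx => ?_⟩
  · haveI := h₁
    exact Algebra.FinitePresentation.equiv (Algebra.IsPushout.equiv L L' C C')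
  · haveI := h₂
    exact Module.FinitePresentation.of_equiv e₁
  · haveI := hx
    haveI := hQ'
    let Q := Q'.comap (algebraMap SA SA')
    haveI : Q'.LiesOver Q := ⟨rfl⟩
    haveI hQm : Q.LiesOver m := ⟨by
      show m = (Q'.comap (algebraMap SA SA')).comap (algebraMap L SA)
      rw [Ideal.comap_comap, ← IsScalarTower.algebraMap_eq, IsScalarTower.algebraMap_eq L L' SA', ← Ideal.comap_comap,
        show Q'.comap (algebraMap L' SA') = m' from hQ'.over.symm]
      exact hmm.over⟩
    have hxQ : x.comap (algebraMap SA C) = Q := by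
      refine huniq _ Q ⟨?_⟩ hQm ?_
      · show m = (x.comap (algebraMap SA C)).comap (algebraMap L SA)
        rw [Ideal.comap_comap, ← IsScalarTower.algebraMap_eq]; exact hx.over
      · show (x.comap (algebraMap SA C)).comap (algebraMap S SA) = (Q'.comap (algebraMap SA SA')).comap (algebraMap S SA)
        rw [Ideal.comap_comap, ← IsScalarTower.algebraMap_eq, Ideal.comap_comap, ← IsScalarTower.algebraMap_eq, hQx]
    haveI : x.LiesOver Q := ⟨hxQ.symm⟩
    obtain ⟨x', hx', hx'Q, hx'x⟩ := exists_prime_over (R := SA) (R' := SA') (B := C) (B' := C')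
      (bijective_residue_bc (R := L) (B := SA) hκ Q Q') x
    haveI := hx'Q
    haveI := hx'x
    refine ⟨x', hx', ?_, Ideal.LiesOver.trans x' Q' m'⟩
    rw [IsScalarTower.algebraMap_eq S C C', ← Ideal.comap_comap, show x'.comap (algebraMap C C') = x from hx'x.over.symm]

end Groth.Agent.Dev4
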