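import Groth.Agent.Lib.Dev4.RelAssBridge
import Groth.Agent.Lib.Dev4.FiberAssBC
import Groth.Agent.Lib.FlatH4.PullChart

/-!
# The relative assassin under base change
-/

set_option autoImplicit false
set_option maxSynthPendingDepth 3
set_option backward.isDefEq.respectTransparency.types false

universe u

open TensorProduct AlgebraicGeometry CategoryTheory Limits

namespace Groth.Agent.Dev4

theorem fiberAss_congr {R S N : Type u} [CommRing R] [CommRing S] [Algebra R S] [AddCommGroup N] [Module S N]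
    [Module R N] [IsScalarTower R S N] {P P' : PrimeSpectrum R} {q q' : Ideal S} (hP : P = P') (hq : q = q') :
    FlatCA.fiberIdeal P.asIdeal q ∈ associatedPrimes (P.asIdeal.Fiber S) (FlatCA.fiberMod P.asIdeal S N) ↔
      FlatCA.fiberIdeal P'.asIdeal q' ∈ associatedPrimes (P'.asIdeal.Fiber S) (FlatCA.fiberMod P'.asIdeal S N) := by
  subst hP hq
  rfl

variable {X S X' S' : Scheme.{u}} {f : X ⟶ S} [LocallyOfFiniteType f] {g : S' ⟶ S} {f' : X' ⟶ S'} {g' : X' ⟶ X}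

set_option maxHeartbeats 2000000 in
/-- The relative assassin under base change, in a chart. -/
theorem relAss_baseChange_chart (hc : IsPullback g' f' f g) (F : X.Modules) [Coh.IsQCoh F]
    {U : X.Opens} (hU : IsAffineOpen U) {V : S.Opens} (hV : IsAffineOpen V) (hUV : U ≤ f ⁻¹ᵁ V)
    {V' : S'.Opens} (hV' : IsAffineOpen V') (hV'V : V' ≤ g ⁻¹ᵁ V) :
    (∀ x' : X', g' x' ∈ U → f' x' ∈ V' → x' ∈ MoreMor.relAss f' ((Scheme.Modules.pullback g').obj F) →
        g' x' ∈ MoreMor.relAss f F) ∧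
    (∀ (x : X) (s' : S'), x ∈ U → s' ∈ V' → f x = g s' → x ∈ MoreMor.relAss f F →
        ∃ x' : X', g' x' = x ∧ f' x' = s' ∧ x' ∈ MoreMor.relAss f' ((Scheme.Modules.pullback g').obj F)) := by
  let W : X'.Opens := g' ⁻¹ᵁ U ⊓ f' ⁻¹ᵁ V'
  have hW : IsAffineOpen W := FlatH4.isAffineOpen_of_isPullback hc hV'V hUV rfl hV hV' hU
  have hWU : W ≤ g' ⁻¹ᵁ U := inf_le_left
  have hWV : W ≤ f' ⁻¹ᵁ V' := inf_le_right
  let R := Γ(S, V)
  let R' := Γ(S', V')
  let A := Γ(X, U)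
  let A' := Γ(X', W)
  letI : Algebra R A := (f.appLE V U hUV).hom.toAlgebra
  letI : Algebra R R' := (g.appLE V V' hV'V).hom.toAlgebra
  letI : Algebra R' A' := (f'.appLE V' W hWV).hom.toAlgebra
  letI : Algebra A A' := (g'.appLE U W hWU).hom.toAlgebra
  letI : Algebra R A' := ((algebraMap A A').comp (algebraMap R A)).toAlgebra
  haveI : IsScalarTower R A A' := IsScalarTower.of_algebraMap_eq' rfl
  have hsq : CategoryTheory.IsPushout (f.appLE V U hUV) (g.appLE V V' hV'V) (g'.appLE U W hWU) (f'.appLE V' W hWV) :=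
    FlatH4.isPushout_sections hc hV'V hUV rfl hV hV' hU
  haveI : IsScalarTower R R' A' := IsScalarTower.of_algebraMap_eq fun r => congrArg (fun m => m.hom r) hsq.w
  haveI : Algebra.IsPushout R R' A A' := CommRingCat.isPushout_iff_isPushout.1 hsq.flip
  haveI : LocallyOfFiniteType f' := MorphismProperty.of_isPullback (P := @LocallyOfFiniteType) hc inferInstance
  haveI : Algebra.FiniteType R A := f.finiteType_appLE hV hU hUV
  haveI : Algebra.FiniteType R' A' := f'.finiteType_appLE hV' hW hWV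
  letI : Module R Γ(F, U) := Module.compHom _ (algebraMap R A)
  haveI : IsScalarTower R A Γ(F, U) := IsScalarTower.of_algebraMap_smul fun _ _ => rfl
  haveI : SMulCommClass A R' A' := ⟨fun a r b => by simp only [Algebra.smul_def]; ring⟩
  haveI : IsScalarTower R' A' (A' ⊗[A] Γ(F, U)) := inferInstance
  have hUx : ∀ x' : X', ∀ hx' : x' ∈ W, (hU.primeIdealOf ⟨g' x', hWU hx'⟩).asIdeal =
      (hW.primeIdealOf ⟨x', hx'⟩).asIdeal.comap (algebraMap A A') := fun x' hx' =>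
    (congrArg PrimeSpectrum.asIdeal (IsAffineOpen.comap_primeIdealOf_appLE U hU W hW hWU hx')).symm
  have hV'x : ∀ x' : X', ∀ hx' : x' ∈ W, (hV'.primeIdealOf ⟨f' x', hWV hx'⟩).asIdeal =
      (hW.primeIdealOf ⟨x', hx'⟩).asIdeal.comap (algebraMap R' A') := fun x' hx' =>
    (congrArg PrimeSpectrum.asIdeal (IsAffineOpen.comap_primeIdealOf_appLE V' hV' W hW hWV hx')).symm
  have hloc : ∀ x' : X', ∀ hx' : x' ∈ W, (x' ∈ MoreMor.relAss f' ((Scheme.Modules.pullback g').obj F) ↔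
      FlatCA.fiberIdeal (hV'.primeIdealOf ⟨f' x', hWV hx'⟩).asIdeal (hW.primeIdealOf ⟨x', hx'⟩).asIdeal ∈
        associatedPrimes ((hV'.primeIdealOf ⟨f' x', hWV hx'⟩).asIdeal.Fiber A')
          (FlatCA.fiberMod (hV'.primeIdealOf ⟨f' x', hWV hx'⟩).asIdeal A' (A' ⊗[A] Γ(F, U)))) := fun x' hx' => by
    obtain ⟨l, hl⟩ := FlatH4.exists_isLocalizedModule_pullback g' F hU hW hWU hx'
    exact mem_relAss_iff_of_localized f' _ hW hV' hWV hx' rfl l hl
  have hpp : ∀ (s' : S') (hs : s' ∈ V'), (hV'.primeIdealOf ⟨s', hs⟩).asIdeal.LiesOver (hV.primeIdealOf ⟨g s', hV'V hs⟩).asIdeal :=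
    fun s' hs => ⟨(congrArg PrimeSpectrum.asIdeal (IsAffineOpen.comap_primeIdealOf_appLE V hV V' hV' hV'V hs)).symm⟩
  constructor
  · intro x' hxU hxV h
    have hx' : x' ∈ W := ⟨hxU, hxV⟩
    have hfg : g (f' x') = f (g' x') := by
      rw [← Scheme.Hom.comp_apply, ← Scheme.Hom.comp_apply, hc.w]
    haveI := hpp (f' x') hxV
    haveI : (hW.primeIdealOf ⟨x', hx'⟩).asIdeal.LiesOver (hV'.primeIdealOf ⟨f' x', hxV⟩).asIdeal := ⟨hV'x x' hx'⟩
    have h1 := (fiberAss_baseChange (hV.primeIdealOf ⟨g (f' x'), hV'V hxV⟩).asIdeal (hV'.primeIdealOf ⟨f' x', hxV⟩).asIdeal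
      Γ(F, U) (S := A) (S' := A')).1 _ ((hloc x' hx').1 h)
    refine (mem_relAss_iff f F hU hV hUV hxU).2 ?_
    rw [← hUx x' hx'] at h1
    exact (fiberAss_congr (congrArg hV.primeIdealOf (Subtype.ext hfg)) rfl).1 h1
  · intro x s' hx hs hfx h
    haveI := hpp s' hs
    have hpq : (hV.primeIdealOf ⟨g s', hV'V hs⟩).asIdeal = (hU.primeIdealOf ⟨x, hx⟩).asIdeal.comap (algebraMap R A) := by
      rw [← show hV.primeIdealOf ⟨f x, hUV hx⟩ = hV.primeIdealOf ⟨g s', hV'V hs⟩ from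
        congrArg hV.primeIdealOf (Subtype.ext hfx)]
      exact (congrArg PrimeSpectrum.asIdeal (IsAffineOpen.comap_primeIdealOf_appLE V hV U hU hUV hx)).symm
    haveI : (hU.primeIdealOf ⟨x, hx⟩).asIdeal.LiesOver (hV.primeIdealOf ⟨g s', hV'V hs⟩).asIdeal := ⟨hpq⟩
    have h0 := (mem_relAss_iff f F hU hV hUV hx).1 h
    have h0' : FlatCA.fiberIdeal (hV.primeIdealOf ⟨g s', hV'V hs⟩).asIdeal (hU.primeIdealOf ⟨x, hx⟩).asIdeal ∈
        associatedPrimes ((hV.primeIdealOf ⟨g s', hV'V hs⟩).asIdeal.Fiber A) (FlatCA.fiberMod (hV.primeIdealOf ⟨g s', hV'V hs⟩).asIdeal A Γ(F, U)) := by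
      exact (fiberAss_congr (congrArg hV.primeIdealOf (Subtype.ext hfx)) rfl).1 h0
    obtain ⟨q', hq', hl, hc', hass⟩ := (fiberAss_baseChange (hV.primeIdealOf ⟨g s', hV'V hs⟩).asIdeal
      (hV'.primeIdealOf ⟨s', hs⟩).asIdeal Γ(F, U) (S := A) (S' := A')).2 _ h0'
    let x' := hW.fromSpec ⟨q', hq'⟩
    have hx' : x' ∈ W := hW.range_fromSpec.le ⟨_, rfl⟩
    have hq : hW.primeIdealOf ⟨x', hx'⟩ = ⟨q', hq'⟩ :=
      hW.fromSpec.isOpenEmbedding.injective (hW.fromSpec_primeIdealOf _)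
    have hqe : (hW.primeIdealOf ⟨x', hx'⟩).asIdeal = q' := congrArg PrimeSpectrum.asIdeal hq
    have e1 : g' x' = x := by
      have h1 : hU.primeIdealOf ⟨g' x', hWU hx'⟩ = hU.primeIdealOf ⟨x, hx⟩ :=
        PrimeSpectrum.ext (by rw [hUx x' hx', hqe, hc'])
      have h2 := congrArg hU.fromSpec h1
      rwa [hU.fromSpec_primeIdealOf, hU.fromSpec_primeIdealOf] at h2
    have e2 : f' x' = s' := by
      have h1 : hV'.primeIdealOf ⟨f' x', hWV hx'⟩ = hV'.primeIdealOf ⟨s', hs⟩ :=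
        PrimeSpectrum.ext (by rw [hV'x x' hx', hqe]; exact hl.over.symm)
      have h2 := congrArg hV'.fromSpec h1
      rwa [hV'.fromSpec_primeIdealOf, hV'.fromSpec_primeIdealOf] at h2
    refine ⟨x', e1, e2, (hloc x' hx').2 ?_⟩
    exact (fiberAss_congr (congrArg hV'.primeIdealOf (Subtype.ext e2)) hqe).2 hass

/-- The relative assassin of a base change lies over the relative assassin and surjects onto it. -/
theorem relAss_baseChange (hc : IsPullback g' f' f g) (F : X.Modules) [Coh.IsQCoh F] :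
    (∀ x' ∈ MoreMor.relAss f' ((Scheme.Modules.pullback g').obj F), g' x' ∈ MoreMor.relAss f F) ∧
    (∀ x ∈ MoreMor.relAss f F, ∀ s' : S', f x = g s' →
        ∃ x' : X', g' x' = x ∧ f' x' = s' ∧ x' ∈ MoreMor.relAss f' ((Scheme.Modules.pullback g').obj F)) := by
  constructor
  · intro x' h
    obtain ⟨V, hV, hxV, -⟩ := exists_isAffineOpen_mem_and_subset (X := S) (x := f (g' x')) (U := ⊤) trivial
    obtain ⟨U, hU, hxU, hUV⟩ := exists_isAffineOpen_mem_and_subset (X := X) (x := g' x') (U := f ⁻¹ᵁ V) hxV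
    obtain ⟨V', hV', hxV', hV'V⟩ := exists_isAffineOpen_mem_and_subset (X := S') (x := f' x') (U := g ⁻¹ᵁ V) (by
      show g (f' x') ∈ V
      rwa [← Scheme.Hom.comp_apply, ← hc.w, Scheme.Hom.comp_apply])
    exact (relAss_baseChange_chart hc F hU hV hUV hV' hV'V).1 x' hxU hxV' h
  · intro x h s' hfx
    obtain ⟨V, hV, hxV, -⟩ := exists_isAffineOpen_mem_and_subset (X := S) (x := f x) (U := ⊤) trivial
    obtain ⟨U, hU, hxU, hUV⟩ := exists_isAffineOpen_mem_and_subset (X := X) (x := x) (U := f ⁻¹ᵁ V) hxV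
    obtain ⟨V', hV', hs, hV'V⟩ := exists_isAffineOpen_mem_and_subset (X := S') (x := s') (U := g ⁻¹ᵁ V) (by
      show g s' ∈ V
      rwa [← hfx])
    exact (relAss_baseChange_chart hc F hU hV hUV hV' hV'V).2 x s' hxU hs hfx h

end Groth.Agent.Dev4
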