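import Groth.Agent.Lib.Dev4.RelAssBC
import Groth.Agent.Lib.Dev4.FieldAssBC

/-!
# Maximality in the relative assassin of a base change
-/

set_option autoImplicit false
set_option maxSynthPendingDepth 3
set_option backward.isDefEq.respectTransparency.types false

universe u

open TensorProduct AlgebraicGeometry CategoryTheory Limits

namespace Groth.Agent.Dev4

variable {X S X' S' : Scheme.{u}} {f : X ⟶ S} [LocallyOfFiniteType f] {g : S' ⟶ S} {f' : X' ⟶ S'} {g' : X' ⟶ X}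

set_option maxHeartbeats 2000000 in
/-- Generizations and maximality in the relative assassin of a base change, in a chart. -/
theorem relAss_baseChange_max_chart (hc : IsPullback g' f' f g) (F : X.Modules) [Coh.IsQCoh F]
    {U : X.Opens} (hU : IsAffineOpen U) {V : S.Opens} (hV : IsAffineOpen V) (hUV : U ≤ f ⁻¹ᵁ V)
    {V' : S'.Opens} (hV' : IsAffineOpen V') (hV'V : V' ≤ g ⁻¹ᵁ V) (x' : X') (hxU : g' x' ∈ U) (hxV : f' x' ∈ V') :
    (g' x' ∈ MoreMor.relAss f F → ∃ z : X', z ⤳ x' ∧ g' z = g' x' ∧ f' z = f' x' ∧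
        z ∈ MoreMor.relAss f' ((Scheme.Modules.pullback g').obj F)) ∧
    (x' ∈ MoreMor.relAss f' ((Scheme.Modules.pullback g').obj F) → ∀ z : X', z ⤳ x' → g' z = g' x' → f' z = f' x' →
        z = x') := by
  let W : X'.Opens := g' ⁻¹ᵁ U ⊓ f' ⁻¹ᵁ V'
  have hW : IsAffineOpen W := FlatH4.isAffineOpen_of_isPullback hc hV'V hUV rfl hV hV' hU
  have hWU : W ≤ g' ⁻¹ᵁ U := inf_le_left
  have hWV : W ≤ f' ⁻¹ᵁ V' := inf_le_right
  let R := Γ(S, V)
  let R' := Γ(S', V')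
  let A := Γ(X, U)
  let A' := Γ(X', W)
  letI : Algebra R A := (f.appLE V U hUV).hom.toAlgebra
  letI : Algebra R R' := (g.appLE V V' hV'V).hom.toAlgebra
  letI : Algebra R' A' := (f'.appLE V' W hWV).hom.toAlgebra
  letI : Algebra A A' := (g'.appLE U W hWU).hom.toAlgebra
  letI : Algebra R A' := ((algebraMap A A').comp (algebraMap R A)).toAlgebra
  haveI : IsScalarTower R A A' := IsScalarTower.of_algebraMap_eq' rfl
  have hsq : CategoryTheory.IsPushout (f.appLE V U hUV) (g.appLE V V' hV'V) (g'.appLE U W hWU) (f'.appLE V' W hWV) :=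
    FlatH4.isPushout_sections hc hV'V hUV rfl hV hV' hU
  haveI : IsScalarTower R R' A' := IsScalarTower.of_algebraMap_eq fun r => congrArg (fun m => m.hom r) hsq.w
  haveI : Algebra.IsPushout R R' A A' := CommRingCat.isPushout_iff_isPushout.1 hsq.flip
  haveI : LocallyOfFiniteType f' := MorphismProperty.of_isPullback (P := @LocallyOfFiniteType) hc inferInstance
  haveI : Algebra.FiniteType R A := f.finiteType_appLE hV hU hUV
  haveI : Algebra.FiniteType R' A' := f'.finiteType_appLE hV' hW hWV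
  letI : Module R Γ(F, U) := Module.compHom _ (algebraMap R A)
  haveI : IsScalarTower R A Γ(F, U) := IsScalarTower.of_algebraMap_smul fun _ _ => rfl
  haveI : SMulCommClass A R' A' := ⟨fun a r b => by simp only [Algebra.smul_def]; ring⟩
  haveI : IsScalarTower R' A' (A' ⊗[A] Γ(F, U)) := inferInstance
  have hUx : ∀ x' : X', ∀ hx' : x' ∈ W, (hU.primeIdealOf ⟨g' x', hWU hx'⟩).asIdeal =
      (hW.primeIdealOf ⟨x', hx'⟩).asIdeal.comap (algebraMap A A') := fun x' hx' =>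
    (congrArg PrimeSpectrum.asIdeal (IsAffineOpen.comap_primeIdealOf_appLE U hU W hW hWU hx')).symm
  have hV'x : ∀ x' : X', ∀ hx' : x' ∈ W, (hV'.primeIdealOf ⟨f' x', hWV hx'⟩).asIdeal =
      (hW.primeIdealOf ⟨x', hx'⟩).asIdeal.comap (algebraMap R' A') := fun x' hx' =>
    (congrArg PrimeSpectrum.asIdeal (IsAffineOpen.comap_primeIdealOf_appLE V' hV' W hW hWV hx')).symm
  have hloc : ∀ x' : X', ∀ hx' : x' ∈ W, (x' ∈ MoreMor.relAss f' ((Scheme.Modules.pullback g').obj F) ↔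
      FlatCA.fiberIdeal (hV'.primeIdealOf ⟨f' x', hWV hx'⟩).asIdeal (hW.primeIdealOf ⟨x', hx'⟩).asIdeal ∈
        associatedPrimes ((hV'.primeIdealOf ⟨f' x', hWV hx'⟩).asIdeal.Fiber A')
          (FlatCA.fiberMod (hV'.primeIdealOf ⟨f' x', hWV hx'⟩).asIdeal A' (A' ⊗[A] Γ(F, U)))) := fun x' hx' => by
    obtain ⟨l, hl⟩ := FlatH4.exists_isLocalizedModule_pullback g' F hU hW hWU hx'
    exact mem_relAss_iff_of_localized f' _ hW hV' hWV hx' rfl l hl
  have hpp : ∀ (s' : S') (hs : s' ∈ V'), (hV'.primeIdealOf ⟨s', hs⟩).asIdeal.LiesOver (hV.primeIdealOf ⟨g s', hV'V hs⟩).asIdeal :=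
    fun s' hs => ⟨(congrArg PrimeSpectrum.asIdeal (IsAffineOpen.comap_primeIdealOf_appLE V hV V' hV' hV'V hs)).symm⟩
  have hx' : x' ∈ W := ⟨hxU, hxV⟩
  have hfg : g (f' x') = f (g' x') := by
    rw [← Scheme.Hom.comp_apply, ← Scheme.Hom.comp_apply, hc.w]
  haveI := hpp (f' x') hxV
  haveI hl' : (hW.primeIdealOf ⟨x', hx'⟩).asIdeal.LiesOver (hV'.primeIdealOf ⟨f' x', hxV⟩).asIdeal := ⟨hV'x x' hx'⟩
  have hspec : ∀ (z : X') (hz : z ∈ W), z ⤳ x' ↔ (hW.primeIdealOf ⟨z, hz⟩).asIdeal ≤ (hW.primeIdealOf ⟨x', hx'⟩).asIdeal := by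
    intro z hz
    rw [PrimeSpectrum.asIdeal_le_asIdeal, PrimeSpectrum.le_iff_specializes]
    have h := hW.fromSpec.isOpenEmbedding.isInducing.specializes_iff (x := hW.primeIdealOf ⟨z, hz⟩) (y := hW.primeIdealOf ⟨x', hx'⟩)
    rw [hW.fromSpec_primeIdealOf, hW.fromSpec_primeIdealOf] at h
    exact h
  obtain ⟨hA, hB⟩ := fiberAss_baseChange_maximal (hV.primeIdealOf ⟨g (f' x'), hV'V hxV⟩).asIdeal
    (hV'.primeIdealOf ⟨f' x', hxV⟩).asIdeal Γ(F, U) (S := A) (S' := A')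
  constructor
  · intro h
    have h0 := (mem_relAss_iff f F hU hV hUV hxU).1 h
    have h0' := (fiberAss_congr (congrArg hV.primeIdealOf (Subtype.ext (a2 := ⟨g (f' x'), hV'V hxV⟩) hfg.symm)) (hUx x' hx')).1 h0
    obtain ⟨q', hq', hl, hle, hc', hass⟩ := hA _ h0'
    let z := hW.fromSpec ⟨q', hq'⟩
    have hz : z ∈ W := hW.range_fromSpec.le ⟨_, rfl⟩
    have hqe : (hW.primeIdealOf ⟨z, hz⟩).asIdeal = q' := congrArg PrimeSpectrum.asIdeal
      (show hW.primeIdealOf ⟨z, hz⟩ = ⟨q', hq'⟩ from hW.fromSpec.isOpenEmbedding.injective (hW.fromSpec_primeIdealOf _))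
    have e1 : g' z = g' x' := by
      have h1 : hU.primeIdealOf ⟨g' z, hWU hz⟩ = hU.primeIdealOf ⟨g' x', hxU⟩ :=
        PrimeSpectrum.ext (by rw [hUx z hz, hqe, hc', ← hUx x' hx'])
      have h2 := congrArg hU.fromSpec h1
      rwa [hU.fromSpec_primeIdealOf, hU.fromSpec_primeIdealOf] at h2
    have e2 : f' z = f' x' := by
      have h1 : hV'.primeIdealOf ⟨f' z, hWV hz⟩ = hV'.primeIdealOf ⟨f' x', hxV⟩ :=
        PrimeSpectrum.ext (by rw [hV'x z hz, hqe]; exact hl.over.symm)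
      have h2 := congrArg hV'.fromSpec h1
      rwa [hV'.fromSpec_primeIdealOf, hV'.fromSpec_primeIdealOf] at h2
    refine ⟨z, (hspec z hz).2 (hqe ▸ hle), e1, e2, (hloc z hz).2 ?_⟩
    exact (fiberAss_congr (congrArg hV'.primeIdealOf (Subtype.ext e2)) hqe).2 hass
  · intro h z hzx e1 e2
    have hz : z ∈ W := hzx.mem_open W.isOpen hx'
    haveI : (hW.primeIdealOf ⟨z, hz⟩).asIdeal.LiesOver (hV'.primeIdealOf ⟨f' x', hxV⟩).asIdeal := ⟨by
      rw [Ideal.under, ← hV'x z hz]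
      exact congrArg PrimeSpectrum.asIdeal (congrArg hV'.primeIdealOf (Subtype.ext e2.symm))⟩
    have h1 := hB _ _ ((hloc x' hx').1 h) ((hspec z hz).1 hzx) (by
      rw [← hUx x' hx', ← hUx z hz]
      exact congrArg PrimeSpectrum.asIdeal (congrArg hU.primeIdealOf (Subtype.ext e1)))
    have h2 := congrArg hW.fromSpec (PrimeSpectrum.ext h1)
    rwa [hW.fromSpec_primeIdealOf, hW.fromSpec_primeIdealOf] at h2

/-- The relative assassin of a base change consists of the maximal points over the relative assassin. -/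
theorem mem_relAss_baseChange_iff (hc : IsPullback g' f' f g) (F : X.Modules) [Coh.IsQCoh F] (x' : X') :
    x' ∈ MoreMor.relAss f' ((Scheme.Modules.pullback g').obj F) ↔
      g' x' ∈ MoreMor.relAss f F ∧ ∀ z : X', f' z = f' x' → g' z = g' x' → z ⤳ x' → z = x' := by
  obtain ⟨V, hV, hxV, -⟩ := exists_isAffineOpen_mem_and_subset (X := S) (x := f (g' x')) (U := ⊤) trivial
  obtain ⟨U, hU, hxU, hUV⟩ := exists_isAffineOpen_mem_and_subset (X := X) (x := g' x') (U := f ⁻¹ᵁ V) hxV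
  obtain ⟨V', hV', hxV', hV'V⟩ := exists_isAffineOpen_mem_and_subset (X := S') (x := f' x') (U := g ⁻¹ᵁ V) (by
    show g (f' x') ∈ V
    rwa [← Scheme.Hom.comp_apply, ← hc.w, Scheme.Hom.comp_apply])
  obtain ⟨hA, hB⟩ := relAss_baseChange_max_chart hc F hU hV hUV hV' hV'V x' hxU hxV'
  refine ⟨fun h => ⟨(relAss_baseChange hc F).1 x' h, fun z e2 e1 hz => hB h z hz e1 e2⟩, fun ⟨h, hm⟩ => ?_⟩
  obtain ⟨z, hz, e1, e2, hmem⟩ := hA h
  rwa [← hm z e2 e1 hz]

end Groth.Agent.Dev4
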