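import Groth.Prelude.Def_MoreMor
import Groth.Agent.Lib.Dev4.WeakAssTensor
import Groth.Agent.Lib.ModM1.Stalk
import Groth.Agent.Lib.CMSlice4.Main
import Mathlib

/-!
# The relative assassin in affine charts
-/

set_option autoImplicit false
set_option maxSynthPendingDepth 3
set_option backward.isDefEq.respectTransparency.types false

universe u

open TensorProduct IsLocalRing AlgebraicGeometry CategoryTheory

namespace Groth.Agent.Dev4

/-- Associated maximal ideal of a localisation in terms of witnesses. -/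
theorem maximal_mem_ass_iff {S L X M : Type u} [CommRing S] [CommRing L] [IsLocalRing L] [Algebra S L] (q : Ideal S) [q.IsPrime]
    [IsLocalization.AtPrime L q] [AddCommGroup X] [Module S X] [AddCommGroup M] [Module S M] [Module L M]
    [IsScalarTower S L M] (g : X →ₗ[S] M) [IsLocalizedModule q.primeCompl g] :
    IsAssociatedPrime (maximalIdeal L) M ↔ ∃ z : X, IsWk q z := by
  have hg : ∀ y : X, g y = 0 ↔ ∃ s : S, s ∉ q ∧ s • y = 0 := fun y => by
    rw [IsLocalizedModule.eq_zero_iff q.primeCompl g]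
    exact ⟨fun ⟨s, hs⟩ => ⟨s, s.2, hs⟩, fun ⟨s, hs, h⟩ => ⟨⟨s, hs⟩, h⟩⟩
  have hact : ∀ (a : S) (y : X), algebraMap S L a • g y = g (a • y) := fun a y => by
    rw [algebraMap_smul, map_smul]
  constructor
  · rintro ⟨-, m, hm⟩
    obtain ⟨⟨z, t⟩, hz⟩ := IsLocalizedModule.surj q.primeCompl g m
    have hz' : algebraMap S L (t : S) • m = g z := (algebraMap_smul L (t : S) m).trans hz
    obtain ⟨v, hv⟩ := IsLocalization.map_units L t
    refine ⟨z, fun a ha => ?_, fun s hs => ?_⟩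
    · have h1 : algebraMap S L a ∈ maximalIdeal L := (IsLocalization.AtPrime.to_map_mem_maximal_iff L q a).2 ha
      rw [hm] at h1
      obtain ⟨k, hk⟩ := h1
      have hk' : (algebraMap S L a) ^ k • m = 0 := (Submodule.mem_bot L).1 (Submodule.mem_colon_singleton.1 hk)
      have h2 : g (a ^ k • z) = 0 := by
        rw [← hact, map_pow, ← hz', smul_comm, hk', smul_zero]
      obtain ⟨s, hs, h3⟩ := (hg _).1 h2
      exact ⟨s, hs, k, by rw [mul_smul, h3]⟩
    · by_contra hsq
      have h2 : g z = 0 := (hg z).2 ⟨s, hsq, hs⟩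
      have h3 : m = 0 := by
        have : (v : L) • m = 0 := by rw [hv, hz', h2]
        exact (smul_eq_zero_iff_eq v).1 this
      apply (maximalIdeal.isMaximal L).ne_top
      rw [hm, h3, Ideal.eq_top_iff_one]
      exact ⟨1, Submodule.mem_colon_singleton.2 (by simp)⟩
  · rintro ⟨z, h1, h2⟩
    refine ⟨inferInstance, g z, le_antisymm (fun l hl => ?_) ?_⟩
    · obtain ⟨a, s, rfl⟩ := IsLocalization.exists_mk'_eq q.primeCompl l
      have ha : a ∈ q := (IsLocalization.AtPrime.mk'_mem_maximal_iff L q a s).1 hl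
      obtain ⟨t, ht, k, hk⟩ := h1 a ha
      have h3 : algebraMap S L (a ^ k) • g z = 0 := by
        rw [hact]
        exact (hg _).2 ⟨t, ht, by rw [← mul_smul, hk]⟩
      refine ⟨k, Submodule.mem_colon_singleton.2 ((Submodule.mem_bot L).2 ?_)⟩
      rw [IsLocalization.mk'_eq_mul_mk'_one, mul_pow, mul_comm, mul_smul, ← map_pow, h3, smul_zero]
    · refine IsLocalRing.le_maximalIdeal fun htop => ?_
      obtain ⟨k, hk⟩ := (Ideal.eq_top_iff_one _).1 htop
      have h0 : g z = 0 := by simpa using Submodule.mem_colon_singleton.1 hk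
      obtain ⟨s, hs, h⟩ := (hg z).1 h0
      exact hs (h2 s h)

/-- Witnesses in `N ⧸ pN` and in the fibre module are the same. -/
theorem isWk_quot_iff {R S : Type u} [CommRing R] [CommRing S] [Algebra R S] (p : Ideal R) [p.IsPrime]
    (N : Type u) [AddCommGroup N] [Module S N] [Module R N] [IsScalarTower R S N] (q : Ideal S) [q.IsPrime] [q.LiesOver p] :
    (∃ z : N ⧸ (p.map (algebraMap R S)) • (⊤ : Submodule S N), IsWk q z) ↔
      ∃ w : N ⊗[R] p.ResidueField, IsWk q w := by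
  have hqp : ∀ c : R, c ∉ p → algebraMap R S c ∉ q := fun c hc h => hc ((Ideal.mem_of_liesOver q p c).2 h)
  have h1q : (1 : S) ∉ q := fun h => ‹q.IsPrime›.ne_top ((Ideal.eq_top_iff_one q).2 h)
  let ι : N → N ⊗[R] p.ResidueField := fun n => n ⊗ₜ[R] (1 : p.ResidueField)
  have hι : ∀ (a : S) (n : N), a • ι n = ι (a • n) := fun a n => TensorProduct.smul_tmul' a n _
  have hsmul : ∀ (a : S) (n : N), (a • (Submodule.Quotient.mk n : N ⧸ (p.map (algebraMap R S)) • (⊤ : Submodule S N)) = 0 →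
      a • ι n = 0) ∧ (a • ι n = 0 → ∃ c : R, c ∉ p ∧
        (algebraMap R S c * a) • (Submodule.Quotient.mk n : N ⧸ (p.map (algebraMap R S)) • (⊤ : Submodule S N)) = 0) := by
    intro a n
    constructor
    · intro h
      rw [← Submodule.Quotient.mk_smul, Submodule.Quotient.mk_eq_zero, CI2.FibAss.pS_iff] at h
      rw [hι]
      exact tmul_one_eq_zero_of_mem p N h
    · intro h
      rw [hι] at h
      obtain ⟨c, hc, hcx⟩ := exists_smul_mem_of_tmul_one_eq_zero p N h
      refine ⟨c, hc, ?_⟩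
      rw [← Submodule.Quotient.mk_smul, Submodule.Quotient.mk_eq_zero, CI2.FibAss.pS_iff, mul_smul, algebraMap_smul]
      exact hcx
  constructor
  · rintro ⟨z, h1, h2⟩
    obtain ⟨n, rfl⟩ := Submodule.Quotient.mk_surjective _ z
    refine ⟨ι n, fun a ha => ?_, fun s hs => ?_⟩
    · obtain ⟨t, ht, k, hk⟩ := h1 a ha
      exact ⟨t, ht, k, (hsmul _ n).1 hk⟩
    · obtain ⟨c, hc, h⟩ := (hsmul s n).2 hs
      exact ((‹q.IsPrime›.mem_or_mem (h2 _ h)).resolve_left (hqp c hc))
  · rintro ⟨w, h1, h2⟩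
    obtain ⟨c, hc, n, hn⟩ := exists_smul_eq_tmul_one (S := S) p N w
    refine ⟨Submodule.Quotient.mk n, fun a ha => ?_, fun s hs => ?_⟩
    · obtain ⟨t, ht, k, hk⟩ := h1 a ha
      have h3 : (t * a ^ k) • ι n = 0 := by
        show (t * a ^ k) • (n ⊗ₜ[R] (1 : p.ResidueField)) = 0
        rw [← hn, smul_comm, hk, smul_zero]
      obtain ⟨d, hd, h⟩ := (hsmul _ n).2 h3
      exact ⟨algebraMap R S d * t, fun h' => (‹q.IsPrime›.mem_or_mem h').elim (hqp d hd) ht, k, by rwa [mul_assoc]⟩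
    · have h3 := (hsmul s n).1 hs
      have h4 : (s * algebraMap R S c) • w = 0 := by
        rw [mul_smul, hn]
        exact h3
      exact (‹q.IsPrime›.mem_or_mem (h2 _ h4)).resolve_right (hqp c hc)

set_option maxHeartbeats 1000000 in
/-- The relative assassin from any module of sections localising to the stalk. -/
theorem mem_relAss_iff_of_localized {X S : Scheme.{u}} (f : X ⟶ S) (F : X.Modules)
    {U : X.Opens} (hU : IsAffineOpen U) {V : S.Opens} (hV : IsAffineOpen V) (hUV : U ≤ f ⁻¹ᵁ V) {x : X} (hx : x ∈ U)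
    [Algebra Γ(S, V) Γ(X, U)] (halg : algebraMap Γ(S, V) Γ(X, U) = (f.appLE V U hUV).hom)
    {N : Type u} [AddCommGroup N] [Module Γ(X, U) N] [Module Γ(S, V) N] [IsScalarTower Γ(S, V) Γ(X, U) N]
    [Algebra.FiniteType Γ(S, V) Γ(X, U)]
    (g : letI := M1.stalkModule F hx; N →ₗ[Γ(X, U)] (F.presheaf.stalk x : Type u))
    (hg : letI := M1.stalkModule F hx; IsLocalizedModule (hU.primeIdealOf ⟨x, hx⟩).asIdeal.primeCompl g) :
    x ∈ MoreMor.relAss f F ↔
      FlatCA.fiberIdeal (hV.primeIdealOf ⟨f x, hUV hx⟩).asIdeal (hU.primeIdealOf ⟨x, hx⟩).asIdeal ∈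
        associatedPrimes ((hV.primeIdealOf ⟨f x, hUV hx⟩).asIdeal.Fiber Γ(X, U))
          (FlatCA.fiberMod (hV.primeIdealOf ⟨f x, hUV hx⟩).asIdeal Γ(X, U) N) := by
  let p := (hV.primeIdealOf ⟨f x, hUV hx⟩).asIdeal
  let q := (hU.primeIdealOf ⟨x, hx⟩).asIdeal
  have hpq : q.comap (f.appLE V U hUV).hom = p :=
    congrArg PrimeSpectrum.asIdeal (IsAffineOpen.comap_primeIdealOf_appLE V hV U hU hUV hx)
  haveI : q.LiesOver p := ⟨by rw [Ideal.under, halg]; exact hpq.symm⟩
  rw [fiberIdeal_mem_associatedPrimes_iff p N q]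
  letI := M1.stalkModule F hx
  haveI := hg
  letI := X.presheaf.algebra_section_stalk (U := U) ⟨x, hx⟩
  haveI : IsLocalization.AtPrime (X.presheaf.stalk x) q := hU.isLocalization_stalk ⟨x, hx⟩
  haveI : IsScalarTower Γ(X, U) (X.presheaf.stalk x) (F.presheaf.stalk x) :=
    IsScalarTower.of_algebraMap_smul fun _ _ => rfl
  let P' : Submodule Γ(X, U) N := (p.map (algebraMap Γ(S, V) Γ(X, U))) • ⊤
  have hP : P'.localized' (X.presheaf.stalk x) q.primeCompl g =
      Ideal.map (f.stalkMap x).hom (IsLocalRing.maximalIdeal (S.presheaf.stalk (f x))) • ⊤ := by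
    rw [Submodule.localized'_smul, Ideal.localized'_eq_map, Submodule.localized'_top,
      CMSlice4.map_maximalIdeal_stalkMap f hV hU hUV hx, hpq, halg]
    rfl
  refine Iff.trans ?_ ((maximal_mem_ass_iff (L := X.presheaf.stalk x) q
    (P'.toLocalizedQuotient' (X.presheaf.stalk x) q.primeCompl g)).trans (isWk_quot_iff p N q))
  rw [hP]
  rfl

/-- The relative assassin in an affine chart. -/
theorem mem_relAss_iff {X S : Scheme.{u}} (f : X ⟶ S) [LocallyOfFiniteType f] (F : X.Modules) [Coh.IsQCoh F]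
    {U : X.Opens} (hU : IsAffineOpen U) {V : S.Opens} (hV : IsAffineOpen V) (hUV : U ≤ f ⁻¹ᵁ V) {x : X} (hx : x ∈ U) :
    letI := (f.appLE V U hUV).hom.toAlgebra
    letI : Module Γ(S, V) Γ(F, U) := Module.compHom _ (algebraMap Γ(S, V) Γ(X, U))
    haveI : IsScalarTower Γ(S, V) Γ(X, U) Γ(F, U) := IsScalarTower.of_algebraMap_smul fun _ _ => rfl
    x ∈ MoreMor.relAss f F ↔
      FlatCA.fiberIdeal (hV.primeIdealOf ⟨f x, hUV hx⟩).asIdeal (hU.primeIdealOf ⟨x, hx⟩).asIdeal ∈
        associatedPrimes ((hV.primeIdealOf ⟨f x, hUV hx⟩).asIdeal.Fiber Γ(X, U))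
          (FlatCA.fiberMod (hV.primeIdealOf ⟨f x, hUV hx⟩).asIdeal Γ(X, U) Γ(F, U)) := by
  letI := (f.appLE V U hUV).hom.toAlgebra
  letI : Module Γ(S, V) Γ(F, U) := Module.compHom _ (algebraMap Γ(S, V) Γ(X, U))
  haveI : IsScalarTower Γ(S, V) Γ(X, U) Γ(F, U) := IsScalarTower.of_algebraMap_smul fun _ _ => rfl
  haveI : Algebra.FiniteType Γ(S, V) Γ(X, U) := f.finiteType_appLE hV hU hUV
  exact mem_relAss_iff_of_localized f F hU hV hUV hx rfl (M1.germₗ F hx) (M1.isLocalizedModule_germ F hU hx)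

end Groth.Agent.Dev4
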