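import Groth.Agent.Lib.Dev4.FiberAssBC
import Groth.Agent.Lib.Dev4.WeakAssTensor
import Groth.Agent.S1216

/-!
# The relative assassin over a valuation ring
-/

set_option autoImplicit false
set_option maxSynthPendingDepth 3
set_option backward.isDefEq.respectTransparency.types false

universe u

open TensorProduct IsLocalRing

attribute [local instance] Algebra.TensorProduct.rightAlgebra

namespace Groth.Agent.Dev4

set_option maxHeartbeats 800000 in
/-- Over a valuation ring the generic points of the closed fibre of the closure of an associated point of the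
generic fibre are associated points of the closed fibre, where the module is flat. -/
theorem fiberAss_of_valuation {R A : Type u} [CommRing R] [IsDomain R] [ValuationRing R] [CommRing A] [Algebra R A]
    [Algebra.FiniteType R A] (N : Type u) [AddCommGroup N] [Module A N] [Module R N] [IsScalarTower R A N] [Module.Finite A N]
    (P q : Ideal A) [P.IsPrime] [q.IsPrime] [P.LiesOver (⊥ : Ideal R)] [q.LiesOver (maximalIdeal R)] (hle : P ≤ q)
    (hmin : ∀ q' : Ideal A, q'.IsPrime → P ≤ q' → q' ≤ q → q'.comap (algebraMap R A) = maximalIdeal R → q' = q)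
    (hflat : Module.Flat R (LocalizedModule q.primeCompl N))
    (hass : FlatCA.fiberIdeal (⊥ : Ideal R) P ∈ associatedPrimes ((⊥ : Ideal R).Fiber A) (FlatCA.fiberMod (⊥ : Ideal R) A N)) :
    FlatCA.fiberIdeal (maximalIdeal R) q ∈
      associatedPrimes ((maximalIdeal R).Fiber A) (FlatCA.fiberMod (maximalIdeal R) A N) := by
  classical
  rw [fiberIdeal_mem_associatedPrimes_iff (maximalIdeal R) N q]
  obtain ⟨hPK, hPc⟩ := fibrePrime_contract (⊥ : Ideal R) P
  obtain ⟨-, y, hy⟩ := hass
  obtain ⟨c, hc, n, hn⟩ := CI2.FibAss.surj (⊥ : Ideal R) N y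
  let B := Localization.AtPrime q
  let M := LocalizedModule q.primeCompl N
  let g := LocalizedModule.mkLinearMap q.primeCompl N
  have hc0 : c ≠ 0 := fun h => hc (h ▸ Submodule.zero_mem _)
  have htf : ∀ (r : R), r ≠ 0 → ∀ v : M, r • v = 0 → v = 0 := fun r hr v hv => by
    haveI : Module.IsTorsionFree R M := inferInstance
    exact (smul_eq_zero.1 hv).resolve_left hr
  have hbot : ∀ v : N, v ∈ ((⊥ : Ideal R).map (algebraMap R A)) • (⊤ : Submodule A N) → v = 0 := fun v hv => by
    rw [Ideal.map_bot, Submodule.bot_smul] at hv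
    exact hv
  have h1 : ∀ b ∈ P, ∃ k : ℕ, b ^ k • g n = 0 := fun b hb => by
    have hb' : algebraMap A ((⊥ : Ideal R).Fiber A) b ∈ FlatCA.fiberIdeal (⊥ : Ideal R) P := by
      rw [← Ideal.mem_comap, hPc]; exact hb
    rw [hy] at hb'
    obtain ⟨k, hk⟩ := hb'
    refine ⟨k, ?_⟩
    rw [Submodule.mem_colon_singleton, Submodule.mem_bot] at hk
    have h0 : FlatCA.toFiberMod (⊥ : Ideal R) A N (b ^ k • n) = 0 := by
      rw [map_smul, ← hn, smul_comm, CI2.FibAss.smul_eq_inc (⊥ : Ideal R) N (b ^ k), map_pow]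
      exact (congrArg (algebraMap R A c • ·) hk).trans (smul_zero _)
    obtain ⟨d, hd, hd'⟩ := CI2.FibAss.ι_zero (⊥ : Ideal R) N h0
    refine htf d (fun h => hd (h ▸ Submodule.zero_mem _)) _ ?_
    rw [← map_smul, ← IsScalarTower.algebraMap_smul A d (g (b ^ k • n)), ← map_smul, hbot _ hd', map_zero]
  have h2 : ∀ s : A, s • g n = 0 → s ∈ P := fun s hs => by
    rw [← map_smul] at hs
    obtain ⟨⟨t, ht⟩, ht0⟩ := (IsLocalizedModule.eq_zero_iff q.primeCompl g).1 hs
    have hts : FlatCA.toFiberMod (⊥ : Ideal R) A N ((t * s) • n) = 0 := by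
      rw [show (t * s) • n = 0 by rw [mul_smul]; exact ht0, map_zero]
    have hmem : algebraMap A ((⊥ : Ideal R).Fiber A) (t * s) ∈ FlatCA.fiberIdeal (⊥ : Ideal R) P := by
      rw [hy]
      refine ⟨1, Submodule.mem_colon_singleton.2 ((Submodule.mem_bot _).2 ?_)⟩
      obtain ⟨v, hv⟩ := CI2.FibAss.isUnit_inc (S := A) (⊥ : Ideal R) hc
      rw [map_smul, ← hn, smul_comm, CI2.FibAss.smul_eq_inc (⊥ : Ideal R) N (algebraMap R A c), ← hv] at hts
      have := (smul_eq_zero_iff_eq v).1 hts
      rw [CI2.FibAss.smul_eq_inc (⊥ : Ideal R) N] at this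
      rw [pow_one]
      exact this
    rw [← Ideal.mem_comap, hPc] at hmem
    exact (‹P.IsPrime›.mem_or_mem hmem).resolve_left fun h => ht (hle h)
  -- divide by the content
  haveI : Module.Finite B M := Module.Finite.of_isLocalizedModule q.primeCompl g
  haveI : Algebra.EssFiniteType R B := Algebra.EssFiniteType.comp R A B
  haveI : IsLocalHom (algebraMap R B) := ⟨fun r hr => by
    by_contra hu
    rw [IsScalarTower.algebraMap_apply R A B] at hr
    refine (IsLocalization.AtPrime.isUnit_to_map_iff B q (algebraMap R A r)).1 hr ?_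
    exact (Ideal.mem_of_liesOver q (maximalIdeal R) r).1 hu⟩
  obtain ⟨I, ⟨r, rfl⟩, hI, hIle⟩ := Groth.Agent.S1216.result (A := R) (B := B) M (g n)
  rw [Submodule.ideal_span_singleton_smul] at hI
  obtain ⟨z, -, hz⟩ := Set.mem_smul_set.1 hI
  have hr0 : r ≠ 0 := fun h => by
    have h3 : g n = 0 := by rw [← hz, h]; exact zero_smul _ _
    exact ‹P.IsPrime›.ne_top ((Ideal.eq_top_iff_one P).2 (h2 1 (by rw [h3, smul_zero])))
  have hz1 : ∀ b ∈ P, ∃ k : ℕ, b ^ k • z = 0 := fun b hb => by
    obtain ⟨k, hk⟩ := h1 b hb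
    exact ⟨k, htf r hr0 _ (by rw [smul_comm, hz, hk])⟩
  have hz2 : z ∉ maximalIdeal R • (⊤ : Submodule R M) := fun hmem => by
    have hle1 := hIle (Ideal.span {r} * maximalIdeal R) (by
      rw [Submodule.mul_smul, ← hz]
      exact Submodule.smul_mem_smul (Ideal.subset_span rfl) hmem)
    obtain ⟨m, hm, hrm⟩ := Ideal.mem_span_singleton_mul.1 (hle1 (Submodule.subset_span rfl))
    have : r * m = r * 1 := by rw [mul_one]; exact hrm
    exact (maximalIdeal.isMaximal R).ne_top ((Ideal.eq_top_iff_one _).2 (mul_left_cancel₀ hr0 this ▸ hm))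
  obtain ⟨⟨n', t⟩, hn'⟩ := IsLocalizedModule.surj q.primeCompl g z
  refine ⟨n' ⊗ₜ[R] (1 : (maximalIdeal R).ResidueField), fun a ha => ?_, fun s hs => ?_⟩
  · have hex : ∃ s : A, s ∉ q ∧ ∃ k : ℕ, s * a ^ k ∈ P ⊔ (maximalIdeal R).map (algebraMap R A) := by
      by_contra hne
      push Not at hne
      obtain ⟨q', hq', hIq, hdis⟩ := Ideal.exists_le_prime_disjoint (P ⊔ (maximalIdeal R).map (algebraMap R A))
        (q.primeCompl ⊔ Submonoid.powers a) (Set.disjoint_left.2 fun w hw hwT => by
          obtain ⟨s, hs, _, ⟨k, rfl⟩, rfl⟩ := Submonoid.mem_sup.1 hwT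
          exact hne s hs k hw)
      have hq'q : q' ≤ q := fun w hw => by
        by_contra hwq
        exact Set.disjoint_left.1 hdis hw (Submonoid.mem_sup_left (S := q.primeCompl) hwq)
      have hco : q'.comap (algebraMap R A) = maximalIdeal R :=
        ((maximalIdeal.isMaximal R).eq_of_le (Ideal.comap_isPrime (algebraMap R A) q').ne_top
          (Ideal.map_le_iff_le_comap.1 (le_sup_right.trans hIq))).symm
      have := hmin q' hq' (le_sup_left.trans hIq) hq'q hco
      exact Set.disjoint_left.1 hdis (this ▸ ha : a ∈ q') (Submonoid.mem_sup_right (Submonoid.mem_powers a))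
    obtain ⟨s, hs, k, hk⟩ := hex
    obtain ⟨b, hb, e, he, hbe⟩ := Submodule.mem_sup.1 hk
    obtain ⟨l, hl⟩ := hz1 b hb
    have hbn : (b ^ l * (t : A)) • z = 0 := by rw [mul_comm, mul_smul, hl, smul_zero]
    have hgb : g (b ^ l • n') = 0 := by
      rw [map_smul, ← hn', ← hbn, mul_smul]
      rfl
    obtain ⟨⟨u, hu⟩, hu0⟩ := (IsLocalizedModule.eq_zero_iff q.primeCompl g).1 hgb
    have hu0' : (u * b ^ l) • n' = 0 := by rw [mul_smul]; exact hu0
    have he0 : ∀ m : N, (e • m) ⊗ₜ[R] (1 : (maximalIdeal R).ResidueField) = 0 := fun m =>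
      tmul_one_eq_zero_of_mem (maximalIdeal R) N ((CI2.FibAss.pS_iff (maximalIdeal R) N).1 (Submodule.smul_mem_smul he trivial))
    obtain ⟨d, hd⟩ : e ∣ (b + e) ^ l - b ^ l :=
      dvd_trans (dvd_of_eq (by ring)) (sub_dvd_pow_sub_pow (b + e) b l)
    refine ⟨u * s ^ l, ?_, k * l, ?_⟩
    · intro h
      rcases ‹q.IsPrime›.mem_or_mem h with h | h
      · exact hu h
      · exact hs (‹q.IsPrime›.mem_of_pow_mem l h)
    · rw [show u * s ^ l * a ^ (k * l) = u * b ^ l + e * (d * u) by
        rw [pow_mul, mul_assoc, ← mul_pow, ← hbe, sub_eq_iff_eq_add.1 hd]; ring]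
      rw [TensorProduct.smul_tmul', add_smul, hu0', zero_add, mul_smul]
      exact he0 _
  · by_contra hsq
    rw [TensorProduct.smul_tmul'] at hs
    obtain ⟨d, hd, hd'⟩ := exists_smul_mem_of_tmul_one_eq_zero (maximalIdeal R) N hs
    obtain ⟨v, hv⟩ : IsUnit d := by simpa using hd
    have hmem : s • n' ∈ maximalIdeal R • (⊤ : Submodule R N) := by
      have := (maximalIdeal R • (⊤ : Submodule R N)).smul_mem (↑v⁻¹ : R) hd'
      rwa [← mul_smul, ← hv, Units.inv_mul, one_smul] at this
    have hg : (s * (t : A)) • z ∈ maximalIdeal R • (⊤ : Submodule R M) := by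
      rw [mul_smul, show (t : A) • z = g n' from hn', ← map_smul]
      have h4 := Submodule.mem_map_of_mem (f := g.restrictScalars R) hmem
      rw [Submodule.map_smul''] at h4
      exact Submodule.smul_mono le_rfl le_top h4
    obtain ⟨w, hw⟩ := IsLocalization.map_units B (⟨s * t, q.primeCompl.mul_mem hsq t.2⟩ : q.primeCompl)
    refine hz2 ?_
    have h5 : (↑w⁻¹ : B) • ((s * (t : A)) • z) = z := by
      rw [← algebraMap_smul B (s * (t : A)) z, smul_smul]
      rw [show algebraMap A B (s * (t : A)) = (w : B) from hw.symm, Units.inv_mul, one_smul]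
    rw [← h5]
    exact Submodule.smul_induction_on hg (fun r hr x _ => by rw [smul_comm]; exact Submodule.smul_mem_smul hr trivial)
      (fun x y hx hy => by rw [smul_add]; exact add_mem hx hy)

end Groth.Agent.Dev4
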