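import Groth.Agent.Lib.Dev4.RelAssBCMax
import Groth.Agent.Lib.Dev4.RelAssValuation
import Groth.Agent.Lib.ModM1.Coh
import Groth.Agent.Lib.FibVal4
import Groth.Agent.Lib.VarDim.Irred
import Groth.Agent.S1391
import Groth.Agent.S1481

/-!
# Relative assassins along specialisations
-/

set_option autoImplicit false
set_option maxSynthPendingDepth 3
set_option backward.isDefEq.respectTransparency.types false

universe u

open AlgebraicGeometry CategoryTheory Limits TopologicalSpace IsLocalRing Groth.Agent.FibDim14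

namespace Groth.Agent.Dev4

/-- A point which is generic in a component is maximal. -/
theorem eq_of_specializes_generic {T : Type*} [TopologicalSpace T] [T0Space T] {a z : T}
    (h : ∃ C ∈ irreducibleComponents T, IsGenericPoint a C) (hz : z ⤳ a) : z = a := by
  obtain ⟨C, hC, hg⟩ := h
  have hle : C ⊆ closure {z} := hg.def ▸ hz.closure_subset
  have heq : closure {z} = C := le_antisymm (hC.2 isIrreducible_singleton.closure hle) hle
  exact (hz.antisymm (hg.specializes (heq ▸ subset_closure rfl))).eq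

/-- The residual degree is invariant at maximal points over a point. -/
theorem rd_eq_of_max {X S X' S' : Scheme.{u}} {f : X ⟶ S} {g : S' ⟶ S} {g' : X' ⟶ X} {f' : X' ⟶ S'}
    [LocallyOfFiniteType f] [LocallyOfFiniteType f'] (hsq : IsPullback g' f' f g) (x' : X')
    (hmax : ∀ z : X', f' z = f' x' → g' z = g' x' → z ⤳ x' → z = x') : rd f' x' = rd f (g' x') := by
  obtain ⟨pr, hpr, sq⟩ := exists_fibre_square hsq (f' x')
  have h := (DimF18.sdim_bc sq (f'.asFiber x')).2 fun w hw hw' => by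
    apply (f'.fiberι _).isEmbedding.injective
    rw [f'.fiberι_asFiber]
    refine hmax _ ((fiberι_mem f' hw).2) ?_ (fiberι_mem f' hw).1
    rw [← hpr, hw', hpr, f'.fiberι_asFiber]
  rw [← rd_fiberι, ← rd_fiberι, hpr, f'.fiberι_asFiber] at h
  exact h

set_option maxHeartbeats 800000 in
/-- Propagation of the relative assassin over a valuation ring. -/
theorem relAss_of_valuation {R : Type u} [CommRing R] [IsDomain R] [ValuationRing R] {X : Scheme.{u}}
    (f : X ⟶ Spec (CommRingCat.of R)) [LocallyOfFiniteType f] (F : X.Modules) [Coh.IsQCoh F] (hFT : CohB1.IsFT F)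
    {y x : X} (hy : f y = (⊥ : PrimeSpectrum R)) (hx : f x = closedPoint R) (hyx : y ⤳ x)
    (hmax : ∀ z : X, y ⤳ z → z ⤳ x → f z = f x → z = x) (hflat : FlatMod.IsFlatOverAt f F x)
    (hass : y ∈ MoreMor.relAss f F) : x ∈ MoreMor.relAss f F := by
  let T := Spec (CommRingCat.of R)
  let V : T.Opens := ⊤
  have hV : IsAffineOpen V := isAffineOpen_top T
  obtain ⟨U, hU, hxU, hUV⟩ := exists_isAffineOpen_mem_and_subset (X := X) (x := x) (U := f ⁻¹ᵁ V) trivial
  have hyU : y ∈ U := hyx.mem_open U.isOpen hxU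
  let Rg := Γ(T, V)
  let e : R ≃+* Rg := (Scheme.ΓSpecIso (CommRingCat.of R)).commRingCatIsoToRingEquiv.symm
  haveI : IsDomain Rg := e.symm.toMulEquiv.isDomain R
  haveI : ValuationRing Rg := Function.Surjective.valuationRing (e : R →+* Rg) e.surjective
  letI : Algebra Rg Γ(X, U) := (f.appLE V U hUV).hom.toAlgebra
  letI : Module Rg Γ(F, U) := Module.compHom _ (algebraMap Rg Γ(X, U))
  haveI : IsScalarTower Rg Γ(X, U) Γ(F, U) := IsScalarTower.of_algebraMap_smul fun _ _ => rfl
  haveI : Algebra.FiniteType Rg Γ(X, U) := f.finiteType_appLE hV hU hUV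
  haveI : Module.Finite Γ(X, U) Γ(F, U) := M1.finite_sections inferInstance hFT hU
  have hcomap : ∀ z, ∀ hz : z ∈ U, (hU.primeIdealOf ⟨z, hz⟩).asIdeal.comap (algebraMap Rg Γ(X, U)) =
      (hV.primeIdealOf ⟨f z, trivial⟩).asIdeal := fun z hz =>
    congrArg PrimeSpectrum.asIdeal (IsAffineOpen.comap_primeIdealOf_appLE V hV U hU hUV hz)
  have hspec : ∀ {Z : Scheme.{u}} {W : Z.Opens} (hW : IsAffineOpen W) (a b : Z) (ha : a ∈ W) (hb : b ∈ W),
      a ⤳ b ↔ (hW.primeIdealOf ⟨a, ha⟩).asIdeal ≤ (hW.primeIdealOf ⟨b, hb⟩).asIdeal := by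
    intro Z W hW a b ha hb
    rw [PrimeSpectrum.asIdeal_le_asIdeal, PrimeSpectrum.le_iff_specializes]
    have h := hW.fromSpec.isOpenEmbedding.isInducing.specializes_iff (x := hW.primeIdealOf ⟨a, ha⟩) (y := hW.primeIdealOf ⟨b, hb⟩)
    rw [hW.fromSpec_primeIdealOf, hW.fromSpec_primeIdealOf] at h
    exact h
  have hP0 : (hV.primeIdealOf ⟨f y, trivial⟩).asIdeal = ⊥ := by
    refine le_bot_iff.1 ?_
    let η : T := hV.fromSpec (⊥ : PrimeSpectrum Rg)
    have h1 : hV.primeIdealOf ⟨η, trivial⟩ = (⊥ : PrimeSpectrum Rg) :=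
      hV.fromSpec.isOpenEmbedding.injective (hV.fromSpec_primeIdealOf _)
    have h2 : f y ⤳ η := by
      rw [hy]
      exact (PrimeSpectrum.le_iff_specializes (⊥ : PrimeSpectrum R) η).1 bot_le
    have h3 := (hspec hV (f y) η trivial trivial).1 h2
    rw [h1] at h3
    exact h3
  have hq0 : (hV.primeIdealOf ⟨f x, trivial⟩).asIdeal = maximalIdeal Rg := by
    refine (IsLocalRing.le_maximalIdeal (hV.primeIdealOf ⟨f x, trivial⟩).2.ne_top).antisymm ?_
    let c : T := hV.fromSpec (closedPoint Rg)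
    have h1 : hV.primeIdealOf ⟨c, trivial⟩ = closedPoint Rg :=
      hV.fromSpec.isOpenEmbedding.injective (hV.fromSpec_primeIdealOf _)
    have h2 : c ⤳ f x := by
      rw [hx]
      exact specializes_closedPoint c
    have h3 := (hspec hV c (f x) trivial trivial).1 h2
    rw [h1] at h3
    exact h3
  let P := (hU.primeIdealOf ⟨y, hyU⟩).asIdeal
  let q := (hU.primeIdealOf ⟨x, hxU⟩).asIdeal
  haveI : P.LiesOver (⊥ : Ideal Rg) := ⟨by rw [Ideal.under, hcomap y hyU, hP0]⟩
  haveI : q.LiesOver (maximalIdeal Rg) := ⟨by rw [Ideal.under, hcomap x hxU, hq0]⟩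
  have hassy := (mem_relAss_iff f F hU hV hUV hyU).1 hass
  have hassy' := (fiberAss_congr (P' := (⊥ : PrimeSpectrum Rg)) (PrimeSpectrum.ext hP0) rfl).1 hassy
  refine (mem_relAss_iff f F hU hV hUV hxU).2 ((fiberAss_congr (P' := closedPoint Rg) (PrimeSpectrum.ext hq0) rfl).2 ?_)
  refine fiberAss_of_valuation Γ(F, U) P q ((hspec hU y x hyU hxU).1 hyx) ?_
    ((FlatH4.isFlatOverAt_iff f F V hV U hU hUV hxU).1 hflat) hassy'
  intro q' hq' hPq hqq hc
  let z := hU.fromSpec ⟨q', hq'⟩
  have hz : z ∈ U := hU.range_fromSpec.le ⟨_, rfl⟩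
  have hqe : (hU.primeIdealOf ⟨z, hz⟩).asIdeal = q' := congrArg PrimeSpectrum.asIdeal
    (show hU.primeIdealOf ⟨z, hz⟩ = ⟨q', hq'⟩ from hU.fromSpec.isOpenEmbedding.injective (hU.fromSpec_primeIdealOf _))
  have hzx : z = x := by
    refine hmax z ((hspec hU y z hyU hz).2 (hqe ▸ hPq)) ((hspec hU z x hz hxU).2 (hqe ▸ hqq)) ?_
    have h1 : hV.primeIdealOf ⟨f z, trivial⟩ = hV.primeIdealOf ⟨f x, trivial⟩ :=
      PrimeSpectrum.ext (by rw [← hcomap z hz, hqe, hc, hq0])
    have h2 := congrArg hV.fromSpec h1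
    rwa [hV.fromSpec_primeIdealOf, hV.fromSpec_primeIdealOf] at h2
  rw [← hqe]
  exact congrArg PrimeSpectrum.asIdeal (congrArg hU.primeIdealOf (Subtype.ext hzx))

/-- Residual degrees along specialisations over a valuation ring. -/
theorem rd_eq_of_valuation {R : Type u} [CommRing R] [IsDomain R] [ValuationRing R] {X : Scheme.{u}}
    (f : X ⟶ Spec (CommRingCat.of R)) [LocallyOfFiniteType f] {y x : X} (hy : f y = (⊥ : PrimeSpectrum R)) (hyx : y ⤳ x)
    (hmax : ∀ z : X, y ⤳ z → z ⤳ x → f z = f x → z = x) : rd f x = rd f y := by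
  let I := Scheme.IdealSheafData.vanishingIdeal (Closeds.closure {y})
  let ι := I.subschemeι
  have hr : Set.range ι = closure {y} := by
    rw [Scheme.IdealSheafData.range_subschemeι, Scheme.IdealSheafData.coe_support_vanishingIdeal, Closeds.coe_closure]
  obtain ⟨η, hη⟩ : y ∈ Set.range ι := hr ▸ subset_closure rfl
  obtain ⟨a, ha⟩ : x ∈ Set.range ι := hr ▸ hyx.mem_closure
  have hrd : ∀ b, rd (ι ≫ f) b = rd f (ι b) := fun b => by
    rw [rd_comp, rd_of_surjectiveOnStalks ι, add_zero]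
  have hηa : η ⤳ a := by
    rw [← ι.isEmbedding.isInducing.specializes_iff, hη, ha]
    exact hyx
  have hmax' : IsMaxFib (ι ≫ f) a := fun b hb he => by
    apply ι.isEmbedding.injective
    rw [ha]
    refine hmax _ (specializes_iff_mem_closure.2 (hr ▸ ⟨b, rfl⟩)) (ha ▸ hb.map ι.continuous) ?_
    rw [← ha]
    simpa only [Scheme.Hom.comp_apply] using he
  have h := (FibGen4.fibreDimAt_eq_of_valuationRing (ι ≫ f) hmax' hηa (by
    rw [Scheme.Hom.comp_apply, hη, hy]
    rfl)).1
  rw [FibGen4.fibreDimAt_eq_rd_of_isMaxFib (ι ≫ f) hmax', hrd, hrd, ha, hη] at h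
  exact_mod_cast h

/-- A generic point of a fibre of the closure of a point of the relative assassin, where the module is flat. -/
theorem relAss_generic_point {X S : Scheme.{u}} (f : X ⟶ S) [LocallyOfFiniteType f] (F : X.Modules) [Coh.IsQCoh F]
    (hFT : CohB1.IsFT F) {y x : X} (hy : y ∈ MoreMor.relAss f F) (hyx : y ⤳ x)
    (hgen : ∃ C ∈ irreducibleComponents ↑(closure ({y} : Set X) ∩ f ⁻¹' {f x}),
      IsGenericPoint (⟨x, hyx.mem_closure, rfl⟩ : ↑(closure ({y} : Set X) ∩ f ⁻¹' {f x})) C)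
    (hfl : FlatMod.IsFlatOverAt f F x) : x ∈ MoreMor.relAss f F ∧ rd f x = rd f y := by
  obtain ⟨R, _, _, _, g, hg0, hg1, y', hy't, hy'Y, hy'f, hgy, x', hx', hx's, hx'f, hgx⟩ :=
    Groth.Agent.S1481.result f y (f x) x hyx.mem_closure rfl hgen
  have hsq : IsPullback (pullback.fst f g) (pullback.snd f g) f g := IsPullback.of_hasPullback f g
  have hyx' : y' ⤳ x' := specializes_iff_mem_closure.2 hx'
  -- `y'` is maximal over `y`
  have hymax : ∀ z, pullback.snd f g z = pullback.snd f g y' → pullback.fst f g z = pullback.fst f g y' → z ⤳ y' → z = y' := by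
    intro z h1 h2 h3
    have hz1 : pullback.fst f g z ∈ closure ({y} : Set X) := by rw [h2]; exact hy'Y
    have := eq_of_specializes_generic hgy (z := ⟨z, hz1, h1.trans hy't⟩) ((subtype_specializes_iff _ _).2 h3)
    exact congrArg Subtype.val this
  have hassy : y' ∈ MoreMor.relAss (pullback.snd f g) ((Scheme.Modules.pullback (pullback.fst f g)).obj F) :=
    (mem_relAss_baseChange_iff hsq F y').2 ⟨by rwa [hy'f], hymax⟩
  have hmax : ∀ z, y' ⤳ z → z ⤳ x' → pullback.snd f g z = pullback.snd f g x' → z = x' := by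
    intro z h1 h2 h3
    have := eq_of_specializes_generic hgx (z := ⟨z, h1.mem_closure, h3.trans hx's⟩) ((subtype_specializes_iff _ _).2 h2)
    exact congrArg Subtype.val this
  haveI : Coh.IsQCoh ((Scheme.Modules.pullback (pullback.fst f g)).obj F) := M1.isQCoh_pullback _ inferInstance
  have hflat := Groth.Agent.S1391.result f (pullback.snd f g) (pullback.fst f g) g hsq F inferInstance x' (by rwa [hx'f])
  have hassx := relAss_of_valuation (pullback.snd f g) _ (M1.isFT_pullback _ hFT) hy't hx's hyx' hmax hflat hassy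
  obtain ⟨h1, hxmax⟩ := (mem_relAss_baseChange_iff hsq F x').1 hassx
  refine ⟨by rwa [hx'f] at h1, ?_⟩
  rw [← hx'f, ← rd_eq_of_max hsq x' hxmax, rd_eq_of_valuation (pullback.snd f g) hy't hyx' hmax,
    rd_eq_of_max hsq y' hymax, hy'f]

end Groth.Agent.Dev4
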