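import Groth.Agent.Lib.Dev4.RelAssClosure

/-!
# Dimensions of the fibres of the closure of a point of the relative assassin
-/

set_option autoImplicit false
set_option maxSynthPendingDepth 3
set_option backward.isDefEq.respectTransparency.types false

universe u

open AlgebraicGeometry CategoryTheory Limits TopologicalSpace Groth.Agent.FibDim14

namespace Groth.Agent.Dev4

/-- Maximal points of a sober space are generic points of components. -/
theorem exists_component_of_max {T : Type*} [TopologicalSpace T] [QuasiSober T] [T0Space T] {a : T}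
    (h : ∀ z : T, z ⤳ a → z = a) : ∃ C ∈ irreducibleComponents T, IsGenericPoint a C := by
  refine ⟨closure {a}, ⟨isIrreducible_singleton.closure, fun C hC hle => ?_⟩, rfl⟩
  have hg := hC.isGenericPoint_genericPoint_closure
  have hga : hC.genericPoint ⤳ a := hg.specializes (subset_closure (hle (subset_closure rfl)))
  rw [← h _ hga, hg.def]
  exact subset_closure

variable {X S : Scheme.{u}} (f : X ⟶ S) (y : X)

/-- The reduced closure of a point. -/
noncomputable abbrev closureι : (Scheme.IdealSheafData.vanishingIdeal (Closeds.closure {y})).subscheme ⟶ X :=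
  (Scheme.IdealSheafData.vanishingIdeal (Closeds.closure {y})).subschemeι

theorem range_closureι : Set.range (closureι y) = closure {y} := by
  rw [Scheme.IdealSheafData.range_subschemeι, Scheme.IdealSheafData.coe_support_vanishingIdeal, Closeds.coe_closure]

theorem rd_closureι [LocallyOfFiniteType f] (b) : rd (closureι y ≫ f) b = rd f (closureι y b) := by
  rw [rd_comp, rd_of_surjectiveOnStalks (closureι y), add_zero]

/-- The fibre of the closure. -/
theorem exists_fibre_homeo (s : S) :
    ∃ h : ↥((closureι y ≫ f).fiber s) ≃ₜ ↑(closure ({y} : Set X) ∩ f ⁻¹' {s}),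
      ∀ z, (h z).1 = closureι y ((closureι y ≫ f).fiberι s z) := by
  let e : ↥((closureι y ≫ f).fiber s) → X := fun z => closureι y ((closureι y ≫ f).fiberι s z)
  have he : Topology.IsEmbedding e := (closureι y).isEmbedding.comp ((closureι y ≫ f).fiberι s).isEmbedding
  have hr : Set.range e = closure ({y} : Set X) ∩ f ⁻¹' {s} := by
    rw [show e = closureι y ∘ (closureι y ≫ f).fiberι s from rfl, Set.range_comp, Scheme.Hom.range_fiberι, ← range_closureι y]
    ext z
    constructor
    · rintro ⟨b, hb, rfl⟩
      exact ⟨⟨b, rfl⟩, by simpa only [Set.mem_preimage, Scheme.Hom.comp_apply] using hb⟩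
    · rintro ⟨⟨b, rfl⟩, hb⟩
      exact ⟨b, by simpa only [Set.mem_preimage, Scheme.Hom.comp_apply] using hb, rfl⟩
  exact ⟨he.toHomeomorph.trans (Homeomorph.setCongr hr), fun z => rfl⟩

theorem quasiSober_inter (s : S) : QuasiSober ↑(closure ({y} : Set X) ∩ f ⁻¹' {s}) := by
  obtain ⟨h, -⟩ := exists_fibre_homeo f y s
  exact h.symm.isClosedEmbedding.quasiSober

/-- Maximal points of the fibres of the closure of a point of the relative assassin. -/
theorem relAss_max_point [LocallyOfFiniteType f] (F : X.Modules) [Coh.IsQCoh F] (hFT : CohB1.IsFT F) {x : X}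
    (hy : y ∈ MoreMor.relAss f F) (hyx : y ⤳ x) (hmax : ∀ z, y ⤳ z → z ⤳ x → f z = f x → z = x)
    (hfl : FlatMod.IsFlatOverAt f F x) : x ∈ MoreMor.relAss f F ∧ rd f x = rd f y := by
  haveI := quasiSober_inter f y (f x)
  refine relAss_generic_point f F hFT hy hyx (exists_component_of_max fun z hz => Subtype.ext ?_) hfl
  exact hmax z.1 (specializes_iff_mem_closure.2 z.2.1) (hz.map continuous_subtype_val) z.2.2

end Groth.Agent.Dev4
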