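import Groth.Agent.Lib.Dev4.RelAssClosureDim
import Groth.Agent.Lib.FlatH4.GenFlatScheme
import Groth.Agent.Lib.RedSep.Basic

/-!
# The relative assassin over a generic open of an irreducible base
-/

set_option autoImplicit false
set_option maxSynthPendingDepth 3
set_option backward.isDefEq.respectTransparency.types false

universe u

open AlgebraicGeometry CategoryTheory Limits TopologicalSpace TensorProduct Groth.Agent.FibDim14

namespace Groth.Agent.Dev4

/-- Generic fibres nonempty, so nearby fibres nonempty. -/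
theorem exists_prime_over_generic {R A : Type u} [CommRing R] [IsDomain R] [CommRing A] [Algebra R A]
    [Algebra.FiniteType R A] (hinj : Function.Injective (algebraMap R A)) :
    ∃ f : R, f ≠ 0 ∧ ∀ p : Ideal R, p.IsPrime → f ∉ p → ∃ q : Ideal A, q.IsPrime ∧ q.comap (algebraMap R A) = p := by
  obtain ⟨f, hf, hfree, -⟩ := FlatH4.exists_free_and_fg_relations (R := R) (S := A) (M := A)
  refine ⟨f, hf, fun p hp hfp => ?_⟩
  let Rf := Localization.Away f
  haveI : Module.Free Rf (Rf ⊗[R] A) := hfree Rf (IsLocalization.Away.algebraMap_isUnit f)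
  haveI : Module.Flat R Rf := IsLocalization.flat _ (Submonoid.powers f)
  haveI : Nontrivial Rf := (IsLocalization.injective Rf (powers_le_nonZeroDivisors_of_noZeroDivisors hf)).nontrivial
  haveI : Nontrivial (Rf ⊗[R] A) := by
    have h := Module.Flat.lTensor_preserves_injective_linearMap (M := Rf) (Algebra.linearMap R A) hinj
    exact Function.Injective.nontrivial (f := fun z => (Algebra.linearMap R A).lTensor Rf ((TensorProduct.rid R Rf).symm z))
      (h.comp (TensorProduct.rid R Rf).symm.injective)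
  haveI : Module.FaithfullyFlat Rf (Rf ⊗[R] A) := inferInstance
  have hdisj : Disjoint (Submonoid.powers f : Set R) ↑p := (Ideal.disjoint_powers_iff_notMem_of_isPrime f).2 hfp
  let P : PrimeSpectrum Rf :=
    ⟨p.map (algebraMap R Rf), IsLocalization.isPrime_of_isPrime_disjoint (.powers f) _ _ hp hdisj⟩
  obtain ⟨Q, hQ⟩ := PrimeSpectrum.comap_surjective_of_faithfullyFlat (B := Rf ⊗[R] A) P
  refine ⟨Q.asIdeal.comap (Algebra.TensorProduct.includeRight : A →ₐ[R] Rf ⊗[R] A).toRingHom, inferInstance, ?_⟩
  have hQ' : Q.asIdeal.comap (algebraMap Rf (Rf ⊗[R] A)) = P.asIdeal := congrArg PrimeSpectrum.asIdeal hQ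
  rw [Ideal.comap_comap, show (Algebra.TensorProduct.includeRight : A →ₐ[R] Rf ⊗[R] A).toRingHom.comp (algebraMap R A) =
    (algebraMap Rf (Rf ⊗[R] A)).comp (algebraMap R Rf) from
      (Algebra.TensorProduct.includeRight : A →ₐ[R] Rf ⊗[R] A).comp_algebraMap.trans (IsScalarTower.algebraMap_eq R Rf _),
    ← Ideal.comap_comap, hQ']
  exact IsLocalization.under_map_of_isPrime_disjoint (.powers f) _ hp hdisj

/-- The closure of a point over the generic point meets the nearby fibres. -/
theorem exists_open_meets_closure {X S : Scheme.{u}} [IsIntegral S] (f : X ⟶ S) [LocallyOfFiniteType f] {x : X}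
    (hx : f x = genericPoint S) :
    ∃ W : S.Opens, (W : Set S).Nonempty ∧ ∀ s ∈ W, ∃ z, x ⤳ z ∧ f z = s := by
  obtain ⟨V, hV, hxV, -⟩ := exists_isAffineOpen_mem_and_subset (X := S) (x := f x) (U := ⊤) trivial
  obtain ⟨U, hU, hxU, hUV⟩ := exists_isAffineOpen_mem_and_subset (X := X) (x := x) (U := f ⁻¹ᵁ V) hxV
  haveI : Nonempty V := ⟨⟨f x, hxV⟩⟩
  let R := Γ(S, V)
  let A := Γ(X, U)
  letI : Algebra R A := (f.appLE V U hUV).hom.toAlgebra
  haveI : Algebra.FiniteType R A := f.finiteType_appLE hV hU hUV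
  let P := (hU.primeIdealOf ⟨x, hxU⟩).asIdeal
  haveI : IsDomain R := IsIntegral.component_integral V
  have hP : P.comap (algebraMap R A) = ⊥ := by
    have h1 : P.comap (algebraMap R A) = (hV.primeIdealOf ⟨f x, hxV⟩).asIdeal :=
      congrArg PrimeSpectrum.asIdeal (IsAffineOpen.comap_primeIdealOf_appLE V hV U hU hUV hxU)
    rw [h1]
    refine le_bot_iff.1 ?_
    let η : S := hV.fromSpec (⊥ : PrimeSpectrum R)
    have h2 : hV.fromSpec (hV.primeIdealOf ⟨f x, hxV⟩) ⤳ η := by
      exact (specializes_of_eq ((hV.fromSpec_primeIdealOf _).trans hx)).trans (genericPoint_specializes η)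
    exact (PrimeSpectrum.asIdeal_le_asIdeal _ (⊥ : PrimeSpectrum R)).2
      ((PrimeSpectrum.le_iff_specializes _ _).2 (hV.fromSpec.isOpenEmbedding.isInducing.specializes_iff.1 h2))
  have hinj : Function.Injective (algebraMap R (A ⧸ P)) := by
    refine (injective_iff_map_eq_zero _).2 fun r hr => ?_
    have : r ∈ P.comap (algebraMap R A) := by
      show algebraMap R A r ∈ P
      exact Ideal.Quotient.eq_zero_iff_mem.1 hr
    rwa [hP, Ideal.mem_bot] at this
  obtain ⟨r, hr, hover⟩ := exists_prime_over_generic (A := A ⧸ P) hinj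
  refine ⟨S.basicOpen r, ?_, fun s hs => ?_⟩
  · rw [Set.nonempty_iff_ne_empty]
    intro h
    exact hr ((AlgebraicGeometry.basicOpen_eq_bot_iff _).1 (SetLike.coe_injective (by rw [h]; rfl)))
  · have hsV : s ∈ V := S.basicOpen_le _ hs
    have hrp : r ∉ (hV.primeIdealOf ⟨s, hsV⟩).asIdeal := by
      intro hp
      have h1 : hV.primeIdealOf ⟨s, hsV⟩ ∈ hV.fromSpec ⁻¹ᵁ S.basicOpen r := by
        show hV.fromSpec _ ∈ S.basicOpen r
        rw [hV.fromSpec_primeIdealOf]
        exact hs
      rw [hV.fromSpec_preimage_basicOpen] at h1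
      exact h1 hp
    obtain ⟨q, hq, hqp⟩ := hover _ (hV.primeIdealOf ⟨s, hsV⟩).2 hrp
    let Q : PrimeSpectrum A := ⟨q.comap (Ideal.Quotient.mk P), inferInstance⟩
    let z := hU.fromSpec Q
    have hz : z ∈ U := hU.range_fromSpec.le ⟨_, rfl⟩
    have hzQ : hU.primeIdealOf ⟨z, hz⟩ = Q := hU.fromSpec.isOpenEmbedding.injective (hU.fromSpec_primeIdealOf _)
    refine ⟨z, ?_, ?_⟩
    · have h1 : hU.primeIdealOf ⟨x, hxU⟩ ⤳ Q := (PrimeSpectrum.le_iff_specializes _ Q).1 fun a ha => by
        show Ideal.Quotient.mk P a ∈ q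
        rw [Ideal.Quotient.eq_zero_iff_mem.2 ha]
        exact q.zero_mem
      have h2 := h1.map hU.fromSpec.continuous
      rwa [hU.fromSpec_primeIdealOf] at h2
    · have h1 : hV.primeIdealOf ⟨f z, hUV hz⟩ = hV.primeIdealOf ⟨s, hsV⟩ := by
        rw [← IsAffineOpen.comap_primeIdealOf_appLE V hV U hU hUV hz, hzQ]
        refine PrimeSpectrum.ext ?_
        rw [← hqp]
        exact Ideal.comap_comap _ _
      have h2 := congrArg hV.fromSpec h1
      rwa [hV.fromSpec_primeIdealOf, hV.fromSpec_primeIdealOf] at h2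

/-- A point of a fibre of a closure generizes to a maximal one. -/
theorem exists_max_in_closure {X S : Scheme.{u}} (f : X ⟶ S) [LocallyOfFiniteType f] {y z : X} (h : y ⤳ z) :
    ∃ a, y ⤳ a ∧ a ⤳ z ∧ f a = f z ∧ ∀ b, y ⤳ b → b ⤳ a → f b = f a → b = a := by
  obtain ⟨c, rfl⟩ : z ∈ Set.range (closureι y) := by rw [range_closureι]; exact h.mem_closure
  obtain ⟨a, hac, hfa, -, hall⟩ := exists_fibreDimAt_eq (closureι y ≫ f) c
  refine ⟨closureι y a, specializes_iff_mem_closure.2 (by rw [← range_closureι y]; exact ⟨a, rfl⟩),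
    hac.map (closureι y).continuous, hfa, fun b hyb hba hfb => ?_⟩
  obtain ⟨d, rfl⟩ : b ∈ Set.range (closureι y) := by rw [range_closureι]; exact hyb.mem_closure
  have hda : d ⤳ a := (closureι y).isEmbedding.isInducing.specializes_iff.1 hba
  by_contra hne
  have h1 := rd_lt_of_specializes (closureι y ≫ f) hda (fun h => hne (congrArg _ h)) hfb
  have h2 := hall d (hda.trans hac) (hfb.trans hfa)
  omega

instance isReduced_closure {X : Scheme.{u}} (y : X) :
    IsReduced (Scheme.IdealSheafData.vanishingIdeal (Closeds.closure ({y} : Set X))).subscheme :=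
  RedSepLib.isReduced_vanishingIdeal_subscheme _

instance irreducible_closure {X : Scheme.{u}} (y : X) :
    IrreducibleSpace (Scheme.IdealSheafData.vanishingIdeal (Closeds.closure ({y} : Set X))).subscheme := by
  obtain ⟨b, hb⟩ : y ∈ Set.range (closureι y) := by rw [range_closureι]; exact subset_closure rfl
  have hdense : ∀ a, b ⤳ a := fun a => by
    rw [← (closureι y).isEmbedding.isInducing.specializes_iff, hb]
    exact specializes_iff_mem_closure.2 (by rw [← range_closureι y]; exact ⟨a, rfl⟩)
  haveI : PreirreducibleSpace (Scheme.IdealSheafData.vanishingIdeal (Closeds.closure ({y} : Set X))).subscheme := ⟨by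
    rw [← Set.eq_univ_of_forall (fun a => (hdense a).mem_closure)]
    exact isIrreducible_singleton.closure.2⟩
  exact ⟨⟨b⟩⟩

instance isIntegral_closure {X : Scheme.{u}} (y : X) :
    IsIntegral (Scheme.IdealSheafData.vanishingIdeal (Closeds.closure ({y} : Set X))).subscheme :=
  isIntegral_of_irreducibleSpace_of_isReduced _

theorem closureι_genericPoint {X : Scheme.{u}} (y : X) :
    closureι y (genericPoint (Scheme.IdealSheafData.vanishingIdeal (Closeds.closure ({y} : Set X))).subscheme) = y := by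
  obtain ⟨b, hb⟩ : y ∈ Set.range (closureι y) := by rw [range_closureι]; exact subset_closure rfl
  have h1 := (genericPoint_specializes b).map (closureι y).continuous
  rw [hb] at h1
  have h2 : y ⤳ closureι y (genericPoint (Scheme.IdealSheafData.vanishingIdeal (Closeds.closure ({y} : Set X))).subscheme) :=
    specializes_iff_mem_closure.2 (by rw [← range_closureι y]; exact ⟨_, rfl⟩)
  exact (h1.antisymm h2).eq

end Groth.Agent.Dev4
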