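import Groth.Agent.Lib.Dev4.RelAssRegular
import Groth.Agent.Lib.Dev4.RelAssGeneric
import Groth.Agent.Lib.ConsH13.Topo

/-!
# The locus where all relative associated primes avoid an ideal
-/

set_option autoImplicit false
set_option maxSynthPendingDepth 3
set_option backward.isDefEq.respectTransparency.types false

universe u

open TensorProduct

attribute [local instance] Algebra.TensorProduct.rightAlgebra

namespace Groth.Agent.Dev4

/-- The primes over which no relative associated prime contains `I`. -/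
def relAssLocus (R : Type u) [CommRing R] {A : Type u} [CommRing A] [Algebra R A] (N : Type u) [AddCommGroup N]
    [Module A N] (I : Ideal A) : Set (PrimeSpectrum R) :=
  {P | ∀ (q : Ideal A) [q.IsPrime] [q.LiesOver P.asIdeal],
    FlatCA.fiberIdeal P.asIdeal q ∈ associatedPrimes (P.asIdeal.Fiber A) (FlatCA.fiberMod P.asIdeal A N) → ¬ I ≤ q}

theorem relAssLocus_congr (R : Type u) [CommRing R] {A : Type u} [CommRing A] [Algebra R A] {N N' : Type u}
    [AddCommGroup N] [Module A N] [AddCommGroup N'] [Module A N'] (e : N ≃ₗ[A] N') (I : Ideal A) :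
    relAssLocus R N I = relAssLocus R N' I := by
  ext P
  have h : associatedPrimes (P.asIdeal.Fiber A) (FlatCA.fiberMod P.asIdeal A N) =
      associatedPrimes (P.asIdeal.Fiber A) (FlatCA.fiberMod P.asIdeal A N') :=
    LinearEquiv.AssociatedPrimes.eq (LinearEquiv.baseChange A (P.asIdeal.Fiber A) N N' e)
  simp only [relAssLocus, Set.mem_ofPred_eq, h]

/-- The locus commutes with base change. -/
theorem relAssLocus_baseChange {R R' S S' : Type u} [CommRing R] [CommRing R'] [CommRing S] [CommRing S']
    [Algebra R R'] [Algebra R S] [Algebra R' S'] [Algebra S S'] [Algebra R S'] [IsScalarTower R R' S']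
    [IsScalarTower R S S'] [Algebra.IsPushout R R' S S'] [Algebra.FiniteType R S] [Algebra.FiniteType R' S']
    (N : Type u) [AddCommGroup N] [Module S N] (I : Ideal S) :
    relAssLocus R' (S' ⊗[S] N) (I.map (algebraMap S S')) = PrimeSpectrum.comap (algebraMap R R') ⁻¹' relAssLocus R N I := by
  letI : Module R N := Module.compHom N (algebraMap R S)
  haveI : IsScalarTower R S N := IsScalarTower.of_algebraMap_smul fun _ _ => rfl
  haveI : SMulCommClass S R' S' := ⟨fun a r b => by simp only [Algebra.smul_def]; ring⟩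
  haveI : IsScalarTower R' S' (S' ⊗[S] N) := inferInstance
  ext P'
  let P := PrimeSpectrum.comap (algebraMap R R') P'
  haveI : P'.asIdeal.LiesOver P.asIdeal := ⟨rfl⟩
  obtain ⟨h1, h2⟩ := fiberAss_baseChange P.asIdeal P'.asIdeal N (S := S) (S' := S')
  constructor
  · intro h q _ _ hq hle
    obtain ⟨q', hq', hl, hc, hass⟩ := h2 q hq
    exact h q' hass (Ideal.map_le_iff_le_comap.2 (hle.trans hc.ge))
  · intro h q' _ hl hass hle
    haveI : (q'.comap (algebraMap S S')).LiesOver P.asIdeal := ⟨by
      show P.asIdeal = (q'.comap (algebraMap S S')).comap (algebraMap R S)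
      rw [Ideal.comap_comap, ← IsScalarTower.algebraMap_eq R S S', IsScalarTower.algebraMap_eq R R' S',
        ← Ideal.comap_comap]
      exact congrArg (Ideal.comap (algebraMap R R')) hl.over⟩
    exact h (q'.comap (algebraMap S S')) (h1 q' hass) (Ideal.map_le_iff_le_comap.1 hle)

/-- Injectivity on a fibre from generic freeness of the cokernel. -/
theorem lTensor_residueField_injective {R M N C : Type u} [CommRing R] [AddCommGroup M] [Module R M] [AddCommGroup N]
    [Module R N] [AddCommGroup C] [Module R C] (μ : M →ₗ[R] N) (π : N →ₗ[R] C) (hμ : Function.Injective μ)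
    (hex : Function.Exact μ π) (hπ : Function.Surjective π) (f : R) [Module.Flat R (Localization.Away f ⊗[R] C)]
    (p : Ideal R) [p.IsPrime] (hfp : f ∉ p) : Function.Injective (μ.lTensor p.ResidueField) := by
  let Rf := Localization.Away f
  haveI : Module.Flat R Rf := IsLocalization.flat _ (Submonoid.powers f)
  have hK : Function.Injective ((μ.lTensor Rf).lTensor p.ResidueField) :=
    LinearMap.lTensor_injective_of_exact_of_flat (π.lTensor Rf) (LinearMap.lTensor_surjective Rf hπ)
      (μ.lTensor Rf) (Module.Flat.lTensor_preserves_injective_linearMap μ hμ) (lTensor_exact Rf hex hπ) p.ResidueField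
  let g : M →ₗ[R] Rf ⊗[R] M := TensorProduct.mk R Rf M 1
  haveI : IsLocalizedModule (Submonoid.powers f) g :=
    (isLocalizedModule_iff_isBaseChange (Submonoid.powers f) Rf g).2 (TensorProduct.isBaseChange R M Rf)
  rw [injective_iff_map_eq_zero]
  intro z hz
  have h0 : g.lTensor p.ResidueField z = 0 := by
    apply hK
    rw [map_zero, ← LinearMap.comp_apply, ← LinearMap.lTensor_comp,
      show (μ.lTensor Rf).comp g = (TensorProduct.mk R Rf N 1).comp μ from LinearMap.ext fun _ => rfl,
      LinearMap.lTensor_comp, LinearMap.comp_apply, hz, map_zero]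
  have e : ∀ z, AlgebraTensorModule.rTensor R p.ResidueField g (TensorProduct.comm R p.ResidueField M z) =
      TensorProduct.comm R p.ResidueField (Rf ⊗[R] M) (g.lTensor p.ResidueField z) := fun z => by
    induction z using TensorProduct.induction_on with
    | zero => simp
    | tmul x n => simp [AlgebraTensorModule.rTensor_tmul]
    | add u v hu hv => simp only [map_add, hu, hv]
  obtain ⟨s, hs'⟩ := (IsLocalizedModule.eq_zero_iff (Submonoid.powers f)
    (AlgebraTensorModule.rTensor R p.ResidueField g)).1 (show AlgebraTensorModule.rTensor R p.ResidueField g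
      (TensorProduct.comm R p.ResidueField M z) = 0 by rw [e, h0, map_zero])
  have hs : s • z = 0 := (TensorProduct.comm R p.ResidueField M).injective (by
    rw [Submonoid.smul_def, map_smul, map_zero]; exact hs')
  have hsp : (s : R) ∉ p := fun h => by
    obtain ⟨k, hk⟩ := s.2
    simp only at hk
    exact hfp (‹p.IsPrime›.mem_of_pow_mem k (hk ▸ h))
  have hu : IsUnit (algebraMap R p.ResidueField (s : R)) :=
    isUnit_iff_ne_zero.2 fun h => hsp (Ideal.algebraMap_residueField_eq_zero.1 h)
  rwa [Submonoid.smul_def, ← algebraMap_smul p.ResidueField, hu.smul_eq_zero] at hs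

set_option maxHeartbeats 1000000 in
/-- An associated prime of the generic fibre containing `I` spreads out. -/
theorem exists_bad_near {R A : Type u} [CommRing R] [IsDomain R] [IsNoetherianRing R] [CommRing A] [Algebra R A]
    [Algebra.FiniteType R A] (N : Type u) [AddCommGroup N] [Module A N] [Module R N] [IsScalarTower R A N]
    [Module.Finite A N] (I : Ideal A) (q : Ideal A) [q.IsPrime] [q.LiesOver (⊥ : Ideal R)]
    (hq : FlatCA.fiberIdeal (⊥ : Ideal R) q ∈ associatedPrimes ((⊥ : Ideal R).Fiber A) (FlatCA.fiberMod (⊥ : Ideal R) A N))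
    (hI : I ≤ q) :
    ∃ f : R, f ≠ 0 ∧ ∀ P : PrimeSpectrum R, f ∉ P.asIdeal → P ∉ relAssLocus R N I := by
  classical
  haveI : IsNoetherianRing A := Algebra.FiniteType.isNoetherianRing R A
  obtain ⟨w, h1, h2⟩ := (fiberIdeal_mem_associatedPrimes_iff (⊥ : Ideal R) N q).1 hq
  obtain ⟨c, hc, n, hn⟩ := exists_smul_eq_tmul_one (S := A) (⊥ : Ideal R) N w
  have hc' : algebraMap R A c ∉ q := fun h => hc ((Ideal.mem_of_liesOver q (⊥ : Ideal R) c).2 h)
  -- a multiple of `n` with annihilator `q`
  have hker : ∀ a : A, a • (n ⊗ₜ[R] (1 : (⊥ : Ideal R).ResidueField)) = 0 ↔ ∃ r : R, r ≠ 0 ∧ (algebraMap R A r * a) • n = 0 := by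
    intro a
    rw [TensorProduct.smul_tmul']
    constructor
    · intro h
      obtain ⟨r, hr, hr'⟩ := exists_smul_mem_of_tmul_one_eq_zero (⊥ : Ideal R) N h
      rw [Submodule.bot_smul, Submodule.mem_bot] at hr'
      exact ⟨r, fun h => hr (h ▸ Submodule.zero_mem _), by rwa [mul_smul, algebraMap_smul]⟩
    · rintro ⟨r, hr, hr'⟩
      rw [mul_smul, algebraMap_smul] at hr'
      have h3 : r • ((a • n) ⊗ₜ[R] (1 : (⊥ : Ideal R).ResidueField)) = 0 := by
        rw [TensorProduct.smul_tmul', hr', TensorProduct.zero_tmul]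
      have hu : IsUnit (algebraMap R (⊥ : Ideal R).ResidueField r) :=
        isUnit_iff_ne_zero.2 fun h => hr ((Ideal.mem_bot).1 (Ideal.algebraMap_residueField_eq_zero.1 h))
      obtain ⟨v, hv⟩ := hu
      rw [← TensorProduct.tmul_smul, Algebra.smul_def, mul_one, ← hv] at h3
      have h4 := congrArg ((LinearMap.lTensor N (LinearMap.mulLeft R (↑v⁻¹ : (⊥ : Ideal R).ResidueField)))) h3
      simpa using h4
  have hann : ∀ a : A, a ∈ q → ∃ t : A, t ∉ q ∧ ∃ k : ℕ, (t * a ^ k) • n = 0 := fun a ha => by
    obtain ⟨t, ht, k, hk⟩ := h1 a ha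
    have h5 : (t * a ^ k) • (n ⊗ₜ[R] (1 : (⊥ : Ideal R).ResidueField)) = 0 := by rw [← hn, smul_comm, hk, smul_zero]
    obtain ⟨r, hr, hr'⟩ := (hker _).1 h5
    refine ⟨algebraMap R A r * t, fun h => (‹q.IsPrime›.mem_or_mem h).elim
      (fun h' => hr ((Ideal.mem_bot).1 ((Ideal.mem_of_liesOver q (⊥ : Ideal R) r).2 h'))) ht, k, by rwa [mul_assoc]⟩
  have hup : ∀ s : A, s • n = 0 → s ∈ q := fun s hs => by
    have h6 : (s * algebraMap R A c) • w = 0 := by
      rw [mul_smul, hn, TensorProduct.smul_tmul', hs, TensorProduct.zero_tmul]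
    exact (‹q.IsPrime›.mem_or_mem (h2 _ h6)).resolve_right hc'
  -- a multiple of `n` killed by a power of `q`
  choose t ht k hk using hann
  obtain ⟨s, hs⟩ := (IsNoetherian.noetherian q : q.FG)
  let T : A := ∏ a ∈ s.attach, t a.1 (hs.le (Submodule.subset_span a.2))
  have hT : T ∉ q := fun h => by
    obtain ⟨a, -, ha⟩ := (Ideal.IsPrime.prod_mem_iff).1 h
    exact ht _ _ ha
  let φ : A →ₗ[A] N := LinearMap.toSpanSingleton A N (T • n)
  let Jφ : Ideal A := LinearMap.ker φ
  have hφ : ∀ a ∈ q, a ∈ Jφ.radical := fun a ha => by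
    refine (Submodule.span_le (p := Jφ.radical)).2 (fun b hb => ?_) (hs.ge ha)
    refine ⟨k b (hs.le (Submodule.subset_span hb)), ?_⟩
    show φ (b ^ k b _) = 0
    have hd : t b (hs.le (Submodule.subset_span hb)) ∣ T :=
      Finset.dvd_prod_of_mem (fun a : {x // x ∈ s} => t a.1 (hs.le (Submodule.subset_span a.2))) (Finset.mem_attach s ⟨b, hb⟩)
    obtain ⟨u, hu⟩ := hd
    simp only [φ, LinearMap.toSpanSingleton_apply]
    rw [← mul_smul, hu, show b ^ k b (hs.le (Submodule.subset_span hb)) * (t b _ * u) =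
      u * (t b (hs.le (Submodule.subset_span hb)) * b ^ k b (hs.le (Submodule.subset_span hb))) by ring, mul_smul,
      hk b (hs.le (Submodule.subset_span hb)), smul_zero]
  have hinjR : Function.Injective (algebraMap R (A ⧸ q)) := by
    refine (injective_iff_map_eq_zero _).2 fun r hr => ?_
    have h : algebraMap R A r ∈ q := Ideal.Quotient.eq_zero_iff_mem.1 hr
    exact Ideal.mem_bot.1 ((Ideal.mem_of_liesOver q (⊥ : Ideal R) r).2 h)
  obtain ⟨f₁, hf₁, hover⟩ := exists_prime_over_generic hinjR
  let C := N ⧸ LinearMap.range φ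
  obtain ⟨f₂, hf₂, hfree, -⟩ := FlatH4.exists_free_and_fg_relations (R := R) (S := A) (M := C)
  haveI : Module.Free (Localization.Away f₂) (Localization.Away f₂ ⊗[R] C) :=
    hfree _ (IsLocalization.Away.algebraMap_isUnit f₂)
  haveI : Module.Flat R (Localization.Away f₂) := IsLocalization.flat _ (Submonoid.powers f₂)
  haveI : Module.Flat R (Localization.Away f₂ ⊗[R] C) := Module.Flat.trans R (Localization.Away f₂) _
  refine ⟨f₁ * f₂, mul_ne_zero hf₁ hf₂, fun P hP hgood => ?_⟩
  let p := P.asIdeal
  let M₀ := LinearMap.range φ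
  obtain ⟨Q, hQ, hQp⟩ := hover p P.2 fun h => hP (Ideal.mul_mem_right _ _ h)
  let m₀ : M₀ := ⟨φ 1, ⟨1, rfl⟩⟩
  have hne : FlatCA.toFiberMod p A M₀ m₀ ≠ 0 := by
    intro h
    obtain ⟨r, hr, hr'⟩ := CI2.FibAss.ι_zero p M₀ h
    obtain ⟨x, hx, hxe⟩ : ∃ x ∈ p.map (algebraMap R A), r • m₀ = x • m₀ := by
      have hall : ∀ z ∈ (p.map (algebraMap R A)) • (⊤ : Submodule A M₀), ∃ x ∈ p.map (algebraMap R A), z = x • m₀ := by
        intro z hz
        induction hz using Submodule.smul_induction_on' with
        | smul x hx z _ =>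
          obtain ⟨a, ha⟩ := z.2
          refine ⟨x * a, Ideal.mul_mem_right _ _ hx, Subtype.ext ?_⟩
          show x • z.1 = (x * a) • φ 1
          rw [← ha, ← map_smul, ← map_smul, smul_eq_mul, smul_eq_mul, mul_one]
        | add u _ v _ hu hv =>
          obtain ⟨a, ha, rfl⟩ := hu
          obtain ⟨b, hb, rfl⟩ := hv
          exact ⟨a + b, add_mem ha hb, (add_smul a b m₀).symm⟩
      rw [algebraMap_smul] at hr'
      exact hall _ hr'
    have h7 : (algebraMap R A r - x) • φ 1 = 0 := by
      rw [sub_smul, algebraMap_smul, sub_eq_zero]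
      exact congrArg Subtype.val hxe
    rw [show φ 1 = T • n from one_smul A _, ← mul_smul] at h7
    have h8 : algebraMap R A r - x ∈ q := (‹q.IsPrime›.mem_or_mem (hup _ h7)).resolve_right hT
    have hqQ : (Q.comap (Ideal.Quotient.mk q)).comap (algebraMap R A) = p := by
      rw [Ideal.comap_comap]; exact hQp
    have h9 : x ∈ Q.comap (Ideal.Quotient.mk q) :=
      Ideal.map_le_iff_le_comap.2 hqQ.ge hx
    have h10 : algebraMap R A r ∈ Q.comap (Ideal.Quotient.mk q) := by
      have : algebraMap R A r - x ∈ Q.comap (Ideal.Quotient.mk q) := by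
        rw [Ideal.mem_comap, Ideal.Quotient.eq_zero_iff_mem.2 h8]; exact Q.zero_mem
      simpa using add_mem this h9
    exact hr (hqQ.le h10)
  haveI : Nontrivial (FlatCA.fiberMod p A M₀) := nontrivial_of_ne _ _ hne
  haveI : IsNoetherianRing (p.Fiber A) := Algebra.FiniteType.isNoetherianRing p.ResidueField _
  obtain ⟨P', hP'⟩ := associatedPrimes.nonempty (p.Fiber A) (FlatCA.fiberMod p A M₀)
  haveI := hP'.isPrime
  obtain ⟨hl, he⟩ := fibrePrime_extend p P'
  let q' := P'.comap (algebraMap A (p.Fiber A))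
  rw [← he] at hP'
  obtain ⟨z, hz1, hz2⟩ := (fiberIdeal_mem_associatedPrimes_iff p M₀ q').1 hP'
  let μ : M₀ →ₗ[R] N := M₀.subtype.restrictScalars R
  let π : N →ₗ[R] C := M₀.mkQ.restrictScalars R
  have hinj : Function.Injective (μ.rTensor p.ResidueField) := by
    have h := lTensor_residueField_injective μ π M₀.injective_subtype (LinearMap.exact_subtype_mkQ M₀)
      M₀.mkQ_surjective f₂ p fun h => hP (Ideal.mul_mem_left _ _ h)
    have e : ⇑(μ.rTensor p.ResidueField) = (TensorProduct.comm R p.ResidueField N) ∘ (μ.lTensor p.ResidueField) ∘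
        (TensorProduct.comm R M₀ p.ResidueField) := funext fun z => by
      simp only [Function.comp_apply]
      induction z using TensorProduct.induction_on with
      | zero => simp
      | tmul x y => simp
      | add u v hu hv => simp only [map_add, hu, hv]
    rw [e]
    exact (TensorProduct.comm R _ _).injective.comp (h.comp (TensorProduct.comm R _ _).injective)
  have hlin : ∀ (a : A) (z : M₀ ⊗[R] p.ResidueField), μ.rTensor p.ResidueField (a • z) = a • μ.rTensor p.ResidueField z :=
    fun a z => by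
      induction z using TensorProduct.induction_on with
      | zero => simp
      | tmul x y => rfl
      | add u v hu hv => simp only [map_add, smul_add, hu, hv]
  have hass : FlatCA.fiberIdeal p q' ∈ associatedPrimes (p.Fiber A) (FlatCA.fiberMod p A N) := by
    refine (fiberIdeal_mem_associatedPrimes_iff p N q').2 ⟨μ.rTensor p.ResidueField z, fun a ha => ?_, fun a ha => ?_⟩
    · obtain ⟨s', hs', j, hj⟩ := hz1 a ha
      exact ⟨s', hs', j, by rw [← hlin, hj, map_zero]⟩
    · exact hz2 a (hinj (by rw [hlin, ha, map_zero]))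
  refine hgood q' hass fun a ha => ?_
  obtain ⟨j, hj⟩ := hφ a (hI ha)
  have hkill : ∀ z : M₀ ⊗[R] p.ResidueField, a ^ j • z = 0 := fun z => by
    induction z using TensorProduct.induction_on with
    | zero => simp
    | tmul x y =>
      obtain ⟨b, hb⟩ := x.2
      have : a ^ j • x = 0 := Subtype.ext (by
        show a ^ j • x.1 = 0
        rw [← hb, ← map_smul, smul_eq_mul, mul_comm, ← smul_eq_mul, map_smul, show φ (a ^ j) = 0 from hj, smul_zero])
      rw [TensorProduct.smul_tmul', this, TensorProduct.zero_tmul]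
    | add u v hu hv => rw [smul_add, hu, hv, add_zero]
  exact (inferInstance : q'.IsPrime).mem_of_pow_mem j (hz2 _ (hkill z))

/-- The locus is constructible over a noetherian base. -/
theorem isConstructible_relAssLocus {R A : Type u} [CommRing R] [IsNoetherianRing R] [CommRing A] [Algebra R A]
    [Algebra.FiniteType R A] (N : Type u) [AddCommGroup N] [Module A N] [Module.Finite A N] (I : Ideal A) :
    Topology.IsConstructible (relAssLocus R N I) := by
  refine ConsH13.isConstructible_of_generic _ fun Z hZ hZc => ?_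
  obtain ⟨J, rfl⟩ := (PrimeSpectrum.isClosed_iff_zeroLocus_ideal Z).1 hZc
  haveI : J.radical.IsPrime := (PrimeSpectrum.isIrreducible_zeroLocus_iff J).1 hZ
  let R' := R ⧸ J.radical
  let A' := R' ⊗[R] A
  let N' := A' ⊗[A] N
  haveI : Algebra.FiniteType R' A' := inferInstance
  haveI : SMulCommClass A R' A' := ⟨fun a r b => by simp only [Algebra.smul_def]; ring⟩
  haveI : IsScalarTower R' A' N' := inferInstance
  haveI : Module.Finite A' N' := inferInstance
  have hE := relAssLocus_baseChange (R := R) (R' := R') (S' := A') N I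
  have key : ∃ f : R', f ≠ 0 ∧ ((∀ P : PrimeSpectrum R', f ∉ P.asIdeal → P ∈ relAssLocus R' N' (I.map (algebraMap A A'))) ∨
      ∀ P : PrimeSpectrum R', f ∉ P.asIdeal → P ∉ relAssLocus R' N' (I.map (algebraMap A A'))) := by
    by_cases h : ∀ (q : Ideal A') [q.IsPrime] [q.LiesOver (⊥ : Ideal R')],
      FlatCA.fiberIdeal (⊥ : Ideal R') q ∈ associatedPrimes ((⊥ : Ideal R').Fiber A') (FlatCA.fiberMod (⊥ : Ideal R') A' N') →
        ¬ I.map (algebraMap A A') ≤ q
    · obtain ⟨f, hf, hreg⟩ := exists_regular_near N' (I.map (algebraMap A A')) h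
      exact ⟨f, hf, Or.inl fun P hfP q _ _ hq => hreg P.asIdeal hfP q hq⟩
    · push Not at h
      obtain ⟨q, hq1, hq2, hass, hle⟩ := h
      obtain ⟨f, hf, hbad⟩ := exists_bad_near N' (I.map (algebraMap A A')) q hass hle
      exact ⟨f, hf, Or.inr hbad⟩
  obtain ⟨f, hf, hor⟩ := key
  obtain ⟨r, rfl⟩ := Ideal.Quotient.mk_surjective f
  have hrJ : r ∉ J.radical := fun h => hf (Ideal.Quotient.eq_zero_iff_mem.2 h)
  refine ⟨PrimeSpectrum.basicOpen r, (PrimeSpectrum.basicOpen r).2, ⟨⟨J.radical, inferInstance⟩, ?_, hrJ⟩, ?_⟩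
  · exact Ideal.le_radical
  have hlift : ∀ P ∈ PrimeSpectrum.zeroLocus (J : Set R) ∩ (PrimeSpectrum.basicOpen r : Set (PrimeSpectrum R)),
      ∃ P' : PrimeSpectrum R', PrimeSpectrum.comap (algebraMap R R') P' = P ∧ Ideal.Quotient.mk J.radical r ∉ P'.asIdeal := by
    rintro P ⟨hPJ, hPr⟩
    have hle : J.radical ≤ P.asIdeal := P.2.radical_le_iff.2 hPJ
    haveI := Ideal.map_isPrime_of_surjective (f := Ideal.Quotient.mk J.radical) Ideal.Quotient.mk_surjective
      (I := P.asIdeal) (by rwa [Ideal.mk_ker])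
    have hc : (P.asIdeal.map (Ideal.Quotient.mk J.radical)).comap (Ideal.Quotient.mk J.radical) = P.asIdeal := by
      rw [Ideal.comap_map_of_surjective _ Ideal.Quotient.mk_surjective, ← RingHom.ker_eq_comap_bot, Ideal.mk_ker, sup_eq_left]
      exact hle
    refine ⟨⟨P.asIdeal.map (Ideal.Quotient.mk J.radical), inferInstance⟩, PrimeSpectrum.ext hc, fun h => hPr ?_⟩
    exact hc.le (Ideal.mem_comap.2 h)
  rcases hor with h | h
  · refine Or.inl fun P hP => ?_
    obtain ⟨P', rfl, hr'⟩ := hlift P hP
    exact hE.le (h P' hr')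
  · refine Or.inr fun P hP => ?_
    obtain ⟨P', rfl, hr'⟩ := hlift P hP
    exact fun hmem => h P' hr' (hE.ge hmem)

end Groth.Agent.Dev4
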