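import Groth.Agent.Lib.Dev4.RelAssLocus
import Groth.Agent.Lib.Dev4.GroundModel

/-!
# Constructibility of the locus over an arbitrary base
-/

set_option autoImplicit false
set_option maxSynthPendingDepth 3
set_option backward.isDefEq.respectTransparency.types false

universe u

open TensorProduct

attribute [local instance] Algebra.TensorProduct.rightAlgebra

namespace Groth.Agent.Dev4

/-- The locus is constructible for finitely presented data. -/
theorem isConstructible_relAssLocus_fp {A C : Type u} [CommRing A] [CommRing C] [Algebra A C] [Algebra.FinitePresentation A C]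
    (M : Type u) [AddCommGroup M] [Module C M] [Module.FinitePresentation C M] {I : Ideal C} (hI : I.FG) :
    Topology.IsConstructible (relAssLocus A M I) := by
  classical
  obtain ⟨R, B₀, _, _, _, _, hR, hB₀, ⟨e⟩⟩ := FlatH4.exists_approx A C
  haveI := hR
  haveI : IsNoetherianRing R := Algebra.FiniteType.isNoetherianRing ℤ R
  obtain ⟨m, K, eM, hK⟩ := Module.FinitePresentation.exists_fin C M
  obtain ⟨b, w, hw⟩ := Submodule.fg_iff_exists_fin_generating_family.1 hK
  obtain ⟨G, hG⟩ := hI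
  let u : (Fin b × Fin m) ⊕ ↥G → C := Sum.elim (fun c => w c.1 c.2) fun g => g.1
  choose S hS using fun c => TensorProduct.exists_finset (e.symm (u c))
  let ι := (c : (Fin b × Fin m) ⊕ ↥G) × ↥(S c)
  let A₁ := MvPolynomial ι R
  let v : ι → A := fun i => i.2.1.1
  letI : Algebra A₁ A := (MvPolynomial.aeval v).toRingHom.toAlgebra
  haveI : IsScalarTower R A₁ A := IsScalarTower.of_algebraMap_eq fun r => ((MvPolynomial.aeval v).commutes r).symm
  let B₁ := A₁ ⊗[R] B₀
  letI : Algebra A₁ C := Algebra.compHom C (algebraMap A₁ A)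
  haveI : IsScalarTower A₁ A C := IsScalarTower.of_algebraMap_eq fun _ => rfl
  let ρ : B₁ →+* C := e.toRingEquiv.toRingHom.comp
    (Algebra.TensorProduct.map (IsScalarTower.toAlgHom R A₁ A) (AlgHom.id R B₀)).toRingHom
  letI : Algebra B₁ C := ρ.toAlgebra
  haveI : IsScalarTower A₁ B₁ C := IsScalarTower.of_algebraMap_eq fun a => by
    show algebraMap A C (algebraMap A₁ A a) = e (algebraMap A₁ A a ⊗ₜ[R] (AlgHom.id R B₀ 1))
    rw [AlgHom.id_apply, ← e.commutes]
    rfl
  letI : Algebra R C := Algebra.compHom C (algebraMap R A)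
  haveI : IsScalarTower R A C := IsScalarTower.of_algebraMap_eq fun _ => rfl
  letI : Algebra B₀ C := (e.toRingEquiv.toRingHom.comp
    (Algebra.TensorProduct.includeRight : B₀ →ₐ[R] A ⊗[R] B₀).toRingHom).toAlgebra
  haveI : IsScalarTower R B₀ C := IsScalarTower.of_algebraMap_eq fun r => by
    show algebraMap A C (algebraMap R A r) = e ((1 : A) ⊗ₜ[R] algebraMap R B₀ r)
    rw [← e.commutes, Algebra.TensorProduct.tmul_one_eq_one_tmul r |>.symm]
    rfl
  haveI : IsScalarTower B₀ B₁ C := IsScalarTower.of_algebraMap_eq fun c => by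
    show e ((1 : A) ⊗ₜ[R] c) = e (Algebra.TensorProduct.map (IsScalarTower.toAlgHom R A₁ A) (AlgHom.id R B₀) ((1 : A₁) ⊗ₜ[R] c))
    simp
  haveI : IsScalarTower R A₁ C := IsScalarTower.of_algebraMap_eq fun r => by
    show algebraMap A C (algebraMap R A r) = algebraMap A C (algebraMap A₁ A (algebraMap R A₁ r))
    rw [← IsScalarTower.algebraMap_apply R A₁ A]
  haveI : IsScalarTower R B₁ C := IsScalarTower.of_algebraMap_eq fun r => by
    rw [IsScalarTower.algebraMap_apply R A₁ B₁, ← IsScalarTower.algebraMap_apply A₁ B₁ C, ← IsScalarTower.algebraMap_apply R A₁ C]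
  haveI : Algebra.IsPushout R A B₀ C := Algebra.IsPushout.of_equiv e (RingHom.ext fun _ => rfl)
  haveI : Algebra.IsPushout A₁ A B₁ C :=
    (Algebra.IsPushout.comp_iff (R := R) (S := A₁) (R' := B₀) (S' := B₁) (T := A) (T' := C)).1 inferInstance
  letI : Module B₁ M := Module.compHom M (algebraMap B₁ C)
  haveI : IsScalarTower B₁ C M := IsScalarTower.of_algebraMap_smul fun _ _ => rfl
  let u₁ : (Fin b × Fin m) ⊕ ↥G → B₁ := fun c =>
    ∑ i : ↥(S c), (MvPolynomial.X (⟨c, i⟩ : ι) : A₁) ⊗ₜ[R] i.1.2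
  have hu₁ : ∀ c, algebraMap B₁ C (u₁ c) = u c := fun c => by
    rw [show u c = e (e.symm (u c)) from (e.apply_symm_apply _).symm, hS c]
    show e (Algebra.TensorProduct.map (IsScalarTower.toAlgHom R A₁ A) (AlgHom.id R B₀) (u₁ c)) = _
    congr 1
    rw [map_sum, ← Finset.sum_coe_sort (S c)]
    refine Finset.sum_congr rfl fun i _ => ?_
    rw [Algebra.TensorProduct.map_tmul, AlgHom.id_apply]
    exact congrArg (· ⊗ₜ[R] i.1.2) (MvPolynomial.aeval_X v (⟨c, i⟩ : ι))
  let w₁ : Fin b → Fin m → B₁ := fun c a => u₁ (Sum.inl (c, a))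
  have hw₁ : ∀ c a, algebraMap B₁ C (w₁ c a) = w c a := fun c a => hu₁ _
  let π : (Fin m → C) →ₗ[C] M := eM.symm.toLinearMap.comp K.mkQ
  have hπk : LinearMap.ker π = Submodule.span C (Set.range fun c a => algebraMap B₁ C (w₁ c a)) := by
    simp only [hw₁]
    rw [show LinearMap.ker π = K by ext x; simp [π, Submodule.Quotient.mk_eq_zero]]
    exact hw.symm
  obtain ⟨f₁, hf₁⟩ := S1295.isBaseChange_quotient (B₁ := B₁) w₁ π (eM.symm.surjective.comp K.mkQ_surjective) hπk
  let M₀ := (Fin m → B₁) ⧸ Submodule.span B₁ (Set.range w₁)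
  let I₀ : Ideal B₁ := Ideal.span (Set.range fun g : ↥G => u₁ (Sum.inr g))
  have hI₀ : I₀.map (algebraMap B₁ C) = I := by
    rw [Ideal.map_span, ← Set.range_comp, ← hG]
    refine congrArg Ideal.span (Set.ext fun x => ⟨?_, fun hx => ⟨⟨x, hx⟩, hu₁ _⟩⟩)
    rintro ⟨g, rfl⟩
    show algebraMap B₁ C (u₁ (Sum.inr g)) ∈ (G : Set C)
    rw [hu₁]
    exact g.2
  haveI : IsNoetherianRing A₁ := inferInstance
  haveI : Algebra.FiniteType A₁ B₁ := inferInstance
  have h := (relAssLocus_congr A hf₁.equiv (I₀.map (algebraMap B₁ C))).symm.trans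
    (relAssLocus_baseChange (R := A₁) (R' := A) (S := B₁) (S' := C) M₀ I₀)
  rw [hI₀] at h
  rw [h]
  obtain ⟨D, hD⟩ := PrimeSpectrum.exists_constructibleSetData_iff.2 (isConstructible_relAssLocus (R := A₁) M₀ I₀)
  rw [← hD, ← PrimeSpectrum.ConstructibleSetData.toSet_map]
  exact PrimeSpectrum.ConstructibleSetData.isConstructible_toSet _

end Groth.Agent.Dev4
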