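import Groth.Agent.Lib.Dev4.RelAssLocusFP
import Groth.Agent.Lib.Dev4.RelAssBridge
import Groth.Agent.Lib.ModM1.Coh

/-!
# The locus of fibres with associated points in an open is locally constructible
-/

set_option autoImplicit false
set_option maxSynthPendingDepth 3
set_option backward.isDefEq.respectTransparency.types false

universe u

open AlgebraicGeometry CategoryTheory Limits TensorProduct TopologicalSpace

namespace Groth.Agent.Dev4

set_option maxHeartbeats 1000000 in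
/-- In a chart. -/
theorem isConstructible_chart {X Y : Scheme.{u}} (f : X ⟶ Y) [LocallyOfFinitePresentation f] (F : X.Modules)
    [Coh.IsQCoh F] (hFp : CohB1.IsFP F) {V : Y.Opens} (hV : IsAffineOpen V) {W : X.Opens} (hW : IsAffineOpen W)
    (hWV : W ≤ f ⁻¹ᵁ V) (U : X.Opens) (hWU : IsCompact ((W : Set X) ∩ U)) :
    Topology.IsConstructible {P : Spec Γ(Y, V) | ∀ x ∈ W, x ∈ MoreMor.relAss f F → f x = hV.fromSpec P → x ∈ U} := by
  letI : Algebra Γ(Y, V) Γ(X, W) := (f.appLE V W hWV).hom.toAlgebra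
  letI : Module Γ(Y, V) Γ(F, W) := Module.compHom _ (algebraMap Γ(Y, V) Γ(X, W))
  haveI : IsScalarTower Γ(Y, V) Γ(X, W) Γ(F, W) := IsScalarTower.of_algebraMap_smul fun _ _ => rfl
  haveI : Algebra.FinitePresentation Γ(Y, V) Γ(X, W) := f.finitePresentation_appLE hV hW hWV
  haveI : Module.FinitePresentation Γ(X, W) Γ(F, W) := M1.finitePresentation_sections hFp hW
  have hc : IsCompact (hW.fromSpec ⁻¹' (U : Set X)) := by
    rw [hW.fromSpec.isEmbedding.isInducing.isCompact_iff, Set.image_preimage_eq_inter_range, hW.range_fromSpec,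
      Set.inter_comm]
    exact hWU
  obtain ⟨I, hI, hIU⟩ := PrimeSpectrum.isCompact_isOpen_iff_ideal.1 ⟨hc, U.2.preimage hW.fromSpec.continuous⟩
  have hIx : ∀ (x : X) (hx : x ∈ W), x ∈ U ↔ ¬ I ≤ (hW.primeIdealOf ⟨x, hx⟩).asIdeal := fun x hx => by
    have := Set.ext_iff.1 hIU (hW.primeIdealOf ⟨x, hx⟩)
    simp only [Set.mem_compl_iff, PrimeSpectrum.mem_zeroLocus] at this
    refine Iff.trans ?_ this.symm
    show x ∈ U ↔ hW.fromSpec (hW.primeIdealOf ⟨x, hx⟩) ∈ U
    rw [hW.fromSpec_primeIdealOf]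
  refine (congrArg Topology.IsConstructible (Set.ext fun P => ?_)).mp
    (isConstructible_relAssLocus_fp (A := Γ(Y, V)) Γ(F, W) hI)
  constructor
  · intro h x hx hass hfx
    have hP : hV.primeIdealOf ⟨f x, hWV hx⟩ = P :=
      hV.fromSpec.isOpenEmbedding.injective ((hV.fromSpec_primeIdealOf _).trans hfx)
    haveI : (hW.primeIdealOf ⟨x, hx⟩).asIdeal.LiesOver P.asIdeal :=
      ⟨(congrArg PrimeSpectrum.asIdeal (hP.symm.trans (IsAffineOpen.comap_primeIdealOf_appLE V hV W hW hWV hx).symm))⟩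
    exact (hIx x hx).2 (h _ ((fiberAss_congr hP rfl).1 ((mem_relAss_iff f F hW hV hWV hx).1 hass)))
  · intro h q _ hl hass
    let x := hW.fromSpec ⟨q, inferInstance⟩
    have hx : x ∈ W := hW.range_fromSpec.le ⟨_, rfl⟩
    have hq : (hW.primeIdealOf ⟨x, hx⟩).asIdeal = q := congrArg PrimeSpectrum.asIdeal
      (show hW.primeIdealOf ⟨x, hx⟩ = ⟨q, inferInstance⟩ from hW.fromSpec.isOpenEmbedding.injective (hW.fromSpec_primeIdealOf _))
    have hp : hV.primeIdealOf ⟨f x, hWV hx⟩ = P := by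
      rw [← IsAffineOpen.comap_primeIdealOf_appLE V hV W hW hWV hx]
      refine PrimeSpectrum.ext ?_
      show Ideal.comap (algebraMap Γ(Y, V) Γ(X, W)) (hW.primeIdealOf ⟨x, hx⟩).asIdeal = P.asIdeal
      rw [hq]
      exact hl.over.symm
    rw [← hq]
    refine (hIx x hx).1 (h x hx ((mem_relAss_iff f F hW hV hWV hx).2 ((fiberAss_congr hp hq).2 hass)) ?_)
    rw [← hp, hV.fromSpec_primeIdealOf]

/-- The locus is locally constructible. -/
theorem isLocallyConstructible_relAss_subset {X Y : Scheme.{u}} (f : X ⟶ Y) [LocallyOfFinitePresentation f]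
    [QuasiCompact f] [QuasiSeparated f] (F : X.Modules) [Coh.IsQCoh F] (hFp : CohB1.IsFP F) (U : X.Opens)
    [QuasiCompact (U.ι ≫ f)] :
    Topology.IsLocallyConstructible {y : ↑Y | ∀ x ∈ MoreMor.relAss f F, f x = y → x ∈ U} := by
  classical
  intro y
  obtain ⟨V, hV, hyV, -⟩ := exists_isAffineOpen_mem_and_subset (X := Y) (x := y) (U := ⊤) trivial
  refine ⟨V, V.2.mem_nhds hyV, V.2, ?_⟩
  choose W hW hxW hWV using fun x : ↥(f ⁻¹ᵁ V) =>
    exists_isAffineOpen_mem_and_subset (X := X) (x := x.1) (U := f ⁻¹ᵁ V) x.2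
  obtain ⟨t, ht⟩ := (QuasiCompact.isCompact_preimage (f := f) _ V.2 hV.isCompact).elim_finite_subcover
    (fun x => (W x : Set X)) (fun x => (W x).2) fun x hx => Set.mem_iUnion.2 ⟨⟨x, hx⟩, hxW ⟨x, hx⟩⟩
  have hUV : IsCompact ((U : Set X) ∩ (f ⁻¹ᵁ V : Set X)) := by
    have h := (QuasiCompact.isCompact_preimage (f := U.ι ≫ f) _ V.2 hV.isCompact).image U.ι.continuous
    convert h using 1
    ext z
    constructor
    · rintro ⟨hzU, hzV⟩
      exact ⟨⟨z, hzU⟩, hzV, rfl⟩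
    · rintro ⟨a, ha, rfl⟩
      exact ⟨a.2, ha⟩
  have hsep : IsQuasiSeparated (f ⁻¹ᵁ V : Set X) := f.isQuasiSeparated_preimage hV.isQuasiSeparated
  have hWU : ∀ i, IsCompact ((W i : Set X) ∩ U) := fun i => by
    rw [show (W i : Set X) ∩ U = (W i : Set X) ∩ ((U : Set X) ∩ (f ⁻¹ᵁ V : Set X)) from
      Set.ext fun z => ⟨fun h => ⟨h.1, h.2, hWV i h.1⟩, fun h => ⟨h.1, h.2.1⟩⟩]
    exact hsep _ _ (hWV i) (W i).2 (hW i).isCompact Set.inter_subset_right (U.2.inter (f ⁻¹ᵁ V).2) hUV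
  have h : Topology.IsConstructible (⋂ i ∈ (t : Set ↥(f ⁻¹ᵁ V)),
      {P : Spec Γ(Y, V) | ∀ x ∈ W i, x ∈ MoreMor.relAss f F → f x = hV.fromSpec P → x ∈ U}) :=
    Topology.IsConstructible.biInter t.finite_toSet fun i _ => isConstructible_chart f F hFp hV (hW i) (hWV i) U (hWU i)
  refine (congrArg Topology.IsConstructible (Set.ext fun z => ?_)).mp
    (h.preimage_of_isOpenEmbedding hV.isoSpec.hom.isOpenEmbedding)
  simp only [Set.mem_preimage, Set.mem_iInter]
  constructor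
  · intro hz x hxa hfx
    obtain ⟨i, hi, hxi⟩ := Set.mem_iUnion₂.1 (ht (show x ∈ f ⁻¹ᵁ V by show f x ∈ V; rw [hfx]; exact z.2))
    exact hz i hi x hxi hxa (hfx.trans (ConsH13.fromSpec_isoSpec_hom hV z).symm)
  · intro hz i _ x _ hxa hfx
    exact hz x hxa (hfx.trans (ConsH13.fromSpec_isoSpec_hom hV z))

end Groth.Agent.Dev4
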