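import Groth.Agent.Lib.Dev4.RelAssGeneric
import Groth.Agent.Lib.Dev4.RelAssBCMax
import Groth.Agent.Lib.ModM1.Pull

/-!
# The relative assassin near a point of the base
-/

set_option autoImplicit false
set_option maxSynthPendingDepth 3
set_option backward.isDefEq.respectTransparency.types false

universe u

open AlgebraicGeometry CategoryTheory Limits TopologicalSpace TensorProduct

namespace Groth.Agent.Dev4

/-- Generic flatness in a chart over an integral base. -/
theorem exists_open_flat_chart {X Y : Scheme.{u}} (u : X ⟶ Y) [IsIntegral Y] [LocallyOfFiniteType u]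
    (F : X.Modules) [Coh.IsQCoh F] {V : Y.Opens} (hV : IsAffineOpen V) [Nonempty V]
    {W : X.Opens} (hW : IsAffineOpen W) (hWV : W ≤ u ⁻¹ᵁ V) [Module.Finite Γ(X, W) Γ(F, W)] :
    ∃ O : Y.Opens, (O : Set Y).Nonempty ∧ ∀ x ∈ W, u x ∈ O → FlatMod.IsFlatOverAt u F x := by
  letI : Algebra Γ(Y, V) Γ(X, W) := (u.appLE V W hWV).hom.toAlgebra
  haveI : Algebra.FiniteType Γ(Y, V) Γ(X, W) := u.finiteType_appLE hV hW hWV
  letI := FlatH4.secModuleOver u F V W hWV
  haveI : IsScalarTower Γ(Y, V) Γ(X, W) Γ(F, W) := IsScalarTower.of_algebraMap_smul fun _ _ => rfl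
  obtain ⟨r, hr, hflat⟩ :=
    FlatH4.exists_flat_localized_of_finite (R := Γ(Y, V)) (T := Γ(X, W)) (M := Γ(F, W))
  refine ⟨Y.basicOpen r, ?_, fun x hx hxr => (FlatH4.isFlatOverAt_iff u F V hV W hW hWV hx).2
    (hflat _ (PrimeSpectrum.isPrime _) fun hmem => ?_)⟩
  · rw [Set.nonempty_iff_ne_empty]
    intro h
    exact hr ((AlgebraicGeometry.basicOpen_eq_bot_iff _).1 (SetLike.coe_injective (by rw [h]; rfl)))
  · have hp : r ∈ (hV.primeIdealOf ⟨u x, hWV hx⟩).asIdeal := by
      rw [← congr($(IsAffineOpen.comap_primeIdealOf_appLE V hV W hW hWV hx).1)]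
      exact hmem
    have h1 : hV.primeIdealOf ⟨u x, hWV hx⟩ ∈ hV.fromSpec ⁻¹ᵁ Y.basicOpen r := by
      show hV.fromSpec _ ∈ Y.basicOpen r
      rw [hV.fromSpec_primeIdealOf]
      exact hxr
    rw [hV.fromSpec_preimage_basicOpen] at h1
    exact h1 hp

/-- A nonempty open of the closure of a point comes from an open containing the point. -/
theorem exists_open_of_closure {S : Scheme.{u}} {s : S}
    (O' : (Scheme.IdealSheafData.vanishingIdeal (Closeds.closure ({s} : Set S))).subscheme.Opens)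
    (hO' : ∃ b, b ∈ O') : ∃ O : S.Opens, s ∈ O ∧ ∀ a, closureι s a ∈ O → a ∈ O' := by
  obtain ⟨O, hO, heq⟩ := (closureι s).isEmbedding.isInducing.isOpen_iff.1 O'.2
  refine ⟨⟨O, hO⟩, ?_, fun a ha => heq.le ha⟩
  obtain ⟨b, hb⟩ := hO'
  have h1 := (genericPoint_specializes b).mem_open O'.2 hb
  have h2 := heq.ge h1
  rwa [Set.mem_preimage, closureι_genericPoint] at h2

set_option maxHeartbeats 2000000 in
/-- Near the image of a point of the relative assassin, maximal points of its closure are in the relative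
assassin, and the closure meets the fibres. -/
theorem exists_open_relAss_near {X S : Scheme.{u}} (f : X ⟶ S) [LocallyOfFiniteType f] (F : X.Modules)
    (hF : Coh.IsCoh F) {ξ : X} (hξ : ξ ∈ MoreMor.relAss f F) {V : S.Opens} (hV : IsAffineOpen V)
    {U : X.Opens} (hU : IsAffineOpen U) (hξU : ξ ∈ U) (hUV : U ≤ f ⁻¹ᵁ V) :
    ∃ O : S.Opens, f ξ ∈ O ∧
      (∀ x ∈ U, f x ∈ O → ξ ⤳ x → (∀ z, ξ ⤳ z → z ⤳ x → f z = f x → z = x) → x ∈ MoreMor.relAss f F) ∧
      ∀ s ∈ O, f ξ ⤳ s → ∃ x ∈ U, ξ ⤳ x ∧ f x = s := by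
  haveI := hF.1
  let t := closureι (f ξ)
  let p : pullback f t ⟶ X := pullback.fst f t
  let q := pullback.snd f t
  have hsq : IsPullback p q f t := IsPullback.of_hasPullback f t
  haveI : LocallyOfFiniteType q := MorphismProperty.pullback_snd _ _ inferInstance
  haveI : IsClosedImmersion p := MorphismProperty.pullback_fst _ _ inferInstance
  have hw : ∀ a, f (p a) = t (q a) := fun a => by
    rw [← Scheme.Hom.comp_apply, ← Scheme.Hom.comp_apply, hsq.w]
  haveI hFq : Coh.IsQCoh ((Scheme.Modules.pullback p).obj F) := M1.isQCoh_pullback p hF.1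
  have hFft : CohB1.IsFT ((Scheme.Modules.pullback p).obj F) := M1.isFT_pullback p hF.2
  let η := genericPoint (Scheme.IdealSheafData.vanishingIdeal (Closeds.closure ({f ξ} : Set S))).subscheme
  obtain ⟨ξ', hξ', hqξ'⟩ := Scheme.Pullback.exists_preimage_pullback (f := f) (g := t) ξ η
    (closureι_genericPoint (f ξ)).symm
  have hmem : ξ' ∈ MoreMor.relAss q ((Scheme.Modules.pullback p).obj F) :=
    (mem_relAss_baseChange_iff hsq F ξ').2 ⟨by rw [hξ']; exact hξ, fun z _ h _ => p.isEmbedding.injective h⟩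
  have hW : IsAffineOpen (p ⁻¹ᵁ U) := hU.preimage p
  have hV' : IsAffineOpen (t ⁻¹ᵁ V) := hV.preimage t
  haveI : Nonempty (t ⁻¹ᵁ V : (Scheme.IdealSheafData.vanishingIdeal (Closeds.closure ({f ξ} : Set S))).subscheme.Opens) :=
    ⟨⟨η, by show t η ∈ V; rw [closureι_genericPoint]; exact hUV hξU⟩⟩
  have hWV : p ⁻¹ᵁ U ≤ q ⁻¹ᵁ (t ⁻¹ᵁ V) := fun a ha => by
    show t (q a) ∈ V
    rw [← hw]
    exact hUV ha
  haveI : Module.Finite Γ(pullback f t, p ⁻¹ᵁ U) Γ((Scheme.Modules.pullback p).obj F, p ⁻¹ᵁ U) :=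
    M1.finite_sections hFq hFft hW
  obtain ⟨O₁, hO₁, hflat⟩ := exists_open_flat_chart q ((Scheme.Modules.pullback p).obj F) hV' hW hWV
  have hξW : ξ' ∈ p ⁻¹ᵁ U := by show p ξ' ∈ U; rw [hξ']; exact hξU
  obtain ⟨O₂, hO₂, hmeet⟩ := exists_open_meets_closure ((p ⁻¹ᵁ U).ι ≫ q) (x := ⟨ξ', hξW⟩)
    ((Scheme.Hom.comp_apply _ _ _).trans hqξ')
  obtain ⟨A, hA, hA'⟩ := exists_open_of_closure O₁ hO₁
  obtain ⟨B, hB, hB'⟩ := exists_open_of_closure O₂ hO₂
  refine ⟨A ⊓ B, ⟨hA, hB⟩, fun x hxU hxO hξx hmax => ?_, fun s hs hsp => ?_⟩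
  · obtain ⟨a, ha⟩ : f x ∈ Set.range t := by
      rw [range_closureι]; exact (hξx.map f.continuous).mem_closure
    obtain ⟨x', hx', hqx'⟩ := Scheme.Pullback.exists_preimage_pullback (f := f) (g := t) x a ha.symm
    have hsp' : ξ' ⤳ x' := p.isEmbedding.isInducing.specializes_iff.1 (by rw [hξ', hx']; exact hξx)
    have hfl : FlatMod.IsFlatOverAt q ((Scheme.Modules.pullback p).obj F) x' := by
      refine hflat x' (by show p x' ∈ U; rw [hx']; exact hxU) (hA' _ ?_)
      rw [← hw, hx']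
      exact hxO.1
    have h := (relAss_max_point q ξ' ((Scheme.Modules.pullback p).obj F) hFft hmem hsp' (fun z h1 h2 h3 => by
      have e1 := h1.map p.continuous
      have e2 := h2.map p.continuous
      rw [hξ'] at e1
      rw [hx'] at e2
      exact p.isEmbedding.injective ((hmax (p z) e1 e2 (by rw [← hx', hw, hw, h3])).trans hx'.symm)) hfl).1
    rw [← hx']
    exact (relAss_baseChange hsq F).1 x' h
  · obtain ⟨a, ha⟩ : s ∈ Set.range t := by rw [range_closureι]; exact hsp.mem_closure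
    obtain ⟨z, hz, hqz⟩ := hmeet a (hB' a (by rw [ha]; exact hs.2))
    refine ⟨p z.1, z.2, ?_, ?_⟩
    · exact (specializes_of_eq hξ'.symm).trans ((hz.map (p ⁻¹ᵁ U).ι.continuous).map p.continuous)
    · rw [hw, ← ha]
      exact congrArg t ((Scheme.Hom.comp_apply _ _ _).symm.trans hqz)

end Groth.Agent.Dev4
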