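import Groth.Agent.Lib.Dev4.WeakAssTensor
import Groth.Agent.Lib.Dev4.FiberAssBC
import Groth.Agent.Lib.FlatH4.GenFreeMain

/-!
# Elements regular on all nearby fibres
-/

set_option autoImplicit false
set_option maxSynthPendingDepth 3
set_option backward.isDefEq.respectTransparency.types false

universe u

open TensorProduct

attribute [local instance] Algebra.TensorProduct.rightAlgebra

namespace Groth.Agent.Dev4

set_option maxHeartbeats 2000000 in
/-- If no associated prime of the generic fibre contains `I`, none of a nearby fibre does. -/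
theorem exists_regular_near {R A : Type u} [CommRing R] [IsDomain R] [CommRing A] [Algebra R A] [Algebra.FiniteType R A]
    (N : Type u) [AddCommGroup N] [Module A N] [Module R N] [IsScalarTower R A N] [Module.Finite A N] (I : Ideal A)
    (h : ∀ (q : Ideal A) [q.IsPrime] [q.LiesOver (⊥ : Ideal R)],
      FlatCA.fiberIdeal (⊥ : Ideal R) q ∈ associatedPrimes ((⊥ : Ideal R).Fiber A) (FlatCA.fiberMod (⊥ : Ideal R) A N) → ¬ I ≤ q) :
    ∃ f : R, f ≠ 0 ∧ ∀ (p : Ideal R) [p.IsPrime], f ∉ p → ∀ (q : Ideal A) [q.IsPrime] [q.LiesOver p],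
      FlatCA.fiberIdeal p q ∈ associatedPrimes (p.Fiber A) (FlatCA.fiberMod p A N) → ¬ I ≤ q := by
  classical
  let B := (⊥ : Ideal R).Fiber A
  let M := B ⊗[A] N
  haveI : IsNoetherianRing B := Algebra.FiniteType.isNoetherianRing (⊥ : Ideal R).ResidueField B
  have hfin : (associatedPrimes B M).Finite := associatedPrimes.finite B M
  -- an element regular on the generic fibre
  obtain ⟨a, haI, ha⟩ : ∃ a ∈ I, ∀ P ∈ associatedPrimes B M, algebraMap A B a ∉ P := by
    by_contra hc
    push Not at hc
    have hsub : (I : Set A) ⊆ ⋃ P ∈ (↑hfin.toFinset : Set (Ideal B)), ((P.comap (algebraMap A B) : Ideal A) : Set A) := fun a ha => by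
      obtain ⟨P, hP, haP⟩ := hc a ha
      exact Set.mem_biUnion (by simpa using hP) haP
    obtain ⟨P, hP, hle⟩ := (Ideal.subset_union_prime (s := hfin.toFinset) (f := fun P => P.comap (algebraMap A B)) ⊥ ⊥
      (fun P hP _ _ => by
        haveI := ((Set.Finite.mem_toFinset hfin).1 hP).isPrime
        exact Ideal.comap_isPrime _ P)).1 hsub
    have hP' := (Set.Finite.mem_toFinset hfin).1 hP
    haveI := hP'.isPrime
    obtain ⟨hl, he⟩ := fibrePrime_extend (⊥ : Ideal R) P
    refine h (P.comap (algebraMap A B)) ?_ hle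
    rw [he]
    exact hP'
  have hreg : ∀ n : N, a • n = 0 → ∃ r : R, r ≠ 0 ∧ r • n = 0 := fun n hn => by
    have h0 : FlatCA.toFiberMod (⊥ : Ideal R) A N n = 0 := by
      by_contra hne
      have hmem : algebraMap A B a ∈ {b : B | ∃ x : M, x ≠ 0 ∧ b • x = 0} := by
        refine ⟨(1 : B) ⊗ₜ[A] n, hne, ?_⟩
        rw [algebraMap_smul, ← TensorProduct.tmul_smul, hn, TensorProduct.tmul_zero]
      rw [← biUnion_associatedPrimes_eq_zero_divisors B M] at hmem
      obtain ⟨P, hP, haP⟩ := Set.mem_iUnion₂.1 hmem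
      exact ha P hP haP
    obtain ⟨r, hr, hr'⟩ := CI2.FibAss.ι_zero (⊥ : Ideal R) N h0
    rw [Ideal.map_bot, Submodule.bot_smul, Submodule.mem_bot, algebraMap_smul] at hr'
    exact ⟨r, fun h => hr (h ▸ Submodule.zero_mem _), hr'⟩
  -- generic freeness
  let C := N ⧸ LinearMap.range (DistribSMul.toLinearMap A N a)
  obtain ⟨f₁, hf₁, hfree₁, -⟩ := FlatH4.exists_free_and_fg_relations (R := R) (S := A) (M := N)
  obtain ⟨f₂, hf₂, hfree₂, -⟩ := FlatH4.exists_free_and_fg_relations (R := R) (S := A) (M := C)
  refine ⟨f₁ * f₂, mul_ne_zero hf₁ hf₂, fun p _ hfp q _ _ hq hIq => ?_⟩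
  let Rf := Localization.Away (f₁ * f₂)
  have hu : IsUnit (algebraMap R Rf (f₁ * f₂)) := IsLocalization.Away.algebraMap_isUnit _
  rw [map_mul] at hu
  haveI : Module.Free Rf (Rf ⊗[R] N) := hfree₁ Rf (isUnit_of_mul_isUnit_left hu)
  haveI : Module.Free Rf (Rf ⊗[R] C) := hfree₂ Rf (isUnit_of_mul_isUnit_right hu)
  haveI : Module.Flat R Rf := IsLocalization.flat _ (Submonoid.powers (f₁ * f₂))
  haveI : Module.Flat R (Rf ⊗[R] C) := Module.Flat.trans R Rf _
  haveI : Module.Flat R (Rf ⊗[R] N) := Module.Flat.trans R Rf _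
  let g : N →ₗ[R] Rf ⊗[R] N := TensorProduct.mk R Rf N 1
  haveI hg : IsLocalizedModule (Submonoid.powers (f₁ * f₂)) g :=
    (isLocalizedModule_iff_isBaseChange (Submonoid.powers (f₁ * f₂)) Rf g).2 (TensorProduct.isBaseChange R N Rf)
  let μ : N →ₗ[R] N := (DistribSMul.toLinearMap A N a).restrictScalars R
  let π : N →ₗ[R] C := (LinearMap.range (DistribSMul.toLinearMap A N a)).mkQ.restrictScalars R
  have hμg : ∀ n, μ.lTensor Rf (g n) = g (a • n) := fun n => LinearMap.lTensor_tmul _ _ _ _
  have hinj : Function.Injective (μ.lTensor Rf) := by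
    rw [injective_iff_map_eq_zero]
    intro z hz
    obtain ⟨⟨n, t⟩, hn⟩ := IsLocalizedModule.surj (Submonoid.powers (f₁ * f₂)) g z
    have h1 : g (a • n) = 0 := by
      rw [← hμg, ← hn]
      change μ.lTensor Rf ((t : R) • z) = 0
      rw [map_smul, hz, smul_zero]
    obtain ⟨s, hs⟩ := (IsLocalizedModule.eq_zero_iff (Submonoid.powers (f₁ * f₂)) g).1 h1
    obtain ⟨r, hr, hr'⟩ := hreg ((s : R) • n) (by rw [smul_comm]; exact hs)
    have h2 : (r * (s : R) * (t : R)) • z = 0 := by
      rw [mul_smul, show (t : R) • z = g n from hn, ← map_smul, mul_smul, hr', map_zero]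
    have hne : r * (s : R) * (t : R) ≠ 0 := by
      refine mul_ne_zero (mul_ne_zero hr ?_) ?_
      · exact nonZeroDivisors.ne_zero (powers_le_nonZeroDivisors_of_noZeroDivisors (mul_ne_zero hf₁ hf₂) s.2)
      · exact nonZeroDivisors.ne_zero (powers_le_nonZeroDivisors_of_noZeroDivisors (mul_ne_zero hf₁ hf₂) t.2)
    haveI : Module.IsTorsionFree R (Rf ⊗[R] N) := inferInstance
    exact (smul_eq_zero.1 h2).resolve_left hne
  have hex : Function.Exact (μ.lTensor Rf) (π.lTensor Rf) :=
    lTensor_exact Rf (LinearMap.exact_map_mkQ_range (DistribSMul.toLinearMap A N a)) (Submodule.mkQ_surjective _)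
  have hK : Function.Injective ((μ.lTensor Rf).lTensor p.ResidueField) :=
    LinearMap.lTensor_injective_of_exact_of_flat (π.lTensor Rf) (LinearMap.lTensor_surjective Rf (Submodule.mkQ_surjective _))
      (μ.lTensor Rf) hinj hex p.ResidueField
  let g₁ := g.lTensor p.ResidueField
  have hg₁ : Function.Injective g₁ := by
    rw [injective_iff_map_eq_zero]
    intro z hz
    have e : ∀ z, AlgebraTensorModule.rTensor R p.ResidueField g (TensorProduct.comm R p.ResidueField N z) =
        TensorProduct.comm R p.ResidueField (Rf ⊗[R] N) (g.lTensor p.ResidueField z) := fun z => by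
      induction z using TensorProduct.induction_on with
      | zero => simp
      | tmul x n => simp [AlgebraTensorModule.rTensor_tmul]
      | add u v hu hv => simp only [map_add, hu, hv]
    obtain ⟨s, hs'⟩ := (IsLocalizedModule.eq_zero_iff (Submonoid.powers (f₁ * f₂))
      (AlgebraTensorModule.rTensor R p.ResidueField g)).1 (show AlgebraTensorModule.rTensor R p.ResidueField g
        (TensorProduct.comm R p.ResidueField N z) = 0 by rw [e, show g.lTensor p.ResidueField z = 0 from hz, map_zero])
    have hs : s • z = 0 := (TensorProduct.comm R p.ResidueField N).injective (by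
      rw [Submonoid.smul_def, map_smul, map_zero]; exact hs')
    have hsp : (s : R) ∉ p := fun h => by
      obtain ⟨k, hk⟩ := s.2
      simp only at hk
      exact hfp (‹p.IsPrime›.mem_of_pow_mem k (hk ▸ h))
    have hu : IsUnit (algebraMap R p.ResidueField (s : R)) :=
      isUnit_iff_ne_zero.2 fun h => hsp (Ideal.algebraMap_residueField_eq_zero.1 h)
    rwa [Submonoid.smul_def, ← algebraMap_smul p.ResidueField, hu.smul_eq_zero] at hs
  have hinjw : ∀ w : N ⊗[R] p.ResidueField, a • w = 0 → w = 0 := fun w hw => by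
    apply (TensorProduct.comm R N p.ResidueField).injective
    rw [map_zero]
    have hc : TensorProduct.comm R N p.ResidueField (a • w) = μ.lTensor p.ResidueField (TensorProduct.comm R N p.ResidueField w) := by
      clear hw
      induction w using TensorProduct.induction_on with
      | zero => simp
      | tmul n x => rw [TensorProduct.smul_tmul', TensorProduct.comm_tmul, TensorProduct.comm_tmul, LinearMap.lTensor_tmul]; rfl
      | add u v hu hv => simp only [smul_add, map_add, hu, hv]
    rw [hw, map_zero] at hc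
    apply hg₁
    apply hK
    rw [map_zero, map_zero]
    show (μ.lTensor Rf).lTensor p.ResidueField (g.lTensor p.ResidueField _) = 0
    rw [← LinearMap.comp_apply, ← LinearMap.lTensor_comp, show (μ.lTensor Rf).comp g = g.comp μ from LinearMap.ext hμg,
      LinearMap.lTensor_comp, LinearMap.comp_apply, ← hc, map_zero]
  obtain ⟨w, h1, h2⟩ := (fiberIdeal_mem_associatedPrimes_iff p N q).1 hq
  obtain ⟨s, hs, k, hk⟩ := h1 a (hIq haI)
  have hk0 : ∀ k : ℕ, (s * a ^ k) • w = 0 → s • w = 0 := fun k => by
    induction k with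
    | zero => intro h; rwa [pow_zero, mul_one] at h
    | succ k ih =>
      intro h
      refine ih (hinjw _ ?_)
      rw [← mul_smul, show a * (s * a ^ k) = s * a ^ (k + 1) by rw [pow_succ]; ring]
      exact h
  exact hs (h2 s (hk0 k hk))

end Groth.Agent.Dev4
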