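import Groth.Agent.Lib.Dev4.RelAssNear
import Groth.Agent.Lib.Dev4.RelAssRegular

/-!
# Associated points of fibres in an open near the generic point
-/

set_option autoImplicit false
set_option maxSynthPendingDepth 3
set_option backward.isDefEq.respectTransparency.types false

universe u

open AlgebraicGeometry CategoryTheory Limits TopologicalSpace TensorProduct

namespace Groth.Agent.Dev4

set_option maxHeartbeats 1000000 in
/-- In a chart over an integral base. -/
theorem exists_open_relAss_subset_chart {X S : Scheme.{u}} [IsIntegral S] (f : X ⟶ S) [LocallyOfFiniteType f]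
    (F : X.Modules) [Coh.IsQCoh F] {V : S.Opens} (hV : IsAffineOpen V) [Nonempty V]
    {W : X.Opens} (hW : IsAffineOpen W) (hWV : W ≤ f ⁻¹ᵁ V) [Module.Finite Γ(X, W) Γ(F, W)] (U : X.Opens)
    (h : ∀ x ∈ W, x ∈ MoreMor.relAss f F → f x = genericPoint S → x ∈ U) :
    ∃ O : S.Opens, (∃ s, s ∈ O) ∧ ∀ x ∈ W, x ∈ MoreMor.relAss f F → f x ∈ O → x ∈ U := by
  letI : Algebra Γ(S, V) Γ(X, W) := (f.appLE V W hWV).hom.toAlgebra
  letI : Module Γ(S, V) Γ(F, W) := Module.compHom _ (algebraMap Γ(S, V) Γ(X, W))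
  haveI : IsScalarTower Γ(S, V) Γ(X, W) Γ(F, W) := IsScalarTower.of_algebraMap_smul fun _ _ => rfl
  haveI : Algebra.FiniteType Γ(S, V) Γ(X, W) := f.finiteType_appLE hV hW hWV
  haveI : IsDomain Γ(S, V) := IsIntegral.component_integral V
  obtain ⟨I, hI⟩ := (PrimeSpectrum.isClosed_iff_zeroLocus_ideal
    (hW.fromSpec ⁻¹' (U : Set X)ᶜ)).1 (U.2.isClosed_compl.preimage hW.fromSpec.continuous)
  have hIU : ∀ (x : X) (hx : x ∈ W), I ≤ (hW.primeIdealOf ⟨x, hx⟩).asIdeal ↔ x ∉ U := fun x hx => by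
    have := Set.ext_iff.1 hI (hW.primeIdealOf ⟨x, hx⟩)
    rw [Set.mem_preimage, hW.fromSpec_primeIdealOf, PrimeSpectrum.mem_zeroLocus] at this
    exact this.symm
  obtain ⟨r, hr, hreg⟩ := exists_regular_near (R := Γ(S, V)) (A := Γ(X, W)) Γ(F, W) I (fun q _ _ hass hIq => by
    let x := hW.fromSpec ⟨q, inferInstance⟩
    have hx : x ∈ W := hW.range_fromSpec.le ⟨_, rfl⟩
    have hq : (hW.primeIdealOf ⟨x, hx⟩).asIdeal = q := congrArg PrimeSpectrum.asIdeal
      (show hW.primeIdealOf ⟨x, hx⟩ = ⟨q, inferInstance⟩ from hW.fromSpec.isOpenEmbedding.injective (hW.fromSpec_primeIdealOf _))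
    have hp : hV.primeIdealOf ⟨f x, hWV hx⟩ = ⟨⊥, Ideal.isPrime_bot⟩ := by
      rw [← IsAffineOpen.comap_primeIdealOf_appLE V hV W hW hWV hx]
      refine PrimeSpectrum.ext ?_
      show Ideal.comap (algebraMap Γ(S, V) Γ(X, W)) (hW.primeIdealOf ⟨x, hx⟩).asIdeal = ⊥
      rw [hq]
      exact (Ideal.LiesOver.over (p := (⊥ : Ideal Γ(S, V))) (P := q)).symm
    have hgen : f x = genericPoint S := by
      refine (Specializes.antisymm ?_ (genericPoint_specializes (f x))).eq
      have h1 : f x = hV.fromSpec ⟨⊥, Ideal.isPrime_bot⟩ := by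
        rw [← hp, hV.fromSpec_primeIdealOf]
      obtain ⟨⟨v, hv⟩⟩ := ‹Nonempty V›
      have hg : genericPoint S ∈ V := (genericPoint_specializes v).mem_open V.2 hv
      rw [h1]
      refine Specializes.trans (Specializes.map ((PrimeSpectrum.le_iff_specializes _ _).1 ?_) hV.fromSpec.continuous)
        (specializes_of_eq (hV.fromSpec_primeIdealOf ⟨genericPoint S, hg⟩))
      exact bot_le
    refine (hIU x hx).1 (by rw [hq]; exact hIq) (h x hx ((mem_relAss_iff f F hW hV hWV hx).2 ?_) hgen)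
    exact (fiberAss_congr hp hq).2 hass)
  refine ⟨S.basicOpen r, ?_, fun x hx hxa hxr => ?_⟩
  · refine Set.nonempty_iff_ne_empty.2 fun h => ?_
    exact hr ((AlgebraicGeometry.basicOpen_eq_bot_iff _).1 (SetLike.coe_injective (by rw [h]; rfl)))
  · haveI : (hW.primeIdealOf ⟨x, hx⟩).asIdeal.LiesOver (hV.primeIdealOf ⟨f x, hWV hx⟩).asIdeal :=
      ⟨(congrArg PrimeSpectrum.asIdeal (IsAffineOpen.comap_primeIdealOf_appLE V hV W hW hWV hx)).symm⟩
    have hrp : r ∉ (hV.primeIdealOf ⟨f x, hWV hx⟩).asIdeal := by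
      intro hp
      have h1 : hV.primeIdealOf ⟨f x, hWV hx⟩ ∈ hV.fromSpec ⁻¹ᵁ S.basicOpen r := by
        show hV.fromSpec _ ∈ S.basicOpen r
        rw [hV.fromSpec_primeIdealOf]
        exact hxr
      rw [hV.fromSpec_preimage_basicOpen] at h1
      exact h1 hp
    by_contra hxU
    exact hreg _ hrp _ ((mem_relAss_iff f F hW hV hWV hx).1 hxa) ((hIU x hx).2 hxU)

set_option maxHeartbeats 1000000 in
/-- In a chart over an irreducible base. -/
theorem exists_open_relAss_subset {X Y : Scheme.{u}} (f : X ⟶ Y) [IrreducibleSpace Y] [LocallyOfFiniteType f]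
    (F : X.Modules) (hF : Coh.IsCoh F) {V : Y.Opens} (hV : IsAffineOpen V) (hηV : genericPoint Y ∈ V)
    {W : X.Opens} (hW : IsAffineOpen W) (hWV : W ≤ f ⁻¹ᵁ V) (U : X.Opens)
    (h : ∀ x ∈ MoreMor.relAss f F, f x = genericPoint Y → x ∈ U) :
    ∃ O : Y.Opens, genericPoint Y ∈ O ∧ ∀ x ∈ W, x ∈ MoreMor.relAss f F → f x ∈ O → x ∈ U := by
  haveI := hF.1
  let t := closureι (genericPoint Y)
  let p : pullback f t ⟶ X := pullback.fst f t
  let q := pullback.snd f t
  have hsq : IsPullback p q f t := IsPullback.of_hasPullback f t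
  haveI : LocallyOfFiniteType q := MorphismProperty.pullback_snd _ _ inferInstance
  haveI : IsClosedImmersion p := MorphismProperty.pullback_fst _ _ inferInstance
  have hw : ∀ a, f (p a) = t (q a) := fun a => by
    rw [← Scheme.Hom.comp_apply, ← Scheme.Hom.comp_apply, hsq.w]
  haveI hFq : Coh.IsQCoh ((Scheme.Modules.pullback p).obj F) := M1.isQCoh_pullback p hF.1
  haveI : Module.Finite Γ(pullback f t, p ⁻¹ᵁ W) Γ((Scheme.Modules.pullback p).obj F, p ⁻¹ᵁ W) :=
    M1.finite_sections hFq (M1.isFT_pullback p hF.2) (hW.preimage p)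
  haveI : Nonempty (t ⁻¹ᵁ V : (Scheme.IdealSheafData.vanishingIdeal (Closeds.closure ({genericPoint Y} : Set Y))).subscheme.Opens) :=
    ⟨⟨genericPoint _, by show t _ ∈ V; rw [closureι_genericPoint]; exact hηV⟩⟩
  have hWV' : p ⁻¹ᵁ W ≤ q ⁻¹ᵁ (t ⁻¹ᵁ V) := fun a ha => by
    show t (q a) ∈ V
    rw [← hw]
    exact hWV ha
  obtain ⟨O', hO', hsub⟩ := exists_open_relAss_subset_chart q ((Scheme.Modules.pullback p).obj F) (hV.preimage t)
    (hW.preimage p) hWV' (p ⁻¹ᵁ U) fun a _ ha hqa => h _ ((relAss_baseChange hsq F).1 a ha)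
      (by rw [hw, hqa, closureι_genericPoint])
  obtain ⟨O, hO, hO2⟩ := exists_open_of_closure O' hO'
  refine ⟨O, hO, fun x hx hxa hxO => ?_⟩
  obtain ⟨s, hs⟩ : f x ∈ Set.range t := by
    rw [range_closureι]; exact (genericPoint_specializes (f x)).mem_closure
  obtain ⟨x', hx', hqx', hass⟩ := (relAss_baseChange hsq F).2 x hxa s hs.symm
  have := hsub x' (by show p x' ∈ W; rw [hx']; exact hx) hass (hO2 _ (by rw [hqx', hs]; exact hxO))
  rw [← hx']
  exact this

end Groth.Agent.Dev4
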