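import Groth.Prelude.Def_CurvBase
import Groth.Prelude.Def_MoreMor
import Groth.Agent.Lib.FibFlat5.Quot
import Groth.Agent.Lib.TensorMod.PullStalk
import Groth.Agent.Lib.CI2.FibAss
import Mathlib

/-!
# The relative assassin as associated points of the fibres
-/

set_option autoImplicit false
set_option maxSynthPendingDepth 3
set_option backward.isDefEq.respectTransparency.types false

universe u

open TensorProduct AlgebraicGeometry CategoryTheory Limits IsLocalRing

namespace Groth.Agent.Dev4

/-- Associated maximal ideal of a base change along a surjection. -/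
theorem maximal_mem_ass_baseChange_iff {B C M P : Type u} [CommRing B] [CommRing C] [IsLocalRing B] [IsLocalRing C]
    [Algebra B C] (hs : Function.Surjective (algebraMap B C)) [AddCommGroup M] [Module B M] [AddCommGroup P]
    [Module B P] [Module C P] [IsScalarTower B C P] {l : M →ₗ[B] P} (hl : IsBaseChange C l) :
    IsAssociatedPrime (maximalIdeal C) P ↔
      IsAssociatedPrime (maximalIdeal B) (M ⧸ RingHom.ker (algebraMap B C) • (⊤ : Submodule B M)) := by
  let θ : (B ⧸ RingHom.ker (algebraMap B C)) ≃ₗ[B] C :=
    (Ideal.quotientKerAlgEquivOfSurjective (f := Algebra.ofId B C) hs).toLinearEquiv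
  let e : P ≃ₗ[B] M ⧸ RingHom.ker (algebraMap B C) • (⊤ : Submodule B M) :=
    (hl.equiv.symm.restrictScalars B).trans ((TensorProduct.congr θ.symm (LinearEquiv.refl B M)).trans
      (TensorProduct.quotTensorEquivQuotSMul M (RingHom.ker (algebraMap B C))))
  haveI := IsLocalRing.of_surjective' (algebraMap B C) hs
  have hm : ∀ b : B, algebraMap B C b ∈ maximalIdeal C ↔ b ∈ maximalIdeal B := fun b => by
    haveI : IsLocalHom (algebraMap B C) := IsLocalHom.of_surjective _ hs
    simp only [mem_maximalIdeal, mem_nonunits_iff, isUnit_map_iff]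
  have key : ∀ (m : P) (b : B) (n : ℕ), (algebraMap B C b) ^ n • m = 0 ↔ b ^ n • e m = 0 := fun m b n => by
    rw [← map_smul, map_eq_zero_iff e e.injective, ← map_pow, algebraMap_smul]
  constructor
  · rintro ⟨hp, m, hm'⟩
    refine ⟨inferInstance, e m, ?_⟩
    ext b
    rw [← hm b, hm']
    simp only [Ideal.mem_radical_iff, Submodule.mem_colon_singleton, Submodule.mem_bot]
    exact exists_congr fun n => key m b n
  · rintro ⟨hp, t, ht⟩
    obtain ⟨m, rfl⟩ := e.surjective t
    refine ⟨inferInstance, m, ?_⟩
    ext c
    obtain ⟨b, rfl⟩ := hs c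
    rw [hm b, ht]
    simp only [Ideal.mem_radical_iff, Submodule.mem_colon_singleton, Submodule.mem_bot]
    exact exists_congr fun n => (key m b n).symm

/-- Associated points of a fibre are the points of the relative assassin. -/
theorem isAssPoint_fibre_iff {X S : Scheme.{u}} (f : X ⟶ S) (F : X.Modules) {s : S} (z : f.fiber s) :
    Curv2.IsAssPoint ((Scheme.Modules.pullback (f.fiberι s)).obj F) z ↔ f.fiberι s z ∈ MoreMor.relAss f F := by
  letI := ((f.fiberι s).stalkMap z).hom.toAlgebra
  letI : Module (X.presheaf.stalk (f.fiberι s z)) (((Scheme.Modules.pullback (f.fiberι s)).obj F).presheaf.stalk z : Type u) :=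
    Module.compHom _ ((f.fiberι s).stalkMap z).hom
  haveI : IsScalarTower (X.presheaf.stalk (f.fiberι s z)) ((f.fiber s).presheaf.stalk z)
      (((Scheme.Modules.pullback (f.fiberι s)).obj F).presheaf.stalk z : Type u) :=
    IsScalarTower.of_algebraMap_smul fun _ _ => rfl
  rw [Curv2.IsAssPoint, maximal_mem_ass_baseChange_iff ((f.fiberι s).stalkMap_surjective z)
    (M2.isBaseChange_stalkUnit (f.fiberι s) z F)]
  rw [show algebraMap (X.presheaf.stalk (f.fiberι s z)) ((f.fiber s).presheaf.stalk z) = ((f.fiberι s).stalkMap z).hom from rfl,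
    FibFlat5.ker_stalkMap_fiberι f z]
  rfl

end Groth.Agent.Dev4
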