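import Groth.Agent.Lib.SmoothSection.Scheme
import Mathlib.RingTheory.Etale.Pi
import Mathlib.RingTheory.Flat.FaithfullyFlat.Algebra
import Mathlib.AlgebraicGeometry.Morphisms.Etale

/-!
# Faithfully flat etale covers with sections for smooth algebras
-/

set_option autoImplicit false

universe u

open CategoryTheory AlgebraicGeometry TensorProduct

namespace Groth.Agent.Dev4

/-- An affine etale neighbourhood of a prime with a section. -/
theorem exists_etale_algebra_section {R S : Type u} [CommRing R] [CommRing S] [Algebra R S] [Algebra.Smooth R S]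
    (P : PrimeSpectrum S) :
    ∃ (A : Type u) (_ : CommRing A) (_ : Algebra R A) (_ : Algebra.Etale R A) (_ : S →ₐ[R] A) (Q : PrimeSpectrum A),
      PrimeSpectrum.comap (algebraMap R A) Q = PrimeSpectrum.comap (algebraMap R S) P := by
  let f : Spec (CommRingCat.of S) ⟶ Spec (CommRingCat.of R) := Spec.map (CommRingCat.ofHom (algebraMap R S))
  haveI : Smooth f := (HasRingHomProperty.Spec_iff (P := @Smooth)).2 (RingHom.smooth_algebraMap.2 inferInstance)
  obtain ⟨S', g, s', hg, hs', h, hh⟩ := SmoothSection.exists_etale_section f P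
  obtain ⟨U, hU, hs'U, -⟩ := exists_isAffineOpen_mem_and_subset (x := s') (U := ⊤) trivial
  let ψ : CommRingCat.of R ⟶ Γ(S', U) := Spec.preimage (hU.fromSpec ≫ g)
  let χ : CommRingCat.of S ⟶ Γ(S', U) := Spec.preimage (hU.fromSpec ≫ h)
  have hψ : Spec.map ψ = hU.fromSpec ≫ g := Spec.map_preimage _
  have hχ : Spec.map χ = hU.fromSpec ≫ h := Spec.map_preimage _
  have hc : CommRingCat.ofHom (algebraMap R S) ≫ χ = ψ := Spec.map_injective (by
    rw [Spec.map_comp, hχ, hψ, Category.assoc]
    exact congrArg (hU.fromSpec ≫ ·) hh)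
  letI : Algebra R Γ(S', U) := ψ.hom.toAlgebra
  have het : Etale (Spec.map ψ) := by rw [hψ]; infer_instance
  haveI : Algebra.Etale R Γ(S', U) := RingHom.etale_algebraMap.1
    ((HasRingHomProperty.Spec_iff (P := @Etale)).1 het)
  obtain ⟨Q, hQ⟩ : ∃ Q, hU.fromSpec Q = s' := by
    have : s' ∈ Set.range hU.fromSpec := by rw [hU.range_fromSpec]; exact hs'U
    exact this
  refine ⟨Γ(S', U), inferInstance, inferInstance, inferInstance,
    ⟨χ.hom, fun r => by exact congrArg (fun e : CommRingCat.of R ⟶ Γ(S', U) => e.hom r) hc⟩, Q, ?_⟩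
  show Spec.map ψ Q = f P
  rw [hψ, Scheme.Hom.comp_apply, hQ]
  exact hs'

/-- A faithfully flat etale algebra over which a smooth surjective algebra has a section. -/
theorem exists_etale_faithfullyFlat_section {R S : Type u} [CommRing R] [CommRing S] [Algebra R S]
    [Algebra.Smooth R S] (hsurj : Function.Surjective (PrimeSpectrum.comap (algebraMap R S))) :
    ∃ (A : Type u) (_ : CommRing A) (_ : Algebra R A),
      Algebra.Etale R A ∧ Module.FaithfullyFlat R A ∧ Nonempty (S →ₐ[R] A) := by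
  classical
  have h0 : ∀ p : PrimeSpectrum R, ∃ (A : Type u) (_ : CommRing A) (_ : Algebra R A) (_ : Algebra.Etale R A)
      (_ : S →ₐ[R] A), p ∈ Set.range (PrimeSpectrum.comap (algebraMap R A)) := fun p => by
    obtain ⟨P, rfl⟩ := hsurj p
    obtain ⟨A, i₁, i₂, i₃, χ, Q, hQ⟩ := exists_etale_algebra_section (R := R) P
    exact ⟨A, i₁, i₂, i₃, χ, Q, hQ⟩
  choose A iA iAlg iEt χ hmem using h0
  have hopen : ∀ p : PrimeSpectrum R, IsOpen (Set.range (PrimeSpectrum.comap (algebraMap R (A p)))) := fun p =>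
    PrimeSpectrum.isOpenMap_comap_of_hasGoingDown_of_finitePresentation.isOpen_range
  obtain ⟨t, ht⟩ := isCompact_univ.elim_finite_subcover _ hopen fun p _ => Set.mem_iUnion.2 ⟨p, hmem p⟩
  let B : t → Type u := fun p => A p.1
  refine ⟨∀ p : t, B p, inferInstance, inferInstance, inferInstance, ?_, ⟨Pi.algHom R B fun p => χ p.1⟩⟩
  refine Module.FaithfullyFlat.of_comap_surjective fun p => ?_
  obtain ⟨q, hq, Q, hQ⟩ := Set.mem_iUnion₂.1 (ht (Set.mem_univ p))
  refine ⟨PrimeSpectrum.comap (Pi.evalRingHom B ⟨q, hq⟩) Q, ?_⟩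
  rw [← hQ]
  apply PrimeSpectrum.ext
  rfl

end Groth.Agent.Dev4
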