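import Mathlib

/-!
# Smooth effective Cartier divisors through a point
-/

set_option autoImplicit false
set_option maxSynthPendingDepth 3

universe u

open TensorProduct KaehlerDifferential Polynomial IsLocalRing

set_option backward.isDefEq.respectTransparency.types false

namespace Groth.Agent.Dev4

/-- A function whose differential splits off makes a formally smooth algebra formally smooth over the affine line. -/
theorem formallySmooth_polynomial_of_functional {R O L : Type u} [CommRing R] [CommRing O] [CommRing L] [Algebra R O]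
    [Algebra O L] [Algebra R L] [IsScalarTower R O L] [Algebra.FormallySmooth R L] [Algebra R[X] L] [IsScalarTower R R[X] L]
    (φ : Ω[L⁄O] →ₗ[L] L) (hφ : φ (D O L (algebraMap R[X] L X)) = 1) : Algebra.FormallySmooth R[X] L := by
  rw [Algebra.FormallySmooth.iff_comp_surjective]
  intro E _ _ J hJ g
  letI : Algebra R E := ((algebraMap R[X] E).comp (algebraMap R R[X])).toAlgebra
  haveI : IsScalarTower R R[X] E := IsScalarTower.of_algebraMap_eq fun _ => rfl
  obtain ⟨v, hv⟩ := Algebra.FormallySmooth.comp_surjective R L J hJ (g.restrictScalars R)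
  have hv' : ∀ z, Ideal.Quotient.mk J (v z) = g z := fun z => AlgHom.congr_fun hv z
  have hJ2 : ∀ a ∈ J, ∀ b ∈ J, a * b = 0 := fun a ha b hb => by
    have h1 : a * b ∈ J ^ 2 := by rw [pow_two]; exact Ideal.mul_mem_mul ha hb
    rwa [hJ] at h1
  set h := algebraMap R[X] L X
  set δ := algebraMap R[X] E X - v h
  have hδ : δ ∈ J := by
    rw [← Ideal.Quotient.eq_zero_iff_mem, map_sub, hv', AlgHom.commutes, sub_eq_zero]
    rfl
  let w : L →ₐ[R] E :=
    { toFun := fun z => v z + v (φ (D O L z)) * δ
      map_one' := by simp
      map_mul' := fun a b => by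
        have h2 := hJ2 _ hδ _ hδ
        rw [map_mul, Derivation.leibniz, map_add, map_smul, map_smul, smul_eq_mul, smul_eq_mul, map_add, map_mul, map_mul]
        linear_combination (-(v (φ (D O L a)) * v (φ (D O L b)))) * h2
      map_zero' := by simp
      map_add' := fun a b => by simp only [map_add]; ring
      commutes' := fun r => by
        show v (algebraMap R L r) + v (φ (D O L (algebraMap R L r))) * δ = _
        rw [IsScalarTower.algebraMap_apply R O L r, Derivation.map_algebraMap, map_zero, map_zero, zero_mul, add_zero,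
          ← IsScalarTower.algebraMap_apply, AlgHom.commutes] }
  have hwX : w h = algebraMap R[X] E X := by
    show v h + v (φ (D O L h)) * δ = _
    rw [hφ, map_one, one_mul, add_sub_cancel]
  refine ⟨{ w with commutes' := fun P => ?_ }, AlgHom.ext fun z => ?_⟩
  · have : w.comp (IsScalarTower.toAlgHom R R[X] L) = IsScalarTower.toAlgHom R R[X] E :=
      Polynomial.algHom_ext hwX
    exact AlgHom.congr_fun this P
  · show Ideal.Quotient.mk J (v z + v (φ (D O L z)) * δ) = g z
    rw [map_add, map_mul, Ideal.Quotient.eq_zero_iff_mem.2 hδ, mul_zero, add_zero, hv']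

/-- A formally smooth algebra over the affine line restricts to a formally smooth divisor. -/
theorem formallySmooth_quotient_of_polynomial {R B : Type u} [CommRing R] [CommRing B] [Algebra R B] [Algebra R[X] B]
    [IsScalarTower R R[X] B] [Algebra.FormallySmooth R[X] B] :
    Algebra.FormallySmooth R (B ⧸ Ideal.span {algebraMap R[X] B X}) := by
  rw [Algebra.FormallySmooth.iff_comp_surjective]
  intro E _ _ J hJ g
  letI : Algebra R[X] E := (Polynomial.aeval (0 : E) : R[X] →ₐ[R] E).toRingHom.toAlgebra
  haveI : IsScalarTower R R[X] E := IsScalarTower.of_algebraMap_eq fun r => ((Polynomial.aeval (0 : E)).commutes r).symm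
  let h := algebraMap R[X] B X
  let g₀ : B →ₐ[R] E ⧸ J := g.comp (Ideal.Quotient.mkₐ R _)
  have hEX : algebraMap R[X] E X = 0 := Polynomial.aeval_X _
  have h0 : g₀.comp (IsScalarTower.toAlgHom R R[X] B) = IsScalarTower.toAlgHom R R[X] (E ⧸ J) := by
    refine Polynomial.algHom_ext ?_
    show g (Ideal.Quotient.mk _ h) = Ideal.Quotient.mk J (algebraMap R[X] E X)
    rw [hEX, map_zero, Ideal.Quotient.eq_zero_iff_mem.2 (Ideal.mem_span_singleton_self h), map_zero]
  obtain ⟨v, hv⟩ := Algebra.FormallySmooth.comp_surjective R[X] B J hJ { g₀ with commutes' := fun P => AlgHom.congr_fun h0 P }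
  have hvh : ∀ a ∈ Ideal.span {h}, (v.restrictScalars R) a = 0 := fun a ha => by
    obtain ⟨c, rfl⟩ := Ideal.mem_span_singleton'.1 ha
    show v (c * h) = 0
    rw [map_mul, AlgHom.commutes, hEX, mul_zero]
  refine ⟨Ideal.Quotient.liftₐ _ (v.restrictScalars R) hvh, AlgHom.ext fun z => ?_⟩
  obtain ⟨z, rfl⟩ := Ideal.Quotient.mk_surjective z
  exact (AlgHom.congr_fun hv z :)

theorem mul_eq_zero_imp_of_flat_polynomial {R B : Type u} [CommRing R] [CommRing B] [Algebra R[X] B] [Module.Flat R[X] B] :
    algebraMap R[X] B X ∈ nonZeroDivisors B := by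
  have hinj : Function.Injective (LinearMap.mulLeft R[X] (X : R[X])) := fun a b hab =>
    (Polynomial.monic_X (R := R)).isRegular.left hab
  have h1 := Module.Flat.lTensor_preserves_injective_linearMap (M := B) (LinearMap.mulLeft R[X] (X : R[X])) hinj
  refine mem_nonZeroDivisors_iff_right.2 fun b hb => ?_
  have h2 : LinearMap.lTensor B (LinearMap.mulLeft R[X] (X : R[X])) (b ⊗ₜ 1) = 0 := by
    rw [LinearMap.lTensor_tmul, LinearMap.mulLeft_apply, mul_one, ← mul_one (X : R[X]), ← smul_eq_mul, ← TensorProduct.smul_tmul,
      Algebra.smul_def, mul_comm, hb, TensorProduct.zero_tmul]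
  have h3 := congrArg (TensorProduct.rid R[X] B) ((injective_iff_map_eq_zero _).1 h1 _ h2)
  simpa using h3

/-- Near a point where the differential of `h` is part of a basis, `h = 0` is a smooth effective Cartier divisor. -/
theorem exists_smooth_divisor {R B : Type u} [CommRing R] [CommRing B] [Algebra R B] [Algebra.Smooth R B]
    (q : Ideal B) [q.IsPrime] (O L : Type u) [CommRing O] [CommRing L] [Algebra R O] [Algebra O L] [Algebra R L]
    [IsScalarTower R O L] [Algebra B L] [IsScalarTower R B L] [IsLocalization.AtPrime L q] [IsLocalRing L]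
    (h : B) (φ : Ω[L⁄O] →ₗ[L] L) (hφ : IsUnit (φ (D O L (algebraMap B L h)))) :
    ∃ g : B, g ∉ q ∧ ∀ (B' : Type u) [CommRing B'] [Algebra B B'] [Algebra R B'] [IsScalarTower R B B']
      [IsLocalization.Away g B'], algebraMap B B' h ∈ nonZeroDivisors B' ∧
        Algebra.Smooth R (B' ⧸ Ideal.span {algebraMap B B' h}) := by
  letI : Algebra R[X] B := (Polynomial.aeval h).toRingHom.toAlgebra
  haveI : IsScalarTower R R[X] B := IsScalarTower.of_algebraMap_eq fun r => ((Polynomial.aeval h).commutes r).symm
  haveI : Algebra.FinitePresentation R[X] B := Algebra.FinitePresentation.of_restrict_scalars_finitePresentation R R[X] B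
  have hX : algebraMap R[X] B X = h := Polynomial.aeval_X h
  haveI hLq : Algebra.FormallySmooth R (Localization.AtPrime q) :=
    haveI : Algebra.FormallySmooth B (Localization.AtPrime q) := Algebra.FormallySmooth.of_isLocalization q.primeCompl
    Algebra.FormallySmooth.comp R B (Localization.AtPrime q)
  haveI : Algebra.FormallySmooth R L :=
    haveI : Algebra.FormallySmooth B L := Algebra.FormallySmooth.of_isLocalization q.primeCompl
    Algebra.FormallySmooth.comp R B L
  letI : Algebra R[X] L := ((algebraMap B L).comp (algebraMap R[X] B)).toAlgebra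
  haveI : IsScalarTower R[X] B L := IsScalarTower.of_algebraMap_eq fun _ => rfl
  haveI : IsScalarTower R R[X] L := IsScalarTower.of_algebraMap_eq fun r => by
    rw [IsScalarTower.algebraMap_apply R B L, IsScalarTower.algebraMap_apply R R[X] B]
    rfl
  obtain ⟨c, hc⟩ := hφ.exists_left_inv
  haveI : Algebra.FormallySmooth R[X] L := formallySmooth_polynomial_of_functional (O := O) (c • φ) (by
    rw [IsScalarTower.algebraMap_apply R[X] B L, hX, LinearMap.smul_apply, smul_eq_mul, hc])
  haveI : Algebra.IsSmoothAt R[X] q :=
    Algebra.FormallySmooth.of_equiv ((IsLocalization.algEquiv q.primeCompl L (Localization.AtPrime q)).restrictScalars R[X])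
  obtain ⟨g, hg, hgs⟩ := Algebra.IsSmoothAt.exists_notMem_smooth R[X] q
  refine ⟨g, hg, fun B' _ _ _ _ _ => ?_⟩
  letI : Algebra R[X] B' := ((algebraMap B B').comp (algebraMap R[X] B)).toAlgebra
  haveI : IsScalarTower R[X] B B' := IsScalarTower.of_algebraMap_eq fun _ => rfl
  haveI : IsScalarTower R R[X] B' := IsScalarTower.of_algebraMap_eq fun r => by
    rw [IsScalarTower.algebraMap_apply R B B', IsScalarTower.algebraMap_apply R R[X] B]
    rfl
  haveI : Algebra.Smooth R[X] B' :=
    Algebra.Smooth.of_equiv ((IsLocalization.algEquiv (Submonoid.powers g) (Localization.Away g) B').restrictScalars R[X])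
  haveI : Algebra.FinitePresentation R B' :=
    haveI := IsLocalization.Away.finitePresentation (S := B') g
    Algebra.FinitePresentation.trans R B B'
  have hX' : algebraMap R[X] B' X = algebraMap B B' h := by
    rw [IsScalarTower.algebraMap_apply R[X] B B', hX]
  rw [← hX']
  exact ⟨mul_eq_zero_imp_of_flat_polynomial, formallySmooth_quotient_of_polynomial,
    Algebra.FinitePresentation.quotient (Submodule.fg_span_singleton _)⟩

/-- An element with nonzero differential at the residue field has a functional with unit value. -/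
theorem exists_functional {L M : Type u} [CommRing L] [IsLocalRing L] [AddCommGroup M] [Module L M] [Module.Projective L M]
    (w : M) (hw : (1 : ResidueField L) ⊗ₜ[L] w ≠ 0) : ∃ φ : M →ₗ[L] L, IsUnit (φ w) := by
  obtain ⟨σ, hσ⟩ := Module.projective_def.1 ‹Module.Projective L M›
  by_contra! hall
  refine hw ?_
  rw [← hσ w, Finsupp.linearCombination_apply, Finsupp.sum, TensorProduct.tmul_sum]
  refine Finset.sum_eq_zero fun b _ => ?_
  rw [TensorProduct.tmul_smul, ← algebraMap_smul (ResidueField L), IsLocalRing.ResidueField.algebraMap_eq,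
    (residue_eq_zero_iff _).2 (show σ w b ∈ maximalIdeal L from hall ((Finsupp.lapply b).comp σ)), zero_smul]

/-- Through a point with separable residue field which is not generic in its fibre passes a function with nonzero differential. -/
theorem exists_differential_ne_zero {O L : Type u} [CommRing O] [IsLocalRing O] [CommRing L] [IsLocalRing L] [Algebra O L]
    [IsLocalHom (algebraMap O L)] [Algebra.EssFiniteType O L]
    (hsep : letI := (IsLocalRing.ResidueField.map (algebraMap O L)).toAlgebra
      Algebra.FormallySmooth (ResidueField O) (ResidueField L))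
    (hgen : ¬ maximalIdeal L ≤ (maximalIdeal O).map (algebraMap O L)) :
    ∃ h ∈ maximalIdeal L, (1 : ResidueField L) ⊗ₜ[L] D O L h ≠ 0 := by
  letI aκ : Algebra (ResidueField O) (ResidueField L) := (IsLocalRing.ResidueField.map (algebraMap O L)).toAlgebra
  haveI := hsep
  set m := maximalIdeal L
  set mO := (maximalIdeal O).map (algebraMap O L)
  by_contra! hall
  let K := mO ⊔ m * m
  have hmOm : mO ≤ m := Ideal.map_le_iff_le_comap.2 fun a ha hu => ha ((isUnit_map_iff _ _).1 hu)
  have hmK : m ≤ K := by
    let E := L ⧸ K
    let J : Ideal E := m.map (Ideal.Quotient.mk K)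
    have hJ : J ^ 2 = ⊥ := by
      rw [pow_two, ← Ideal.map_mul, Ideal.map_eq_bot_iff_le_ker, Ideal.mk_ker]
      exact le_sup_right
    letI aE : Algebra (ResidueField O) E := (Ideal.Quotient.lift (maximalIdeal O)
      ((Ideal.Quotient.mk K).comp (algebraMap O L)) fun a ha =>
        Ideal.Quotient.eq_zero_iff_mem.2 (Ideal.mem_sup_left (Ideal.mem_map_of_mem _ ha))).toAlgebra
    let π : L →+* E ⧸ J := (Ideal.Quotient.mk J).comp (Ideal.Quotient.mk K)
    let π' : ResidueField L →+* E ⧸ J := Ideal.Quotient.lift m π fun a ha =>
      Ideal.Quotient.eq_zero_iff_mem.2 (Ideal.mem_map_of_mem _ ha)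
    have hπ' : ∀ a, π' (residue L a) = π a := fun a => rfl
    have hcomm : ∀ r, π' (algebraMap (ResidueField O) (ResidueField L) r) = algebraMap (ResidueField O) (E ⧸ J) r := fun r => by
      obtain ⟨r, rfl⟩ := IsLocalRing.residue_surjective r
      rfl
    let g : ResidueField L →ₐ[ResidueField O] E ⧸ J := { π' with commutes' := hcomm }
    obtain ⟨σ, hσ⟩ := Algebra.FormallySmooth.comp_surjective (ResidueField O) (ResidueField L) J hJ g
    have hd : ∀ a, Ideal.Quotient.mk K a - σ (residue L a) ∈ J := fun a => by
      rw [← Ideal.Quotient.eq_zero_iff_mem, map_sub, sub_eq_zero]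
      exact ((AlgHom.congr_fun hσ _).trans (hπ' a)).symm
    have hJ2 : ∀ a ∈ J, ∀ b ∈ J, a * b = 0 := fun a ha b hb => by
      have h1 : a * b ∈ J ^ 2 := by rw [pow_two]; exact Ideal.mul_mem_mul ha hb
      rwa [hJ] at h1
    let q : L →ₐ[O] E := Ideal.Quotient.mkₐ O K
    let d : Derivation O L E :=
      { toLinearMap :=
          { toFun := fun a => q a - σ (residue L a)
            map_add' := fun a b => by rw [map_add, map_add, map_add]; ring
            map_smul' := fun r a => by
              have h1 : σ (residue L (r • a)) = algebraMap O E r * σ (residue L a) := by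
                rw [Algebra.smul_def, map_mul, map_mul]
                congr 1
                exact σ.commutes (residue O r)
              rw [RingHom.id_apply, map_smul, h1, Algebra.smul_def, Algebra.smul_def, mul_sub] }
        map_one_eq_zero' := by
          show q 1 - σ (residue L 1) = 0
          rw [map_one, map_one, map_one, sub_self]
        leibniz' := fun a b => by
          show q (a * b) - σ (residue L (a * b)) = q a * (q b - σ (residue L b)) + q b * (q a - σ (residue L a))
          have h2 : (q b - σ (residue L b)) * (q a - σ (residue L a)) = 0 := hJ2 _ (hd b) _ (hd a)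
          rw [map_mul, map_mul, map_mul]
          linear_combination (-1 : E) * h2 }
    have hdl : ∀ w, d.liftKaehlerDifferential w ∈ J := by
      intro w
      have hw : w ∈ Submodule.span L (Set.range (D O L)) := by rw [span_range_derivation]; trivial
      induction hw using Submodule.span_induction with
      | mem _ hy =>
        obtain ⟨a, rfl⟩ := hy
        rw [Derivation.liftKaehlerDifferential_comp_D]
        exact hd a
      | zero => rw [map_zero]; exact J.zero_mem
      | add a b _ _ ha hb => rw [map_add]; exact J.add_mem ha hb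
      | smul a b _ hb => rw [map_smul]; exact J.mul_mem_left (q a) hb
    intro h hh
    have h0 : D O L h ∈ m • (⊤ : Submodule L Ω[L⁄O]) := by
      have h1 := congrArg (TensorProduct.quotTensorEquivQuotSMul Ω[L⁄O] m) (show (Ideal.Quotient.mk m 1) ⊗ₜ[L] D O L h = 0 from hall h hh)
      rw [map_zero, TensorProduct.quotTensorEquivQuotSMul_mk_tmul, one_smul, Submodule.Quotient.mk_eq_zero] at h1
      exact h1
    have h2 : d.liftKaehlerDifferential (D O L h) = 0 := by
      refine Submodule.smul_induction_on h0 (fun a ha w _ => ?_) (fun a b ha hb => by rw [map_add, ha, hb, add_zero])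
      rw [map_smul]
      exact hJ2 _ (Ideal.mem_map_of_mem _ ha) _ (hdl w)
    rw [Derivation.liftKaehlerDifferential_comp_D] at h2
    have h3 : q h - σ (residue L h) = 0 := h2
    rw [(residue_eq_zero_iff h).2 hh, map_zero, sub_zero] at h3
    exact Ideal.Quotient.eq_zero_iff_mem.1 h3
  let F := L ⧸ mO
  haveI : Nontrivial F := Ideal.Quotient.nontrivial_iff.2 fun e => (maximalIdeal.isMaximal L).ne_top (top_le_iff.1 (e ▸ hmOm))
  haveI : IsLocalRing F := IsLocalRing.of_surjective' (Ideal.Quotient.mk mO) Ideal.Quotient.mk_surjective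
  letI : Algebra (ResidueField O) F := (Ideal.Quotient.lift (maximalIdeal O)
    ((Ideal.Quotient.mk mO).comp (algebraMap O L)) fun a ha =>
      Ideal.Quotient.eq_zero_iff_mem.2 (Ideal.mem_map_of_mem _ ha)).toAlgebra
  haveI : IsScalarTower O (ResidueField O) F := IsScalarTower.of_algebraMap_eq fun _ => rfl
  haveI : Algebra.EssFiniteType L F := inferInstance
  haveI : Algebra.EssFiniteType O F := Algebra.EssFiniteType.comp O L F
  haveI : Algebra.EssFiniteType (ResidueField O) F := Algebra.EssFiniteType.of_comp O (ResidueField O) F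
  haveI : IsNoetherianRing F := Algebra.EssFiniteType.isNoetherianRing (ResidueField O) F
  have hle : m.map (Ideal.Quotient.mk mO) ≤ (m.map (Ideal.Quotient.mk mO)) • (m.map (Ideal.Quotient.mk mO)) := by
    refine (Ideal.map_mono hmK).trans ?_
    rw [Ideal.map_sup, smul_eq_mul, Ideal.map_mul, Ideal.map_quotient_self, bot_sup_eq]
  have hbot : m.map (Ideal.Quotient.mk mO) = ⊥ :=
    Submodule.eq_bot_of_le_smul_of_le_jacobson_bot _ _ (IsNoetherian.noetherian _) hle (by
      refine le_trans (IsLocalRing.le_maximalIdeal fun e => ?_) (IsLocalRing.maximalIdeal_le_jacobson _)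
      have := congrArg (Ideal.comap (Ideal.Quotient.mk mO)) e
      rw [Ideal.comap_map_of_surjective _ Ideal.Quotient.mk_surjective, Ideal.comap_top,
        ← RingHom.ker_eq_comap_bot, Ideal.mk_ker, sup_eq_left.mpr hmOm] at this
      exact (maximalIdeal.isMaximal L).ne_top this)
  rw [Ideal.map_eq_bot_iff_le_ker, Ideal.mk_ker] at hbot
  exact hgen hbot

end Groth.Agent.Dev4
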