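import Groth.Agent.Lib.RG4.LocFlat
import Groth.Agent.Lib.RG4.Basis
import Groth.Agent.Lib.RG4.Domain
import Groth.Agent.Lib.FlatFibInj.Main
import Groth.Agent.Lib.Dev4.BaseChange
import Mathlib.RingTheory.Flat.Equalizer
import Mathlib.RingTheory.Nakayama
import Mathlib.RingTheory.Smooth.Flat
import Mathlib.RingTheory.Spectrum.Prime.RingHom

/-!
# One step of a devissage near a point of the base
-/

set_option autoImplicit false
set_option maxSynthPendingDepth 3

universe u

open TensorProduct IsLocalRing

set_option backward.isDefEq.respectTransparency.types false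

namespace Groth.Agent.Dev4

theorem isLocalizedModule_sup {B M : Type u} [CommRing B] [AddCommGroup M] [Module B M] {b c : B} (hbc : b ∣ c) :
    IsLocalizedModule (Submonoid.powers b ⊔ Submonoid.powers c) (LocalizedModule.mkLinearMap (Submonoid.powers c) M) where
  map_units x := by
    obtain ⟨y, ⟨i, rfl⟩, z, ⟨j, rfl⟩, hyz⟩ := Submonoid.mem_sup.1 x.2
    have hc : IsUnit (algebraMap B (Module.End B (LocalizedModule (Submonoid.powers c) M)) c) :=
      IsLocalizedModule.map_units (LocalizedModule.mkLinearMap (Submonoid.powers c) M) ⟨c, Submonoid.mem_powers c⟩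
    obtain ⟨k, rfl⟩ := hbc
    have hc' := hc
    rw [map_mul, (Commute.map (Commute.all b k) _).isUnit_mul_iff] at hc'
    rw [← hyz]
    show IsUnit (algebraMap B (Module.End B (LocalizedModule (Submonoid.powers (b * k)) M)) (b ^ i * (b * k) ^ j))
    rw [map_mul, map_pow, map_pow]
    exact IsUnit.mul (IsUnit.pow i hc'.1) (IsUnit.pow j hc)
  surj y := by
    obtain ⟨⟨m, s⟩, e⟩ := IsLocalizedModule.surj (Submonoid.powers c) (LocalizedModule.mkLinearMap (Submonoid.powers c) M) y
    exact ⟨⟨m, ⟨s.1, Submonoid.mem_sup_right s.2⟩⟩, e⟩
  exists_of_eq h := by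
    obtain ⟨s, e⟩ := IsLocalizedModule.exists_of_eq (S := Submonoid.powers c) h
    exact ⟨⟨s.1, Submonoid.mem_sup_right s.2⟩, e⟩

/-- Flatness of a localisation passes to finer localisations. -/
theorem flat_localized_of_dvd {R B M : Type u} [CommRing R] [CommRing B] [Algebra R B] [AddCommGroup M] [Module B M]
    [Module R M] [IsScalarTower R B M] {b c : B} (hbc : b ∣ c)
    (h : Module.Flat R (LocalizedModule (Submonoid.powers b) M)) :
    Module.Flat R (LocalizedModule (Submonoid.powers c) M) := by
  haveI := h
  haveI := isLocalizedModule_sup (M := M) hbc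
  exact RG4.flat_of_isLocalizedModule (Submonoid.powers b ⊔ Submonoid.powers c)
    (IsLocalizedModule.liftOfLE (Submonoid.powers b) (Submonoid.powers b ⊔ Submonoid.powers c) le_sup_left
      (LocalizedModule.mkLinearMap (Submonoid.powers b) M) (LocalizedModule.mkLinearMap (Submonoid.powers c) M))

/-- A map from a free module which is bijective on a prime of the form `pB` has a left inverse up to a scalar. -/
theorem exists_retraction {R B M : Type u} [CommRing R] [CommRing B] [Algebra R B] [AddCommGroup M] [Module B M]
    [Module R M] [IsScalarTower R B M] [Module.FinitePresentation B M] (p : Ideal R)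
    [(p.map (algebraMap R B)).IsPrime] [Module.Flat R (LocalizedModule (p.map (algebraMap R B)).primeCompl M)]
    {r : ℕ} (α : (Fin r → B) →ₗ[B] M)
    (hα : Function.Bijective (α.baseChange (p.map (algebraMap R B)).ResidueField)) :
    ∃ (g : B) (β : M →ₗ[B] (Fin r → B)), g ∉ p.map (algebraMap R B) ∧ ∀ x, β (α x) = g • x := by
  classical
  set P := p.map (algebraMap R B)
  haveI : Subsingleton (P.ResidueField ⊗[B] (M ⧸ LinearMap.range α)) :=
    RG4.subsingleton_baseChange_coker P.ResidueField α hα.2
  have hPsupp : (⟨P, ‹_›⟩ : PrimeSpectrum B) ∉ Module.support B (M ⧸ LinearMap.range α) := fun h => by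
    rw [Module.mem_support_iff_nontrivial_residueField_tensorProduct] at h
    exact not_subsingleton _ ‹Subsingleton (P.ResidueField ⊗[B] (M ⧸ LinearMap.range α))›
  rw [Module.support_eq_zeroLocus, PrimeSpectrum.mem_zeroLocus, Set.not_subset] at hPsupp
  obtain ⟨s, hs, hsP⟩ := hPsupp
  have hsM : ∀ m : M, ∃ x, α x = s • m := fun m => by
    have := Module.mem_annihilator.1 hs (Submodule.Quotient.mk m)
    rw [← Submodule.Quotient.mk_smul, Submodule.Quotient.mk_eq_zero] at this
    exact this
  let αP := LocalizedModule.map P.primeCompl α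
  have hsurj : Function.Surjective αP := fun z => by
    induction z using LocalizedModule.induction_on with
    | h m t =>
      obtain ⟨x, hx⟩ := hsM m
      refine ⟨LocalizedModule.mk x (t * ⟨s, hsP⟩), ?_⟩
      rw [LocalizedModule.map_mk, hx, LocalizedModule.mk_eq]
      refine ⟨1, ?_⟩
      simp only [one_smul, Submonoid.smul_def, Submonoid.coe_mul, mul_smul]
  have hKle : ∀ x ∈ LinearMap.ker αP, x ∈ (p • ⊤ : Submodule R (LocalizedModule P.primeCompl (Fin r → B))) := by
    intro x hx
    induction x using LocalizedModule.induction_on with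
    | h y t =>
      rw [LinearMap.mem_ker, LocalizedModule.map_mk, ← LocalizedModule.zero_mk t, LocalizedModule.mk_eq] at hx
      obtain ⟨u, hu⟩ := hx
      simp only [Submonoid.smul_def, smul_zero, smul_smul] at hu
      rw [← map_smul] at hu
      have h1 : (1 : P.ResidueField) ⊗ₜ[B] (((u : B) * (t : B)) • y) = 0 := hα.1 (by
        rw [LinearMap.baseChange_tmul, hu, TensorProduct.tmul_zero, map_zero])
      have h2 : ∀ j, ((u : B) * (t : B)) * y j ∈ P := fun j => by
        have := congrArg (fun z => TensorProduct.rid B P.ResidueField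
          ((LinearMap.proj (R := B) (φ := fun _ : Fin r => B) j).lTensor P.ResidueField z)) h1
        simp only [LinearMap.lTensor_tmul, TensorProduct.rid_tmul, map_zero, LinearMap.proj_apply, Pi.smul_apply,
          smul_eq_mul, Algebra.smul_def, mul_one] at this
        exact Ideal.algebraMap_residueField_eq_zero.1 this
      have h3 : y ∈ (p • ⊤ : Submodule R (Fin r → B)) := by
        rw [← Finset.univ_sum_single y]
        refine sum_mem fun j _ => ?_
        have hj : y j ∈ (p • ⊤ : Submodule R B) := by
          rw [Ideal.smul_top_eq_map, Submodule.restrictScalars_mem]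
          exact ((‹P.IsPrime›).mem_or_mem (h2 j)).resolve_left fun h => (P.primeCompl.mul_mem u.2 t.2) h
        have := Submodule.mem_map_of_mem (f := (LinearMap.single B (fun _ : Fin r => B) j).restrictScalars R) hj
        rw [Submodule.map_smul''] at this
        exact Submodule.smul_mono le_rfl le_top this
      let e : (Fin r → B) →ₗ[R] LocalizedModule P.primeCompl (Fin r → B) :=
        (IsLocalizedModule.fromLocalizedModule P.primeCompl
          (LocalizedModule.mkLinearMap P.primeCompl (Fin r → B))).restrictScalars R ∘ₗ
        ((LocalizedModule.mkLinearMap P.primeCompl (Fin r → B)).restrictScalars R)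
      let d : LocalizedModule P.primeCompl (Fin r → B) →ₗ[R] LocalizedModule P.primeCompl (Fin r → B) :=
        (DistribMulAction.toLinearMap (Localization P.primeCompl) _ (Localization.mk 1 t)).restrictScalars R
      have h4 := Submodule.mem_map_of_mem (f := d ∘ₗ (LocalizedModule.mkLinearMap P.primeCompl (Fin r → B)).restrictScalars R) h3
      rw [Submodule.map_smul''] at h4
      have h5 := Submodule.smul_mono (le_refl p)
        (le_top : Submodule.map (d ∘ₗ (LocalizedModule.mkLinearMap P.primeCompl (Fin r → B)).restrictScalars R) ⊤ ≤ ⊤) h4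
      convert h5 using 1
      show LocalizedModule.mk y t = Localization.mk 1 t • LocalizedModule.mk y 1
      rw [LocalizedModule.mk_smul_mk, one_smul, mul_one]
  have hinj : Function.Injective αP := by
    let K := LinearMap.ker αP
    haveI : Module.Finite (Localization.AtPrime P) K :=
      Module.Finite.of_fg (Module.FinitePresentation.fg_ker αP hsurj)
    have hinjK : Function.Injective ((K.subtype.restrictScalars R).lTensor (R ⧸ p)) :=
      LinearMap.lTensor_injective_of_exact_of_flat (αP.restrictScalars R) hsurj (K.subtype.restrictScalars R)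
        Subtype.val_injective (LinearMap.exact_subtype_ker_map αP) (R ⧸ p)
    have hK : (⊤ : Submodule (Localization.AtPrime P) K) ≤ maximalIdeal (Localization.AtPrime P) • ⊤ := by
      intro x _
      have h1 : (1 : R ⧸ p) ⊗ₜ[R] x = 0 := hinjK (by
        rw [map_zero, LinearMap.lTensor_tmul]
        apply (TensorProduct.quotTensorEquivQuotSMul _ p).injective
        rw [map_zero, ← map_one (Ideal.Quotient.mk p), TensorProduct.quotTensorEquivQuotSMul_mk_tmul, one_smul,
          Submodule.Quotient.mk_eq_zero]
        exact hKle _ x.2)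
      have h2 := congrArg (TensorProduct.quotTensorEquivQuotSMul K p) h1
      rw [map_zero, ← map_one (Ideal.Quotient.mk p), TensorProduct.quotTensorEquivQuotSMul_mk_tmul, one_smul,
        Submodule.Quotient.mk_eq_zero] at h2
      refine Submodule.smul_induction_on h2 (fun a ha y _ => ?_) fun a b ha hb => add_mem ha hb
      rw [← algebraMap_smul (Localization.AtPrime P) a y]
      refine Submodule.smul_mem_smul ?_ Submodule.mem_top
      rw [IsScalarTower.algebraMap_apply R B (Localization.AtPrime P), ← Localization.AtPrime.map_eq_maximalIdeal]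
      exact Ideal.mem_map_of_mem _ (Ideal.mem_map_of_mem _ ha)
    have := Submodule.eq_bot_of_le_smul_of_le_jacobson_bot (maximalIdeal (Localization.AtPrime P)) (⊤ : Submodule _ K)
      Module.Finite.fg_top hK (IsLocalRing.maximalIdeal_le_jacobson _)
    rw [← LinearMap.ker_eq_bot]
    haveI : Subsingleton K := subsingleton_of_forall_eq 0 fun x => (Submodule.eq_bot_iff _).1 this x Submodule.mem_top
    exact Submodule.eq_bot_of_subsingleton
  let mkF := LocalizedModule.mkLinearMap P.primeCompl (Fin r → B)
  let mkM := LocalizedModule.mkLinearMap P.primeCompl M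
  let Ψ : M →ₗ[B] LocalizedModule P.primeCompl (Fin r → B) :=
    ((LinearEquiv.ofBijective αP ⟨hinj, hsurj⟩).symm.toLinearMap.restrictScalars B) ∘ₗ mkM
  obtain ⟨β, u, hβ⟩ := Module.FinitePresentation.exists_lift_of_isLocalizedModule P.primeCompl mkF Ψ
  have hΨ : ∀ x, Ψ (α x) = mkF x := fun x => by
    show (LinearEquiv.ofBijective αP ⟨hinj, hsurj⟩).symm (mkM (α x)) = mkF x
    rw [LinearEquiv.symm_apply_eq, LinearEquiv.ofBijective_apply]
    exact (LocalizedModule.map_mk P.primeCompl α x 1).symm
  have hj : ∀ j, ∃ v : P.primeCompl, v • β (α (Pi.single j 1)) = v • ((u : B) • (Pi.single j 1 : Fin r → B)) := fun j =>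
    IsLocalizedModule.exists_of_eq (S := P.primeCompl) (f := mkF) (by
      have := LinearMap.congr_fun hβ (α (Pi.single j 1))
      simp only [LinearMap.comp_apply, LinearMap.smul_apply, hΨ] at this
      rw [this, map_smul]
      rfl)
  choose v hv using hj
  let w : P.primeCompl := ∏ j, v j
  refine ⟨(w : B) * (u : B), (w : B) • β, (P.primeCompl.mul_mem w.2 u.2), fun x => ?_⟩
  have : ((w : B) • β) ∘ₗ α = ((w : B) * (u : B)) • LinearMap.id := by
    refine (Pi.basisFun B (Fin r)).ext fun j => ?_
    obtain ⟨c, hc⟩ : (v j : B) ∣ (w : B) := by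
      simp only [w, Submonoid.coe_finsetProd]
      exact Finset.dvd_prod_of_mem (fun j => (v j : B)) (Finset.mem_univ j)
    simp only [Pi.basisFun_apply, LinearMap.comp_apply, LinearMap.smul_apply, LinearMap.id_apply]
    have h1 := hv j
    simp only [Submonoid.smul_def] at h1
    rw [hc, mul_comm (v j : B) c, mul_smul, h1, mul_smul, mul_smul]
  exact LinearMap.congr_fun this x

/-- Localisation preserves injectivity after tensoring with a given module. -/
theorem injective_lTensor_localizedModule_map {R S A B : Type u} [CommRing R] [CommRing S] [Algebra R S]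
    [AddCommGroup A] [Module S A] [Module R A] [IsScalarTower R S A] [AddCommGroup B] [Module S B] [Module R B]
    [IsScalarTower R S B] (T : Submonoid S) {f : A →ₗ[S] B} (Q : Type u) [AddCommGroup Q] [Module R Q]
    (hf : Function.Injective ((f.restrictScalars R).lTensor Q)) :
    Function.Injective (((LocalizedModule.map T f).restrictScalars R).lTensor Q) := by
  let ιA := LocalizedModule.mkLinearMap T A
  let ιB := LocalizedModule.mkLinearMap T B
  let gA := AlgebraTensorModule.rTensor R Q ιA
  let gB := AlgebraTensorModule.rTensor R Q ιB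
  let fQ : A ⊗[R] Q →ₗ[S] B ⊗[R] Q := AlgebraTensorModule.rTensor R Q f
  let F : LocalizedModule T A →ₗ[S] LocalizedModule T B := IsLocalizedModule.map T ιA ιB f
  have hF : ∀ x, F x = LocalizedModule.map T f x := fun x => by
    induction x using LocalizedModule.induction_on with
    | h m s =>
      rw [show LocalizedModule.mk m s = IsLocalizedModule.mk' ιA m s from (IsLocalizedModule.mk_eq_mk' s m)]
      show IsLocalizedModule.map T ιA ιB f _ = _
      rw [IsLocalizedModule.map_mk', ← IsLocalizedModule.mk_eq_mk', ← IsLocalizedModule.mk_eq_mk', LocalizedModule.map_mk]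
  let FQ : LocalizedModule T A ⊗[R] Q →ₗ[S] LocalizedModule T B ⊗[R] Q := AlgebraTensorModule.rTensor R Q F
  have hFQ : FQ = IsLocalizedModule.map T gA gB fQ := by
    refine IsLocalizedModule.linearMap_ext T gA gB ?_
    rw [IsLocalizedModule.map_comp]
    refine LinearMap.ext fun z => ?_
    induction z using TensorProduct.induction_on with
    | zero => simp
    | add x y hx hy => simp only [map_add, hx, hy]
    | tmul a q =>
      show F (ιA a) ⊗ₜ[R] q = ιB (f a) ⊗ₜ[R] q
      rw [IsLocalizedModule.map_apply]
  have hinjQ : Function.Injective fQ := by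
    intro x y hxy
    apply (TensorProduct.comm R A Q).injective
    refine hf ?_
    have key : ∀ w, (f.restrictScalars R).lTensor Q (TensorProduct.comm R A Q w) = TensorProduct.comm R B Q (fQ w) := fun w => by
      induction w using TensorProduct.induction_on with
      | zero => simp
      | add a b ha hb => simp only [map_add, ha, hb]
      | tmul a q => rfl
    rw [key, key, hxy]
  have h := IsLocalizedModule.map_injective T gA gB fQ hinjQ
  rw [← hFQ] at h
  intro x y hxy
  apply (TensorProduct.comm R (LocalizedModule T A) Q).symm.injective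
  refine h ?_
  have key : ∀ w, FQ ((TensorProduct.comm R (LocalizedModule T A) Q).symm w) =
      (TensorProduct.comm R (LocalizedModule T B) Q).symm (((LocalizedModule.map T f).restrictScalars R).lTensor Q w) := fun w => by
    induction w using TensorProduct.induction_on with
    | zero => simp
    | add a b ha hb => simp only [map_add, ha, hb]
    | tmul q a =>
      show F a ⊗ₜ[R] q = LocalizedModule.map T f a ⊗ₜ[R] q
      rw [hF]
  rw [key, key, hxy]

/-- One step of a devissage: after localising the base, the map is universally injective with flat cokernel. -/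
theorem exists_step {R B M : Type u} [CommRing R] [CommRing B] [Algebra R B] [Algebra.Smooth R B]
    [AddCommGroup M] [Module B M] [Module R M] [IsScalarTower R B M] [Module.FinitePresentation B M]
    (hB : FlatCA.GeomIrredFibres R B) (rr : Ideal R) [rr.IsPrime] [(rr.map (algebraMap R B)).IsPrime]
    {f : R} (hf : f ∉ rr) (hflat : Module.Flat R (LocalizedModule (Submonoid.powers (algebraMap R B f)) M))
    {r : ℕ} (α : (Fin r → B) →ₗ[B] M)
    (hα : Function.Bijective (α.baseChange (rr.map (algebraMap R B)).ResidueField)) :
    ∃ h : R, h ∉ rr ∧ f ∣ h ∧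
      FlatCA.UnivInj R ((LocalizedModule.map (Submonoid.powers (algebraMap R B h)) α).restrictScalars R) ∧
      Module.Flat R (LocalizedModule (Submonoid.powers (algebraMap R B h)) (M ⧸ LinearMap.range α)) := by
  classical
  set P := rr.map (algebraMap R B) with hPdef
  haveI := RG4.isDomain_fiber_of_smooth hB rr
  have hPo : P.comap (algebraMap R B) = rr := by
    obtain ⟨⟨x, hx⟩⟩ : Nonempty (PrimeSpectrum (rr.Fiber B)) := inferInstance
    refine le_antisymm (fun y hy => ?_) Ideal.le_comap_map
    let Q := ((PrimeSpectrum.preimageEquivFiber R B ⟨rr, ‹_›⟩).symm ⟨x, hx⟩)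
    have hQ : Q.1.asIdeal.comap (algebraMap R B) = rr := congrArg PrimeSpectrum.asIdeal Q.2
    exact hQ.le (Ideal.map_le_iff_le_comap.2 hQ.ge hy)
  have hfP : algebraMap R B f ∉ P := fun h => hf (hPo.le h)
  haveI : Module.Flat R (LocalizedModule P.primeCompl M) := by
    haveI := hflat
    have hle : Submonoid.powers (algebraMap R B f) ≤ P.primeCompl := Submonoid.powers_le.2 hfP
    exact RG4.flat_of_isLocalizedModule P.primeCompl
      (IsLocalizedModule.liftOfLE (Submonoid.powers (algebraMap R B f)) P.primeCompl hle
        (LocalizedModule.mkLinearMap (Submonoid.powers (algebraMap R B f)) M) (LocalizedModule.mkLinearMap P.primeCompl M))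
  obtain ⟨g, β, hg, hβ⟩ := exists_retraction rr α hα
  have hopen : IsOpen (PrimeSpectrum.comap (algebraMap R B) '' ↑(PrimeSpectrum.basicOpen g)) :=
    PrimeSpectrum.isOpenMap_comap_of_hasGoingDown_of_finitePresentation _ (PrimeSpectrum.basicOpen g).isOpen
  have hmem : (⟨rr, ‹_›⟩ : PrimeSpectrum R) ∈ PrimeSpectrum.comap (algebraMap R B) '' ↑(PrimeSpectrum.basicOpen g) :=
    ⟨⟨P, ‹_›⟩, hg, PrimeSpectrum.ext hPo⟩
  obtain ⟨_, ⟨h₀, rfl⟩, hh₀, hh₀s⟩ :=
    PrimeSpectrum.isTopologicalBasis_basic_opens.exists_subset_of_mem_open hmem hopen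
  refine ⟨f * h₀, fun h => (‹rr.IsPrime›.mem_or_mem h).elim hf hh₀, dvd_mul_right f h₀, ?_⟩
  set c := algebraMap R B (f * h₀)
  set T := Submonoid.powers c
  have hMflat : Module.Flat R (LocalizedModule T M) := flat_localized_of_dvd (map_dvd _ (dvd_mul_right f h₀)) hflat
  haveI : Module.Flat R B := inferInstance
  haveI : Module.Flat R (Fin r → B) := by
    haveI : Module.Flat R (Fin r →₀ B) := Module.Flat.of_linearEquiv (finsuppLEquivDirectSum R B (Fin r))
    exact Module.Flat.of_linearEquiv (Finsupp.linearEquivFunOnFinite R B (Fin r)).symm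
  haveI : Module.Flat R (LocalizedModule T (Fin r → B)) :=
    RG4.flat_of_isLocalizedModule T (LocalizedModule.mkLinearMap T (Fin r → B))
  have hfib : ∀ (p : Ideal R) [p.IsPrime],
      Function.Injective (((LocalizedModule.map T α).restrictScalars R).lTensor p.ResidueField) := by
    intro p _
    by_cases hp : f * h₀ ∈ p
    · haveI : Subsingleton (p.ResidueField ⊗[R] LocalizedModule T (Fin r → B)) := by
        refine subsingleton_of_forall_eq 0 fun z => ?_
        induction z using TensorProduct.induction_on with
        | zero => rfl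
        | add a b ha hb => rw [ha, hb, add_zero]
        | tmul a w =>
          obtain ⟨w', hw'⟩ := ((Module.End.isUnit_iff _).1 (IsLocalizedModule.map_units
            (LocalizedModule.mkLinearMap T (Fin r → B)) ⟨c, Submonoid.mem_powers c⟩)).2 w
          have : w = (f * h₀) • w' := by rw [← hw', Module.algebraMap_end_apply, algebraMap_smul]
          rw [this, TensorProduct.tmul_smul, TensorProduct.smul_tmul', Algebra.smul_def,
            Ideal.algebraMap_residueField_eq_zero.2 hp, zero_mul, TensorProduct.zero_tmul]
      exact Function.injective_of_subsingleton _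
    · refine injective_lTensor_localizedModule_map T p.ResidueField ((injective_iff_map_eq_zero _).2 fun y hy => ?_)
      obtain ⟨Q, hgQ, hQp⟩ := hh₀s (show (⟨p, ‹_›⟩ : PrimeSpectrum R) ∈ (PrimeSpectrum.basicOpen h₀ : Set _) from
        fun hm => hp (p.mul_mem_left f hm))
      have hgp : (1 : p.ResidueField) ⊗ₜ[R] g ≠ 0 := fun h0 => by
        have hQ' : Q.asIdeal.comap (algebraMap R B) = p := congrArg PrimeSpectrum.asIdeal hQp
        let π : p.ResidueField →ₐ[R] Q.asIdeal.ResidueField :=
          Ideal.ResidueField.mapₐ p Q.asIdeal (Algebra.ofId R B) hQ'.symm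
        have h3 := congrArg (Algebra.TensorProduct.lift π (IsScalarTower.toAlgHom R B Q.asIdeal.ResidueField)
          fun _ _ => Commute.all _ _) h0
        rw [Algebra.TensorProduct.lift_tmul, map_zero, map_one, one_mul] at h3
        exact hgQ (Ideal.algebraMap_residueField_eq_zero.1 h3)
      haveI := RG4.isDomain_fiber_of_smooth hB p
      have h1 : (β.restrictScalars R ∘ₗ α.restrictScalars R).lTensor p.ResidueField y = 0 := by
        rw [LinearMap.lTensor_comp_apply, hy, map_zero]
      let ψ := TensorProduct.piRight R R p.ResidueField (fun _ : Fin r => B)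
      have hcoord : ∀ z j, ψ ((β.restrictScalars R ∘ₗ α.restrictScalars R).lTensor p.ResidueField z) j =
          ((1 : p.ResidueField) ⊗ₜ[R] g : p.Fiber B) * ψ z j := fun z j => by
        induction z using TensorProduct.induction_on with
        | zero => simp
        | add a b ha hb => simp only [map_add, Pi.add_apply, ha, hb, mul_add]
        | tmul a x =>
          simp only [ψ, LinearMap.lTensor_tmul, LinearMap.comp_apply, LinearMap.restrictScalars_apply, hβ,
            TensorProduct.piRight_apply, TensorProduct.piRightHom_tmul, Pi.smul_apply, smul_eq_mul]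
          rw [Algebra.TensorProduct.tmul_mul_tmul, one_mul]
      apply ψ.injective
      funext j
      have h2 := hcoord y j
      rw [h1, map_zero, Pi.zero_apply] at h2
      rw [map_zero, Pi.zero_apply]
      exact (mul_eq_zero.1 h2.symm).resolve_left hgp
  haveI := hMflat
  have hui : FlatCA.UnivInj R ((LocalizedModule.map T α).restrictScalars R) := fun Q _ _ =>
    FlatFibInj.injective_lTensor_of_fibres T (L := Localization T) ((LocalizedModule.map T α).restrictScalars R)
      (fun p _ => hfib p) Q
  refine ⟨hui, RG4.flat_of_univInj_exact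
    (g := (LocalizedModule.map T (LinearMap.range α).mkQ).restrictScalars R)
    (LocalizedModule.map_surjective T _ (Submodule.mkQ_surjective _))
    (LocalizedModule.map_exact T α (LinearMap.range α).mkQ (LinearMap.exact_map_mkQ_range α)) hui⟩

end Groth.Agent.Dev4
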