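import Groth.Agent.Lib.Dev4.GeomIntProjective
import Groth.Agent.Lib.Fitting.Local
import Groth.Agent.S1205
import Groth.Prelude.Def_BlowUp2

/-!
# Strict transforms are free near the generic points of the fibres
-/

set_option autoImplicit false

universe u

open TensorProduct CategoryTheory AlgebraicGeometry

set_option backward.isDefEq.respectTransparency.types false

namespace Groth.Agent.Dev4

theorem geomIntegral_of_isPushout {R S R' S' : Type u} [CommRing R] [CommRing S] [Algebra R S] [CommRing R'] [Algebra R R']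
    [CommRing S'] [Algebra R' S'] [Algebra S S'] [Algebra R S'] [IsScalarTower R R' S'] [IsScalarTower R S S']
    [Algebra.IsPushout R S R' S'] (hS : FlatCA.GeomIntegralFibres R S) : FlatCA.GeomIntegralFibres R' S' :=
  haveI : Algebra.IsPushout R R' S S' := Algebra.IsPushout.symm ‹_›
  MorphismProperty.of_isPullback (P := @GeometricallyIntegral)
    (isPullback_SpecMap_of_isPushout _ _ _ _ (CommRingCat.isPushout_iff_isPushout.2 ‹_›).flip) hS

section Coords

variable {R S : Type u} [CommRing R] [CommRing S] [Algebra R S]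
variable (σ : S →ₗ[R] (S →₀ R)) (hσ : Function.LeftInverse (Finsupp.linearCombination R id) σ)

include hσ in
/-- Membership in an extended ideal, in coordinates. -/
theorem mem_map_iff_coords (I : Ideal R) (x : S) : x ∈ I.map (algebraMap R S) ↔ ∀ b, σ x b ∈ I := by
  constructor
  · intro hx
    change x ∈ Submodule.span S (algebraMap R S '' (I : Set R)) at hx
    have key : ∀ z ∈ Submodule.span S (algebraMap R S '' (I : Set R)), ∀ (t : S) (b : S), σ (t * z) b ∈ I := by
      intro z hz
      induction hz using Submodule.span_induction with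
      | mem y hy =>
        obtain ⟨i, hi, rfl⟩ := hy
        intro t b
        rw [mul_comm, ← Algebra.smul_def, map_smul, Finsupp.smul_apply]
        exact I.mul_mem_right _ hi
      | zero => intro t b; simp
      | add y z _ _ hy hz => intro t b; rw [mul_add, map_add, Finsupp.add_apply]; exact I.add_mem (hy t b) (hz t b)
      | smul c y _ hy => intro t b; rw [smul_eq_mul, ← mul_assoc]; exact hy _ b
    intro b
    simpa using key x hx 1 b
  · intro h
    rw [← hσ x, Finsupp.linearCombination_apply, Finsupp.sum]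
    refine sum_mem fun b _ => ?_
    rw [Algebra.smul_def]
    exact Ideal.mul_mem_right _ _ (Ideal.mem_map_of_mem _ (h b))

end Coords

/-- The extension of a prime is the kernel of the map to the fibre; in particular it is prime. -/
theorem isPrime_map_of_geomIntegral {R S : Type u} [CommRing R] [CommRing S] [Algebra R S] [Algebra.FinitePresentation R S]
    [Module.Flat R S] (hS : FlatCA.GeomIntegralFibres R S) (p : Ideal R) [p.IsPrime] :
    (p.map (algebraMap R S)).IsPrime ∧ (p.map (algebraMap R S)).comap (algebraMap R S) = p := by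
  classical
  haveI := projective_of_geomIntegral hS
  obtain ⟨σ, hσ⟩ := Module.projective_def.1 ‹Module.Projective R S›
  haveI := isDomain_baseChange hS p.ResidueField
  have hker : p.map (algebraMap R S) =
      RingHom.ker (Algebra.TensorProduct.includeRight : S →ₐ[R] p.ResidueField ⊗[R] S) := by
    refine le_antisymm (Ideal.map_le_iff_le_comap.2 fun x hx => ?_) fun x hx => ?_
    · show (Algebra.TensorProduct.includeRight : S →ₐ[R] p.ResidueField ⊗[R] S) (algebraMap R S x) = 0
      rw [AlgHom.commutes, IsScalarTower.algebraMap_apply R p.ResidueField,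
        Ideal.algebraMap_residueField_eq_zero.2 hx, map_zero]
    · rw [mem_map_iff_coords σ hσ]
      intro b
      have h0 : (1 : p.ResidueField) ⊗ₜ[R] x = 0 := hx
      have h1 := congrArg (fun v => TensorProduct.finsuppScalarRight R R p.ResidueField S (σ.lTensor p.ResidueField v) b) h0
      refine Ideal.algebraMap_residueField_eq_zero.1 ?_
      simpa [Algebra.smul_def] using h1
  refine ⟨hker ▸ RingHom.ker_isPrime _, ?_⟩
  ext r
  rw [Ideal.mem_comap, hker, RingHom.mem_ker, AlgHom.commutes, IsScalarTower.algebraMap_apply R p.ResidueField]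
  constructor
  · intro h
    by_contra hr
    have hu : algebraMap R p.ResidueField r ≠ 0 := fun e => hr (Ideal.algebraMap_residueField_eq_zero.1 e)
    exact (hu.isUnit.map (algebraMap p.ResidueField (p.ResidueField ⊗[R] S))).ne_zero h
  · intro h
    rw [Ideal.algebraMap_residueField_eq_zero.2 h, map_zero]

/-- What vanishes at the generic point of a fibre vanishes over a neighbourhood. -/
theorem exists_smul_eq_zero_of_genericFibre {R S : Type u} [CommRing R] [CommRing S] [Algebra R S]
    [Algebra.FinitePresentation R S] [Module.Flat R S] (hS : FlatCA.GeomIntegralFibres R S) (p : Ideal R) [p.IsPrime]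
    (t e : S) (ht : t ∉ p.map (algebraMap R S)) (he : t * e = 0) : ∃ u : R, u ∉ p ∧ algebraMap R S u * e = 0 := by
  haveI := projective_of_geomIntegral hS
  obtain ⟨σ, hσ⟩ := Module.projective_def.1 ‹Module.Projective R S›
  obtain ⟨b, hb⟩ : ∃ b, σ t b ∉ p := by
    by_contra! h
    exact ht ((mem_map_iff_coords σ hσ p t).2 h)
  set f := σ t b
  let T := Submonoid.powers (algebraMap R S f)
  have hinj := S1205.injective_of_univInj (S1205.univInj_smul hS T f (Submonoid.mem_powers _) t (fun P hP hfP => by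
    obtain ⟨h1, h2⟩ := isPrime_map_of_geomIntegral hS P
    exact ⟨_, h1, h2, fun h => hfP ((mem_map_iff_coords σ hσ P t).1 h b)⟩) 1)
  have h0 : LocalizedModule.mkLinearMap T (Fin 1 → S) (fun _ => e) = 0 := by
    refine hinj ?_
    rw [map_zero]
    show t • LocalizedModule.mkLinearMap T (Fin 1 → S) (fun _ => e) = 0
    rw [← map_smul, show t • (fun _ : Fin 1 => e) = 0 from funext fun _ => he, map_zero]
  obtain ⟨⟨_, k, rfl⟩, hk⟩ := (IsLocalizedModule.eq_zero_iff T (LocalizedModule.mkLinearMap T (Fin 1 → S))).1 h0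
  refine ⟨f ^ k, fun h => hb (‹p.IsPrime›.mem_of_pow_mem k h), ?_⟩
  have := congrFun hk 0
  simpa [Submonoid.smul_def, map_pow] using this

theorem mem_powTorsion_iff {S : Type u} [CommRing S] (x : S) {M : Type u} [AddCommGroup M] [Module S M] (y : M) :
    y ∈ FlatCA.powTorsion S x M ↔ ∃ n : ℕ, x ^ n • y = 0 := by
  rw [FlatCA.powTorsion, Submodule.mem_iSup_of_directed _ (Monotone.directed_le fun i j h y hy => by
    rw [Submodule.mem_torsionBy_iff] at hy ⊢
    rw [show x ^ j = x ^ (j - i) * x ^ i by rw [← pow_add, Nat.sub_add_cancel h], mul_smul, hy, smul_zero])]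
  simp only [Submodule.mem_torsionBy_iff]

/-- The affine blow-up algebra makes the ideal principal and `a` regular. -/
theorem affineAlgebra_basic {R : Type u} [CommRing R] (I : Ideal R) (a : R) :
    (∀ r : BlowUp.affineAlgebra R I a, algebraMap R (BlowUp.affineAlgebra R I a) a * r = 0 → r = 0) ∧
    ∀ x ∈ I, ∃ z : BlowUp.affineAlgebra R I a,
      algebraMap R (BlowUp.affineAlgebra R I a) x = algebraMap R (BlowUp.affineAlgebra R I a) a * z := by
  refine ⟨fun r hr => Subtype.ext ?_, fun x hx => ?_⟩
  · have h1 := congrArg Subtype.val hr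
    exact ((IsLocalization.map_units (Localization.Away a) (⟨a, Submonoid.mem_powers a⟩ : Submonoid.powers a)).mul_right_eq_zero).1 h1
  · refine ⟨⟨_, Algebra.subset_adjoin ⟨x, hx, rfl⟩⟩, Subtype.ext ?_⟩
    exact (IsLocalization.mk'_spec' (Localization.Away a) x ⟨a, Submonoid.mem_powers a⟩).symm

theorem exists_content_ideal {R S : Type u} [CommRing R] [CommRing S] [Algebra R S] [Algebra.FinitePresentation R S]
    [Module.Flat R S] (hgi : FlatCA.GeomIntegralFibres R S) (f : R) (r : ℕ)
    (M : Type u) [AddCommGroup M] [Module S M] [Module.Finite S M] (hFG : (Fitt.ideal S M r).FG)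
    (hfree : ∀ (p : Ideal R) [p.IsPrime] [(p.map (algebraMap R S)).IsPrime], f ∉ p →
      Module.Free (Localization.AtPrime (p.map (algebraMap R S))) (LocalizedModule (p.map (algebraMap R S)).primeCompl M) ∧
      Module.rank (Localization.AtPrime (p.map (algebraMap R S))) (LocalizedModule (p.map (algebraMap R S)).primeCompl M) = r)
    (σ : S →ₗ[R] (S →₀ R)) (hσ : Function.LeftInverse (Finsupp.linearCombination R id) σ) :
    (∃ (G : Finset S) (C : Finset R), Ideal.span (G : Set S) = Fitt.ideal S M r ∧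
      (∀ g ∈ G, ∀ b, σ g b ∈ Ideal.span (C : Set R)) ∧ (∀ l ∈ C, ∃ g ∈ G, ∃ b, σ g b = l) ∧
      f ∈ (Ideal.span (C : Set R)).radical) ∧
    (0 < r → ∀ e ∈ Fitt.ideal S M (r - 1), ∃ N : ℕ, algebraMap R S f ^ N * e = 0) := by
  classical
  have hFit : ∀ (p : Ideal R) [p.IsPrime], f ∉ p → ¬ Fitt.ideal S M r ≤ p.map (algebraMap R S) ∧
      (0 < r → ∀ e ∈ Fitt.ideal S M (r - 1), ∃ t : S, t ∉ p.map (algebraMap R S) ∧ t * e = 0) := by
    intro p _ hfp
    obtain ⟨hq, -⟩ := isPrime_map_of_geomIntegral hgi p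
    haveI := hq
    set q := p.map (algebraMap R S)
    obtain ⟨hfr, hrk⟩ := hfree p hfp
    let e' := (IsLocalizedModule.isBaseChange q.primeCompl (Localization.AtPrime q)
      (LocalizedModule.mkLinearMap q.primeCompl M)).equiv
    haveI := Module.Free.of_equiv e'.symm
    have hrk' : Module.finrank (Localization.AtPrime q) (Localization.AtPrime q ⊗[S] M) = r := by
      rw [e'.finrank_eq]; exact Module.finrank_eq_of_rank_eq hrk
    refine ⟨fun hle => ?_, fun hr e he => ?_⟩
    · have htop : Fitt.ideal (Localization.AtPrime q) (Localization.AtPrime q ⊗[S] M) r = ⊤ :=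
        (Groth.Agent.FittingLib.ideal_eq_top_iff_finrank r).2 hrk'.le
      rw [Groth.Agent.FittingLib.ideal_baseChange] at htop
      have h1 := (Ideal.map_mono hle).trans_eq (Localization.AtPrime.map_eq_maximalIdeal (I := q))
      rw [htop, top_le_iff] at h1
      exact (IsLocalRing.maximalIdeal.isMaximal (Localization.AtPrime q)).ne_top h1
    · have hbot : Fitt.ideal (Localization.AtPrime q) (Localization.AtPrime q ⊗[S] M) (r - 1) = ⊥ := by
        refine Groth.Agent.FittingLib.ideal_eq_bot_of_basis (Module.Free.chooseBasis _ _) ?_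
        rw [← Module.finrank_eq_card_basis (Module.Free.chooseBasis _ _), hrk']
        omega
      rw [Groth.Agent.FittingLib.ideal_baseChange, Ideal.map_eq_bot_iff_le_ker] at hbot
      have h1 := hbot he
      rw [RingHom.mem_ker, IsLocalization.map_eq_zero_iff q.primeCompl] at h1
      obtain ⟨⟨t, ht⟩, hte⟩ := h1
      exact ⟨t, ht, hte⟩
  refine ⟨?_, fun hr e he => ?_⟩
  · obtain ⟨G, hG⟩ := hFG
    let C : Finset R := G.biUnion fun g => (σ g).support.image fun b => σ g b
    have hC : ∀ g ∈ G, ∀ b, σ g b ∈ Ideal.span (C : Set R) := fun g hg b => by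
      by_cases hb : b ∈ (σ g).support
      · exact Ideal.subset_span (Finset.mem_biUnion.2 ⟨g, hg, Finset.mem_image.2 ⟨b, hb, rfl⟩⟩)
      · rw [Finsupp.notMem_support_iff.1 hb]; exact zero_mem _
    refine ⟨G, C, hG, hC, fun l hl => ?_, ?_⟩
    · obtain ⟨g, hg, hl⟩ := Finset.mem_biUnion.1 hl
      obtain ⟨b, -, rfl⟩ := Finset.mem_image.1 hl
      exact ⟨g, hg, b, rfl⟩
    · rw [Ideal.radical_eq_sInf, Ideal.mem_sInf]
      rintro p ⟨hle, hp⟩
      by_contra hfp
      haveI := hp
      refine (hFit p hfp).1 ?_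
      rw [← hG]
      exact Ideal.span_le.2 fun g hg => (mem_map_iff_coords σ hσ p g).2 fun b => hle (hC g hg b)
  · have : f ∈ Ideal.radical (LinearMap.ker (LinearMap.toSpanSingleton R S e) : Ideal R) := by
      rw [Ideal.radical_eq_sInf, Ideal.mem_sInf]
      rintro p ⟨hle, hp⟩
      by_contra hfp
      haveI := hp
      obtain ⟨t, ht, hte⟩ := (hFit p hfp).2 hr e he
      obtain ⟨u, hu, hue⟩ := exists_smul_eq_zero_of_genericFibre hgi p t e ht hte
      exact hu (hle (by simpa [Algebra.smul_def] using hue))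
    obtain ⟨N, hN⟩ := this
    exact ⟨N, by simpa [Algebra.smul_def] using hN⟩

/-- The Fitting-ideal argument with a locally principal content. -/
theorem free_of_fitting_content {S : Type u} [CommRing S] (M : Type u) [AddCommGroup M] [Module S M] [Module.Finite S M]
    (r : ℕ) (a f γ z : S) (Q : Ideal S) [Q.IsPrime] (hzQ : z ∉ Q)
    (hγ : γ * f = a * z) (hreg : ∀ y : S, a * y = 0 → y = 0)
    (hA : ∀ j ∈ Fitt.ideal S M r, z * j ∈ Ideal.span {γ})
    (hB : ∃ j ∈ Fitt.ideal S M r, ∀ t ∈ Q, z * j ≠ γ * t)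
    (h0 : 0 < r → Fitt.ideal S M (r - 1) = ⊥) :
    ∃ g : S, g ∉ Q ∧
      Module.Free (Localization.Away g) (LocalizedModule (Submonoid.powers g) (M ⧸ FlatCA.powTorsion S a M)) ∧
      Module.rank (Localization.Away g) (LocalizedModule (Submonoid.powers g) (M ⧸ FlatCA.powTorsion S a M)) = r := by
  classical
  let P := FlatCA.powTorsion S a M
  have hregpow : ∀ (N : ℕ) (y : S), a ^ N * y = 0 → y = 0 := by
    intro N
    induction N with
    | zero => intro y hy; simpa using hy
    | succ N ih => intro y hy; exact hreg y (ih _ (by rwa [← mul_assoc, ← pow_succ]))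
  have hγ0 : ∀ y : S, γ * y = 0 → z * y = 0 := fun y hy => hreg _ (by
    rw [← mul_assoc, ← hγ, mul_comm γ, mul_assoc, hy, mul_zero])
  have hγP : ∀ y : M, γ • y = 0 → z • y ∈ P := fun y hy => (mem_powTorsion_iff a _).2 ⟨1, by
    rw [pow_one, smul_smul, ← hγ, mul_comm γ, mul_smul, hy, smul_zero]⟩
  obtain ⟨n, x, hx⟩ := Groth.Agent.FittingLib.exists_generators (R := S) (M := M)
  have hxq : Submodule.span S (Set.range (P.mkQ ∘ x)) = ⊤ := by
    rw [Set.range_comp, Submodule.span_image, hx, Submodule.map_top, Submodule.range_mkQ]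
  let W : Ideal S := Submodule.comap (LinearMap.mulLeft S z) (Ideal.span {γ} * Q)
  have hJ := (Groth.Agent.FittingLib.ideal_eq_J x hx r).symm
  obtain ⟨B, T, hT, h1, h2, hBW⟩ : ∃ (B : Matrix (Fin n) (Fin n) S) (T : Finset (Fin n)), T.card ≤ r ∧
      (∀ i ∉ T, B i ∈ Groth.Agent.FittingLib.rel x) ∧ (∀ i ∈ T, ∃ j, B i = Pi.single j 1) ∧ B.det ∉ W := by
    by_contra! hall
    obtain ⟨j, hj, hjt⟩ := hB
    have := Groth.Agent.FittingLib.J_le_of_forall _ Submodule.subset_span (fun B T a b c => hall B T a b c) (hJ.ge hj)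
    obtain ⟨t, ht, het⟩ := Ideal.mem_span_singleton_mul.1 this
    exact hjt t ht het.symm
  have hmem : ∀ (A : Matrix (Fin n) (Fin n) S), (∀ i ∉ T, A i ∈ Groth.Agent.FittingLib.rel x) →
      ∃ c, z * A.det = γ * c := fun A hA' => by
    obtain ⟨c, hc⟩ := Ideal.mem_span_singleton'.1 (hA _ (hJ.le (Groth.Agent.FittingLib.det_mem_J hT hA')))
    exact ⟨c, by rw [← hc, mul_comm]⟩
  obtain ⟨u, hu⟩ := hmem B h1
  have huQ : u ∉ Q := fun h => hBW (Ideal.mem_span_singleton_mul.2 ⟨u, h, hu.symm⟩)
  choose g hg using h2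
  let gg : Fin r → M := fun i => if h : (i : ℕ) < T.card
    then ∑ l, B (T.equivFin.symm ⟨i, h⟩ : T) l • x l else 0
  have hgg : ∀ i ∈ T, ∑ l, B i l • x l ∈ Set.range gg := fun i hi =>
    ⟨⟨(T.equivFin ⟨i, hi⟩ : ℕ), (T.equivFin ⟨i, hi⟩).2.trans_le hT⟩, by simp [gg]⟩
  have hadj : ∀ (j : Fin n), ∀ i ∈ T, ∃ c, z * B.adjugate j i = γ * c := by
    intro j i hi
    rw [Matrix.adjugate_apply]
    refine hmem _ fun l hl => ?_
    rw [Matrix.updateRow_ne (fun h : l = i => hl (h.symm ▸ hi))]
    exact h1 l hl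
  choose c hc using hadj
  let w : Fin n → M := fun j => ∑ i ∈ T.attach, c j i.1 i.2 • ∑ l, B i.1 l • x l
  have hw : ∀ j, w j ∈ Submodule.span S (Set.range gg) := fun j =>
    sum_mem fun i _ => Submodule.smul_mem _ _ (Submodule.subset_span (hgg i.1 i.2))
  have hwj : ∀ j, γ • (u • x j) = γ • w j := fun j => by
    rw [smul_smul, ← hu, mul_smul, Groth.Agent.FittingLib.det_mul_smul_eq_zero h1 j, ← Finset.sum_attach T,
      Finset.smul_sum, Finset.smul_sum]
    exact Finset.sum_congr rfl fun i _ => by rw [smul_smul, hc j i.1 i.2, smul_smul]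
  have hU : z * u ∉ Q := fun h => (‹Q.IsPrime›.mem_or_mem h).elim hzQ huQ
  have hspan : ∀ y : M ⧸ P, (z * u) • y ∈ Submodule.span S (Set.range (P.mkQ ∘ gg)) := by
    intro y
    have hy : y ∈ Submodule.span S (Set.range (P.mkQ ∘ x)) := hxq.ge trivial
    induction hy using Submodule.span_induction with
    | mem v hv =>
      obtain ⟨j, rfl⟩ := hv
      have h3 : P.mkQ ((z * u) • x j) = P.mkQ (z • w j) := (Submodule.Quotient.eq P).2 (by
        rw [mul_smul, ← smul_sub]
        exact hγP _ (by rw [smul_sub, hwj, sub_self]))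
      rw [Function.comp_apply, ← map_smul, h3, Set.range_comp, Submodule.span_image]
      exact Submodule.mem_map_of_mem (Submodule.smul_mem _ _ (hw j))
    | zero => rw [smul_zero]; exact zero_mem _
    | add a b _ _ ha hb => rw [smul_add]; exact add_mem ha hb
    | smul d b _ hb => rw [smul_comm]; exact Submodule.smul_mem _ _ hb
  have hnt : Nontrivial (Localization.Away (z * u)) := by
    refine nontrivial_of_ne 1 0 fun e => hU ?_
    rw [← map_one (algebraMap S (Localization.Away (z * u))),
      IsLocalization.map_eq_zero_iff (Submonoid.powers (z * u))] at e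
    obtain ⟨⟨_, N, rfl⟩, hN⟩ := e
    exact ‹Q.IsPrime›.mem_of_pow_mem N (by simp only [mul_one] at hN; rw [hN]; exact Q.zero_mem)
  obtain ⟨hfree, hrank⟩ := Groth.Agent.FittingLib.free_of_smul_mem_span (z * u) (P.mkQ ∘ gg) hspan
    (fun d hd i => ⟨n, by
      have hmk : P.mkQ (∑ i, d i • gg i) = 0 := by
        rw [map_sum]; simpa using hd
      rw [Submodule.mkQ_apply, Submodule.Quotient.mk_eq_zero, mem_powTorsion_iff] at hmk
      obtain ⟨N, hN⟩ := hmk
      have hrel : ∑ i, (a ^ N * d i) • gg i = 0 := by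
        rw [← hN, Finset.smul_sum]; simp [mul_smul]
      have hfin := Groth.Agent.FittingLib.coeff_mul_pow_eq_zero gg hx (h0 (by have := i.2; omega)) (v := γ * u)
        (fun j => by rw [mul_smul, hwj j]; exact Submodule.smul_mem _ _ (hw j)) hrel i
      refine hregpow (N + n) _ ?_
      calc a ^ (N + n) * ((z * u) ^ n * d i) = a ^ N * d i * (a * z * u) ^ n := by
            rw [pow_add, mul_pow (a * z), mul_pow a, mul_pow z]; ring
        _ = f ^ n * (a ^ N * d i * (γ * u) ^ n) := by rw [← hγ, mul_pow (γ * f), mul_pow γ, mul_pow γ]; ring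
        _ = 0 := by rw [hfin, mul_zero]⟩) hnt
  refine ⟨z * u, hU, hfree, ?_⟩
  rw [← Module.finrank_eq_rank, hrank]

/-- The argument over an algebra where the content times `f` becomes principal, generated by a regular element. -/
theorem exists_free_at_prime {R S : Type u} [CommRing R] [CommRing S] [Algebra R S] [Algebra.FinitePresentation R S]
    [Module.Flat R S] (hgi : FlatCA.GeomIntegralFibres R S) (f : R) (r : ℕ)
    (M : Type u) [AddCommGroup M] [Module S M] [Module.Finite S M]
    (σ : S →ₗ[R] (S →₀ R)) (hσ : Function.LeftInverse (Finsupp.linearCombination R id) σ)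
    (G : Finset S) (C : Finset R) (hG : Ideal.span (G : Set S) = Fitt.ideal S M r)
    (hGC : ∀ g ∈ G, ∀ b, σ g b ∈ Ideal.span (C : Set R)) (hCG : ∀ l ∈ C, ∃ g ∈ G, ∃ b, σ g b = l)
    (hlow : 0 < r → ∀ e ∈ Fitt.ideal S M (r - 1), ∃ N : ℕ, algebraMap R S f ^ N * e = 0)
    (a : R) (ha : a ∈ Ideal.span (C : Set R) * Ideal.span {f}) (A : Type u) [CommRing A] [Algebra R A]
    (hreg : ∀ v : A, algebraMap R A a * v = 0 → v = 0)
    (hdiv : ∀ v ∈ Ideal.span (C : Set R) * Ideal.span {f}, ∃ w : A, algebraMap R A v = algebraMap R A a * w)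
    (S' : Type u) [CommRing S'] [Algebra S S'] [Algebra A S'] [Algebra R S'] [IsScalarTower R S S'] [IsScalarTower R A S']
    [Algebra.IsPushout R S A S'] (p' : Ideal A) [hp' : p'.IsPrime] :
    ∃ g : S', g ∉ p'.map (algebraMap A S') ∧
      Module.Free (Localization.Away g)
        (LocalizedModule (Submonoid.powers g) ((S' ⊗[S] M) ⧸ FlatCA.powTorsion S' (algebraMap R S' a) (S' ⊗[S] M))) ∧
      Module.rank (Localization.Away g)
        (LocalizedModule (Submonoid.powers g) ((S' ⊗[S] M) ⧸ FlatCA.powTorsion S' (algebraMap R S' a) (S' ⊗[S] M))) = r := by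
  classical
  let ι : R →+* A := algebraMap R A
  obtain ⟨a₀, ha₀, hfa⟩ := Ideal.mem_mul_span_singleton.1 ha
  have hfreg : ∀ y : A, ι f * y = 0 → y = 0 := fun y hy => hreg y (by
    rw [← hfa, map_mul, mul_assoc]; exact mul_eq_zero_of_right _ hy)
  obtain ⟨y, -, hy⟩ := Submodule.mem_span_finset.1 ha₀
  choose ζ hζ using fun l : C => hdiv _ (Ideal.mul_mem_mul (Ideal.subset_span l.2) (Ideal.mem_span_singleton_self f))
  have hone : ∑ l : C, ι (y l) * ζ l = 1 := by
    refine sub_eq_zero.1 (hreg _ ?_)
    rw [mul_sub, mul_one, sub_eq_zero, Finset.mul_sum]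
    conv_rhs => rw [← hfa, ← hy, Finset.sum_mul, ← Finset.sum_coe_sort C, map_sum]
    refine Finset.sum_congr rfl fun l _ => ?_
    rw [smul_eq_mul, mul_assoc, map_mul, hζ l]
    ring
  obtain ⟨k, hk⟩ : ∃ k : C, ζ k ∉ p' := by
    by_contra! h
    exact hp'.ne_top ((Ideal.eq_top_iff_one _).2 (hone ▸ sum_mem fun l _ => Ideal.mul_mem_left _ _ (h l)))
  have hprop : ∀ l : C, ζ k * ι l = ζ l * ι k := fun l => by
    refine sub_eq_zero.1 (hfreg _ ?_)
    have e1 : ι l * ι f = ι a * ζ l := by rw [← map_mul]; exact hζ l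
    have e2 : ι k * ι f = ι a * ζ k := by rw [← map_mul]; exact hζ k
    linear_combination ζ k * e1 - ζ l * e2
  haveI hpo : Algebra.IsPushout R A S S' := Algebra.IsPushout.symm ‹_›
  have hgi' : FlatCA.GeomIntegralFibres A S' := geomIntegral_of_isPushout (R := R) (S := S) hgi
  haveI : Algebra.FinitePresentation A S' := Algebra.FinitePresentation.equiv (Algebra.IsPushout.equiv R A S S')
  haveI : Module.Flat A S' := Module.Flat.isBaseChange R A S S' hpo.out
  haveI := projective_of_geomIntegral hgi'
  obtain ⟨σ', hσ'⟩ := Module.projective_def.1 ‹Module.Projective A S'›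
  obtain ⟨hQ, hQc⟩ := isPrime_map_of_geomIntegral hgi' p'
  haveI := hQ
  have hbc : IsBaseChange A (IsScalarTower.toAlgHom R S S').toLinearMap := hpo.out
  let τ : S' →ₗ[A] (S →₀ A) := hbc.lift ((Finsupp.mapRange.linearMap (Algebra.linearMap R A)).comp σ)
  have hτ : ∀ (s : S) (b : S), τ (algebraMap S S' s) b = ι (σ s b) := fun s b => by
    have := hbc.lift_eq ((Finsupp.mapRange.linearMap (Algebra.linearMap R A)).comp σ) s
    exact (DFunLike.congr_fun this b).trans (by simp [ι])
  have hτQ : ∀ w ∈ p'.map (algebraMap A S'), ∀ b, τ w b ∈ p' := fun w hw b => by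
    rw [← hσ' w, Finsupp.linearCombination_apply, map_finsuppSum, Finsupp.sum, Finsupp.finsetSum_apply]
    refine sum_mem fun i _ => ?_
    rw [map_smul, Finsupp.smul_apply]
    exact p'.mul_mem_right _ ((mem_map_iff_coords σ' hσ' p' w).1 hw i)
  have hregS : ∀ v : S', algebraMap A S' (ι a) * v = 0 → v = 0 := fun v hv => by
    rw [← hσ' v]
    have : σ' v = 0 := by
      ext i
      refine hreg _ ?_
      have h1 := congrArg (fun w => σ' w i) hv
      simp only [← Algebra.smul_def, map_smul, Finsupp.smul_apply, smul_eq_mul, map_zero, Finsupp.coe_zero, Pi.zero_apply] at h1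
      exact h1
    rw [this, map_zero]
  have hmapA : ∀ t : R, algebraMap A S' (ι t) = algebraMap R S' t := fun t =>
    (IsScalarTower.algebraMap_apply R A S' t).symm
  have hγ : algebraMap A S' (ι k) * algebraMap A S' (ι f) = algebraMap R S' a * algebraMap A S' (ζ k) := by
    rw [← map_mul, ← map_mul, hζ k, map_mul, hmapA]
  refine free_of_fitting_content (S' ⊗[S] M) r (algebraMap R S' a) _ _ _ (p'.map (algebraMap A S')) (fun h => hk ?_) hγ
    (fun v hv => hregS v (by rwa [hmapA])) ?_ ?_ ?_
  · rw [← hQc]; exact h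
  · intro j hj
    rw [Groth.Agent.FittingLib.ideal_baseChange, ← hG, Ideal.map_span] at hj
    have key : Ideal.span (algebraMap S S' '' (G : Set S)) ≤
        Submodule.comap (LinearMap.mulLeft S' (algebraMap A S' (ζ k))) (Ideal.span {algebraMap A S' (ι k)}) := by
      rw [Ideal.span_le]
      rintro _ ⟨g, hg, rfl⟩
      show algebraMap A S' (ζ k) * algebraMap S S' g ∈ Ideal.span {algebraMap A S' (ι k)}
      rw [← hσ g, Finsupp.linearCombination_apply, Finsupp.sum, map_sum, Finset.mul_sum]
      refine sum_mem fun b _ => ?_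
      rw [Algebra.smul_def, map_mul, ← IsScalarTower.algebraMap_apply R S S', ← hmapA, ← mul_assoc, ← map_mul]
      refine Ideal.mul_mem_right _ _ ?_
      have hmem : ∀ v ∈ Ideal.span (C : Set R), ζ k * ι v ∈ Ideal.span {ι (k : R)} := fun v hv => by
        have hle : Ideal.span (C : Set R) ≤ Ideal.comap ι (Submodule.comap (LinearMap.mulLeft A (ζ k)) (Ideal.span {ι (k : R)}) : Ideal A) := by
          rw [Ideal.span_le]
          intro l hl
          show ζ k * ι l ∈ Ideal.span {ι (k : R)}
          rw [hprop ⟨l, hl⟩]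
          exact Ideal.mul_mem_left _ _ (Ideal.mem_span_singleton_self _)
        exact hle hv
      have := Ideal.mem_map_of_mem (algebraMap A S') (hmem _ (hGC g hg b))
      rwa [Ideal.map_span, Set.image_singleton] at this
    exact key hj
  · by_contra! hall
    obtain ⟨g, hg, b, hb⟩ := hCG _ k.2
    obtain ⟨t, ht, hgt⟩ := hall (algebraMap S S' g) (by
      rw [Groth.Agent.FittingLib.ideal_baseChange, ← hG]
      exact Ideal.mem_map_of_mem _ (Ideal.subset_span hg))
    have h2 := congrArg (fun v => τ v b) hgt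
    simp only [← Algebra.smul_def, map_smul, Finsupp.smul_apply, smul_eq_mul, hτ, hb] at h2
    have hπ := hτQ t ht b
    refine hk ?_
    have h3 : (ζ k - τ t b) * ζ k = 0 := hreg _ (by
      have e2 : ι k * ι f = ι a * ζ k := by rw [← map_mul]; exact hζ k
      linear_combination ι f * h2 - (ζ k - τ t b) * e2)
    refine (hp'.mem_or_mem (h3 ▸ p'.zero_mem)).elim (fun h => ?_) id
    simpa using p'.add_mem h hπ
  · intro hr
    rw [Groth.Agent.FittingLib.ideal_baseChange, Ideal.map_eq_bot_iff_le_ker]
    intro e he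
    obtain ⟨N, hN⟩ := hlow hr e he
    rw [RingHom.mem_ker]
    have : algebraMap R S' a ^ N * algebraMap S S' e = 0 := by
      rw [← hfa, map_mul, mul_pow, mul_assoc, IsScalarTower.algebraMap_apply R S S' f, ← map_pow (algebraMap S S'), ← map_mul (algebraMap S S'), hN,
        map_zero, mul_zero]
    clear hN
    induction N with
    | zero => simpa using this
    | succ N ih =>
      rw [pow_succ', mul_assoc] at this
      exact ih (hregS _ (by rwa [hmapA]))


/-- The main theorem for a finitely presented module. -/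
theorem exists_ideal_free_of_fitting_fg {R S : Type u} [CommRing R] [CommRing S] [Algebra R S]
    [Algebra.FinitePresentation R S] [Module.Flat R S] (hgi : FlatCA.GeomIntegralFibres R S) (f : R) (r : ℕ)
    (M : Type u) [AddCommGroup M] [Module S M] [Module.Finite S M] (hFG : (Fitt.ideal S M r).FG)
    (hfree : ∀ (p : Ideal R) [p.IsPrime] [(p.map (algebraMap R S)).IsPrime], f ∉ p →
      Module.Free (Localization.AtPrime (p.map (algebraMap R S))) (LocalizedModule (p.map (algebraMap R S)).primeCompl M) ∧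
      Module.rank (Localization.AtPrime (p.map (algebraMap R S))) (LocalizedModule (p.map (algebraMap R S)).primeCompl M) = r) :
    ∃ I : Ideal R, I.FG ∧ I.radical = (Ideal.span {f}).radical ∧ I ≤ Ideal.span {f} ∧ ∀ a ∈ I,
      ∀ (S' : Type u) [CommRing S'] [Algebra S S'] [Algebra (BlowUp.affineAlgebra R I a) S'] [Algebra R S']
        [IsScalarTower R S S'] [IsScalarTower R (BlowUp.affineAlgebra R I a) S']
        [Algebra.IsPushout R S (BlowUp.affineAlgebra R I a) S'],
        ∀ (p' : Ideal (BlowUp.affineAlgebra R I a)) [p'.IsPrime],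
          ∃ g : S', g ∉ p'.map (algebraMap (BlowUp.affineAlgebra R I a) S') ∧
            Module.Free (Localization.Away g)
              (LocalizedModule (Submonoid.powers g) ((S' ⊗[S] M) ⧸ FlatCA.powTorsion S' (algebraMap R S' a) (S' ⊗[S] M))) ∧
            Module.rank (Localization.Away g)
              (LocalizedModule (Submonoid.powers g) ((S' ⊗[S] M) ⧸ FlatCA.powTorsion S' (algebraMap R S' a) (S' ⊗[S] M))) = r := by
  classical
  haveI := projective_of_geomIntegral hgi
  obtain ⟨σ, hσ⟩ := Module.projective_def.1 ‹Module.Projective R S›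
  obtain ⟨⟨G, C, hG, hGC, hCG, hfC⟩, hlow⟩ := exists_content_ideal hgi f r M hFG hfree σ hσ
  refine ⟨Ideal.span (C : Set R) * Ideal.span {f}, Submodule.FG.mul ⟨C, rfl⟩ ⟨{f}, by simp⟩, ?_, Ideal.mul_le_right, ?_⟩
  · rw [Ideal.radical_mul, inf_eq_right, Ideal.radical_le_radical_iff, Ideal.span_le, Set.singleton_subset_iff]
    exact hfC
  intro a ha S' _ _ _ _ _ _ _ p' _
  obtain ⟨hreg, hdiv⟩ := affineAlgebra_basic (Ideal.span (C : Set R) * Ideal.span {f}) a
  exact exists_free_at_prime hgi f r M σ hσ G C hG hGC hCG hlow a ha _ hreg hdiv S' _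

end Groth.Agent.Dev4
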