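import Groth.Agent.Lib.Dev4.HensPoint
import Groth.Agent.Lib.Dev4.EtaleDivisible
import Groth.Agent.Lib.CAlgLow.UI
import Groth.Agent.S1215

/-!
# A map injective modulo the maximal ideal to a flat module is universally injective
-/

set_option autoImplicit false
set_option maxSynthPendingDepth 3

universe u

open TensorProduct IsLocalRing
open scoped Pointwise

set_option backward.isDefEq.respectTransparency.types false

attribute [local instance] Algebra.TensorProduct.rightAlgebra

namespace Groth.Agent.Dev4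

/-- In a flat finite module over a local algebra, only zero is divisible by all nonzero elements of a
base without socle. -/
theorem eq_zero_of_divisible {R B N : Type u} [CommRing R] [IsLocalRing R] [CommRing B] [IsLocalRing B] [Algebra R B]
    [IsLocalHom (algebraMap R B)] [Algebra.EssFiniteType R B] [AddCommGroup N] [Module R N] [Module B N]
    [IsScalarTower R B N] [Module.Finite B N] [Module.Flat R N]
    (hsoc : ∀ ω : R, (∀ q ∈ maximalIdeal R, q * ω = 0) → ω = 0)
    (x : N) (hx : ∀ r : R, r ≠ 0 → ∃ n, x = r • n) : x = 0 := by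
  classical
  by_contra hx0
  have hunif : ∀ r s : R, r ≠ 0 → s ≠ 0 → ∃ a b : R, r * a = s * b ∧ r * a ≠ 0 := by
    intro r s hr hs
    by_contra hc
    push Not at hc
    let φ : R →ₗ[R] (R ⧸ Ideal.span {r}) × (R ⧸ Ideal.span {s}) :=
      (Ideal.span {r}).mkQ.prod (Ideal.span {s}).mkQ
    have hφ : Function.Injective φ := by
      rw [injective_iff_map_eq_zero]
      intro z hz
      obtain ⟨a, ha⟩ := Ideal.mem_span_singleton'.1 ((Submodule.Quotient.mk_eq_zero _).1 (congrArg Prod.fst hz))
      obtain ⟨b, hb⟩ := Ideal.mem_span_singleton'.1 ((Submodule.Quotient.mk_eq_zero _).1 (congrArg Prod.snd hz))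
      rw [← ha, mul_comm]
      exact hc a b (by rw [mul_comm, ha, mul_comm s b, hb])
    have hzero : x ⊗ₜ[R] φ 1 = 0 := by
      obtain ⟨n₁, hn₁⟩ := hx r hr
      obtain ⟨n₂, hn₂⟩ := hx s hs
      have e1 : r • ((Ideal.span {r}).mkQ 1, (0 : R ⧸ Ideal.span {s})) = 0 := by
        rw [Prod.smul_mk, smul_zero, ← map_smul, smul_eq_mul, mul_one]
        exact Prod.ext ((Submodule.Quotient.mk_eq_zero _).2 (Ideal.mem_span_singleton_self r)) rfl
      have e2 : s • ((0 : R ⧸ Ideal.span {r}), (Ideal.span {s}).mkQ 1) = 0 := by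
        rw [Prod.smul_mk, smul_zero, ← map_smul, smul_eq_mul, mul_one]
        exact Prod.ext rfl ((Submodule.Quotient.mk_eq_zero _).2 (Ideal.mem_span_singleton_self s))
      have z1 : x ⊗ₜ[R] ((Ideal.span {r}).mkQ 1, (0 : R ⧸ Ideal.span {s})) = 0 := by
        rw [hn₁, TensorProduct.smul_tmul, e1, TensorProduct.tmul_zero]
      have z2 : x ⊗ₜ[R] ((0 : R ⧸ Ideal.span {r}), (Ideal.span {s}).mkQ 1) = 0 := by
        rw [hn₂, TensorProduct.smul_tmul, e2, TensorProduct.tmul_zero]
      have h1 : φ 1 = ((Ideal.span {r}).mkQ 1, 0) + (0, (Ideal.span {s}).mkQ 1) := by simp [φ]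
      rw [h1, TensorProduct.tmul_add, z1, z2, add_zero]
    have h1 : x ⊗ₜ[R] (1 : R) = 0 := Module.Flat.lTensor_preserves_injective_linearMap (M := N) φ hφ (by
      rw [LinearMap.lTensor_tmul, hzero, map_zero])
    exact hx0 (by simpa using congrArg (TensorProduct.rid R N) h1)
  let H := Hens.Hh R
  obtain ⟨Q, hQ, hQA, hQB⟩ := exists_prime_over_both (B := R) (SA := H) (S := B) (maximalIdeal H) (maximalIdeal B) (by
    rw [IsLocalRing.maximalIdeal_comap, IsLocalRing.maximalIdeal_comap])
  haveI := hQ
  let C := Localization.AtPrime Q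
  haveI : IsLocalHom (algebraMap H C) := isLocalHom_atPrime Q hQA
  haveI : Algebra.EssFiniteType H C := Algebra.EssFiniteType.comp H (H ⊗[R] B) C
  haveI : Module.Flat H ((H ⊗[R] B) ⊗[B] N) :=
    Module.Flat.of_linearEquiv (M := H ⊗[R] N) (isBaseChange_tensor (A := R) H (B := B) N).equiv.symm
  let Ns := C ⊗[H ⊗[R] B] ((H ⊗[R] B) ⊗[B] N)
  haveI : Module.Flat H Ns := flat_tensor_of_flat _
  have hml : CAlg.IsMittagLeffler H Ns := S1215.result (A := H) (B := C) Ns
  obtain ⟨ι, hι, hιn⟩ := universallyInjective_toPoint Q hQB N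
  have hιi : Function.Injective ι := fun a b hab =>
    (TensorProduct.rid R N).symm.injective (hι R (by
      show ι a ⊗ₜ[R] (1 : R) = ι b ⊗ₜ[R] (1 : R)
      rw [hab]))
  let idx := { r : R // r ≠ 0 }
  let Qf : idx → Type u := fun r => H ⧸ Ideal.span {algebraMap R H r.1}
  let j : H →ₗ[H] (∀ r : idx, Qf r) := LinearMap.pi fun r => (Ideal.span {algebraMap R H r.1}).mkQ
  have hj : Function.Injective j := by
    rw [injective_iff_map_eq_zero]
    intro c hc
    refine eq_zero_of_forall_divisible hsoc hunif c fun r hr => ?_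
    obtain ⟨v, hv⟩ := Ideal.mem_span_singleton'.1 ((Submodule.Quotient.mk_eq_zero _).1 (congrFun hc ⟨r, hr⟩))
    exact ⟨v, by rw [Algebra.smul_def, ← hv, mul_comm]⟩
  have h1 : ι x ⊗ₜ[H] j 1 = 0 := by
    refine hml idx Qf (funext fun r => ?_)
    rw [map_zero, TensorProduct.piRightHom_tmul]
    show ι x ⊗ₜ[H] (Ideal.span {algebraMap R H r.1}).mkQ 1 = 0
    obtain ⟨n, hn⟩ := hx r.1 r.2
    rw [hn, map_smul, ← algebraMap_smul H r.1 (ι n), TensorProduct.smul_tmul, ← map_smul, smul_eq_mul, mul_one,
      Submodule.mkQ_apply, (Submodule.Quotient.mk_eq_zero _).2 (Ideal.mem_span_singleton_self _), TensorProduct.tmul_zero]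
  have h2 : ι x ⊗ₜ[H] (1 : H) = 0 := Module.Flat.lTensor_preserves_injective_linearMap (M := Ns) j hj (by
    rw [LinearMap.lTensor_tmul, h1, map_zero])
  exact hx0 (hιi (by rw [map_zero]; simpa using congrArg (TensorProduct.rid H Ns) h2))

/-- With a flat source, a map injective modulo the maximal ideal is universally injective. -/
theorem universallyInjective_of_injective_mod {A B M N : Type u} [CommRing A] [CommRing B] [IsLocalRing A] [IsLocalRing B]
    [Algebra A B] [IsLocalHom (algebraMap A B)] [Algebra.EssFiniteType A B]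
    [AddCommGroup M] [Module A M] [Module.Flat A M]
    [AddCommGroup N] [Module A N] [Module B N] [IsScalarTower A B N] [Module.Finite B N] [Module.Flat A N]
    (u : N →ₗ[A] M) (h : Function.Injective (LinearMap.lTensor (ResidueField A) u)) :
    CAlgX.UniversallyInjective A u := by
  classical
  -- the key: preimages of multiples of ideals
  have key : ∀ (I : Ideal A) (x : N), u x ∈ I • (⊤ : Submodule A M) → x ∈ I • (⊤ : Submodule A N) := by
    intro I₀ x hux
    by_contra hx
    let s : Set (Ideal A) := {I | I₀ ≤ I ∧ x ∉ I • (⊤ : Submodule A N)}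
    obtain ⟨I, hI0, hImax⟩ := zorn_le_nonempty₀ s (fun c hc hch y hy => by
      refine ⟨sSup c, ⟨(hc hy).1.trans (le_sSup hy), fun hmem => ?_⟩, fun z hz => le_sSup hz⟩
      rw [sSup_eq_iSup', Submodule.iSup_smul] at hmem
      haveI : Nonempty c := ⟨⟨y, hy⟩⟩
      obtain ⟨z, hz⟩ := (Submodule.mem_iSup_of_directed _ (hch.directed.mono_comp _ (fun a b hab => Submodule.smul_mono_left hab))).1 hmem
      exact (hc z.2).2 hz) I₀ ⟨le_rfl, hx⟩
    obtain ⟨hI₀I, hxI⟩ : I₀ ≤ I ∧ x ∉ I • (⊤ : Submodule A N) := hImax.1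
    have huxI : u x ∈ I • (⊤ : Submodule A M) := Submodule.smul_mono_left hI₀I hux
    have hIm : I ≤ maximalIdeal A := by
      refine IsLocalRing.le_maximalIdeal fun hc => hxI ?_
      rw [hc, Submodule.top_smul]
      trivial
    let R := A ⧸ I
    haveI : Nontrivial R := Ideal.Quotient.nontrivial_iff.2 (ne_top_of_le_ne_top (maximalIdeal.isMaximal A).ne_top hIm)
    haveI : IsLocalRing R := IsLocalRing.of_surjective' (Ideal.Quotient.mk I) Ideal.Quotient.mk_surjective
    haveI : IsLocalHom (algebraMap A R) := (Ideal.Quotient.mk_surjective (I := I)).isLocalHom _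
    let Bb := R ⊗[A] B
    have hsB : Function.Surjective (algebraMap B Bb) := fun z => by
      induction z using TensorProduct.induction_on with
      | zero => exact ⟨0, map_zero _⟩
      | add p q hp hq =>
        obtain ⟨a, ha⟩ := hp
        obtain ⟨b, hb⟩ := hq
        exact ⟨a + b, by rw [map_add, ha, hb]⟩
      | tmul c b =>
        obtain ⟨a, rfl⟩ := Ideal.Quotient.mk_surjective c
        exact ⟨a • b, by
          show (1 : R) ⊗ₜ[A] (a • b) = algebraMap A R a ⊗ₜ[A] b
          rw [TensorProduct.tmul_smul, TensorProduct.smul_tmul', Algebra.smul_def, mul_one]⟩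
    obtain ⟨P, hP, hPA, hPC⟩ := exists_prime_over_both (B := A) (SA := R) (S := B) (maximalIdeal R) (maximalIdeal B) (by
      rw [IsLocalRing.maximalIdeal_comap, IsLocalRing.maximalIdeal_comap])
    haveI := hP
    haveI : Nontrivial Bb := by
      by_contra hn
      rw [not_nontrivial_iff_subsingleton] at hn
      exact hP.ne_top (Subsingleton.elim _ _)
    haveI : IsLocalRing Bb := IsLocalRing.of_surjective' _ hsB
    haveI : IsLocalHom (algebraMap R Bb) := ⟨fun r hr => by
      by_contra hnr
      exact hP.ne_top (Ideal.eq_top_of_isUnit_mem P (hPA.ge ((IsLocalRing.mem_maximalIdeal r).2 hnr) :) hr)⟩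
    let Nb := Bb ⊗[B] N
    have hbc := isBaseChange_tensor (A := A) R (B := B) N
    haveI : Module.Flat R Nb := Module.Flat.of_linearEquiv (M := R ⊗[A] N) hbc.equiv.symm
    have hker : ∀ (X : Type u) [AddCommGroup X] [Module A X] (z : X), (1 : R) ⊗ₜ[A] z = 0 ↔ z ∈ I • (⊤ : Submodule A X) :=
      fun X _ _ z => by
        rw [← tmul_one_quotient_eq_zero_iff, ← LinearEquiv.map_eq_zero_iff (TensorProduct.comm A R X), TensorProduct.comm_tmul]
    have hsoc : ∀ ω : R, (∀ q ∈ maximalIdeal R, q * ω = 0) → ω = 0 := by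
      intro ω hω
      by_contra hω0
      obtain ⟨w, rfl⟩ := Ideal.Quotient.mk_surjective ω
      have hwI : w ∉ I := fun hw => hω0 (Ideal.Quotient.eq_zero_iff_mem.2 hw)
      have hxw : x ∈ (I ⊔ Ideal.span {w}) • (⊤ : Submodule A N) := by
        by_contra hc
        exact hwI (hImax.2 ⟨hI₀I.trans le_sup_left, hc⟩ le_sup_left (Submodule.mem_sup_right (Ideal.mem_span_singleton_self w)))
      rw [Submodule.sup_smul, Submodule.mem_sup] at hxw
      obtain ⟨y, hy, z, hz, hyz⟩ := hxw
      rw [Submodule.ideal_span_singleton_smul] at hz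
      obtain ⟨n, -, hn⟩ := hz
      replace hn : w • n = z := hn
      subst hn
      have hzero : Ideal.Quotient.mk I w • ((1 : R) ⊗ₜ[A] u n) = 0 := by
        rw [← Ideal.Quotient.algebraMap_eq, algebraMap_smul, ← TensorProduct.tmul_smul, ← map_smul, hker]
        have h1 : w • n = x - y := by rw [← hyz, add_sub_cancel_left]
        rw [h1, map_sub]
        exact Submodule.sub_mem _ huxI ((Submodule.map_smul'' I ⊤ u).le.trans (Submodule.smul_mono le_rfl le_top) ⟨y, hy, rfl⟩)
      have hmem := mem_annihilator_smul_top (R := R) (M := R ⊗[A] M) _ _ hzero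
      have hann : (Submodule.span R {Ideal.Quotient.mk I w}).annihilator ≤ maximalIdeal R := by
        refine IsLocalRing.le_maximalIdeal fun hc => hω0 ?_
        have := (Submodule.mem_annihilator_span_singleton _ (1 : R)).1 (hc ▸ Submodule.mem_top)
        rwa [one_smul] at this
      let π : R ⊗[A] M →ₗ[A] ResidueField A ⊗[A] M :=
        (Ideal.Quotient.factorₐ A hIm).toLinearMap.rTensor M
      have hπ : ∀ t ∈ maximalIdeal R • (⊤ : Submodule R (R ⊗[A] M)), π t = 0 := fun t ht => by
        induction ht using Submodule.smul_induction_on' with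
        | smul c hc t ht' =>
          clear ht'
          obtain ⟨a, rfl⟩ := Ideal.Quotient.mk_surjective c
          rw [← Ideal.Quotient.algebraMap_eq, algebraMap_smul, map_smul]
          have ha : a ∈ maximalIdeal A := (IsLocalRing.mem_maximalIdeal a).2 fun hu =>
            (IsLocalRing.mem_maximalIdeal _).1 hc (hu.map _)
          induction t using TensorProduct.induction_on with
          | zero => simp
          | add a b ha hb => rw [map_add, smul_add, ha, hb, add_zero]
          | tmul r m =>
            show a • (Ideal.Quotient.factorₐ A hIm r ⊗ₜ[A] m) = 0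
            rw [TensorProduct.smul_tmul', Algebra.smul_def, show algebraMap A (A ⧸ maximalIdeal A) a = 0 from
              Ideal.Quotient.eq_zero_iff_mem.2 ha, zero_mul, TensorProduct.zero_tmul]
        | add p _ q _ hp hq => rw [map_add, hp, hq, add_zero]
      have hn0 : (1 : ResidueField A) ⊗ₜ[A] n = 0 := h (by
        rw [map_zero, LinearMap.lTensor_tmul]
        have := hπ _ (Submodule.smul_mono_left hann hmem)
        exact this)
      have hnm : n ∈ maximalIdeal A • (⊤ : Submodule A N) := by
        rw [← tmul_one_quotient_eq_zero_iff, ← LinearEquiv.map_eq_zero_iff (TensorProduct.comm A N (A ⧸ maximalIdeal A)),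
          TensorProduct.comm_tmul]
        exact hn0
      refine hxI ?_
      rw [← hyz]
      refine Submodule.add_mem _ hy ?_
      suffices hs : ∀ k ∈ maximalIdeal A • (⊤ : Submodule A N), w • k ∈ I • (⊤ : Submodule A N) from hs n hnm
      intro k hk
      clear hyz hzero hmem hn0 hnm
      induction hk using Submodule.smul_induction_on' with
      | smul c hc n' _ =>
        rw [← mul_smul]
        refine Submodule.smul_mem_smul ?_ trivial
        rw [← Ideal.Quotient.eq_zero_iff_mem, map_mul, mul_comm]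
        exact hω _ ((IsLocalRing.mem_maximalIdeal _).2 fun hu =>
          (IsLocalRing.mem_maximalIdeal c).1 hc (isUnit_of_map_unit (algebraMap A R) c hu))
      | add p _ q _ hp hq => rw [smul_add]; exact Submodule.add_mem _ hp hq
    have hdiv : ∀ r : R, r ≠ 0 → ∃ t : Nb, ((1 : Bb) ⊗ₜ[B] x) = r • t := by
      intro r hr
      obtain ⟨w, rfl⟩ := Ideal.Quotient.mk_surjective r
      have hwI : w ∉ I := fun hw => hr (Ideal.Quotient.eq_zero_iff_mem.2 hw)
      have hxw : x ∈ (I ⊔ Ideal.span {w}) • (⊤ : Submodule A N) := by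
        by_contra hc
        exact hwI (hImax.2 ⟨hI₀I.trans le_sup_left, hc⟩ le_sup_left (Submodule.mem_sup_right (Ideal.mem_span_singleton_self w)))
      rw [Submodule.sup_smul, Submodule.mem_sup, Submodule.ideal_span_singleton_smul] at hxw
      obtain ⟨y, hy, z, hz, hyz⟩ := hxw
      obtain ⟨n, -, hn⟩ := hz
      replace hn : w • n = z := hn
      subst hn
      refine ⟨(1 : Bb) ⊗ₜ[B] n, ?_⟩
      have hy0 : (1 : R) ⊗ₜ[A] y = 0 := (hker N y).2 hy
      have := congrArg hbc.equiv hy0
      rw [IsBaseChange.equiv_tmul, one_smul, map_zero] at this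
      rw [← hyz, TensorProduct.tmul_add, show (1 : Bb) ⊗ₜ[B] y = 0 from this, zero_add]
      show (TensorProduct.mk B Bb N 1).restrictScalars A (w • n) = _
      rw [map_smul, ← algebraMap_smul R w]
      rfl
    have hzero := eq_zero_of_divisible (R := R) (B := Bb) hsoc _ hdiv
    refine hxI ((hker N x).1 (hbc.equiv.injective ?_))
    rw [IsBaseChange.equiv_tmul, one_smul, map_zero]
    exact hzero
  have hquot : ∀ I : Ideal A, Function.Injective (u.rTensor (A ⧸ I)) := by
    intro I
    rw [injective_iff_map_eq_zero]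
    intro z hz
    obtain ⟨x, rfl⟩ : ∃ x : N, x ⊗ₜ[A] (1 : A ⧸ I) = z := by
      clear hz
      induction z using TensorProduct.induction_on with
      | zero => exact ⟨0, TensorProduct.zero_tmul _ _⟩
      | tmul n c =>
        obtain ⟨a, rfl⟩ := Ideal.Quotient.mk_surjective c
        exact ⟨a • n, by rw [TensorProduct.smul_tmul, Algebra.smul_def, mul_one, Ideal.Quotient.algebraMap_eq]⟩
      | add p q hp hq =>
        obtain ⟨a, ha⟩ := hp
        obtain ⟨b, hb⟩ := hq
        exact ⟨a + b, by rw [TensorProduct.add_tmul, ha, hb]⟩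
    rw [LinearMap.rTensor_tmul, tmul_one_quotient_eq_zero_iff] at hz
    exact (tmul_one_quotient_eq_zero_iff I x).2 (key I x hz)
  have hinj : Function.Injective u := by
    rw [injective_iff_map_eq_zero]
    intro x hx
    have := key ⊥ x (by rw [hx]; exact zero_mem _)
    simpa using this
  let g := (LinearMap.range u).mkQ
  have hex : Function.Exact u g := LinearMap.exact_map_mkQ_range u
  haveI : Module.Flat A (M ⧸ LinearMap.range u) := CAlgLow.flat_right_of_injective_quotient
    (fun I _ => hquot I) hex (Submodule.mkQ_surjective _)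
  exact CAlgLow.ui_of_flat_coker hinj hex (Submodule.mkQ_surjective _)

end Groth.Agent.Dev4
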