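import Groth.Agent.Lib.Dev4.Conseq
import Groth.Agent.Lib.Dev4.GoodOpen
import Groth.Agent.Lib.Dev4.FlatAtTransfer
import Groth.Agent.Lib.FlatH4.FlatLocusFP
import Groth.Agent.S1208
import Groth.Agent.S1233
import Mathlib.RingTheory.Flat.EquationalCriterion

/-!
# Flat modules of finite type over bases with finitely many weakly associated primes
-/

set_option autoImplicit false
set_option maxSynthPendingDepth 3

universe u

open TensorProduct IsLocalRing

set_option backward.isDefEq.respectTransparency.types false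

attribute [local instance] Algebra.TensorProduct.rightAlgebra

namespace Groth.Agent.Dev4

theorem weakAss_congr {R M M' : Type u} [CommRing R] [AddCommGroup M] [Module R M] [AddCommGroup M'] [Module R M']
    (e : M ≃ₗ[R] M') : FlatCA.weakAss R M = FlatCA.weakAss R M' := by
  have h : ∀ (X Y : Type u) [AddCommGroup X] [Module R X] [AddCommGroup Y] [Module R Y] (i : X ≃ₗ[R] Y) (x : X),
      (Submodule.span R {x}).annihilator = (Submodule.span R {i x}).annihilator := fun X Y _ _ _ _ i x => by
    ext r
    simp only [Submodule.mem_annihilator_span_singleton]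
    rw [← map_smul, i.map_eq_zero_iff]
  ext p
  constructor
  · rintro ⟨m, hm⟩
    exact ⟨e m, h M M' e m ▸ hm⟩
  · rintro ⟨m, hm⟩
    exact ⟨e.symm m, h M' M e.symm m ▸ hm⟩

theorem weakAss_isPrime {R M : Type u} [CommRing R] [AddCommGroup M] [Module R M] {p : Ideal R}
    (h : p ∈ FlatCA.weakAss R M) : p.IsPrime := by
  obtain ⟨m, hm⟩ := h
  exact hm.1.1

/-- Finitely many weakly associated primes pass to étale algebras. -/
theorem weakAss_finite_of_etale {R R' : Type u} [CommRing R] [CommRing R'] [Algebra R R'] [Algebra.Etale R R']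
    (hR : (FlatCA.weakAss R R).Finite) : (FlatCA.weakAss R' R').Finite := by
  refine (hR.biUnion fun p _ => Algebra.QuasiFinite.finite_primesOver (S := R') p).subset fun u hu => ?_
  haveI := weakAss_isPrime hu
  haveI : u.LiesOver (u.under R) := ⟨rfl⟩
  refine Set.mem_biUnion (x := u.under R) ?_ ⟨inferInstance, inferInstance⟩
  refine (S1233.result (B := R') R (u.under R) u).1 ?_
  rwa [weakAss_congr (Algebra.TensorProduct.rid R R' R').toLinearEquiv]

/-- Away from a suitable element, elements off a prime are nonzerodivisors. -/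
theorem exists_regular_away {R : Type u} [CommRing R] (hR : (FlatCA.weakAss R R).Finite) (p : Ideal R) [p.IsPrime] :
    ∃ f : R, f ∉ p ∧ ∀ u : R, u ∉ p → ∀ a : R, u * a = 0 → ∃ k : ℕ, f ^ k * a = 0 := by
  classical
  have hsel : ∀ t : {t : Ideal R // t ∈ FlatCA.weakAss R R ∧ ¬ t ≤ p}, ∃ x, x ∈ t.1 ∧ x ∉ p := fun t =>
    Set.not_subset.1 t.2.2
  choose x hx hxp using hsel
  haveI : Finite {t : Ideal R // t ∈ FlatCA.weakAss R R ∧ ¬ t ≤ p} := (hR.subset fun t ht => ht.1).to_subtype
  haveI := Fintype.ofFinite {t : Ideal R // t ∈ FlatCA.weakAss R R ∧ ¬ t ≤ p}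
  refine ⟨∏ t, x t, fun h => ?_, fun u hu a hua => ?_⟩
  · obtain ⟨t, -, ht⟩ := (Ideal.IsPrime.prod_mem_iff).1 h
    exact hxp t ht
  · by_contra hc
    push Not at hc
    let J := (Submodule.span R {a}).annihilator
    have hdisj : Disjoint (J : Set R) (Submonoid.powers (∏ t, x t) : Set R) := Set.disjoint_left.2 fun y hy hy' => by
      obtain ⟨k, rfl⟩ := hy'
      exact hc k ((Submodule.mem_annihilator_span_singleton _ _).1 hy)
    obtain ⟨P, hP, hJP, hPd⟩ := Ideal.exists_le_prime_disjoint J _ hdisj
    obtain ⟨t, ht, htP⟩ := Ideal.exists_minimalPrimes_le hJP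
    have hut : u ∈ t := ht.1.2 ((Submodule.mem_annihilator_span_singleton _ _).2 hua)
    have htp : ¬ t ≤ p := fun h => hu (h hut)
    refine Set.disjoint_left.1 hPd (htP ?_) (Submonoid.mem_powers _)
    exact Ideal.mem_of_dvd _ (Finset.dvd_prod_of_mem _ (Finset.mem_univ ⟨t, ⟨a, ht⟩, htp⟩)) (hx ⟨t, ⟨a, ht⟩, htp⟩)

/-- Regular elements up to a power act injectively on flat modules. -/
theorem eq_zero_of_smul_eq_zero {R X : Type u} [CommRing R] [AddCommGroup X] [Module R X] [Module.Flat R X] {f u : R}
    (h : ∀ a : R, u * a = 0 → ∃ k : ℕ, f ^ k * a = 0) (hf : Function.Injective fun x : X => f • x)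
    {z : X} (hz : u • z = 0) : z = 0 := by
  classical
  obtain ⟨k, a, y, hzy, hua⟩ :=
    Module.Flat.isTrivialRelation_of_sum_smul_eq_zero (R := R) (ι := Fin 1) (f := fun _ => u) (x := fun _ => z)
      (by rw [Fin.sum_univ_one]; exact hz)
  choose e he using fun j => h (a 0 j) (by simpa using hua j)
  have hpow : ∀ n, Function.Injective fun x : X => f ^ n • x := fun n => by
    induction n with
    | zero => intro a b hab; simpa using hab
    | succ n ih =>
      intro a b hab
      have hab' : f ^ n • f • a = f ^ n • f • b := by rw [← mul_smul, ← mul_smul, ← pow_succ]; exact hab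
      exact hf (ih hab')
  apply hpow (Finset.univ.sup e)
  show f ^ (Finset.univ.sup e) • z = f ^ (Finset.univ.sup e) • 0
  rw [smul_zero, show z = ∑ j, a 0 j • y j from hzy 0, Finset.smul_sum]
  refine Finset.sum_eq_zero fun j _ => ?_
  rw [← mul_smul]
  obtain ⟨d, hd⟩ := Nat.exists_eq_add_of_le (Finset.le_sup (f := e) (Finset.mem_univ j))
  rw [hd, pow_add, mul_comm (f ^ e j) (f ^ d), mul_assoc, he j, mul_zero, zero_smul]

/-- A finitely presented module mapping onto a module with finitely presented localisation. -/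
theorem exists_fp_cover {S : Type u} [CommRing S] (N : Type u) [AddCommGroup N] [Module S N] [Module.Finite S N]
    (q : Ideal S) [q.IsPrime] (h : Module.FinitePresentation (Localization.AtPrime q) (LocalizedModule q.primeCompl N)) :
    ∃ (P : Type u) (_ : AddCommGroup P) (_ : Module S P) (_ : Module.FinitePresentation S P) (π : P →ₗ[S] N),
      Function.Surjective π ∧ ∀ x, π x = 0 → ∃ s : S, s ∉ q ∧ s • x = 0 := by
  classical
  haveI := h
  obtain ⟨n, α, hα⟩ := Module.Finite.exists_fin' S N
  let αq := LocalizedModule.map q.primeCompl α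
  have hsurj : Function.Surjective αq := LocalizedModule.map_surjective q.primeCompl α hα
  obtain ⟨G, hG⟩ := Module.FinitePresentation.fg_ker αq hsurj
  have hrep : ∀ z : G, ∃ (x : Fin n → S) (t : q.primeCompl), α x = 0 ∧ z.1 = LocalizedModule.mk x t := by
    rintro ⟨z, hz⟩
    induction z using LocalizedModule.induction_on with
    | h x t =>
      have hk : LocalizedModule.mk x t ∈ LinearMap.ker αq := hG.le (Submodule.subset_span hz)
      rw [LinearMap.mem_ker, LocalizedModule.map_mk, ← LocalizedModule.zero_mk t, LocalizedModule.mk_eq] at hk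
      obtain ⟨u, hu⟩ := hk
      simp only [Submonoid.smul_def, smul_zero, smul_smul] at hu
      refine ⟨((u : S) * (t : S)) • x, u * t * t, by rw [map_smul]; exact hu, ?_⟩
      rw [LocalizedModule.mk_eq]
      refine ⟨1, ?_⟩
      simp only [one_smul, Submonoid.smul_def, Submonoid.coe_mul, smul_smul]
      ring_nf
  choose x t hx hxt using hrep
  let K₀ := Submodule.span S (Set.range x)
  have hK₀ : K₀ ≤ LinearMap.ker α := Submodule.span_le.2 (by rintro _ ⟨z, rfl⟩; exact hx z)
  haveI : Module.FinitePresentation S ((Fin n → S) ⧸ K₀) :=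
    Module.finitePresentation_of_surjective K₀.mkQ K₀.mkQ_surjective (by
      rw [Submodule.ker_mkQ]; exact Submodule.fg_span (Set.finite_range x))
  refine ⟨(Fin n → S) ⧸ K₀, inferInstance, inferInstance, inferInstance, K₀.liftQ α hK₀, fun y => ?_, fun y hy => ?_⟩
  · obtain ⟨v, rfl⟩ := hα y
    exact ⟨Submodule.Quotient.mk v, Submodule.liftQ_apply _ _ _⟩
  · obtain ⟨v, rfl⟩ := Submodule.Quotient.mk_surjective K₀ y
    rw [Submodule.liftQ_apply] at hy
    let loc := Submodule.localized' (Localization.AtPrime q) q.primeCompl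
      (LocalizedModule.mkLinearMap q.primeCompl (Fin n → S)) K₀
    have hle : LinearMap.ker αq ≤ loc := by
      rw [← hG, Submodule.span_le]
      intro z hz
      rw [show z = LocalizedModule.mk (x ⟨z, hz⟩) (t ⟨z, hz⟩) from hxt ⟨z, hz⟩]
      exact ⟨x ⟨z, hz⟩, Submodule.subset_span ⟨_, rfl⟩, t ⟨z, hz⟩, (IsLocalizedModule.mk_eq_mk' _ _).symm⟩
    obtain ⟨m, hm, s, hs⟩ := hle (show LocalizedModule.mk v (1 : q.primeCompl) ∈ LinearMap.ker αq by
      rw [LinearMap.mem_ker, LocalizedModule.map_mk, hy, LocalizedModule.zero_mk])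
    rw [← IsLocalizedModule.mk_eq_mk', LocalizedModule.mk_eq] at hs
    obtain ⟨w, hw⟩ := hs
    simp only [Submonoid.smul_def, OneMemClass.coe_one, one_smul, smul_smul] at hw
    refine ⟨(w : S) * (s : S), (q.primeCompl.mul_mem w.2 s.2 :), ?_⟩
    rw [← Submodule.Quotient.mk_smul, Submodule.Quotient.mk_eq_zero, ← hw]
    exact K₀.smul_mem _ hm

/-- The kernel of a map of finitely presented localisations dies after shrinking. -/
theorem exists_ker_kill {A : Type u} [CommRing A] {P N : Type u} [AddCommGroup P] [Module A P] [Module.FinitePresentation A P]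
    [AddCommGroup N] [Module A N] (π : P →ₗ[A] N) (hπ : Function.Surjective π) (g : A) (Q : Ideal A) [Q.IsPrime] (hg : g ∉ Q)
    (hN : Module.FinitePresentation (Localization.Away g) (LocalizedModule (Submonoid.powers g) N))
    (hK : ∀ x, π x = 0 → ∃ s : A, s ∉ Q ∧ s • x = 0) :
    ∃ s : A, s ∉ Q ∧ ∀ x, π x = 0 → ∃ k : ℕ, s ^ k • x = 0 := by
  classical
  haveI := hN
  let T := Submonoid.powers g
  let πg := LocalizedModule.map T π
  haveI : Module.FinitePresentation (Localization.Away g) (LocalizedModule T P) :=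
    inferInstanceAs (Module.FinitePresentation (Localization T) (LocalizedModule T P))
  obtain ⟨G, hG⟩ := Module.FinitePresentation.fg_ker πg (LocalizedModule.map_surjective T π hπ)
  have hrep : ∀ z : G, ∃ s : A, s ∉ Q ∧ s • z.1 = 0 := by
    rintro ⟨z, hz⟩
    induction z using LocalizedModule.induction_on with
    | h x t =>
      have hk : LocalizedModule.mk x t ∈ LinearMap.ker πg := hG.le (Submodule.subset_span hz)
      rw [LinearMap.mem_ker, LocalizedModule.map_mk, ← LocalizedModule.zero_mk t, LocalizedModule.mk_eq] at hk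
      obtain ⟨u, hu⟩ := hk
      simp only [Submonoid.smul_def, smul_zero, smul_smul] at hu
      rw [← map_smul] at hu
      obtain ⟨s, hs, hsx⟩ := hK _ hu
      have hTQ : ∀ v : T, (v : A) ∉ Q := fun v hv => by
        obtain ⟨i, hi⟩ := v.2
        exact hg (‹Q.IsPrime›.mem_of_pow_mem i (by rwa [show g ^ i = (v : A) from hi]))
      refine ⟨s * ((u : A) * (t : A)),
        fun h => (‹Q.IsPrime›.mem_or_mem h).elim hs fun h' => (‹Q.IsPrime›.mem_or_mem h').elim (hTQ u) (hTQ t), ?_⟩
      rw [LocalizedModule.smul'_mk, mul_smul, hsx, LocalizedModule.zero_mk]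
  choose s hs hsz using hrep
  have hp : ∏ z, s z ∉ Q := fun h => by
    obtain ⟨z, -, hz⟩ := (Ideal.IsPrime.prod_mem_iff).1 h
    exact hs z hz
  refine ⟨g * ∏ z, s z, fun h => (‹Q.IsPrime›.mem_or_mem h).elim hg hp, fun x hx => ?_⟩
  have hmem : LocalizedModule.mk x (1 : T) ∈ LinearMap.ker πg := by
    rw [LinearMap.mem_ker, LocalizedModule.map_mk, hx, LocalizedModule.zero_mk]
  rw [← hG] at hmem
  have hall : ∀ w ∈ Submodule.span (Localization T) (G : Set (LocalizedModule T P)), (∏ z, s z) • w = 0 := by
    intro w hw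
    induction hw using Submodule.span_induction with
    | mem w hw =>
      obtain ⟨c, hc⟩ := Finset.dvd_prod_of_mem s (Finset.mem_univ ⟨w, hw⟩)
      rw [hc, mul_comm, mul_smul, hsz ⟨w, hw⟩, smul_zero]
    | zero => rw [smul_zero]
    | add a b _ _ ha hb => rw [smul_add, ha, hb, add_zero]
    | smul c a _ ha => rw [smul_comm, ha, smul_zero]
  have h1 := hall _ hmem
  rw [LocalizedModule.smul'_mk, ← LocalizedModule.zero_mk (1 : T), LocalizedModule.mk_eq] at h1
  obtain ⟨⟨_, i, rfl⟩, hi⟩ := h1
  simp only [Submonoid.smul_def, OneMemClass.coe_one, one_smul, smul_zero, smul_smul] at hi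
  refine ⟨i + 1, ?_⟩
  rw [show (g * ∏ z, s z) ^ (i + 1) = (g * (∏ z, s z) ^ i) * (g ^ i * ∏ z, s z) by ring, mul_smul, hi, smul_zero]

/-- A model of the localised base change. -/
theorem exists_local_model {R R' S' : Type u} [CommRing R] [CommRing R'] [CommRing S'] [Algebra R R'] [Algebra R' S']
    (p' : Ideal R') [p'.IsPrime] [Algebra R S'] [IsScalarTower R R' S'] {S : Type u} [CommRing S] [Algebra R S] [Algebra S S']
    [IsScalarTower R S S'] [Algebra.IsPushout R R' S S'] :
    ∃ (SA : Type u) (_ : CommRing SA) (_ : Algebra (Localization.AtPrime p') SA) (_ : Algebra S' SA) (_ : Algebra R SA)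
      (_ : Algebra S SA) (_ : Algebra R' SA) (_ : IsScalarTower S S' SA) (_ : IsScalarTower R S SA)
      (_ : IsScalarTower R (Localization.AtPrime p') SA) (_ : IsScalarTower R' S' SA)
      (_ : IsScalarTower R' (Localization.AtPrime p') SA) (_ : Algebra.IsPushout R S (Localization.AtPrime p') SA),
      IsLocalization (Algebra.algebraMapSubmonoid S' p'.primeCompl) SA := by
  let L := Localization.AtPrime p'
  let SA := L ⊗[R'] S'
  letI : Algebra S SA := ((algebraMap S' SA).comp (algebraMap S S')).toAlgebra
  haveI : IsScalarTower S S' SA := IsScalarTower.of_algebraMap_eq fun _ => rfl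
  haveI : IsScalarTower R S SA := IsScalarTower.of_algebraMap_eq fun r => by
    rw [IsScalarTower.algebraMap_apply S S' SA, ← IsScalarTower.algebraMap_apply R S S',
      IsScalarTower.algebraMap_apply R R' S', ← IsScalarTower.algebraMap_apply R' S' SA,
      IsScalarTower.algebraMap_apply R L SA, IsScalarTower.algebraMap_apply R R' L,
      ← IsScalarTower.algebraMap_apply R' L SA]
  haveI : IsScalarTower R S' SA := IsScalarTower.of_algebraMap_eq fun r => by
    rw [IsScalarTower.algebraMap_apply R R' S', ← IsScalarTower.algebraMap_apply R' S' SA,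
      IsScalarTower.algebraMap_apply R L SA, IsScalarTower.algebraMap_apply R R' L,
      ← IsScalarTower.algebraMap_apply R' L SA]
  haveI : IsScalarTower R R' SA := IsScalarTower.of_algebraMap_eq fun r => by
    rw [IsScalarTower.algebraMap_apply R' L SA, ← IsScalarTower.algebraMap_apply R R' L,
      ← IsScalarTower.algebraMap_apply R L SA]
  haveI : Algebra.IsPushout R' L S' SA := inferInstance
  haveI : Algebra.IsPushout R L S SA := (Algebra.IsPushout.comp_iff R R' (R' := S) (S' := S') (T := L) (T' := SA)).2 inferInstance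
  exact ⟨SA, inferInstance, inferInstance, inferInstance, inferInstance, inferInstance, inferInstance, inferInstance,
    inferInstance, inferInstance, inferInstance, inferInstance, Algebra.IsPushout.symm inferInstance,
    inferInstance⟩

/-- Near a flat point over a base with finitely many weakly associated primes the module is flat and finitely presented. -/
theorem exists_flat_fp_of_weakAss_finite {R S : Type u} [CommRing R] [CommRing S] [Algebra R S]
    [Algebra.FinitePresentation R S] (hR : (FlatCA.weakAss R R).Finite)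
    (N : Type u) [AddCommGroup N] [Module S N] [Module R N] [IsScalarTower R S N] [Module.Finite S N]
    (q : Ideal S) [q.IsPrime] (hflat : FlatCA.FlatAt R q N) :
    ∃ g : S, g ∉ q ∧ Module.FinitePresentation (Localization.Away g) (LocalizedModule (Submonoid.powers g) N) ∧
      Module.Flat R (LocalizedModule (Submonoid.powers g) N) := by
  classical
  let p := q.comap (algebraMap R S)
  haveI : q.LiesOver p := ⟨rfl⟩
  -- a finitely presented cover
  obtain ⟨P, _, _, _, π, hπ, hπker⟩ := exists_fp_cover N q (S1208.result N q hflat)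
  letI : Module R P := Module.compHom P (algebraMap R S)
  haveI : IsScalarTower R S P := IsScalarTower.of_algebraMap_smul fun _ _ => rfl
  have hπq : Function.Bijective (LocalizedModule.map q.primeCompl π) := by
    refine ⟨?_, LocalizedModule.map_surjective q.primeCompl π hπ⟩
    rw [injective_iff_map_eq_zero]
    intro z hz
    induction z using LocalizedModule.induction_on with
    | h x t =>
      rw [LocalizedModule.map_mk, ← LocalizedModule.zero_mk t, LocalizedModule.mk_eq] at hz
      obtain ⟨u, hu⟩ := hz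
      simp only [Submonoid.smul_def, smul_zero, smul_smul] at hu
      rw [← map_smul] at hu
      obtain ⟨s, hs, hsx⟩ := hπker _ hu
      rw [← LocalizedModule.zero_mk t, LocalizedModule.mk_eq]
      refine ⟨⟨s, hs⟩ * u, ?_⟩
      simp only [Submonoid.smul_def, Submonoid.coe_mul, smul_zero, mul_smul] at hsx ⊢
      exact hsx
  have hPflat : FlatCA.FlatAt R q P := by
    haveI : Module.Flat R (LocalizedModule q.primeCompl N) := hflat
    exact Module.Flat.of_linearEquiv (M := LocalizedModule q.primeCompl N)
      ((LinearEquiv.ofBijective _ hπq).restrictScalars R)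
  obtain ⟨_, ⟨h, rfl⟩, hhq, hhsub⟩ := PrimeSpectrum.isTopologicalBasis_basic_opens.exists_subset_of_mem_open
    (show (⟨q, ‹_›⟩ : PrimeSpectrum S) ∈ {x : PrimeSpectrum S | Module.Flat R (LocalizedModule x.asIdeal.primeCompl P)}
      from hPflat) FlatH4.isOpen_flat_localized
  -- the neighbourhood
  obtain ⟨R', _, _, p', _, hR', hnear⟩ := exists_flat_fp_near N p q hflat
  obtain ⟨het, hl, hκ⟩ := id hR'
  haveI := het
  haveI := hl
  let S' := R' ⊗[R] S
  obtain ⟨q', hq', hq'p, hq'q⟩ := exists_prime_over (R := R) (R' := R') (B := S) (B' := S') hκ q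
  haveI := hq'
  haveI := hq'p
  haveI := hq'q
  haveI : Algebra.Etale S S' := Algebra.Etale.of_equiv (Algebra.TensorProduct.commRight R S R')
  obtain ⟨SA, _, _, _, _, _, _, _, _, _, _, _, _, hSA⟩ :=
    exists_local_model (R := R) (R' := R') (S' := S') (S := S) p'
  haveI := hSA
  let L := Localization.AtPrime p'
  let P' := S' ⊗[S] P
  let N' := S' ⊗[S] N
  let π' : P' →ₗ[S'] N' := π.baseChange S'
  have hπ' : Function.Surjective π' := by
    show Function.Surjective (π.baseChange S')
    rw [LinearMap.baseChange_eq_ltensor]; exact LinearMap.lTensor_surjective S' hπ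
  let PA := SA ⊗[S'] P'
  let NA := SA ⊗[S'] N'
  let fA : N →ₗ[S] NA := ((TensorProduct.mk S' SA N' 1).restrictScalars S).comp (TensorProduct.mk S S' N 1)
  have hfA : IsBaseChange SA fA :=
    (TensorProduct.isBaseChange S N S').comp (TensorProduct.isBaseChange S' N' SA)
  have hdisj : Disjoint (Algebra.algebraMapSubmonoid S' p'.primeCompl : Set S') (q' : Set S') := by
    rw [Set.disjoint_left]
    rintro _ ⟨r, hr, rfl⟩ h
    exact hr ((Ideal.mem_of_liesOver q' p' r).2 h)
  let Q : Ideal SA := q'.map (algebraMap S' SA)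
  haveI hQ : Q.IsPrime := IsLocalization.isPrime_of_isPrime_disjoint (Algebra.algebraMapSubmonoid S' p'.primeCompl) SA q' hq' hdisj
  have hQq' : Q.comap (algebraMap S' SA) = q' :=
    IsLocalization.under_map_of_isPrime_disjoint (Algebra.algebraMapSubmonoid S' p'.primeCompl) SA hq' hdisj
  haveI hQq : Q.LiesOver q := ⟨by
    show q = Q.comap (algebraMap S SA)
    rw [IsScalarTower.algebraMap_eq S S' SA, ← Ideal.comap_comap, hQq']; exact hq'q.over⟩
  haveI hQm : Q.LiesOver (maximalIdeal L) := ⟨by
    have h1 : (Q.comap (algebraMap L SA)).comap (algebraMap R' L) = p' := by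
      rw [Ideal.comap_comap, ← IsScalarTower.algebraMap_eq, IsScalarTower.algebraMap_eq R' S' SA, ← Ideal.comap_comap, hQq']
      exact hq'p.over.symm
    haveI : (Q.comap (algebraMap L SA)).IsPrime := Ideal.comap_isPrime _ _
    refine le_antisymm ?_ (IsLocalRing.le_maximalIdeal Ideal.IsPrime.ne_top')
    rw [← Localization.AtPrime.map_eq_maximalIdeal, Ideal.map_le_iff_le_comap]
    exact h1.ge⟩
  obtain ⟨g₁, hg₁, hfp₁, -⟩ := hnear SA NA fA hfA
  -- the kernel dies near `Q`
  let πA : PA →ₗ[SA] NA := π'.baseChange SA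
  have hπA : Function.Surjective πA := by
    show Function.Surjective (π'.baseChange SA)
    rw [LinearMap.baseChange_eq_ltensor]; exact LinearMap.lTensor_surjective SA hπ'
  have hker' : ∀ x : P', π' x = 0 → ∃ s : S', s ∉ q' ∧ s • x = 0 := by
    intro x hx
    have hex : Function.Exact (LinearMap.ker π).subtype π := LinearMap.exact_subtype_ker_map π
    obtain ⟨w, rfl⟩ := (lTensor_exact S' hex hπ x).1 (by
      rw [← LinearMap.baseChange_eq_ltensor (A := S')]; exact hx)
    clear hx
    induction w using TensorProduct.induction_on with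
    | zero => exact ⟨1, fun h => hq'.ne_top ((Ideal.eq_top_iff_one _).2 h), by simp⟩
    | tmul c k =>
      obtain ⟨s, hs, hsk⟩ := hπker k.1 k.2
      refine ⟨algebraMap S S' s, fun h => hs ((Ideal.mem_of_liesOver q' q s).2 h), ?_⟩
      rw [LinearMap.lTensor_tmul, algebraMap_smul, ← TensorProduct.tmul_smul, Submodule.subtype_apply, hsk,
        TensorProduct.tmul_zero]
    | add a b ha hb =>
      obtain ⟨s, hs, hsa⟩ := ha
      obtain ⟨t, ht, htb⟩ := hb
      refine ⟨s * t, fun h => (hq'.mem_or_mem h).elim hs ht, ?_⟩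
      rw [map_add, smul_add, mul_comm, mul_smul, hsa, smul_zero, mul_comm, mul_smul, htb, smul_zero, add_zero]
  have hkerA : ∀ x : PA, πA x = 0 → ∃ s : SA, s ∉ Q ∧ s • x = 0 := by
    intro x hx
    obtain ⟨w, rfl⟩ := (lTensor_exact SA (LinearMap.exact_subtype_ker_map π') hπ' x).1 (by
      rw [← LinearMap.baseChange_eq_ltensor (A := SA)]; exact hx)
    clear hx
    induction w using TensorProduct.induction_on with
    | zero => exact ⟨1, fun h => hQ.ne_top ((Ideal.eq_top_iff_one _).2 h), by simp⟩
    | tmul c k =>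
      obtain ⟨s, hs, hsk⟩ := hker' k.1 k.2
      refine ⟨algebraMap S' SA s, fun h => hs (hQq'.le h), ?_⟩
      rw [LinearMap.lTensor_tmul, algebraMap_smul, ← TensorProduct.tmul_smul, Submodule.subtype_apply, hsk,
        TensorProduct.tmul_zero]
    | add a b ha hb =>
      obtain ⟨s, hs, hsa⟩ := ha
      obtain ⟨t, ht, htb⟩ := hb
      refine ⟨s * t, fun h => (hQ.mem_or_mem h).elim hs ht, ?_⟩
      rw [map_add, smul_add, mul_comm, mul_smul, hsa, smul_zero, mul_comm, mul_smul, htb, smul_zero, add_zero]
  obtain ⟨s₁, hs₁, hkill⟩ := exists_ker_kill πA hπA g₁ Q (hg₁ Q hQq hQm) hfp₁ hkerA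
  obtain ⟨⟨s₀, d⟩, hs₀⟩ := IsLocalization.surj (Algebra.algebraMapSubmonoid S' p'.primeCompl) s₁
  have hs₀q : s₀ ∉ q' := fun h => by
    have h1 : s₁ * algebraMap S' SA d ∈ Q := by rw [hs₀]; exact Ideal.mem_map_of_mem _ h
    exact (hQ.mem_or_mem h1).elim hs₁ fun h2 => Set.disjoint_left.1 hdisj d.2 (hQq'.le h2)
  obtain ⟨f, hf, hreg⟩ := exists_regular_away (weakAss_finite_of_etale (R' := R') hR) p'
  let G : S' := s₀ * (algebraMap S S' h * algebraMap R' S' f)
  have hGq : G ∉ q' := fun hG => (hq'.mem_or_mem hG).elim hs₀q fun h' => (hq'.mem_or_mem h').elim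
    (fun hh => hhq ((Ideal.mem_of_liesOver q' q h).2 hh)) (fun hf' => hf ((Ideal.mem_of_liesOver q' p' f).2 hf'))
  let C := Localization.Away G
  haveI : Algebra.Etale S' C := Algebra.Etale.of_isLocalizationAway G
  haveI : Algebra.Etale S C := Algebra.Etale.comp S S' C
  haveI : Module.Flat S C := inferInstance
  haveI : Module.Flat R (C ⊗[S] P) := Module.flat_of_isLocalized_maximal (R := R) (M := C ⊗[S] P) C
    (fun m => LocalizedModule m.primeCompl (C ⊗[S] P)) (fun m _ => LocalizedModule.mkLinearMap m.primeCompl _) fun m _ => by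
    let Q₀ : PrimeSpectrum S := PrimeSpectrum.comap (algebraMap S C) ⟨m, inferInstance⟩
    haveI : m.LiesOver Q₀.asIdeal := ⟨rfl⟩
    refine flatAt_of_flat_map (R := R) (C := C) P Q₀.asIdeal m (hhsub fun hh => ?_)
    refine (inferInstance : m.IsPrime).ne_top (Ideal.eq_top_of_isUnit_mem _ hh ?_)
    rw [IsScalarTower.algebraMap_apply S S' C]
    exact isUnit_of_dvd_unit (map_dvd _ ((dvd_mul_right _ _).trans (dvd_mul_left _ _)))
      (IsLocalization.Away.algebraMap_isUnit G)
  let T := Submonoid.powers G
  obtain ⟨eP⟩ := exists_localizedEquiv T C P'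
  let eP' : LocalizedModule T P' ≃ₗ[S'] C ⊗[S] P :=
    eP.trans ((AlgebraTensorModule.cancelBaseChange S S' C C P).restrictScalars S')
  haveI : Module.Flat R (LocalizedModule T P') := Module.Flat.of_linearEquiv (eP'.restrictScalars R)
  haveI : Module.Flat R' (LocalizedModule T P') :=
    Algebra.FormallyUnramified.flat_of_restrictScalars R R' (LocalizedModule T P')
  have hGunit := IsLocalizedModule.map_units (LocalizedModule.mkLinearMap T P') ⟨G, Submonoid.mem_powers G⟩
  have hfinj : Function.Injective fun z : LocalizedModule T P' => f • z := fun z w hzw => by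
    have h1 : G • z = G • w := by
      rw [show G = (s₀ * algebraMap S S' h) * algebraMap R' S' f by show s₀ * _ = _; ring]
      simp only [mul_smul, algebraMap_smul]
      exact congrArg (fun y => s₀ • h • y) hzw
    exact ((Module.End.isUnit_iff _).1 hGunit).1 h1
  let πG := LocalizedModule.map T π'
  have hπG : Function.Bijective πG := by
    refine ⟨(injective_iff_map_eq_zero _).2 fun z hz => ?_, LocalizedModule.map_surjective T π' hπ'⟩
    induction z using LocalizedModule.induction_on with
    | h x t =>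
      rw [LocalizedModule.map_mk, ← LocalizedModule.zero_mk t, LocalizedModule.mk_eq] at hz
      obtain ⟨v, hv⟩ := hz
      simp only [Submonoid.smul_def, smul_zero, smul_smul] at hv
      rw [← map_smul] at hv
      set x' := ((v : S') * (t : S')) • x
      obtain ⟨k, hk⟩ := hkill (TensorProduct.mk S' SA P' 1 x') (by
        show π'.baseChange SA ((1 : SA) ⊗ₜ[S'] x') = 0
        rw [LinearMap.baseChange_tmul, hv, TensorProduct.tmul_zero])
      have hk' : TensorProduct.mk S' SA P' 1 (s₀ ^ k • x') = 0 := by
        rw [map_smul, ← algebraMap_smul SA (s₀ ^ k), map_pow, ← hs₀, mul_pow, mul_comm, mul_smul, hk, smul_zero]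
      haveI : IsLocalizedModule (Algebra.algebraMapSubmonoid S' p'.primeCompl) (TensorProduct.mk S' SA P' 1) :=
        (isLocalizedModule_iff_isBaseChange (Algebra.algebraMapSubmonoid S' p'.primeCompl) SA _).2
          (TensorProduct.isBaseChange S' P' SA)
      obtain ⟨⟨_, u, hu, rfl⟩, hu0⟩ := IsLocalizedModule.exists_of_eq (S := Algebra.algebraMapSubmonoid S' p'.primeCompl)
        (f := TensorProduct.mk S' SA P' 1) (hk'.trans (map_zero _).symm)
      simp only [Submonoid.smul_def, smul_zero, algebraMap_smul] at hu0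
      have h2 : u • LocalizedModule.mk (s₀ ^ k • x') (1 : T) = 0 := by
        rw [LocalizedModule.smul'_mk, hu0, LocalizedModule.zero_mk]
      have h3 : LocalizedModule.mk (s₀ ^ k • x') (1 : T) = 0 := eq_zero_of_smul_eq_zero (hreg u hu) hfinj h2
      rw [← LocalizedModule.zero_mk (1 : T), LocalizedModule.mk_eq] at h3
      obtain ⟨⟨_, i, rfl⟩, hi⟩ := h3
      simp only [Submonoid.smul_def, OneMemClass.coe_one, one_smul, smul_zero] at hi
      rw [← LocalizedModule.zero_mk t, LocalizedModule.mk_eq]
      refine ⟨⟨G ^ (i + k), i + k, rfl⟩ * v, ?_⟩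
      simp only [Submonoid.smul_def, Submonoid.coe_mul, smul_zero]
      obtain ⟨c, hc⟩ : s₀ ^ k ∣ G ^ k := pow_dvd_pow_of_dvd (dvd_mul_right _ _) k
      rw [show (G ^ (i + k) * (v : S')) • (t : S') • x = c • G ^ i • s₀ ^ k • x' by
        simp only [x']; rw [smul_smul, smul_smul, smul_smul, smul_smul, pow_add, hc]; congr 1; ring, hi, smul_zero]
  obtain ⟨eN⟩ := exists_localizedEquiv T C N'
  let e : C ⊗[S] P ≃ₗ[S'] C ⊗[S] N :=
    eP'.symm.trans (((LinearEquiv.ofBijective πG hπG).restrictScalars S').trans
      (eN.trans ((AlgebraTensorModule.cancelBaseChange S S' C C N).restrictScalars S')))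
  haveI hflC : Module.Flat R (C ⊗[S] N) := Module.Flat.of_linearEquiv (e.restrictScalars R).symm
  haveI : Module.FinitePresentation C (C ⊗[S] N) :=
    Module.FinitePresentation.of_equiv (LinearEquiv.extendScalarsOfIsLocalization (Submonoid.powers G) C e)
  have hdG : Disjoint (Submonoid.powers G : Set S') (q' : Set S') :=
    (Ideal.disjoint_powers_iff_notMem_of_isPrime _).2 hGq
  haveI : (q'.map (algebraMap S' C)).IsPrime := IsLocalization.isPrime_of_isPrime_disjoint (Submonoid.powers G) _ _ hq' hdG
  obtain ⟨g, hg, hgflat, hgfp⟩ := exists_good_open (L := R) (A := S) (C := C) N (q'.map (algebraMap S' C)) hflC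
  refine ⟨g, fun h' => hg ?_, hgfp inferInstance, hgflat⟩
  have h0 : (q'.map (algebraMap S' C)).comap (algebraMap S' C) = q' :=
    IsLocalization.under_map_of_isPrime_disjoint (Submonoid.powers G) C hq' hdG
  have : (q'.map (algebraMap S' C)).comap (algebraMap S C) = q := by
    rw [IsScalarTower.algebraMap_eq S S' C, ← Ideal.comap_comap, h0]
    exact hq'q.over.symm
  rw [this]; exact h'

end Groth.Agent.Dev4
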