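import Groth.Agent.Lib.Dev4.WeakAssFP
import Groth.Agent.Lib.RG4.LocFlat
import Groth.Agent.Lib.RelFPH13.Local

/-!
# Flat modules over finite type algebras, bases with finitely many weakly associated primes
-/

set_option autoImplicit false
set_option maxSynthPendingDepth 3

universe u

open TensorProduct

namespace Groth.Agent.Dev4

/-- The flat locus is open as soon as every flat point has a flat basic neighbourhood. -/
theorem isOpen_flatLocus_of_exists {R S : Type u} [CommRing R] [CommRing S] [Algebra R S]
    {N : Type u} [AddCommGroup N] [Module S N] [Module R N] [IsScalarTower R S N]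
    (h : ∀ q : PrimeSpectrum S, FlatCA.FlatAt R q.asIdeal N →
      ∃ g : S, g ∉ q.asIdeal ∧ Module.Flat R (LocalizedModule (Submonoid.powers g) N)) :
    IsOpen {q : PrimeSpectrum S | FlatCA.FlatAt R q.asIdeal N} := by
  refine isOpen_iff_forall_mem_open.2 fun q hq => ?_
  obtain ⟨g, hg, hflat⟩ := h q hq
  refine ⟨PrimeSpectrum.basicOpen g, fun x hx => ?_, (PrimeSpectrum.basicOpen g).2, hg⟩
  haveI := hflat
  exact RG4.flat_of_isLocalizedModule x.asIdeal.primeCompl
    (IsLocalizedModule.liftOfLE (Submonoid.powers g) x.asIdeal.primeCompl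
      (Submonoid.powers_le.2 hx)
      (LocalizedModule.mkLinearMap (Submonoid.powers g) N) (LocalizedModule.mkLinearMap x.asIdeal.primeCompl N))

/-- Near a flat point of a finite module over a finite type algebra the module is flat and relatively finitely presented. -/
theorem exists_flat_rfp_of_weakAss_finite {R S : Type u} [CommRing R] [CommRing S] [Algebra R S]
    [Algebra.FiniteType R S] (hR : (FlatCA.weakAss R R).Finite)
    (N : Type u) [AddCommGroup N] [Module S N] [Module R N] [IsScalarTower R S N] [Module.Finite S N]
    (q : Ideal S) [q.IsPrime] (hflat : FlatCA.FlatAt R q N) :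
    ∃ g : S, g ∉ q ∧ Module.Flat R (LocalizedModule (Submonoid.powers g) N) ∧
      FlatCA.RelFinitePresentation R (Localization.Away g) (LocalizedModule (Submonoid.powers g) N) := by
  obtain ⟨n, φ, hφ⟩ := Algebra.FiniteType.iff_quotient_mvPolynomial''.1 ‹Algebra.FiniteType R S›
  letI : Algebra (MvPolynomial (Fin n) R) S := φ.toRingHom.toAlgebra
  haveI : IsScalarTower R (MvPolynomial (Fin n) R) S := IsScalarTower.of_algHom φ
  letI : Module (MvPolynomial (Fin n) R) N := Module.compHom N φ.toRingHom
  haveI : IsScalarTower (MvPolynomial (Fin n) R) S N := IsScalarTower.of_algebraMap_smul fun _ _ => rfl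
  haveI : IsScalarTower R (MvPolynomial (Fin n) R) N :=
    IsScalarTower.of_algebraMap_smul fun r x => by
      show φ (algebraMap R _ r) • x = r • x
      rw [AlgHom.commutes, algebraMap_smul]
  haveI : Module.Finite (MvPolynomial (Fin n) R) S := Module.Finite.of_surjective (Algebra.linearMap _ S) hφ
  haveI : Module.Finite (MvPolynomial (Fin n) R) N := Module.Finite.trans S N
  have hflat' : FlatCA.FlatAt R (q.comap φ) N :=
    (FlatH4.flat_localized_comap_iff (M := N) φ hφ q (fun _ _ => rfl)).2 hflat
  obtain ⟨g₀, hg₀, hfp, hfl⟩ := exists_flat_fp_of_weakAss_finite hR N (q.comap φ) hflat'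
  haveI := hfl
  haveI := hfp
  refine ⟨φ g₀, hg₀, ?_, ?_⟩
  · obtain ⟨e⟩ := exists_localized_restrict (A := MvPolynomial (Fin n) R) (B := S) g₀ N
    exact Module.Flat.of_linearEquiv (e.restrictScalars R).symm
  · obtain ⟨e⟩ := exists_localized_restrict (A := MvPolynomial (Fin n) R) (B := S) g₀ N
    let α : Localization.Away g₀ →ₐ[R] Localization.Away (φ g₀) :=
      { IsLocalization.Away.map (Localization.Away g₀) (Localization.Away (φ g₀)) φ.toRingHom g₀ with
        commutes' := fun r => by
          show IsLocalization.map _ _ _ (algebraMap R _ r) = _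
          rw [IsScalarTower.algebraMap_apply R (MvPolynomial (Fin n) R) (Localization.Away g₀), IsLocalization.map_eq,
            AlgHom.toRingHom_eq_coe, RingHom.coe_coe, AlgHom.commutes, ← IsScalarTower.algebraMap_apply] }
    have hα : Function.Surjective α :=
      haveI : IsLocalization ((Submonoid.powers g₀).map φ.toRingHom) (Localization.Away (φ g₀)) := by
        rw [Submonoid.map_powers]; exact inferInstanceAs (IsLocalization.Away (φ g₀) _)
      IsLocalization.map_surjective_of_surjective (M := Submonoid.powers g₀) (S := Localization.Away g₀)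
        (Q := Localization.Away (φ g₀)) (g := φ.toRingHom) hφ
    rw [RelFPH13.rfp_iff α hα]
    letI : Algebra (Localization.Away g₀) (Localization.Away (φ g₀)) := α.toRingHom.toAlgebra
    haveI : IsScalarTower (MvPolynomial (Fin n) R) (Localization.Away g₀) (Localization.Away (φ g₀)) :=
      IsScalarTower.of_algebraMap_eq fun x => by
        rw [IsScalarTower.algebraMap_apply (MvPolynomial (Fin n) R) S]
        show algebraMap S _ (φ x) = IsLocalization.Away.map (Localization.Away g₀) (Localization.Away (φ g₀))
          φ.toRingHom g₀ (algebraMap _ _ x)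
        rw [IsLocalization.Away.map, IsLocalization.map_eq]; rfl
    letI : Module (Localization.Away g₀) (LocalizedModule (Submonoid.powers (φ g₀)) N) :=
      Module.compHom _ α.toRingHom
    haveI : IsScalarTower (Localization.Away g₀) (Localization.Away (φ g₀))
        (LocalizedModule (Submonoid.powers (φ g₀)) N) := IsScalarTower.of_algebraMap_smul fun _ _ => rfl
    haveI : IsScalarTower (MvPolynomial (Fin n) R) (Localization.Away g₀)
        (LocalizedModule (Submonoid.powers (φ g₀)) N) := IsScalarTower.of_algebraMap_smul fun x m => by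
      rw [← algebraMap_smul (Localization.Away (φ g₀)) (algebraMap _ (Localization.Away g₀) x) m,
        ← IsScalarTower.algebraMap_apply, IsScalarTower.algebraMap_apply (MvPolynomial (Fin n) R) S, algebraMap_smul,
        algebraMap_smul]
    exact (RelFPH13.fpVia_algebraMap_iff).2
      (Module.FinitePresentation.of_equiv
        (LinearEquiv.extendScalarsOfIsLocalization (Submonoid.powers g₀) (Localization.Away g₀) e))

/-- A finite type algebra, relatively finitely presented over itself, is finitely presented. -/
theorem finitePresentation_of_rfp_self {R A : Type u} [CommRing R] [CommRing A] [Algebra R A]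
    {M : Type u} [AddCommGroup M] [Module A M] (e : M ≃ₗ[A] A) (h : FlatCA.RelFinitePresentation R A M) :
    Algebra.FinitePresentation R A := by
  obtain ⟨n, φ, hφ, hM⟩ := h
  have hA := RelFPH13.fpVia_of_linearEquiv φ.toRingHom e hM
  letI : Algebra (MvPolynomial (Fin n) R) A := φ.toRingHom.toAlgebra
  haveI : IsScalarTower R (MvPolynomial (Fin n) R) A := IsScalarTower.of_algHom φ
  haveI : Module.FinitePresentation (MvPolynomial (Fin n) R) A := RelFPH13.fpVia_algebraMap_iff.1 hA
  refine Algebra.FinitePresentation.of_surjective (f := φ) hφ ?_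
  exact Module.FinitePresentation.fg_ker (Algebra.linearMap (MvPolynomial (Fin n) R) A) hφ

/-- A domain has a single weakly associated prime. -/
theorem weakAss_finite_of_isDomain (R : Type u) [CommRing R] [IsDomain R] : (FlatCA.weakAss R R).Finite := by
  refine (Set.finite_singleton ⊥).subset fun p hp => ?_
  obtain ⟨m, hm⟩ := hp
  by_cases h0 : m = 0
  · subst h0
    exact absurd (show p = ⊤ from top_le_iff.1 (((by rw [Submodule.span_zero_singleton, Submodule.annihilator_bot]) : (⊤ : Ideal R) ≤ _).trans hm.1.2)) hm.1.1.ne_top
  · have : (Submodule.span R {m}).annihilator = ⊥ := by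
      ext r
      simp [Submodule.mem_annihilator_span_singleton, h0]
    rw [this, Ideal.minimalPrimes] at hm
    exact Set.mem_singleton_iff.2 ((hm.2 ⟨Ideal.isPrime_bot, le_rfl⟩ bot_le).antisymm bot_le)

end Groth.Agent.Dev4

namespace Groth.Agent.Dev4

/-- A relatively finitely presented finite module is finitely presented. -/
theorem finitePresentation_of_rfp {R A : Type u} [CommRing R] [CommRing A] [Algebra R A]
    {M : Type u} [AddCommGroup M] [Module A M] [Module.Finite A M] (h : FlatCA.RelFinitePresentation R A M) :
    Module.FinitePresentation A M := by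
  obtain ⟨n, φ, hφ, hM⟩ := h
  letI : Algebra (MvPolynomial (Fin n) R) A := φ.toRingHom.toAlgebra
  letI : Module (MvPolynomial (Fin n) R) M := Module.compHom M φ.toRingHom
  haveI : IsScalarTower (MvPolynomial (Fin n) R) A M := IsScalarTower.of_algebraMap_smul fun _ _ => rfl
  haveI : Module.FinitePresentation (MvPolynomial (Fin n) R) M := hM
  haveI : Module.Finite (MvPolynomial (Fin n) R) A := Module.Finite.of_surjective (Algebra.linearMap _ A) hφ
  obtain ⟨m, f, hf⟩ := Module.Finite.exists_fin' A M
  haveI : Module.Finite (MvPolynomial (Fin n) R) (Fin m → A) := Module.Finite.trans A _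
  obtain ⟨s, hs⟩ := Module.FinitePresentation.fg_ker (f.restrictScalars (MvPolynomial (Fin n) R)) hf
  refine Module.finitePresentation_of_surjective f hf ⟨s, le_antisymm (Submodule.span_le.2 fun x hx => ?_) fun x hx => ?_⟩
  · have : x ∈ LinearMap.ker (f.restrictScalars (MvPolynomial (Fin n) R)) := hs ▸ Submodule.subset_span hx
    simpa using this
  · have : x ∈ Submodule.span (MvPolynomial (Fin n) R) (s : Set (Fin m → A)) := by rw [hs]; simpa using hx
    exact Submodule.span_le_restrictScalars (MvPolynomial (Fin n) R) A _ this

/-- Flat finite modules over finite type algebras are relatively finitely presented over such bases. -/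
theorem rfp_of_flat_of_weakAss_finite {R S : Type u} [CommRing R] [CommRing S] [Algebra R S]
    [Algebra.FiniteType R S] (hR : (FlatCA.weakAss R R).Finite)
    (N : Type u) [AddCommGroup N] [Module S N] [Module R N] [IsScalarTower R S N] [Module.Finite S N] [Module.Flat R N] :
    FlatCA.RelFinitePresentation R S N := by
  have h : ∀ q : PrimeSpectrum S, ∃ g : S, g ∉ q.asIdeal ∧
      FlatCA.RelFinitePresentation R (Localization.Away g) (LocalizedModule (Submonoid.powers g) N) := fun q => by
    obtain ⟨g, hg, -, hr⟩ := exists_flat_rfp_of_weakAss_finite hR N q.asIdeal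
      (RG4.flat_of_isLocalizedModule q.asIdeal.primeCompl (LocalizedModule.mkLinearMap q.asIdeal.primeCompl N))
    exact ⟨g, hg, hr⟩
  choose g hg hr using h
  obtain ⟨t, ht⟩ := isCompact_univ.elim_finite_subcover (fun q : PrimeSpectrum S => (PrimeSpectrum.basicOpen (g q) : Set (PrimeSpectrum S)))
    (fun q => (PrimeSpectrum.basicOpen (g q)).2) (fun q _ => Set.mem_iUnion.2 ⟨q, hg q⟩)
  refine RelFPH13.rfp_of_localizationSpan (fun i : t => g i.1) ?_ (fun i => Localization.Away (g i.1))
    (fun i => LocalizedModule (Submonoid.powers (g i.1)) N) (fun i => LocalizedModule.mkLinearMap _ N) fun i => hr i.1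
  by_contra hne
  obtain ⟨P, hP, hle⟩ := Ideal.exists_le_maximal _ hne
  obtain ⟨q, hq⟩ := Set.mem_iUnion₂.1 (ht (Set.mem_univ (⟨P, hP.isPrime⟩ : PrimeSpectrum S)))
  exact hq.2 (hle (Ideal.subset_span ⟨⟨q, hq.1⟩, rfl⟩))

/-- Flat finite type algebras are finitely presented over such bases. -/
theorem algebra_finitePresentation_of_flat {R S : Type u} [CommRing R] [CommRing S] [Algebra R S]
    [Algebra.FiniteType R S] (hR : (FlatCA.weakAss R R).Finite) [Module.Flat R S] : Algebra.FinitePresentation R S :=
  finitePresentation_of_rfp_self (LinearEquiv.refl S S) (rfp_of_flat_of_weakAss_finite hR S)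

end Groth.Agent.Dev4
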