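import Groth.Agent.S1233
import Groth.Agent.Lib.WeakAssBC4
import Groth.Agent.Lib.Hens.Henselization
import Mathlib.RingTheory.Unramified.Finite
import Mathlib.RingTheory.Flat.FaithfullyFlat.Algebra

/-!
# Weakly associated closed points and henselisation
-/

set_option autoImplicit false
set_option maxSynthPendingDepth 3

universe u

open TensorProduct IsLocalRing

set_option backward.isDefEq.respectTransparency.types false

namespace Groth.Agent.Dev4

/-- The closed point is weakly associated after henselisation exactly when it was before. -/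
theorem maximalIdeal_mem_weakAss_hs_iff {R : Type u} [CommRing R] [IsLocalRing R] (K : Type u) [Field K] [Algebra R K]
    [Algebra (ResidueField R) K] [IsScalarTower R (ResidueField R) K] [Algebra.IsSeparable (ResidueField R) K]
    (H : Type u) [CommRing H] [IsLocalRing H] [Algebra R H] (φ : Hens.Hs R K ≃ₐ[R] H)
    (X : Type u) [AddCommGroup X] [Module R X] :
    maximalIdeal H ∈ FlatCA.weakAss H (H ⊗[R] X) ↔ maximalIdeal R ∈ FlatCA.weakAss R X := by
  classical
  haveI : Module.Flat R H := Module.Flat.of_linearEquiv φ.symm.toLinearEquiv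
  haveI : IsLocalHom (algebraMap R H) := ⟨fun a ha => isUnit_of_map_unit (algebraMap R (Hens.Hs R K)) a (by
    simpa using ha.map φ.symm)⟩
  have hmap : (maximalIdeal R).map (algebraMap R H) = maximalIdeal H :=
    Hens.map_maximalIdeal_of_equiv φ Hens.Hs.map_maximalIdeal
  haveI : (maximalIdeal H).LiesOver (maximalIdeal R) := ⟨(maximalIdeal.isMaximal R).eq_of_le
    (Ideal.IsPrime.ne_top inferInstance) (Ideal.map_le_iff_le_comap.1 hmap.le)⟩
  refine ⟨fun h => ?_, fun h => WeakAssBC4.weakAss_baseChange_of_flat (maximalIdeal H) (fun q _ hle hq =>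
    le_antisymm hle (hmap.ge.trans (Ideal.map_le_iff_le_comap.2 hq))) h⟩
  obtain ⟨y, hy, hpow⟩ := WeakAssBC4.mem_weakAss_iff.1 h
  -- a stage containing the coefficients
  obtain ⟨s, hs⟩ := TensorProduct.exists_finset y
  obtain ⟨i, hi⟩ := Hens.Hs.exists_of_finset s fun c => φ.symm c.1
  choose g hg using hi
  let ψ : i.G →ₐ[R] H := φ.toAlgHom.comp (Hens.Hs.of i)
  letI : Algebra i.G H := ψ.toRingHom.toAlgebra
  haveI : IsScalarTower R i.G H := IsScalarTower.of_algebraMap_eq fun r => (ψ.commutes r).symm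
  haveI : Module.Flat i.G H := Algebra.FormallyUnramified.flat_of_restrictScalars R i.G H
  have hψ : ∀ z : i.G, IsUnit (ψ z) → IsUnit z := fun z hz => by
    by_contra hnz
    have h1 := (i.res_eq_zero_iff z).2 ((IsLocalRing.mem_maximalIdeal _).2 hnz)
    rw [← Hens.Hs.res_of] at h1
    refine (Hens.Hs.isUnit_iff _).1 ?_ h1
    have h2 := hz.map φ.symm
    rwa [show φ.symm (ψ z) = Hens.Hs.of i z from φ.symm_apply_apply _] at h2
  haveI : IsLocalHom (algebraMap i.G H) := ⟨hψ⟩
  haveI : Module.FaithfullyFlat i.G H := Module.FaithfullyFlat.of_flat_of_isLocalHom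
  let y₀ : i.G ⊗[R] X := ∑ c ∈ s.attach, g c.1 c.2 ⊗ₜ[R] c.1.2
  let e := AlgebraTensorModule.cancelBaseChange R i.G H H X
  have hy₀ : e ((1 : H) ⊗ₜ[i.G] y₀) = y := by
    simp only [y₀, TensorProduct.tmul_sum, map_sum]
    rw [hs, ← Finset.sum_attach s]
    refine Finset.sum_congr rfl fun c _ => ?_
    show e ((1 : H) ⊗ₜ[i.G] (g c.1 c.2 ⊗ₜ[R] c.1.2)) = c.1.1 ⊗ₜ[R] c.1.2
    rw [AlgebraTensorModule.cancelBaseChange_tmul, Algebra.smul_def, mul_one]
    show φ (Hens.Hs.of i (g c.1 c.2)) ⊗ₜ[R] c.1.2 = _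
    rw [hg, φ.apply_symm_apply]
  have hinj : ∀ t : i.G, t • y₀ = 0 ↔ (algebraMap i.G H t) • y = 0 := fun t => by
    rw [← hy₀, ← map_smul, LinearEquiv.map_eq_zero_iff, algebraMap_smul, ← TensorProduct.tmul_smul]
    exact ⟨fun h => by rw [h, TensorProduct.tmul_zero], fun h =>
      Module.FaithfullyFlat.tensorProduct_mk_injective (A := i.G) (B := H) (i.G ⊗[R] X)
        (h.trans (TensorProduct.tmul_zero _ _).symm)⟩
  have hG : maximalIdeal i.G ∈ FlatCA.weakAss i.G (i.G ⊗[R] X) := by
    refine WeakAssBC4.mem_weakAss_iff.2 ⟨y₀, fun t ht h0 => ?_, fun a ha => ?_⟩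
    · exact hy (algebraMap i.G H t) (fun hm => (IsLocalRing.mem_maximalIdeal _).1 hm
        ((IsLocalRing.notMem_maximalIdeal.1 ht).map _)) ((hinj t).1 h0)
    · obtain ⟨k, t, ht, h0⟩ := hpow (algebraMap i.G H a) ((IsLocalRing.mem_maximalIdeal _).2 fun hu =>
        (IsLocalRing.mem_maximalIdeal a).1 ha (hψ a hu))
      refine ⟨k, 1, fun h1 => (IsLocalRing.mem_maximalIdeal _).1 h1 isUnit_one, (hinj _).2 ?_⟩
      rw [one_mul, map_pow]
      obtain ⟨v, rfl⟩ := IsLocalRing.notMem_maximalIdeal.1 ht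
      rw [mul_smul] at h0
      exact (smul_eq_zero_iff_eq v).1 h0
  have hS := (WeakAssBC4.weakAss_baseChange_localization_iff (B := i.S) (B' := i.G) i.q.primeCompl X (maximalIdeal i.G)).1 hG
  haveI : ((maximalIdeal i.G).comap (algebraMap i.S i.G)).LiesOver (maximalIdeal R) := ⟨by
    show _ = ((maximalIdeal i.G).comap (algebraMap i.S i.G)).comap (algebraMap R i.S)
    rw [Ideal.comap_comap, ← IsScalarTower.algebraMap_eq]
    exact (IsLocalRing.maximalIdeal_comap (algebraMap R i.G)).symm⟩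
  exact (S1233.result X (maximalIdeal R) ((maximalIdeal i.G).comap (algebraMap i.S i.G))).1 hS

end Groth.Agent.Dev4
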