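import Groth.Agent.Lib.Dev4.WeakAssTensor

/-!
# Weakly associated points of tensor products: the core argument
-/

set_option autoImplicit false
set_option maxSynthPendingDepth 3

universe u

open TensorProduct IsLocalRing

set_option backward.isDefEq.respectTransparency.types false

attribute [local instance] Algebra.TensorProduct.rightAlgebra

namespace Groth.Agent.Dev4

/-- Witnesses in the base and in the fibre give a witness in the tensor product. -/
theorem isWk_tensor {R S : Type u} [CommRing R] [CommRing S] [Algebra R S] [Algebra.FiniteType R S]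
    (N : Type u) [AddCommGroup N] [Module S N] [Module R N] [IsScalarTower R S N]
    (M : Type u) [AddCommGroup M] [Module R M] (p : Ideal R) [p.IsPrime] (q : Ideal S) [q.IsPrime] [q.LiesOver p]
    (hflat : FlatCA.FlatAt R q N) {m : M} (hm : IsWk p m) {w : N ⊗[R] p.ResidueField} (hw : IsWk q w) :
    ∃ z : N ⊗[R] M, IsWk q z := by
  classical
  have hqp : ∀ c : R, c ∉ p → algebraMap R S c ∉ q := fun c hc h => hc ((Ideal.mem_of_liesOver q p c).2 h)
  obtain ⟨k, a, haq, -, hgen⟩ := exists_gens p q
  obtain ⟨π, hπ, hkill⟩ := exists_trim q a w (fun i => hw.1 _ (haq i)) hw.2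
  choose s hs hsa using hkill
  obtain ⟨c, hc, x, hx⟩ := exists_smul_eq_tmul_one (S := S) p N (π • w)
  have hax : ∀ i, ∃ d : R, d ∉ p ∧ d • (s i * a i) • x ∈ p • (⊤ : Submodule R N) := fun i =>
    exists_smul_mem_of_tmul_one_eq_zero p N (by
      rw [← TensorProduct.smul_tmul', ← hx, smul_comm, hsa i, smul_zero])
  have hxp : ∀ t : S, t • x ∈ p • (⊤ : Submodule R N) → t ∈ q := fun t ht => by
    have h := tmul_one_eq_zero_of_mem p N ht
    rw [← TensorProduct.smul_tmul', ← hx, ← mul_smul] at h
    exact (‹q.IsPrime›.mem_or_mem (hπ _ h)).resolve_right (hqp c hc)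
  choose d hd hdx using hax
  -- a finitely generated ideal
  have hfg : ∀ i, ∃ T : Finset R, (T : Set R) ⊆ p ∧ d i • (s i * a i) • x ∈ Ideal.span (T : Set R) • (⊤ : Submodule R N) := by
    intro i
    have h := hdx i
    generalize d i • (s i * a i) • x = y at h ⊢
    induction h using Submodule.smul_induction_on' with
    | smul r hr n _ =>
      exact ⟨{r}, by simpa using hr, Submodule.smul_mem_smul (Ideal.subset_span (by simp)) Submodule.mem_top⟩
    | add u _ v _ hu hv =>
      obtain ⟨T, hT, hTu⟩ := hu
      obtain ⟨T', hT', hTv⟩ := hv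
      refine ⟨T ∪ T', by simp [hT, hT'], add_mem ?_ ?_⟩
      · exact Submodule.smul_mono_left (Ideal.span_mono (by simp)) hTu
      · exact Submodule.smul_mono_left (Ideal.span_mono (by simp)) hTv
  choose T hT hTx using hfg
  let T₀ := Finset.univ.biUnion T
  let r : Fin T₀.card → R := fun j => T₀.equivFin.symm j
  have hrp : ∀ j, r j ∈ p := fun j => by
    obtain ⟨i, -, hi⟩ := Finset.mem_biUnion.1 (T₀.equivFin.symm j).2
    exact hT i hi
  obtain ⟨ρ, hρ, hρkill⟩ := exists_trim p r m (fun j => hm.1 _ (hrp j)) hm.2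
  let m' := ρ • m
  choose e he her using hρkill
  let ε := ∏ j, e j
  have hε : ε ∉ p := fun h => by
    obtain ⟨j, -, hj⟩ := (Ideal.IsPrime.prod_mem_iff).1 h; exact he j hj
  have hεr : ∀ i, ∀ t ∈ T i, (ε * t) • m' = 0 := fun i t ht => by
    let j := T₀.equivFin ⟨t, Finset.mem_biUnion.2 ⟨i, Finset.mem_univ _, ht⟩⟩
    have htj : t = r j := by simp [r, j]
    show ((∏ l, e l) * t) • m' = 0
    rw [htj, ← Finset.mul_prod_erase _ _ (Finset.mem_univ j), show e j * (∏ l ∈ Finset.univ.erase j, e l) * r j =
      (∏ l ∈ Finset.univ.erase j, e l) * (e j * r j) by ring, mul_smul, her j, smul_zero]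
  refine ⟨x ⊗ₜ[R] m', ?_, fun t ht => ?_⟩
  · have hgena : ∀ i, ∃ σ : S, σ ∉ q ∧ (σ * a i) • (x ⊗ₜ[R] m') = 0 := fun i => by
      refine ⟨algebraMap R S (ε * d i) * s i, fun h => (‹q.IsPrime›.mem_or_mem h).elim
        (hqp _ fun h' => (‹p.IsPrime›.mem_or_mem h').elim hε (hd i)) (hs i), ?_⟩
      rw [TensorProduct.smul_tmul', show algebraMap R S (ε * d i) * s i * a i = algebraMap R S (ε * d i) * (s i * a i) by ring,
        mul_smul, algebraMap_smul, mul_smul]
      have h := hTx i
      generalize d i • (s i * a i) • x = y at h ⊢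
      induction h using Submodule.smul_induction_on' with
      | smul t ht n _ =>
        induction ht using Submodule.span_induction generalizing n with
        | mem t ht => rw [← mul_smul, TensorProduct.smul_tmul, hεr i t ht, TensorProduct.tmul_zero]
        | zero => simp
        | add u v _ _ hu hv => rw [add_smul, smul_add, TensorProduct.add_tmul, hu n trivial, hv n trivial, add_zero]
        | smul u v _ hv => rw [smul_eq_mul, mul_comm, mul_smul]; exact hv _ trivial
      | add u _ v _ hu hv => rw [smul_add, TensorProduct.add_tmul, hu, hv, add_zero]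
    choose σ hσ hσa using hgena
    let J : Ideal S :=
      { carrier := {b | ∃ t : S, t ∉ q ∧ (t * b) • (x ⊗ₜ[R] m') = 0}
        zero_mem' := ⟨1, fun h => ‹q.IsPrime›.ne_top ((Ideal.eq_top_iff_one q).2 h), by simp⟩
        add_mem' := fun {u v} ⟨t, ht, hu⟩ ⟨t', ht', hv⟩ => ⟨t * t', fun h => (‹q.IsPrime›.mem_or_mem h).elim ht ht', by
          rw [show t * t' * (u + v) = t' * (t * u) + t * (t' * v) by ring, add_smul, mul_smul, hu, mul_smul, hv,
            smul_zero, smul_zero, add_zero]⟩
        smul_mem' := fun b u ⟨t, ht, hu⟩ => ⟨t, ht, by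
          rw [smul_eq_mul, show t * (b * u) = b * (t * u) by ring, mul_smul, hu, smul_zero]⟩ }
    intro b hb
    obtain ⟨t, ht, htb⟩ := hgen b hb
    have hle : Ideal.span (Set.range a) ⊔ p.map (algebraMap R S) ≤ J.radical := by
      refine sup_le (Ideal.span_le.2 ?_) (Ideal.map_le_iff_le_comap.2 fun c hc' => ?_)
      · rintro _ ⟨i, rfl⟩
        exact Ideal.le_radical ⟨σ i, hσ i, hσa i⟩
      · obtain ⟨u, hu, n, hn⟩ := hm.1 c hc'
        refine ⟨n, algebraMap R S u, hqp u hu, ?_⟩
        rw [← map_pow, ← map_mul, TensorProduct.smul_tmul', algebraMap_smul, TensorProduct.smul_tmul,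
          show (u * c ^ n) • m' = ρ • (u * c ^ n) • m from smul_comm _ _ _, hn, smul_zero, TensorProduct.tmul_zero]
    obtain ⟨n, u, hu, hun⟩ := hle htb
    refine ⟨u * t ^ n, fun h => (‹q.IsPrime›.mem_or_mem h).elim hu fun h' => ht (‹q.IsPrime›.mem_of_pow_mem n h'), n, ?_⟩
    rw [← hun, mul_pow, mul_assoc]
  · by_contra htq
    haveI : Module.Flat R (LocalizedModule q.primeCompl N) := hflat
    let I : Ideal R := LinearMap.ker (LinearMap.toSpanSingleton R M m')
    have hIp : I ≤ p := fun c hc => hρ c (by
      have := LinearMap.mem_ker.1 hc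
      rwa [LinearMap.toSpanSingleton_apply] at this)
    let φ : (R ⧸ I) →ₗ[R] M := I.liftQ (LinearMap.toSpanSingleton R M m') le_rfl
    have hφ : Function.Injective φ := LinearMap.ker_eq_bot.1 (Submodule.ker_liftQ_eq_bot _ _ _ le_rfl)
    obtain ⟨σ, hσ, hσ0⟩ := FlatH4.exists_smul_eq_zero_of_flat_localized q φ hφ
      ((t • x) ⊗ₜ[R] (Submodule.Quotient.mk (1 : R) : R ⧸ I)) (by
        rw [LinearMap.lTensor_tmul, ← TensorProduct.smul_tmul']
        show t • (x ⊗ₜ[R] φ (Submodule.Quotient.mk 1)) = 0
        rw [Submodule.liftQ_apply, LinearMap.toSpanSingleton_apply, one_smul, ht])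
    have h1 : (σ • t • x) ∈ I • (⊤ : Submodule R N) := by
      rw [TensorProduct.smul_tmul'] at hσ0
      have h2 := congrArg (TensorProduct.comm R N (R ⧸ I)) hσ0
      rw [TensorProduct.comm_tmul, map_zero] at h2
      have h3 := congrArg (TensorProduct.quotTensorEquivQuotSMul N I) h2
      rw [map_zero, show (Submodule.Quotient.mk (1 : R) : R ⧸ I) = Ideal.Quotient.mk I 1 from rfl,
        TensorProduct.quotTensorEquivQuotSMul_mk_tmul, one_smul, Submodule.Quotient.mk_eq_zero] at h3
      exact h3
    rw [← mul_smul] at h1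
    exact htq ((‹q.IsPrime›.mem_or_mem (hxp _ (Submodule.smul_mono_left hIp h1))).resolve_left hσ)

/-- A witness in the tensor product gives witnesses in the base and in the fibre. -/
theorem isWk_of_tensor {R S : Type u} [CommRing R] [CommRing S] [Algebra R S] [Algebra.FinitePresentation R S]
    (N : Type u) [AddCommGroup N] [Module S N] [Module R N] [IsScalarTower R S N] [Module.Finite S N]
    (M : Type u) [AddCommGroup M] [Module R M] (p : Ideal R) [p.IsPrime] (q : Ideal S) [q.IsPrime] [q.LiesOver p]
    (hflat : FlatCA.FlatAt R q N)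
    (hass : ∀ (r : Ideal S), r.IsPrime → r.LiesOver p → (∃ w : N ⊗[R] p.ResidueField, IsWk r w) → r ≤ q)
    {z : N ⊗[R] M} (hz : IsWk q z) :
    (∃ m : M, IsWk p m) ∧ ∃ w : N ⊗[R] p.ResidueField, IsWk q w := by
  classical
  obtain ⟨R', _, _, p', _, hR, hfree⟩ := exists_free_local N p q hflat
  haveI := hR.1
  obtain ⟨hp', -⟩ := hR.2
  haveI := hp'
  haveI : Algebra.EssFiniteType R S := inferInstance
  let L := Localization.AtPrime p'
  let SA := S ⊗[R] L
  obtain ⟨C, _, _, _, _, _, _, x', _, hxq, -, het, -, -, -, hfr⟩ :=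
    hfree SA (SA ⊗[S] N) (TensorProduct.mk S SA N 1) (TensorProduct.isBaseChange S N SA)
  haveI := hxq
  haveI := het
  haveI := hfr
  letI : Algebra R C := ((algebraMap S C).comp (algebraMap R S)).toAlgebra
  haveI : IsScalarTower R S C := IsScalarTower.of_algebraMap_eq fun _ => rfl
  haveI : IsScalarTower R L C := IsScalarTower.of_algebraMap_eq fun c => by
    rw [IsScalarTower.algebraMap_apply L SA C, ← IsScalarTower.algebraMap_apply R L SA,
      IsScalarTower.algebraMap_apply R S SA, ← IsScalarTower.algebraMap_apply S SA C]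
    rfl
  haveI : Module.Flat R' L := IsLocalization.flat L p'.primeCompl
  haveI : Module.Flat R L := Module.Flat.trans R R' L
  haveI : Module.Flat S C := Module.Flat.trans S SA C
  let N' := C ⊗[S] N
  haveI : Module.Free L N' := by
    haveI hF : Module.Free L (C ⊗[SA] (SA ⊗[S] N)) := Module.Free.of_equiv
      ({ RestrictScalars.addEquiv L C (C ⊗[SA] (SA ⊗[S] N)) with
          map_smul' := fun l y => by
            show RestrictScalars.addEquiv L C _ (l • y) = l • RestrictScalars.addEquiv L C _ y
            rw [RestrictScalars.addEquiv_map_smul, algebraMap_smul] } :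
        RestrictScalars L C (C ⊗[SA] (SA ⊗[S] N)) ≃ₗ[L] C ⊗[SA] (SA ⊗[S] N))
    exact Module.Free.of_equiv ((AlgebraTensorModule.cancelBaseChange S SA C C N).restrictScalars L)
  have hmax : p.map (algebraMap R L) = maximalIdeal L :=
    letI := Localization.AtPrime.algebraOfLiesOver p p'
    ((Algebra.isUnramifiedAt_iff_map_eq R p p').1 inferInstance).2
  have hunit : ∀ d : R, d ∉ p → IsUnit (algebraMap R C d) := fun d hd => by
    have h1 : IsUnit (algebraMap R L d) := by
      rw [IsScalarTower.algebraMap_apply R R' L]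
      exact IsLocalization.map_units L (⟨_, fun h => hd ((Ideal.mem_of_liesOver p' p d).2 h)⟩ : p'.primeCompl)
    rw [IsScalarTower.algebraMap_apply R L C]
    exact h1.map _
  let ML := L ⊗[R] M
  let E : N' ⊗[R] M ≃ₗ[L] N' ⊗[L] ML := (AlgebraTensorModule.cancelBaseChange R L L N' M).symm
  let jM : N ⊗[R] M →ₗ[S] N' ⊗[R] M := AlgebraTensorModule.rTensor R M (TensorProduct.mk S C N 1)
  -- multiplications injective on the fibre are injective after the extension
  have kill : ∀ {k : ℕ} (c : Fin k → S),
      (∀ x : N, (∀ i, c i • x ∈ p • (⊤ : Submodule R N)) → ∃ d : R, d ∉ p ∧ d • x ∈ p • (⊤ : Submodule R N)) →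
      ∀ v : N ⊗[R] M, (∀ i, c i • v = 0) → jM v = 0 := by
    intro k c hc v hv
    apply E.injective
    rw [map_zero]
    refine eq_zero_of_forall_rTensor_eq_zero
      (fun i => (LinearMap.lsmul C N' (algebraMap S C (c i))).restrictScalars L) (fun y hy => ?_) _ fun i => ?_
    · have hy' : ∀ i, c i • y ∈ p • (⊤ : Submodule R N') := fun i => by
        rw [mem_smul_top_iff (B := L) p, hmax, ← algebraMap_smul C (c i) y]
        exact hy i
      rw [← hmax, ← mem_smul_top_iff (B := L) p]
      let W : Submodule S N := p.map (algebraMap R S) • ⊤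
      let ψ : N →ₗ[S] (Fin k → N ⧸ W) := LinearMap.pi fun i => W.mkQ.comp (c i • LinearMap.id)
      have hK : ∀ n ∈ LinearMap.ker ψ, ∃ d : R, d ∉ p ∧ d • n ∈ p • (⊤ : Submodule R N) := fun n hn =>
        hc n fun i => (mem_smul_top_iff (B := S) p _).2 ((Submodule.Quotient.mk_eq_zero W).1 (congrFun hn i))
      have hker : LinearMap.lTensor C ψ y = 0 := by
        apply (TensorProduct.piRight S S C (fun _ : Fin k => N ⧸ W)).injective
        rw [map_zero]
        funext i
        have h2 : ∀ w : N', w ∈ p • (⊤ : Submodule R N') → LinearMap.lTensor C W.mkQ w = 0 := by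
          intro w hw
          induction hw using Submodule.smul_induction_on' with
          | smul r hr n _ =>
            rw [← algebraMap_smul S r n, map_smul]
            induction n using TensorProduct.induction_on with
            | zero => rw [map_zero, smul_zero]
            | add u u' hu hu' => rw [map_add, smul_add, hu Submodule.mem_top, hu' Submodule.mem_top, add_zero]
            | tmul b n =>
              rw [LinearMap.lTensor_tmul, ← TensorProduct.tmul_smul, Submodule.mkQ_apply, ← Submodule.Quotient.mk_smul,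
                (Submodule.Quotient.mk_eq_zero W).2 (Submodule.smul_mem_smul (Ideal.mem_map_of_mem _ hr) Submodule.mem_top),
                TensorProduct.tmul_zero]
          | add u _ u' _ hu hu' => rw [map_add, hu, hu', add_zero]
        rw [Pi.zero_apply, ← h2 _ (hy' i)]
        generalize y = w
        induction w using TensorProduct.induction_on with
        | zero => simp
        | add u u' hu hu' => rw [map_add, map_add, Pi.add_apply, hu, hu', smul_add, map_add]
        | tmul b n =>
          rw [LinearMap.lTensor_tmul, TensorProduct.piRight_apply, TensorProduct.piRightHom_tmul, ← TensorProduct.tmul_smul,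
            LinearMap.lTensor_tmul]
          rfl
      obtain ⟨w, rfl⟩ := ((Module.Flat.lTensor_exact C (LinearMap.exact_subtype_ker_map ψ)) y).1 hker
      clear hy hy' hker
      induction w using TensorProduct.induction_on with
      | zero => simp
      | add u u' hu hu' => rw [map_add]; exact add_mem hu hu'
      | tmul b n =>
        obtain ⟨d, hd, hdn⟩ := hK n.1 n.2
        obtain ⟨u, hu⟩ := hunit d hd
        rw [LinearMap.lTensor_tmul, Submodule.subtype_apply]
        have hb : b ⊗ₜ[S] (n : N) = (b * (↑u⁻¹ : C)) ⊗ₜ[S] (d • (n : N)) := by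
          rw [← algebraMap_smul S d (n : N), ← TensorProduct.smul_tmul, Algebra.smul_def,
            ← IsScalarTower.algebraMap_apply R S C, ← hu, mul_left_comm, Units.mul_inv, mul_one]
        rw [hb]
        generalize d • (n : N) = n' at hdn
        generalize b * (↑u⁻¹ : C) = b'
        clear hb
        induction hdn using Submodule.smul_induction_on' with
        | smul r hr n'' _ =>
          rw [← algebraMap_smul S r n'', TensorProduct.tmul_smul, algebraMap_smul]
          exact Submodule.smul_mem_smul hr Submodule.mem_top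
        | add u _ u' _ hu hu' => rw [TensorProduct.tmul_add]; exact add_mem hu hu'
    · have key : ∀ v' : N' ⊗[R] M,
          ((LinearMap.lsmul C N' (algebraMap S C (c i))).restrictScalars L).rTensor ML (E v') = E (c i • v') := fun v' => by
        induction v' using TensorProduct.induction_on with
        | zero => simp
        | add u u' hu hu' => simp only [smul_add, map_add, hu, hu']
        | tmul y m =>
          rw [TensorProduct.smul_tmul']
          simp only [E, AlgebraTensorModule.cancelBaseChange_symm_tmul, LinearMap.rTensor_tmul]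
          show (algebraMap S C (c i) • y) ⊗ₜ[L] ((1 : L) ⊗ₜ[R] m) = (c i • y) ⊗ₜ[L] ((1 : L) ⊗ₜ[R] m)
          rw [algebraMap_smul]
      rw [key, ← map_smul, hv i, map_zero, map_zero]
  -- the extension does not kill `z`
  have hjM : ∀ v : N ⊗[R] M, jM v = 0 → ∃ t : S, t ∉ q ∧ t • v = 0 := by
    intro v hv
    obtain ⟨t, ht, htx⟩ := exists_smul_eq_zero_of_lTensor (S' := C) R N (Q := M) (z := TensorProduct.comm R N M v)
      (by
        have : ∀ v, ((TensorProduct.mk S C N 1).restrictScalars R).lTensor M (TensorProduct.comm R N M v) =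
            TensorProduct.comm R N' M (jM v) := fun v => by
          induction v using TensorProduct.induction_on with
          | zero => simp
          | add a b ha hb => simp only [map_add, ha, hb]
          | tmul n m => rfl
        rw [this, hv, map_zero]) x'
    refine ⟨t, fun h => htx ((Ideal.mem_of_liesOver x' q t).1 h), ?_⟩
    have : TensorProduct.comm R M N (TensorProduct.comm R N M v) = v := by
      clear hv ht
      induction v using TensorProduct.induction_on with
      | zero => simp
      | add a b ha hb => simp only [map_add, ha, hb]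
      | tmul n m => rfl
    rwa [this] at ht
  have hz' : jM z ≠ 0 := fun h => by
    obtain ⟨t, ht, htz⟩ := hjM z h; exact ht (hz.2 t htz)
  -- points of the fibre below `q`
  have hfib : ∀ x : N, ¬ (∃ d : R, d ∉ p ∧ d • x ∈ p • (⊤ : Submodule R N)) →
      ∃ r : Ideal S, r.IsPrime ∧ r.LiesOver p ∧ r ≤ q ∧ (∃ w : N ⊗[R] p.ResidueField, IsWk r w) ∧
        ∀ t : S, t • x ∈ p • (⊤ : Submodule R N) → t ∈ r := by
    intro x hx
    obtain ⟨r, hr, hrp, hrass, hann⟩ := exists_assoc_of_ne_zero (R := R) (S := S) N p (w := x ⊗ₜ[R] (1 : p.ResidueField))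
      fun h => hx (exists_smul_mem_of_tmul_one_eq_zero p N h)
    haveI := hrp
    have hwk := (fiberIdeal_mem_associatedPrimes_iff p N r).1 hrass
    exact ⟨r, hr, hrp, hass r hr hrp hwk, hwk, fun t ht => hann t
      (by rw [TensorProduct.smul_tmul']; exact tmul_one_eq_zero_of_mem p N ht)⟩
  refine ⟨?_, ?_⟩
  · -- the base
    have hpow : ∀ a ∈ p, ∃ k : ℕ, algebraMap R L (a ^ k) • E (jM z) = 0 := by
      intro a ha
      obtain ⟨s, hs, k, hk⟩ := hz.1 (algebraMap R S a) ((Ideal.mem_of_liesOver q p a).1 ha)
      refine ⟨k, ?_⟩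
      have h0 : jM (algebraMap R S a ^ k • z) = 0 := kill ![s] (fun x hx => by
          by_contra hc
          obtain ⟨r, _, _, hrq, -, hr⟩ := hfib x hc
          exact hs (hrq (hr s (hx 0)))) _ fun i => by
        rw [Matrix.cons_val_fin_one, ← mul_smul, hk]
      rw [algebraMap_smul]
      rw [← map_pow, map_smul, algebraMap_smul] at h0
      have h1 := LinearMap.map_smul_of_tower E.toLinearMap (a ^ k) (jM z)
      rw [h0, map_zero] at h1
      exact h1.symm
    let b := Module.Free.chooseBasis L N'
    let e : N' ⊗[L] ML ≃ₗ[L] (Module.Free.ChooseBasisIndex L N' →₀ ML) :=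
      (TensorProduct.congr b.repr (LinearEquiv.refl L ML)).trans (TensorProduct.finsuppScalarLeft L ML _)
    obtain ⟨l, hl⟩ : ∃ l, e (E (jM z)) l ≠ 0 := by
      by_contra hc
      push Not at hc
      exact hz' (E.injective (e.injective ((Finsupp.ext hc).trans ((congrArg e (map_zero E)).trans (map_zero e)).symm)))
    let m' := e (E (jM z)) l
    have hm' : ∀ a ∈ p, ∃ k : ℕ, algebraMap R L (a ^ k) • m' = 0 := fun a ha => by
      obtain ⟨k, hk⟩ := hpow a ha
      refine ⟨k, ?_⟩
      show algebraMap R L (a ^ k) • e (E (jM z)) l = 0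
      rw [← Finsupp.smul_apply, ← map_smul, hk, map_zero, Finsupp.zero_apply]
    let g : R' ⊗[R] M →ₗ[R] ML := (IsScalarTower.toAlgHom R R' L).toLinearMap.rTensor M
    have hg : ∀ (c : R') (y : R' ⊗[R] M), g (c • y) = algebraMap R' L c • g y := fun c y => by
      induction y using TensorProduct.induction_on with
      | zero => simp
      | add u v hu hv => simp only [smul_add, map_add, hu, hv]
      | tmul r m =>
        rw [TensorProduct.smul_tmul']
        show algebraMap R' L (c * r) ⊗ₜ[R] m = algebraMap R' L c • (algebraMap R' L r ⊗ₜ[R] m)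
        rw [map_mul, TensorProduct.smul_tmul', smul_eq_mul]
    have hgker : ∀ y, g y = 0 → ∃ c : R', c ∉ p' ∧ c • y = 0 := by
      intro y hy
      obtain ⟨c, hc, hcy⟩ := exists_smul_eq_zero_of_one_tmul (S := R') (S' := L) (x := y) (by
        apply (AlgebraTensorModule.cancelBaseChange R R' L L M).injective
        rw [map_zero, ← hy]
        clear hy
        induction y using TensorProduct.induction_on with
        | zero => simp
        | add u v hu hv => simp only [TensorProduct.tmul_add, map_add, hu, hv]
        | tmul r m =>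
          simp [g, Algebra.smul_def]
          rfl) (maximalIdeal L)
      exact ⟨c, fun h => hcy (by
        rw [← Localization.AtPrime.map_eq_maximalIdeal]; exact Ideal.mem_map_of_mem _ h), hc⟩
    obtain ⟨c₀, x, hcx⟩ : ∃ (c : p'.primeCompl) (x : R' ⊗[R] M), g x = algebraMap R' L c • m' := by
      generalize m' = y
      induction y using TensorProduct.induction_on with
      | zero => exact ⟨1, 0, by simp⟩
      | add u v hu hv =>
        obtain ⟨c, x, hx⟩ := hu
        obtain ⟨c', x', hx'⟩ := hv
        refine ⟨c * c', (c' : R') • x + (c : R') • x', ?_⟩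
        rw [map_add, hg, hg, hx, hx', Submonoid.coe_mul, map_mul, smul_add, smul_smul, smul_smul, mul_comm (algebraMap R' L c')]
      | tmul r m =>
        obtain ⟨⟨a, c⟩, hac⟩ := IsLocalization.surj p'.primeCompl r
        refine ⟨c, a ⊗ₜ[R] m, ?_⟩
        rw [TensorProduct.smul_tmul', smul_eq_mul, mul_comm, hac]
        rfl
    have hAnn : ∀ c : R', c • x = 0 → c ∈ p' := fun c hc => by
      by_contra hcp
      have h : algebraMap R' L (c * c₀) • m' = 0 := by rw [map_mul, mul_smul, ← hcx, ← hg, hc, map_zero]
      obtain ⟨u, hu⟩ := IsLocalization.map_units L (⟨_, p'.primeCompl.mul_mem hcp c₀.2⟩ : p'.primeCompl)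
      simp only [] at hu
      rw [← hu] at h
      exact hl ((smul_eq_zero_iff_eq u).1 h)
    let J : Ideal R' :=
      { carrier := {b | ∃ t : R', t ∉ p' ∧ (t * b) • x = 0}
        zero_mem' := ⟨1, fun h => ‹p'.IsPrime›.ne_top ((Ideal.eq_top_iff_one p').2 h), by simp⟩
        add_mem' := fun {u v} ⟨t, ht, hu⟩ ⟨t', ht', hv⟩ => ⟨t * t', fun h => (‹p'.IsPrime›.mem_or_mem h).elim ht ht', by
          rw [show t * t' * (u + v) = t' * (t * u) + t * (t' * v) by ring, add_smul, mul_smul, hu, mul_smul, hv,
            smul_zero, smul_zero, add_zero]⟩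
        smul_mem' := fun b u ⟨t, ht, hu⟩ => ⟨t, ht, by
          rw [smul_eq_mul, show t * (b * u) = b * (t * u) by ring, mul_smul, hu, smul_zero]⟩ }
    have hJ : p.map (algebraMap R R') ≤ J.radical := Ideal.map_le_iff_le_comap.2 fun a ha => by
      obtain ⟨k, hk⟩ := hm' a ha
      refine ⟨k, ?_⟩
      obtain ⟨c, hc, hcz⟩ := hgker (algebraMap R R' a ^ k • x) (by
        rw [hg, hcx, ← map_pow, ← IsScalarTower.algebraMap_apply R R' L, smul_comm, hk, smul_zero])
      exact ⟨c, hc, by rw [mul_smul]; exact hcz⟩
    have hwk : IsWk p' x := by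
      refine ⟨fun a ha => ?_, hAnn⟩
      have h1 : algebraMap R' L a ∈ (p.map (algebraMap R R')).map (algebraMap R' L) := by
        rw [Ideal.map_map, ← IsScalarTower.algebraMap_eq, hmax, ← Localization.AtPrime.map_eq_maximalIdeal]
        exact Ideal.mem_map_of_mem _ ha
      obtain ⟨t, ht, hta⟩ := (IsLocalization.algebraMap_mem_map_algebraMap_iff p'.primeCompl L _ _).1 h1
      obtain ⟨n, u, hu, hun⟩ := hJ hta
      refine ⟨u * t ^ n, fun h => (‹p'.IsPrime›.mem_or_mem h).elim hu fun h' => ht (‹p'.IsPrime›.mem_of_pow_mem n h'), n, ?_⟩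
      rw [← hun, mul_pow, mul_assoc]
    exact (mem_weakAss_iff_exists p).1 ((S1233.result (B := R') M p p').1 ((mem_weakAss_iff_exists p').2 ⟨x, hwk⟩))
  · -- the fibre
    by_contra hno
    obtain ⟨k, a, haq, -, hgen⟩ := exists_gens p q
    obtain ⟨π, hπ, hkill⟩ := exists_trim q a z (fun i => hz.1 _ (haq i)) hz.2
    choose s hs hsa using hkill
    have h0 : jM (π • z) = 0 := kill (fun i => s i * a i) (fun x hx => by
      by_contra hc
      obtain ⟨r, hr, hrp, hrq, hwk, hrx⟩ := hfib x hc
      haveI := hrp
      refine hno ?_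
      suffices r = q by rwa [← this]
      refine le_antisymm hrq fun b hb => ?_
      obtain ⟨t, ht, htb⟩ := hgen b hb
      refine (hr.mem_or_mem (?_ : t * b ∈ r)).resolve_left fun h => ht (hrq h)
      refine (sup_le (Ideal.span_le.2 ?_) (Ideal.map_le_iff_le_comap.2 fun c hc' => ?_) :
        Ideal.span (Set.range a) ⊔ p.map (algebraMap R S) ≤ r) htb
      · rintro _ ⟨i, rfl⟩
        exact (hr.mem_or_mem (hrx _ (hx i))).resolve_left fun h => hs i (hrq h)
      · exact (Ideal.mem_of_liesOver r p c).1 hc') _ hsa
    obtain ⟨t, ht, htz⟩ := hjM _ h0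
    exact ht (hπ t htz)

end Groth.Agent.Dev4
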